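import Mathlib
import Cfsg.Agent.Lib.Helper31.BG12a
import Cfsg.Agent.Lib.Helper58.BG1217
import Cfsg.Agent.Lib.Helper13.BG12B
import Cfsg.Agent.Lib.Helper70.CycSylGen
import Cfsg.Agent.Lib.Helper29.Sup
import Cfsg.Agent.S1350
import Cfsg.Agent.S1404
import Cfsg.Agent.S1417
import Cfsg.Agent.S1418
import Cfsg.Agent.S1420
import Cfsg.Agent.S1423
import Cfsg.Agent.S1424
import Cfsg.Agent.S1425

/-!
# K-S1428-D5 : `p ∈ β(H)` in the context of BG 13.4 (= BG 13.1(c))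

`p_mem_beta_of` carries the two Frattini keystones (Fr), (Fr') of the D-block as hypotheses.
-/

set_option autoImplicit false
set_option linter.unusedSectionVars false
set_option linter.unusedVariables false
set_option linter.style.haveILetI false

namespace Cfsg.Agent.Lib.Helper82.BG134

open Cfsg Cfsg.Agent.Lib.Helper55 Cfsg.Agent.Lib.Helper31 Cfsg.Agent.Lib.Helper71.BG10
  Cfsg.Agent.Lib.Helper71.BG11 Cfsg.Agent.Lib.Helper69.BG10 Cfsg.Agent.Lib.Helper31.BG12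
  Cfsg.Agent.Lib.Helper13.BG12
open scoped commutatorElement

variable {G : Type*} [Group G] [Finite G]

theorem fus (hG : IsMinSimpleOddOrder G) {M : Subgroup G} (hM : IsCoatom M) : Fus M :=
  fun p _ hp X hXp hX1 hXM => (Cfsg.Agent.S1404.result hG M hM p hp X hXp hX1 hXM).1

theorem hallOf (hG : IsMinSimpleOddOrder G) {M : Subgroup G} (hM : IsCoatom M) :
    IsPiHallOf (sigma M) (sigmaCore M) M := (Cfsg.Agent.S1350.result hG M hM).1

theorem isSylowIn_of_top {q : ℕ} {T L : Subgroup G} (h : IsSylowIn q ⊤ T) (hTL : T ≤ L) :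
    IsSylowIn q L T :=
  ⟨hTL, h.2.1, fun T' _ hT'p hle => h.2.2 T' le_top hT'p hle⟩

theorem isSylowIn_mono {q : ℕ} {T K L : Subgroup G} (h : IsSylowIn q L T) (hTK : T ≤ K)
    (hKL : K ≤ L) : IsSylowIn q K T :=
  ⟨hTK, h.2.1, fun T' hT'K hT'p hle => h.2.2 T' (hT'K.trans hKL) hT'p hle⟩

theorem isSylowIn_of_not_dvd_relIndex {q : ℕ} [Fact q.Prime] {T L : Subgroup G}
    (hT : IsPGroup q T) (hTL : T ≤ L) (h : ¬ q ∣ T.relIndex L) : IsSylowIn q L T := by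
  have hT' : IsPGroup q (T.subgroupOf L) := hT.comap_subtype
  have h1 := isSylowIn_of_sylow (hT'.toSylow h)
  have hcoe : ((hT'.toSylow h : Sylow q L) : Subgroup L) = T.subgroupOf L := rfl
  rw [hcoe, Subgroup.map_subgroupOf_eq_of_le hTL] at h1
  exact h1

/-- `τ₂` is invariant under conjugation. -/
theorem tau2_cj {q : ℕ} {M : Subgroup G} (hq : q ∈ tau2 M) (g : G) : q ∈ tau2 (cj g M) := by
  obtain ⟨hqp, hqσ, hr2, hr1⟩ := hq
  haveI : Fact q.Prime := ⟨hqp⟩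
  refine ⟨hqp, ?_, ?_, ?_⟩
  · intro h
    have := mem_sigma_cj h g⁻¹
    rw [cj_inv_cj] at this
    exact hqσ this
  · rw [pRankLE_sub_iff] at hr2 ⊢
    intro E hE hEc hEp
    have := hr2 (cj g⁻¹ E) (le_cj_iff.mp hE) (comm_cj g⁻¹ hEc) (exp_cj g⁻¹ hEp)
    rwa [card_cj] at this
  · rw [not_pRankLE_sub_iff] at hr1 ⊢
    obtain ⟨E, hE, hEc, hEp, hcard⟩ := hr1
    exact ⟨cj g E, cj_mono hE, comm_cj g hEc, exp_cj g hEp, by rwa [card_cj]⟩

/-- a prime of `σ(H)` outside `β(H)` is not ideal. -/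
theorem not_ideal_of_sigma {p : ℕ} [Fact p.Prime] {H : Subgroup G} (hpσ : p ∈ sigma H)
    (hpβ : p ∉ beta H) : ¬ IsIdealPrime p G := by
  intro hid
  have hα : p ∉ alpha H := fun h => hpβ ⟨h, hid⟩
  have hr2 : PRankLE p 2 ↥H := by
    by_contra h
    exact hα ⟨hid.1, h⟩
  obtain ⟨S, hS⟩ := exists_good_of_sigma hpσ
  apply hid.2.1
  intro A hAc hAe
  have hAp : IsPGroup p A := isPGroup_of_pow_eq_one hAe
  obtain ⟨k, -, hk⟩ := hS.1.exists_conj_le (le_top : A ≤ ⊤) hAp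
  have hcomm : ∀ a ∈ A, ∀ b ∈ A, a * b = b * a := fun a ha b hb =>
    congrArg Subtype.val (hAc.is_comm.comm ⟨a, ha⟩ ⟨b, hb⟩)
  have := pRankLE_sub_iff.mp hr2 (cj k A) (hk.trans hS.2.1) (comm_cj k hcomm) (exp_cj k hAe)
  rwa [card_cj] at this

/-- if `L = N S` with `S ⊴ L` a `p'`-group and `p ∤ |N'|` then `p ∤ |L'|`. -/
theorem not_dvd_card_commutator_of_normal_factor {p : ℕ} (hp : p.Prime) {L S N : Subgroup G}
    (hSL : S ≤ L) (hSn : L ≤ Subgroup.normalizer (S : Set G)) (hNL : N ≤ L)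
    (hfac : ∀ x ∈ L, ∃ n ∈ N, ∃ b ∈ S, x = n * b)
    (hpS : ¬ p ∣ Nat.card S) (hpN : ¬ p ∣ Nat.card ↥⁅N, N⁆) : ¬ p ∣ Nat.card ↥⁅L, L⁆ := by
  have hconj : ∀ l ∈ L, ∀ s ∈ S, l * s * l⁻¹ ∈ S := fun l hl s hs =>
    (Subgroup.mem_normalizer_iff.mp (hSn hl) s).mp hs
  have hle : ⁅L, L⁆ ≤ S ⊔ ⁅N, N⁆ := by
    rw [Subgroup.commutator_le]
    intro x hx y hy
    obtain ⟨n₁, hn₁, b₁, hb₁, rfl⟩ := hfac x hx
    obtain ⟨n₂, hn₂, b₂, hb₂, rfl⟩ := hfac y hy
    have hid : ⁅n₁ * b₁, n₂ * b₂⁆ = ⁅n₁, n₂⁆ *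
        (((n₂ * n₁ * n₂⁻¹) * b₁ * (n₂ * n₁ * n₂⁻¹)⁻¹) *
          ((n₂ * n₁) * (b₂ * b₁⁻¹) * (n₂ * n₁)⁻¹) * (n₂ * b₂⁻¹ * n₂⁻¹)) := by
      simp only [commutatorElement_def]
      group
    rw [hid]
    have h1L : n₁ ∈ L := hNL hn₁
    have h2L : n₂ ∈ L := hNL hn₂
    refine Subgroup.mul_mem _ (Subgroup.mem_sup_right (Subgroup.commutator_mem_commutator hn₁ hn₂))
      (Subgroup.mem_sup_left ?_)
    refine S.mul_mem (S.mul_mem ?_ ?_) ?_
    · exact hconj _ (L.mul_mem (L.mul_mem h2L h1L) (L.inv_mem h2L)) _ hb₁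
    · exact hconj _ (L.mul_mem h2L h1L) _ (S.mul_mem hb₂ (S.inv_mem hb₁))
    · exact hconj _ h2L _ (S.inv_mem hb₂)
  have hN'n : ⁅N, N⁆ ≤ Subgroup.normalizer (S : Set G) :=
    ((commutator_self_le N).trans hNL).trans hSn
  have h1 : Nat.card ↥⁅L, L⁆ ∣ Nat.card S * Nat.card ↥⁅N, N⁆ :=
    (Subgroup.card_dvd_of_le hle).trans
      (Cfsg.Agent.Lib.Helper29.card_sup_dvd_of_le_normalizer S ⁅N, N⁆ hN'n)
  intro hd
  rcases (Nat.Prime.dvd_mul hp).mp (hd.trans h1) with h | h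
  · exact hpS h
  · exact hpN h

/-- **K-S1428-D5** with the Frattini keystones (Fr), (Fr') as hypotheses, unbundled context. -/
theorem p_mem_beta_of
    (hFr : ∀ (L : Subgroup G), IsCoatom L → ∀ (q : ℕ), q.Prime → q ∉ beta L → ∀ (Y : Subgroup G),
      IsSylowIn q ⁅L, L⁆ Y → ∀ x ∈ L, ∃ b ∈ piCoreOf (beta L) L,
        ∃ n ∈ L ⊓ Subgroup.normalizer (Y : Set G), x = b * n)
    (hFr' : ∀ (L : Subgroup G), IsCoatom L → ∀ (p : ℕ), p.Prime → p ∉ beta L → ∀ (N : Subgroup G),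
      N ≤ L → (∀ x ∈ L, ∃ b ∈ piCoreOf (beta L) L, ∃ n ∈ N, x = b * n) →
        ¬ p ∣ Nat.card ↥⁅N, N⁆ → ¬ p ∣ Nat.card ↥⁅L, L⁆)
    (hG : IsMinSimpleOddOrder G) {M E P R H : Subgroup G} {p : ℕ}
    (hM : IsCoatom M) (hE : IsComplIn E (sigmaCore M) M) (hp : p ∈ tau1 M)
    (hRE : R ≤ E ⊓ Subgroup.centralizer (P : Set G))
    (hne : ¬ sigmaCore M ⊓ Subgroup.centralizer (P : Set G) ≤ Subgroup.centralizer (R : Set G))
    (hH : IsCoatom H) (hNP : Subgroup.normalizer (P : Set G) ≤ H)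
    (hnc : ∀ g : G, cj g M ≠ H) (hpσ : p ∈ sigma H)
    (hK : sigmaCore M ⊓ H = sigmaCore M ⊓ Subgroup.centralizer (P : Set G))
    (h4 : ∀ q : ℕ, q.Prime → q ∣ Nat.card ↥(sigmaCore M ⊓ Subgroup.centralizer (P : Set G)) →
      q ∉ tau2 H) : p ∈ beta H := by
  classical
  haveI : Fact p.Prime := ⟨hp.1⟩
  by_contra hpβ
  have hnid : ¬ IsIdealPrime p G := not_ideal_of_sigma hpσ hpβ
  have hpβ' : ∀ L : Subgroup G, p ∉ beta L := fun L h => hnid h.2
  have hpM' : ¬ p ∣ Nat.card ↥⁅M, M⁆ := hp.2.2.2.1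
  -- the group `C` and the commutator `D = [C, R]`
  set C : Subgroup G := sigmaCore M ⊓ Subgroup.centralizer (P : Set G) with hC
  have hCH : C ≤ H := by rw [← hK]; exact inf_le_right
  have hRH : R ≤ H :=
    (hRE.trans inf_le_right).trans ((Subgroup.centralizer_le_normalizer _).trans hNP)
  have hRM : R ≤ M := (hRE.trans inf_le_left).trans hE.1
  have hRC : R ≤ Subgroup.normalizer (C : Set G) := by
    intro r hr
    have hr1 : r ∈ Subgroup.normalizer (sigmaCore M : Set G) := le_normalizer_sigmaCore M (hRM hr)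
    have hr2 : r ∈ Subgroup.centralizer (P : Set G) := (hRE hr).2
    rw [Subgroup.mem_normalizer_iff] at hr1 ⊢
    intro x
    rw [hC, Subgroup.mem_inf, Subgroup.mem_inf, ← hr1 x]
    constructor
    · rintro ⟨h1, h2⟩
      exact ⟨h1, Subgroup.mul_mem _ (Subgroup.mul_mem _ hr2 h2) (Subgroup.inv_mem _ hr2)⟩
    · rintro ⟨h1, h2⟩
      refine ⟨h1, ?_⟩
      have : x = r⁻¹ * (r * x * r⁻¹) * r := by group
      rw [this]
      exact Subgroup.mul_mem _ (Subgroup.mul_mem _ (Subgroup.inv_mem _ hr2) h2) hr2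
  set D : Subgroup G := ⁅C, R⁆ with hD
  have hD1 : D ≠ ⊥ := by
    intro h
    exact hne (Subgroup.commutator_eq_bot_iff_le_centralizer.mp h)
  have hDC : D ≤ C := by
    rw [hD, Subgroup.commutator_le]
    intro c hc r hr
    have hrn := hRC hr
    rw [Subgroup.mem_normalizer_iff] at hrn
    have h1 : r * c⁻¹ * r⁻¹ ∈ C := (hrn c⁻¹).mp (C.inv_mem hc)
    have : ⁅c, r⁆ = c * (r * c⁻¹ * r⁻¹) := by rw [commutatorElement_def]; group
    rw [this]
    exact C.mul_mem hc h1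
  have hDH' : D ≤ ⁅H, H⁆ := Subgroup.commutator_mono hCH hRH
  obtain ⟨q, hq, hqD⟩ := Nat.exists_prime_and_dvd (fun h1 => hD1 (Subgroup.card_eq_one.mp h1))
  haveI : Fact q.Prime := ⟨hq⟩
  have hqC : q ∣ Nat.card C := hqD.trans (Subgroup.card_dvd_of_le hDC)
  have hqσM : q ∈ sigma M :=
    sigmaCore_pi hG hM hq (hqC.trans (Subgroup.card_dvd_of_le inf_le_left))
  have hqH' : q ∣ Nat.card ↥⁅H, H⁆ := hqD.trans (Subgroup.card_dvd_of_le hDH')
  have hnc' : ∀ g : G, cj g H ≠ M := by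
    intro g h
    apply hnc g⁻¹
    rw [← h, cj_inv_cj]
  have hqαH : q ∉ alpha H := fun h => alpha_sigma_disjoint hG hH hM hnc' h hqσM
  have hqβH : q ∉ beta H := fun h => hqαH h.1
  -- a Sylow `q`-subgroup `Y` of `H'`
  obtain ⟨Y, hY, -⟩ := exists_isSylowIn_ge (p := q) (K := ⁅H, H⁆) (Z := ⊥) bot_le IsPGroup.of_bot
  have hY1 : Y ≠ ⊥ := sylow_ne_bot hqH' hY
  have hYq : IsPGroup q Y := hY.2.1
  have hYσ : ∀ r : ℕ, r.Prime → r ∣ Nat.card Y → r ∈ sigma M := by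
    intro r hr hrd
    obtain ⟨n, hn⟩ := hYq.exists_card_eq
    rw [hn] at hrd
    have := (Nat.prime_dvd_prime_iff_eq hr hq).mp (hr.dvd_of_dvd_pow hrd)
    rw [this]; exact hqσM
  obtain ⟨g, hg⟩ := Cfsg.Agent.S1425.result hG M hM Y hY1 hYσ
  set M₂ : Subgroup G := cj g⁻¹ M with hM₂def
  have hYM₂ : Y ≤ M₂ := by
    have h1 : cj g Y ≤ M := hg.trans (sigmaCore_le M)
    exact cj_le_iff.mp h1
  have hM₂ : IsCoatom M₂ := isCoatom_cj g⁻¹ hM
  have hqM₂ : q ∈ sigma M₂ := mem_sigma_cj hqσM g⁻¹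
  have hpM₂' : ¬ p ∣ Nat.card ↥⁅M₂, M₂⁆ := by
    have : ⁅M₂, M₂⁆ = cj g⁻¹ ⁅M, M⁆ := (Subgroup.map_commutator M M _).symm
    rw [this, card_cj]; exact hpM'
  set N : Subgroup G := H ⊓ Subgroup.normalizer (Y : Set G) with hNdef
  have hfac := hFr H hH q hq hqβH Y hY
  -- key claim: `p ∤ |N'|`
  have key : ¬ p ∣ Nat.card ↥⁅N, N⁆ := by
    have hYtop : Y ≠ ⊤ := ms_pgroup_ne_top hG hYq
    obtain ⟨L, hL, hNL⟩ := ms_exists_coatom_ge (ms_normalizer_ne_top hG hY1 hYtop)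
    have hNleL : N ≤ L := inf_le_right.trans hNL
    have hYL : Y ≤ L := Subgroup.le_normalizer.trans hNL
    have hsub : ∀ {K : Subgroup G}, N ≤ K → ¬ p ∣ Nat.card ↥⁅K, K⁆ → ¬ p ∣ Nat.card ↥⁅N, N⁆ :=
      fun hNK h hd => h (hd.trans (Subgroup.card_dvd_of_le (Subgroup.commutator_mono hNK hNK)))
    by_cases hLM : L = M₂
    · exact hsub (hLM ▸ hNleL) hpM₂'
    obtain ⟨S₀, hS₀, hYS₀⟩ :=
      exists_isSylowIn_ge (p := q) (K := M₂ ⊓ L) (Z := Y) (le_inf hYM₂ hYL) hYq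
    have h24 := Cfsg.Agent.S1424.result hG M₂ hM₂ q hqM₂ Y hYq hY1 hYM₂ L hL hLM hNL
      hS₀.toSylow (by rw [hS₀.map_toSylow]; exact hYS₀)
    rw [hS₀.map_toSylow] at h24
    obtain ⟨-, hNS₀, hS₀idx⟩ := h24
    have hS₀q : IsPGroup q S₀ := hS₀.2.1
    have hS₀L : S₀ ≤ L := hS₀.1.trans inf_le_right
    have hS₀M₂ : S₀ ≤ M₂ := hS₀.1.trans inf_le_left
    have hS₀sylL : IsSylowIn q L S₀ := isSylowIn_of_not_dvd_relIndex hS₀q hS₀L hS₀idx
    have hqL : q ∣ Nat.card L :=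
      (ms_prime_dvd_card hG hYq hY1).trans (Subgroup.card_dvd_of_le hYL)
    refine hsub hNleL ?_
    by_cases hqσL : q ∈ sigma L
    · -- `q ∈ σ(L)`
      have hqβL : q ∉ beta L := by
        intro hβ
        obtain ⟨x, hx⟩ := exists_prime_orderOf_dvd_card' q (ms_prime_dvd_card hG hYq hY1)
        have hXc : Nat.card (Subgroup.zpowers (x : G)) = q := by
          rw [Nat.card_zpowers, Subgroup.orderOf_coe, hx]
        have hXL : Subgroup.zpowers (x : G) ≤ L := (Subgroup.zpowers_le.mpr x.2).trans hYL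
        obtain ⟨P₀⟩ : Nonempty (Sylow q ↥(sigmaCore L)) := inferInstance
        have h23 := (Cfsg.Agent.S1423.result hG L hL q hqσL _ hXL hXc P₀ (Or.inl hβ)).2.1
        have hP'1 : IsSylowIn q (sigmaCore L)
            ((P₀ : Subgroup ↥(sigmaCore L)).map (sigmaCore L).subtype) := isSylowIn_of_sylow P₀
        have hP'top := isSylowIn_top_of_not_dvd_index hP'1.2.1
          (not_dvd_index_of_isSylowIn hP'1 (sigmaCore_index hG hL hqσL))
        have hP'L := isSylowIn_of_top hP'top (hP'1.1.trans (sigmaCore_le L))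
        obtain ⟨k, hk, hkP⟩ := hP'L.exists_conj hS₀sylL
        have hU : InUniqueMaximal S₀ := hkP ▸ inUniqueMaximal_cj k h23
        obtain ⟨L', -, huniq⟩ := hU
        exact hLM ((huniq L ⟨hL, hS₀L⟩).trans (huniq M₂ ⟨hM₂, hS₀M₂⟩).symm)
      have hS₀L' : S₀ ≤ ⁅L, L⁆ := sylow_le_commutator hG (fus hG hL) hqσL hS₀sylL
      have hS₀sylL' : IsSylowIn q ⁅L, L⁆ S₀ := isSylowIn_mono hS₀sylL hS₀L' (commutator_self_le L)
      have hfacL := hFr L hL q hq hqβL S₀ hS₀sylL'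
      have hfacL' : ∀ x ∈ L, ∃ b ∈ piCoreOf (beta L) L, ∃ n ∈ M₂ ⊓ L, x = b * n := by
        intro x hx
        obtain ⟨b, hb, n, hn, rfl⟩ := hfacL x hx
        exact ⟨b, hb, n, ⟨hNS₀ hn.2, hn.1⟩, rfl⟩
      refine hFr' L hL p hp.1 (hpβ' L) (M₂ ⊓ L) inf_le_right hfacL' ?_
      intro hd
      exact hpM₂' (hd.trans (Subgroup.card_dvd_of_le
        (Subgroup.commutator_mono inf_le_left inf_le_left)))
    · -- `q ∉ σ(L)`
      have hq2 : q ≠ 2 := ms_prime_ne_two hG hYq hY1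
      have hS₀nc : ¬ IsCyclic S₀ := by
        intro hcyc
        apply hqσL
        refine ⟨hq, hqL, hS₀sylL.toSylow, ?_⟩
        rw [hS₀sylL.map_toSylow]
        exact (Cfsg.Agent.Lib.Helper70.CycSyl.normalizer_le_normalizer_of_cyclic hcyc hYS₀).trans
          hNL
      obtain ⟨B, hBS₀, hBel, hBcard⟩ := exists_elemAb_sq_le hq2 hS₀q hS₀nc
      have hBL : B ≤ L := hBS₀.trans hS₀L
      have hBM₂ : B ≤ M₂ := hBS₀.trans hS₀M₂
      have hBcomm : ∀ a ∈ B, ∀ b ∈ B, a * b = b * a := fun a ha b hb =>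
        congrArg Subtype.val (hBel.1.is_comm.comm ⟨a, ha⟩ ⟨b, hb⟩)
      have hqτ2 : q ∈ tau2 L := by
        refine ⟨hq, hqσL, ?_, ?_⟩
        · by_contra h
          exact hqσL (alpha_subset_sigma hG hL ⟨hq, h⟩)
        · rw [not_pRankLE_sub_iff]
          refine ⟨B, hBL, hBcomm, hBel.2, ?_⟩
          rw [hBcard, pow_one]
          calc q = q ^ 1 := (pow_one q).symm
            _ < q ^ 2 := Nat.pow_lt_pow_right hq.one_lt (by norm_num)
      have hBq : IsPGroup q B := IsPGroup.of_card hBcard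
      have hBnc : ¬ IsCyclic B := by
        intro hc
        obtain ⟨b, hb⟩ := hc.exists_generator
        have hbq : b ^ q = 1 := Subtype.ext (by simpa using hBel.2 b.1 b.2)
        have h1 : Nat.card B ∣ q := by
          rw [← orderOf_eq_card_of_forall_mem_zpowers hb]
          exact orderOf_dvd_of_pow_eq_one hbq
        rw [hBcard] at h1
        have := Nat.le_of_dvd hq.pos h1
        nlinarith [hq.two_le]
      obtain ⟨E₂, hE₂, -⟩ := exists_complIn_ge hG hM₂ (hallOf hG hM₂) (K := ⊥) bot_le (by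
        intro r hr hrd
        rw [Subgroup.card_bot] at hrd
        exact absurd (Nat.dvd_one.mp hrd) hr.ne_one)
      have hNB : Subgroup.normalizer (B : Set G) ≤ M₂ :=
        (Cfsg.Agent.S1420.result hG M₂ hM₂ E₂ hE₂).2.2.1 q B hqM₂ hBq hBM₂ hBnc
      obtain ⟨Es, hEs, hBEs⟩ := exists_complIn_ge hG hL (hallOf hG hL) hBL (by
        intro r hr hrd
        rw [hBcard] at hrd
        have := (Nat.prime_dvd_prime_iff_eq hr hq).mp (hr.dvd_of_dvd_pow hrd)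
        rw [this]; exact hqσL)
      have h18 := (Cfsg.Agent.S1418.result hG L hL Es hEs q hqτ2 B ⟨hBEs, hBel, hBcard⟩).1.1
      have hEsM₂ : Es ≤ M₂ := h18.trans hNB
      by_cases hpσL : p ∈ sigma L
      · exfalso
        have hnil : Group.IsNilpotent (sigmaCore L) :=
          (Cfsg.Agent.S1417.result hG L hL q hqτ2 B ⟨hBL, hBel, hBcard⟩).1
        by_cases hconj : ∃ k : G, cj k L = H
        · obtain ⟨k, hk⟩ := hconj
          have := tau2_cj hqτ2 k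
          rw [hk] at this
          exact h4 q hq hqC this
        · exact sigma_sigma_disjoint hG hL hH (fun k hk => hconj ⟨k, hk⟩) hnil hpσL hpσ
      · have hpLσ : ¬ p ∣ Nat.card (sigmaCore L) := fun hd => hpσL (sigmaCore_pi hG hL hp.1 hd)
        have hpEs' : ¬ p ∣ Nat.card ↥⁅Es, Es⁆ := fun hd =>
          hpM₂' (hd.trans (Subgroup.card_dvd_of_le (Subgroup.commutator_mono hEsM₂ hEsM₂)))
        exact not_dvd_card_commutator_of_normal_factor hp.1 (sigmaCore_le L)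
          (le_normalizer_sigmaCore L) hEs.1 hEs.2.2.2 hpLσ hpEs'
  have h1 : ¬ p ∣ Nat.card ↥⁅H, H⁆ := hFr' H hH p hp.1 (hpβ' H) N inf_le_left hfac key
  obtain ⟨T, hT, -⟩ := exists_isSylowIn_ge (p := p) (K := H) (Z := ⊥) bot_le IsPGroup.of_bot
  have hT1 : T ≠ ⊥ := sylow_ne_bot hpσ.2.1 hT
  have hTH' : T ≤ ⁅H, H⁆ := sylow_le_commutator hG (fus hG hH) hpσ hT
  exact h1 ((ms_prime_dvd_card hG hT.2.1 hT1).trans (Subgroup.card_dvd_of_le hTH'))

end Cfsg.Agent.Lib.Helper82.BG134
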