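import Mathlib
import Cfsg.Agent.Lib.Helper82.BG134D5
import Cfsg.Agent.Lib.Helper18.BG134Fr
import Cfsg.Agent.Lib.Helper54.BG134Fr2
import Cfsg.Agent.Lib.Helper16.BG134Ctx

/-!
# K-S1428-D5 : `p ∈ β(H)` in the context of BG 13.4, exact spec signature

`p_mem_beta_unbundled` : the Frattini keystones (Fr) = `Helper18.BG134.frattini_beta` and
(Fr') = `Helper54.BG134.not_dvd_card_commutator_of_factor` fed into `p_mem_beta_of`.
`p_mem_beta` : the same with the context bundled in `Helper16.BG134.Ctx`.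
-/

set_option autoImplicit false
set_option linter.unusedSectionVars false
set_option linter.unusedVariables false
set_option linter.style.haveILetI false

namespace Cfsg.Agent.Lib.Helper82.BG134

open Cfsg Cfsg.Agent.Lib.Helper55

variable {G : Type*} [Group G] [Finite G]

/-- **K-S1428-D5**, unbundled context. -/
theorem p_mem_beta_unbundled
    (hG : IsMinSimpleOddOrder G) {M E P R H : Subgroup G} {p : ℕ}
    (hM : IsCoatom M) (hE : IsComplIn E (sigmaCore M) M) (hp : p ∈ tau1 M)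
    (hRE : R ≤ E ⊓ Subgroup.centralizer (P : Set G))
    (hne : ¬ sigmaCore M ⊓ Subgroup.centralizer (P : Set G) ≤ Subgroup.centralizer (R : Set G))
    (hH : IsCoatom H) (hNP : Subgroup.normalizer (P : Set G) ≤ H)
    (hnc : ∀ g : G, cj g M ≠ H) (hpσ : p ∈ sigma H)
    (hK : sigmaCore M ⊓ H = sigmaCore M ⊓ Subgroup.centralizer (P : Set G))
    (h4 : ∀ q : ℕ, q.Prime → q ∣ Nat.card ↥(sigmaCore M ⊓ Subgroup.centralizer (P : Set G)) →
      q ∉ tau2 H) : p ∈ beta H :=
  p_mem_beta_of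
    (fun L hL q hq hqβ Y hY =>
      haveI : Fact q.Prime := ⟨hq⟩
      Cfsg.Agent.Lib.Helper18.BG134.frattini_beta hG hL hqβ hY)
    (fun L hL p' hp' hpβ N hNL hfac hN' =>
      haveI : Fact p'.Prime := ⟨hp'⟩
      Cfsg.Agent.Lib.Helper54.BG134.not_dvd_card_commutator_of_factor hG hL hpβ hNL hfac hN')
    hG hM hE hp hRE hne hH hNP hnc hpσ hK h4

/-- **K-S1428-D5** (keystone 142856), exact spec signature. -/
theorem p_mem_beta {M E P R H : Subgroup G} {p : ℕ}
    (c : Cfsg.Agent.Lib.Helper16.BG134.Ctx M E P R H p) (hnc : ∀ g : G, cj g M ≠ H)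
    (hpσ : p ∈ sigma H)
    (hK : sigmaCore M ⊓ H = sigmaCore M ⊓ Subgroup.centralizer (P : Set G))
    (h4 : ∀ q : ℕ, q.Prime → q ∣ Nat.card ↥(sigmaCore M ⊓ Subgroup.centralizer (P : Set G)) →
      q ∉ tau2 H) : p ∈ beta H :=
  p_mem_beta_unbundled c.hG c.hM c.hE c.hp c.hRE c.hne c.hH c.hNP hnc hpσ hK h4

end Cfsg.Agent.Lib.Helper82.BG134
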