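import Mathlib

/-!
# K-D2 (keystone 143028, architect helper15): `uniq_prime_sub_of_normal`  (PURE)
-/

set_option autoImplicit false
set_option linter.unusedSectionVars false
set_option linter.unusedVariables false
set_option linter.style.haveILetI false

namespace Cfsg.Agent.Lib.Helper82.BG142

/-- in a finite cyclic group, two subgroups of the same order are equal -/
theorem eq_of_card_eq_of_isCyclic' {T : Type*} [Group T] [Finite T] [IsCyclic T]
    (A B : Subgroup T) (h : Nat.card A = Nat.card B) : A = B := by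
  classical
  haveI : Fintype T := Fintype.ofFinite T
  set n := Nat.card A with hn
  have hn0 : 0 < n := Nat.card_pos
  have hF : (Finset.univ.filter (fun a : T => a ^ n = 1)).card ≤ n :=
    IsCyclic.card_pow_eq_one_le hn0
  have key : ∀ C : Subgroup T, Nat.card C = n →
      (Finset.univ.filter (fun a : T => a ∈ C)) = Finset.univ.filter (fun a : T => a ^ n = 1) := by
    intro C hC
    apply Finset.eq_of_subset_of_card_le
    · intro a ha
      rw [Finset.mem_filter] at ha ⊢
      refine ⟨ha.1, ?_⟩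
      have : (⟨a, ha.2⟩ : C) ^ Nat.card C = 1 := pow_card_eq_one'
      rw [hC] at this
      exact congrArg Subtype.val this
    · refine hF.trans (le_of_eq ?_)
      rw [← hC, Nat.card_eq_fintype_card, Fintype.card_subtype]
  have hA := key A rfl
  have hB := key B h.symm
  ext a
  have h1 : a ∈ Finset.univ.filter (fun a : T => a ∈ A) ↔
      a ∈ Finset.univ.filter (fun a : T => a ∈ B) := by
    rw [hA, hB]
  simpa using h1

/-- in a cyclic subgroup `T` of a finite group, two subgroups of `T` of the same order are equal -/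
theorem eq_of_le_cyclic' {G : Type*} [Group G] [Finite G] {T A B : Subgroup G}
    (hT : IsCyclic ↥T) (hA : A ≤ T) (hB : B ≤ T) (h : Nat.card A = Nat.card B) : A = B := by
  have h1 : Nat.card (A.subgroupOf T) = Nat.card (B.subgroupOf T) := by
    rw [Nat.card_congr (Subgroup.subgroupOfEquivOfLe hA).toEquiv,
      Nat.card_congr (Subgroup.subgroupOfEquivOfLe hB).toEquiv, h]
  have h2 := eq_of_card_eq_of_isCyclic' _ _ h1
  rw [Subgroup.subgroupOf_inj, inf_of_le_left hA, inf_of_le_left hB] at h2
  exact h2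

variable {G : Type*} [Group G] [Finite G]

/-- **KEYSTONE 143028  K-D2**  All Sylow subgroups of `E` cyclic and all subgroups of prime order
normal: at most one subgroup of each prime order. -/
theorem uniq_prime_sub_of_normal {E : Subgroup G}
    (hcyc : ∀ (r : ℕ) [Fact r.Prime] (R : Sylow r E), IsCyclic (R : Subgroup E))
    (hnorm : ∀ X : Subgroup G, X ≤ E → (Nat.card X).Prime → E ≤ Subgroup.normalizer (X : Set G)) :
    ∀ X Y : Subgroup G, X ≤ E → Y ≤ E → (Nat.card X).Prime → Nat.card Y = Nat.card X → Y = X := by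
  intro X Y hXE hYE hXp hYX
  obtain ⟨r, hr⟩ : ∃ r, r = Nat.card X := ⟨_, rfl⟩
  rw [← hr] at hXp hYX
  haveI : Fact r.Prime := ⟨hXp⟩
  have hX'c : Nat.card (X.subgroupOf E) = r := by
    rw [Nat.card_congr (Subgroup.subgroupOfEquivOfLe hXE).toEquiv, ← hr]
  have hY'c : Nat.card (Y.subgroupOf E) = r := by
    rw [Nat.card_congr (Subgroup.subgroupOfEquivOfLe hYE).toEquiv, hYX]
  have hX'p : IsPGroup r (X.subgroupOf E) := IsPGroup.of_card (n := 1) (by rw [hX'c, pow_one])
  have hY'p : IsPGroup r (Y.subgroupOf E) := IsPGroup.of_card (n := 1) (by rw [hY'c, pow_one])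
  obtain ⟨R, hR⟩ := hX'p.exists_le_sylow
  obtain ⟨R2, hR2⟩ := hY'p.exists_le_sylow
  obtain ⟨e, he⟩ := MulAction.exists_smul_eq (↥E) R R2
  -- `X'` is normal in `E`
  have hXn := hnorm X hXE (by rw [← hr]; exact hXp)
  have hX'R2 : X.subgroupOf E ≤ (R2 : Subgroup ↥E) := by
    intro x hx
    rw [← he, Sylow.coe_subgroup_smul, Subgroup.mem_pointwise_smul_iff_inv_smul_mem]
    apply hR
    rw [Subgroup.mem_subgroupOf] at hx ⊢
    have h1 := (Subgroup.mem_normalizer_iff.mp (hXn (e⁻¹).2)) (x : G)
    have h2 : (((MulAut.conj e)⁻¹ • x : ↥E) : G) =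
        ((e⁻¹ : ↥E) : G) * (x : G) * ((e⁻¹ : ↥E) : G)⁻¹ := by
      rw [← map_inv, MulAut.smul_def, MulAut.conj_apply]
      rfl
    rw [h2]
    exact h1.mp hx
  have h3 : Y.subgroupOf E = X.subgroupOf E :=
    eq_of_le_cyclic' (hcyc r R2) hR2 hX'R2 (by rw [hX'c, hY'c])
  rw [Subgroup.subgroupOf_inj, inf_of_le_left hYE, inf_of_le_left hXE] at h3
  exact h3

end Cfsg.Agent.Lib.Helper82.BG142
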