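import Mathlib

/-!
# K-R4 (keystone 143024, architect helper15): `le_commutator_of_fpf`  (PURE)
-/

set_option autoImplicit false
set_option linter.unusedSectionVars false
set_option linter.unusedVariables false
set_option linter.style.haveILetI false

namespace Cfsg.Agent.Lib.Helper82.BG142

open scoped commutatorElement

variable {G : Type*} [Group G] [Finite G]

/-- **KEYSTONE 143024  K-R4** `U ≤ E` normalized by `k ∈ E` with `C_U(k) = 1`: `U ≤ ⁅E,E⁆`
(`u ↦ ⁅u,k⁆` is an injective map `U → U`, hence onto). -/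
theorem le_commutator_of_fpf {E U : Subgroup G} {k : G} (hUE : U ≤ E) (hk : k ∈ E)
    (hUc : IsMulCommutative U) (hkU : k ∈ Subgroup.normalizer (U : Set G))
    (hfpf : U ⊓ Subgroup.centralizer ({k} : Set G) = ⊥) : U ≤ ⁅E, E⁆ := by
  have hmem : ∀ u : G, u ∈ U → u * (k * u⁻¹ * k⁻¹) ∈ U := by
    intro u hu
    exact U.mul_mem hu (((Subgroup.mem_normalizer_iff.mp hkU) u⁻¹).mp (U.inv_mem hu))
  let f : ↥U → ↥U := fun u => ⟨(u : G) * (k * (u : G)⁻¹ * k⁻¹), hmem u u.2⟩
  have hinj : Function.Injective f := by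
    intro u v huv
    have h1 : (u : G) * (k * (u : G)⁻¹ * k⁻¹) = (v : G) * (k * (v : G)⁻¹ * k⁻¹) :=
      congrArg Subtype.val huv
    obtain ⟨w, hw⟩ : ∃ w : G, w = (v : G)⁻¹ * (u : G) := ⟨_, rfl⟩
    have h2 : w = k * w * k⁻¹ := by
      calc w = (v : G)⁻¹ * ((u : G) * (k * (u : G)⁻¹ * k⁻¹)) * (k * (u : G) * k⁻¹) := by
            rw [hw]; group
        _ = (v : G)⁻¹ * ((v : G) * (k * (v : G)⁻¹ * k⁻¹)) * (k * (u : G) * k⁻¹) := by rw [h1]
        _ = k * w * k⁻¹ := by rw [hw]; group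
    have h4 : w ∈ U ⊓ Subgroup.centralizer ({k} : Set G) := by
      refine Subgroup.mem_inf.mpr ⟨?_, ?_⟩
      · rw [hw]
        exact U.mul_mem (U.inv_mem v.2) u.2
      · rw [Subgroup.mem_centralizer_iff]
        intro h hh
        rw [Set.mem_singleton_iff] at hh
        subst hh
        calc h * w = h * w * h⁻¹ * h := by group
          _ = w * h := by rw [← h2]
    rw [hfpf, Subgroup.mem_bot, hw, inv_mul_eq_one] at h4
    exact Subtype.ext h4.symm
  have hsurj : Function.Surjective f := Finite.injective_iff_surjective.mp hinj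
  intro u hu
  obtain ⟨u', hu'⟩ := hsurj ⟨u, hu⟩
  have h1 : (u' : G) * (k * (u' : G)⁻¹ * k⁻¹) = u := congrArg Subtype.val hu'
  have h2 : ⁅(u' : G), k⁆ = u := by
    rw [commutatorElement_def, ← h1]
    group
  rw [← h2]
  exact Subgroup.commutator_mem_commutator (hUE u'.2) hk

end Cfsg.Agent.Lib.Helper82.BG142
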