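import Mathlib
import Cfsg.Agent.S1350
import Cfsg.Agent.Lib.Helper15.BG139Defs
import Cfsg.Agent.Lib.Helper13.BG12B
import Cfsg.Agent.Lib.Helper54.BG134A3a
import Cfsg.Agent.Lib.Helper58.BG139K2c
import Cfsg.Agent.Lib.Helper31.FittingHall
import Cfsg.Agent.Lib.Helper71.BG11a
import Cfsg.Agent.Lib.Helper55.Uniq2

/-!
# K-S1353-B (keystone 135310, architect helper58), core: Claim B with the two `κ(M)` facts of
keystone 135308 as hypotheses.

`K ≠ 1` a Hall `κ(M)`-subgroup with `κ(M) ⊆ τ₁(M)` is a Hall `τ₁(M)`-subgroup of a complement `E` of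
`M_σ`, `τ₁(M) ⊆ κ(M)` and `C_{M_σ}(K) ≠ 1`.
-/

set_option autoImplicit false
set_option linter.unusedSectionVars false
set_option linter.unusedVariables false
set_option linter.style.haveILetI false

namespace Cfsg.Agent.Lib.Helper82.BG14

open Cfsg Cfsg.Agent.Lib.Helper55 Cfsg.Agent.Lib.Helper15.BG139

variable {G : Type*} [Group G] [Finite G]

/-- **K-S1353-B** with the facts 135308 (a), (b) on `κ(M)` as hypotheses. -/
theorem exists_compl_hall_tau1_of (hG : IsMinSimpleOddOrder G) {M K : Subgroup G} (hM : IsCoatom M)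
    (hKa : ∀ (P : Subgroup G) (p : ℕ), p ∈ kappa M → P ≤ M → Nat.card P = p →
      sigmaCore M ⊓ Subgroup.centralizer (P : Set G) ≠ ⊥)
    (hKb : ∀ (R : Subgroup G) (r : ℕ), r.Prime → r ∣ Nat.card M → r ∉ sigma M → PRankLE r 1 M →
      R ≤ M → Nat.card R = r → sigmaCore M ⊓ Subgroup.centralizer (R : Set G) ≠ ⊥ → r ∈ kappa M)
    (hK : IsPiHallOf (kappa M) K M) (hK1 : K ≠ ⊥) (hκ : ∀ p : ℕ, p ∈ kappa M → p ∈ tau1 M)
    (hpa : ∀ E E₁ : Subgroup G, IsComplIn E (sigmaCore M) M → IsPiHallOf (tau1 M) E₁ E →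
      PrimeAct M E₁) :
    ∃ E : Subgroup G, IsComplIn E (sigmaCore M) M ∧ IsPiHallOf (tau1 M) K E ∧
      (∀ u : ℕ, u ∈ tau1 M → u ∈ kappa M) ∧
      sigmaCore M ⊓ Subgroup.centralizer (K : Set G) ≠ ⊥ := by
  classical
  obtain ⟨hKM, hKκ, hKidx⟩ := hK
  have hKτ : ∀ p : ℕ, p.Prime → p ∣ Nat.card K → p ∈ tau1 M := fun p hp hd => hκ p (hKκ p hp hd)
  have hHall : IsPiHallOf (sigma M) (sigmaCore M) M := (Cfsg.Agent.S1350.result hG M hM).1
  -- a complement `E ≥ K`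
  obtain ⟨E, hE, hKE⟩ := Cfsg.Agent.Lib.Helper13.BG12.exists_complIn_ge hG hM hHall hKM
    (fun p hp hd => (hKτ p hp hd).2.1)
  have hEM : E ≤ M := hE.1
  have hEtop : E ≠ ⊤ := fun h => hM.1 (top_le_iff.mp (h ▸ hEM))
  -- a Hall `τ₁(M)`-subgroup `E₁ ≥ K` of `E`
  obtain ⟨E₁, hE₁, hKE₁⟩ := Cfsg.Agent.Lib.Helper54.BG134.exists_isPiHallOf_ge
    (ms_solvable hG hEtop) (tau1 M) hKE hKτ
  have hE₁E : E₁ ≤ E := hE₁.1
  have hE₁M : E₁ ≤ M := hE₁E.trans hEM
  have hact := hpa E E₁ hE hE₁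
  -- a subgroup `P ≤ K` of prime order
  obtain ⟨p, hp, hpK⟩ := Cfsg.Agent.Lib.Helper58.BG139.exists_prime_dvd_card_of_ne_bot hK1
  obtain ⟨x, hxK, hxo⟩ := Cfsg.Agent.Lib.Helper58.BG139.exists_mem_orderOf_eq_of_dvd_card hp hpK
  have hx1 : x ≠ 1 := by
    rintro rfl
    rw [orderOf_one] at hxo
    exact hp.ne_one hxo.symm
  have hPc : Nat.card (Subgroup.zpowers x) = p := by rw [Nat.card_zpowers, hxo]
  have hPM : Subgroup.zpowers x ≤ M := (Subgroup.zpowers_le.mpr hxK).trans hKM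
  have hCP := hKa (Subgroup.zpowers x) p (hKκ p hp hpK) hPM hPc
  -- `C_{M_σ}(P) ≤ C_{M_σ}(E₁)`
  have hle : sigmaCore M ⊓ Subgroup.centralizer ((Subgroup.zpowers x : Subgroup G) : Set G) ≤
      sigmaCore M ⊓ Subgroup.centralizer (E₁ : Set G) := by
    intro y hy
    have hyx : y ∈ Subgroup.centralizer ({x} : Set G) := by
      rw [Subgroup.mem_centralizer_iff]
      intro z hz
      rw [Set.mem_singleton_iff] at hz
      subst hz
      exact (Subgroup.mem_centralizer_iff.mp hy.2) z (Subgroup.mem_zpowers z)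
    exact ⟨hy.1, hact x (hKE₁ hxK) hx1 ⟨hy.1, hyx⟩⟩
  have hCE₁ : sigmaCore M ⊓ Subgroup.centralizer (E₁ : Set G) ≠ ⊥ := by
    intro h
    apply hCP
    rw [eq_bot_iff, ← h]
    exact hle
  -- every prime of `|E₁|` lies in `κ(M)`
  have hE₁κ : ∀ u : ℕ, u.Prime → u ∣ Nat.card E₁ → u ∈ kappa M := by
    intro u hu hud
    obtain ⟨z, hzE₁, hzo⟩ :=
      Cfsg.Agent.Lib.Helper58.BG139.exists_mem_orderOf_eq_of_dvd_card hu hud
    have huτ : u ∈ tau1 M := hE₁.2.1 u hu hud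
    have hUc : Nat.card (Subgroup.zpowers z) = u := by rw [Nat.card_zpowers, hzo]
    have hUE₁ : Subgroup.zpowers z ≤ E₁ := Subgroup.zpowers_le.mpr hzE₁
    refine hKb (Subgroup.zpowers z) u hu huτ.2.2.1 huτ.2.1 huτ.2.2.2.2 (hUE₁.trans hE₁M) hUc ?_
    intro h
    apply hCE₁
    rw [eq_bot_iff, ← h]
    exact inf_le_inf_left _ (Subgroup.centralizer_le hUE₁)
  -- `E₁ = K`
  have hE₁K : E₁ = K := by
    apply le_antisymm _ hKE₁
    rw [← Subgroup.relIndex_eq_one]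
    by_contra hne
    obtain ⟨u, hu, hud⟩ := Nat.exists_prime_and_dvd hne
    have h1 : K.relIndex E₁ ∣ Nat.card E₁ := Subgroup.relIndex_dvd_card K E₁
    have h2 : K.relIndex E₁ ∣ K.relIndex M := by
      rw [← Subgroup.relIndex_mul_relIndex K E₁ M hKE₁ hE₁M]
      exact dvd_mul_right _ _
    exact hKidx u hu (hE₁κ u hu (hud.trans h1)) (hud.trans h2)
  -- `τ₁(M) ⊆ κ(M)`
  have hτκ : ∀ u : ℕ, u ∈ tau1 M → u ∈ kappa M := by
    intro u huτ
    have hu : u.Prime := huτ.1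
    have hcard := Cfsg.Agent.Lib.Helper31.IsComplIn.card_mul hE
    have huσ : ¬ u ∣ Nat.card (sigmaCore M) := fun hd =>
      huτ.2.1 (Cfsg.Agent.Lib.Helper71.BG11.sigmaCore_pi hG hM hu hd)
    have huE : u ∣ Nat.card E := by
      have h1 : u ∣ Nat.card E * Nat.card (sigmaCore M) := by rw [hcard]; exact huτ.2.2.1
      rcases (Nat.Prime.dvd_mul hu).mp h1 with h | h
      · exact h
      · exact absurd h huσ
    have h3 : Nat.card E₁ * E₁.relIndex E = Nat.card E := by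
      have := Subgroup.relIndex_mul_relIndex (⊥ : Subgroup G) E₁ E bot_le hE₁E
      rwa [Subgroup.relIndex_bot_left, Subgroup.relIndex_bot_left] at this
    rw [← h3] at huE
    rcases (Nat.Prime.dvd_mul hu).mp huE with h | h
    · exact hE₁κ u hu h
    · exact absurd h (hE₁.2.2 u hu huτ)
  refine ⟨E, hE, hE₁K ▸ hE₁, hτκ, ?_⟩
  rw [← hE₁K]
  exact hCE₁

end Cfsg.Agent.Lib.Helper82.BG14
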