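import Mathlib
import Cfsg.Agent.Lib.Helper82.BG14B0
import Cfsg.Agent.Lib.Helper64.BG14K

/-!
# K-S1353-B (keystone 135310, architect helper58): `exists_compl_hall_tau1`, exact signature of the spec
-/

set_option autoImplicit false
set_option linter.unusedSectionVars false
set_option linter.unusedVariables false
set_option linter.style.haveILetI false

namespace Cfsg.Agent.Lib.Helper82.BG14

open Cfsg Cfsg.Agent.Lib.Helper55 Cfsg.Agent.Lib.Helper15.BG139

variable {G : Type*} [Group G] [Finite G]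

/-- **KEYSTONE 135310  K-S1353-B** -/
theorem exists_compl_hall_tau1 (hG : IsMinSimpleOddOrder G) {M K : Subgroup G} (hM : IsCoatom M)
    (hK : IsPiHallOf (kappa M) K M) (hK1 : K ≠ ⊥) (hκ : ∀ p : ℕ, p ∈ kappa M → p ∈ tau1 M)
    (hpa : ∀ E E₁ : Subgroup G, IsComplIn E (sigmaCore M) M → IsPiHallOf (tau1 M) E₁ E →
      PrimeAct M E₁) :
    ∃ E : Subgroup G, IsComplIn E (sigmaCore M) M ∧ IsPiHallOf (tau1 M) K E ∧
      (∀ u : ℕ, u ∈ tau1 M → u ∈ kappa M) ∧
      sigmaCore M ⊓ Subgroup.centralizer (K : Set G) ≠ ⊥ :=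
  exists_compl_hall_tau1_of hG hM
    (fun P p hp hPM hPc => Cfsg.Agent.Lib.Helper64.BG14.cent_ne_bot_of_mem_kappa hG hM hp hPM hPc)
    (fun R r hr hrM hrs hr1 hRM hRc hC =>
      Cfsg.Agent.Lib.Helper64.BG14.mem_kappa_of_cent_ne_bot hG hM hr hrM hrs hr1 hRM hRc hC)
    hK hK1 hκ hpa

end Cfsg.Agent.Lib.Helper82.BG14
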