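import Mathlib
import Cfsg.Prelude.Def_Blocks

set_option autoImplicit false

namespace Cfsg.Agent.Lib.Helper82

open Representation

section Schur

variable {G : Type*} [Group G] [Fintype G] {V : Type*} [AddCommGroup V] [Module ℂ V]

/-- The averaging operator `∑ g, ρ (g * y * g⁻¹)` commutes with `ρ h`. -/
theorem sum_conj_comm (ρ : Representation ℂ G V) (y h : G) :
    (∑ g : G, ρ (g * y * g⁻¹)) ∘ₗ ρ h = ρ h ∘ₗ (∑ g : G, ρ (g * y * g⁻¹)) := by
  simp only [← Module.End.mul_eq_comp, Finset.sum_mul, Finset.mul_sum]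
  rw [← Equiv.sum_comp (Equiv.mulLeft h)]
  refine Finset.sum_congr rfl fun g _ => ?_
  simp only [Equiv.coe_mulLeft]
  rw [← map_mul, ← map_mul]
  congr 1
  group

variable [FiniteDimensional ℂ V]

/-- Schur averaging: for an irreducible complex representation, `∑ g, ρ (g y g⁻¹)` is a scalar. -/
theorem exists_sum_conj_eq_smul (ρ : Representation ℂ G V) [ρ.IsIrreducible] (y : G) :
    ∃ c : ℂ, (∑ g : G, ρ (g * y * g⁻¹)) = c • (LinearMap.id : V →ₗ[ℂ] V) := by
  let A : IntertwiningMap ρ ρ :=
    ⟨∑ g : G, ρ (g * y * g⁻¹), fun h => sum_conj_comm ρ y h⟩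
  obtain ⟨c, hc⟩ :=
    (IsIrreducible.algebraMap_intertwiningMap_bijective_of_isAlgClosed (ρ := ρ)).2 A
  refine ⟨c, ?_⟩
  have := congrArg IntertwiningMap.toLinearMap hc
  rw [IntertwiningMap.algebraMap_apply] at this
  exact this.symm

/-- An irreducible representation has nonzero degree. -/
theorem char_one_ne_zero (ρ : Representation ℂ G V) [ρ.IsIrreducible] :
    ρ.character 1 ≠ 0 := by
  rw [char_one]
  have : Nontrivial V := by
    by_contra h
    rw [not_nontrivial_iff_subsingleton] at h
    have h1 : (⊥ : Subrepresentation ρ) = ⊤ := by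
      apply Subrepresentation.ext
      exact Subsingleton.elim _ _
    exact bot_ne_top h1
  have : 0 < Module.finrank ℂ V := Module.finrank_pos
  exact_mod_cast this.ne'

/-- Schur averaging with the explicit scalar. -/
theorem sum_conj_eq_smul (ρ : Representation ℂ G V) [ρ.IsIrreducible] (y : G) :
    (∑ g : G, ρ (g * y * g⁻¹)) =
      ((Fintype.card G : ℂ) * ρ.character y / ρ.character 1) • (LinearMap.id : V →ₗ[ℂ] V) := by
  obtain ⟨c, hc⟩ := exists_sum_conj_eq_smul ρ y
  have h1 := congrArg (LinearMap.trace ℂ V) hc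
  rw [map_sum, map_smul] at h1
  have h2 : ∀ g : G, LinearMap.trace ℂ V (ρ (g * y * g⁻¹)) = ρ.character y := fun g =>
    char_conj ρ y g
  simp only [h2, Finset.sum_const, Finset.card_univ, nsmul_eq_mul, smul_eq_mul] at h1
  have h3 : LinearMap.trace ℂ V LinearMap.id = ρ.character 1 := by
    rw [char_one]; exact LinearMap.trace_id ℂ V
  rw [h3] at h1
  have h4 := char_one_ne_zero ρ
  rw [hc]
  congr 1
  field_simp
  exact h1.symm

end Schur

end Cfsg.Agent.Lib.Helper82
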