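import Mathlib
import Cfsg.Prelude.Def_Blocks
import Cfsg.Agent.Lib.Helper82.Schur

set_option autoImplicit false

namespace Cfsg.Agent.Lib.Helper82

open Representation

section Integral

variable {G : Type*} [Group G] {V : Type*} [AddCommGroup V] [Module ℂ V]

section
variable [Finite G] [FiniteDimensional ℂ V]

/-- An endomorphism of finite order of a finite-dimensional complex vector space has
trace integral over `ℤ`. -/
theorem isIntegral_trace_of_pow_eq_one (f : Module.End ℂ V) (N : ℕ) (hN : 0 < N)
    (hf : f ^ N = 1) : IsIntegral ℤ (LinearMap.trace ℂ V f) := by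
  rw [Module.End.trace_eq_sum_roots_charpoly_of_splits (IsAlgClosed.splits _)]
  refine IsIntegral.multiset_sum fun μ hμ => ?_
  have hroot : f.charpoly.IsRoot μ := (Polynomial.mem_roots'.1 hμ).2
  rw [← Module.End.hasEigenvalue_iff_isRoot_charpoly] at hroot
  obtain ⟨v, hv⟩ := hroot.exists_hasEigenvector
  have h1 := hv.pow_apply N
  rw [hf, Module.End.one_apply] at h1
  have h2 : μ ^ N = 1 := by
    have : (μ ^ N - 1) • v = 0 := by rw [sub_smul, one_smul, ← h1, sub_self]
    rcases smul_eq_zero.1 this with h | h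
    · exact sub_eq_zero.1 h
    · exact absurd h hv.2
  exact IsIntegral.of_pow hN (by rw [h2]; exact isIntegral_one)

/-- Character values of a finite group are algebraic integers. -/
theorem isIntegral_character (ρ : Representation ℂ G V) (g : G) :
    IsIntegral ℤ (ρ.character g) := by
  refine isIntegral_trace_of_pow_eq_one (ρ g) (orderOf g) (orderOf_pos g) ?_
  rw [← map_pow, pow_orderOf_eq_one, map_one]

end

variable [Fintype G]

/-- A combination of the `ρ g` with algebraic integer coefficients is integral over `ℤ`. -/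
theorem isIntegral_sum_smul (ρ : Representation ℂ G V) (f : G → ℂ)
    (hf : ∀ g, IsIntegral ℤ (f g)) : IsIntegral ℤ (∑ g : G, f g • ρ g) := by
  classical
  let φ : MonoidAlgebra (integralClosure ℤ ℂ) G →ₐ[integralClosure ℤ ℂ] Module.End ℂ V :=
    MonoidAlgebra.lift (integralClosure ℤ ℂ) (Module.End ℂ V) G ρ
  let x : MonoidAlgebra (integralClosure ℤ ℂ) G :=
    ∑ g : G, MonoidAlgebra.single g (⟨f g, hf g⟩ : integralClosure ℤ ℂ)
  have hx : IsIntegral ℤ x :=
    isIntegral_trans (A := integralClosure ℤ ℂ) x (Algebra.IsIntegral.isIntegral x)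
  have h2 : φ x = ∑ g : G, f g • ρ g := by
    simp only [x, map_sum, φ]
    refine Finset.sum_congr rfl fun g _ => ?_
    rw [MonoidAlgebra.lift_single]
    rfl
  rw [← h2]
  exact IsIntegral.map (φ.restrictScalars ℤ) hx

/-- For a class function `f`, the operator `∑ g, f g • ρ g` commutes with every `ρ h`. -/
theorem sum_classFun_smul_comm (ρ : Representation ℂ G V) (f : G → ℂ)
    (hf : ∀ g h : G, f (h * g * h⁻¹) = f g) (h : G) :
    (∑ g : G, f g • ρ g) ∘ₗ ρ h = ρ h ∘ₗ (∑ g : G, f g • ρ g) := by
  simp only [← Module.End.mul_eq_comp, Finset.sum_mul, Finset.mul_sum]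
  rw [← Equiv.sum_comp (MulAut.conj h).toEquiv]
  refine Finset.sum_congr rfl fun g _ => ?_
  simp only [MulEquiv.toEquiv_eq_coe, EquivLike.coe_coe, MulAut.conj_apply, hf]
  rw [smul_mul_assoc, mul_smul_comm, ← map_mul, ← map_mul]
  congr 2
  group

variable [FiniteDimensional ℂ V]

/-- Schur: for an irreducible `ρ` and a class function `f`, `∑ g, f g • ρ g` is the scalar
`(∑ g, f g * χ g) / χ 1`. -/
theorem sum_classFun_smul_eq (ρ : Representation ℂ G V) [ρ.IsIrreducible] (f : G → ℂ)
    (hf : ∀ g h : G, f (h * g * h⁻¹) = f g) :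
    (∑ g : G, f g • ρ g) =
      ((∑ g : G, f g * ρ.character g) / ρ.character 1) • (LinearMap.id : V →ₗ[ℂ] V) := by
  let A : IntertwiningMap ρ ρ := ⟨∑ g : G, f g • ρ g, fun h => sum_classFun_smul_comm ρ f hf h⟩
  obtain ⟨c, hc⟩ :=
    (IsIrreducible.algebraMap_intertwiningMap_bijective_of_isAlgClosed (ρ := ρ)).2 A
  have hc' : (∑ g : G, f g • ρ g) = c • (LinearMap.id : V →ₗ[ℂ] V) := by
    have := congrArg IntertwiningMap.toLinearMap hc
    rw [IntertwiningMap.algebraMap_apply] at this
    exact this.symm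
  have h1 := congrArg (LinearMap.trace ℂ V) hc'
  rw [map_sum, map_smul] at h1
  simp only [map_smul, smul_eq_mul] at h1
  have h3 : LinearMap.trace ℂ V LinearMap.id = ρ.character 1 := by
    rw [char_one]; exact LinearMap.trace_id ℂ V
  rw [h3] at h1
  have h4 := char_one_ne_zero ρ
  rw [hc']
  congr 1
  rw [eq_div_iff h4]
  exact h1.symm

/-- For an irreducible `ρ` and a class function `f` with algebraic integer values,
`(∑ g, f g * χ g) / χ 1` is an algebraic integer. -/
theorem isIntegral_sum_classFun_mul_char_div (ρ : Representation ℂ G V) [ρ.IsIrreducible]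
    (f : G → ℂ) (hf : ∀ g h : G, f (h * g * h⁻¹) = f g) (hint : ∀ g, IsIntegral ℤ (f g)) :
    IsIntegral ℤ ((∑ g : G, f g * ρ.character g) / ρ.character 1) := by
  have h1 := isIntegral_sum_smul ρ f hint
  rw [sum_classFun_smul_eq ρ f hf] at h1
  have hnt : Nontrivial V := by
    by_contra h
    rw [not_nontrivial_iff_subsingleton] at h
    have h1 : (⊥ : Subrepresentation ρ) = ⊤ := by
      apply Subrepresentation.ext
      exact Subsingleton.elim _ _
    exact bot_ne_top h1
  have hinj : Function.Injective (algebraMap ℂ (Module.End ℂ V)) :=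
    FaithfulSMul.algebraMap_injective ℂ (Module.End ℂ V)
  rw [← isIntegral_algebraMap_iff hinj]
  rw [Algebra.algebraMap_eq_smul_one]
  exact h1

end Integral

end Cfsg.Agent.Lib.Helper82
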