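import Mathlib
import Cfsg.Prelude.Def_Blocks
import Cfsg.Agent.Lib.Helper82.Integral

set_option autoImplicit false

namespace Cfsg.Agent.Lib.Helper82

open Representation

section CharBasic

variable {G : Type*} [Group G]

theorem IsIrrCharacter.isCharacter {χ : G → ℂ} (h : Cfsg.IsIrrCharacter G χ) :
    Cfsg.IsCharacter G χ := by
  obtain ⟨n, ρ, _, rfl⟩ := h
  exact ⟨n, ρ, rfl⟩

theorem IsCharacter.conj_apply {χ : G → ℂ} (h : Cfsg.IsCharacter G χ) (g x : G) :
    χ (x * g * x⁻¹) = χ g := by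
  obtain ⟨n, ρ, rfl⟩ := h
  exact char_conj ρ g x

theorem IsCharacter.mul_comm_apply {χ : G → ℂ} (h : Cfsg.IsCharacter G χ) (g x : G) :
    χ (x * g) = χ (g * x) := by
  obtain ⟨n, ρ, rfl⟩ := h
  exact char_mul_comm ρ g x

theorem IsCharacter.isClassFunction {χ : G → ℂ} (h : Cfsg.IsCharacter G χ) :
    Cfsg.IsClassFunction G χ := fun g x => IsCharacter.conj_apply h g x

theorem IsCharacter.apply_one {χ : G → ℂ} (h : Cfsg.IsCharacter G χ) :
    ∃ n : ℕ, χ 1 = n := by
  obtain ⟨n, ρ, rfl⟩ := h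
  exact ⟨_, char_one ρ⟩

theorem IsCharacter.charDegree_cast {χ : G → ℂ} (h : Cfsg.IsCharacter G χ) :
    (Cfsg.charDegree χ : ℂ) = χ 1 := by
  obtain ⟨n, hn⟩ := IsCharacter.apply_one h
  rw [Cfsg.charDegree, hn]
  simp

theorem IsCharacter.isIntegral [Finite G] {χ : G → ℂ} (h : Cfsg.IsCharacter G χ) (g : G) :
    IsIntegral ℤ (χ g) := by
  obtain ⟨n, ρ, rfl⟩ := h
  exact isIntegral_character ρ g

theorem IsIrrCharacter.apply_one_ne_zero {χ : G → ℂ} (h : Cfsg.IsIrrCharacter G χ) :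
    χ 1 ≠ 0 := by
  obtain ⟨n, ρ, hρ, rfl⟩ := h
  haveI := hρ
  have hnt : Nontrivial (Fin n → ℂ) := by
    by_contra h
    rw [not_nontrivial_iff_subsingleton] at h
    have h1 : (⊥ : Subrepresentation ρ) = ⊤ := by
      apply Subrepresentation.ext
      exact Subsingleton.elim _ _
    exact bot_ne_top h1
  rw [char_one]
  have : 0 < Module.finrank ℂ (Fin n → ℂ) := Module.finrank_pos
  exact_mod_cast this.ne'

theorem IsIrrCharacter.charDegree_pos {χ : G → ℂ} (h : Cfsg.IsIrrCharacter G χ) :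
    0 < Cfsg.charDegree χ := by
  have h1 := IsCharacter.charDegree_cast (IsIrrCharacter.isCharacter h)
  have h2 := IsIrrCharacter.apply_one_ne_zero h
  rw [← h1] at h2
  exact Nat.pos_of_ne_zero (by exact_mod_cast h2)

end CharBasic

end Cfsg.Agent.Lib.Helper82
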