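import Mathlib
import Cfsg.Prelude.Def_Blocks
import Cfsg.Agent.Lib.Helper82.Integral
import Cfsg.Agent.Lib.Helper82.CharBasic

set_option autoImplicit false
set_option linter.style.haveILetI false

namespace Cfsg.Agent.Lib.Helper82


open Representation

section CharSchur

variable {G : Type*} [Group G]

/-- The index of the centralizer of `g` is the number of conjugates of `g`. -/
theorem index_centralizer_eq_card_conj (g : G) :
    (Subgroup.centralizer ({g} : Set G)).index = Nat.card {z : G // IsConj g z} := by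
  have h : (Subgroup.centralizer ({g} : Set G)).index =
      (MulAction.stabilizer (ConjAct G) g).index := by
    rw [ConjAct.stabilizer_eq_centralizer]; rfl
  rw [h, MulAction.index_stabilizer]
  rw [← Nat.card_coe_set_eq]
  refine Nat.card_congr (Equiv.subtypeEquivRight fun z => ?_)
  rw [ConjAct.mem_orbit_conjAct, isConj_comm]

variable [Fintype G]

theorem sum_char_mul_conj {V : Type*} [AddCommGroup V] [Module ℂ V] [FiniteDimensional ℂ V]
    (ρ : Representation ℂ G V) [ρ.IsIrreducible] (T : Module.End ℂ V) (y : G) :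
    ∑ g : G, LinearMap.trace ℂ V (T * ρ (g * y * g⁻¹)) =
      (Fintype.card G : ℂ) * ρ.character y / ρ.character 1 * LinearMap.trace ℂ V T := by
  rw [← map_sum, ← Finset.mul_sum, sum_conj_eq_smul ρ y]
  rw [mul_smul_comm, map_smul, smul_eq_mul]
  congr 2

theorem IsIrrCharacter.sum_mul_conj {χ : G → ℂ} (h : Cfsg.IsIrrCharacter G χ) (x y : G) :
    ∑ g : G, χ (x * (g * y * g⁻¹)) = (Fintype.card G : ℂ) * χ x * χ y / χ 1 := by
  obtain ⟨n, ρ, hρ, rfl⟩ := h
  have := sum_char_mul_conj ρ (ρ x) y
  simp only [← map_mul] at this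
  rw [show (∑ g : G, ρ.character (x * (g * y * g⁻¹))) =
    ∑ g : G, LinearMap.trace ℂ _ (ρ (x * (g * y * g⁻¹))) from rfl, this]
  simp only [Representation.character]
  ring

theorem IsIrrCharacter.sum_sum_conj_mul {χ : G → ℂ} (h : Cfsg.IsIrrCharacter G χ) (x y w : G) :
    ∑ a : G, ∑ b : G, χ (w * (a * x * a⁻¹) * (b * y * b⁻¹)) =
      (Fintype.card G : ℂ) ^ 2 * χ x * χ y * χ w / (χ 1) ^ 2 := by
  simp_rw [IsIrrCharacter.sum_mul_conj h]
  rw [← Finset.sum_div, ← Finset.sum_mul, ← Finset.mul_sum]
  rw [IsIrrCharacter.sum_mul_conj h]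
  ring

end CharSchur



open Representation

section CharSchur2

variable {G : Type*} [Group G]

theorem IsIrrCharacter.isIntegral_centralChar [Finite G] {χ : G → ℂ}
    (h : Cfsg.IsIrrCharacter G χ) (g : G) : IsIntegral ℤ (Cfsg.centralChar χ g) := by
  classical
  haveI := Fintype.ofFinite G
  obtain ⟨n, ρ, hρ, rfl⟩ := h
  have key := isIntegral_sum_classFun_mul_char_div ρ (fun z => if IsConj g z then 1 else 0)
    (fun z x => by
      have : IsConj g (x * z * x⁻¹) ↔ IsConj g z := by
        constructor
        · intro h1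
          exact h1.trans (isConj_iff.2 ⟨x⁻¹, by group⟩)
        · intro h1
          exact h1.trans (isConj_iff.2 ⟨x, rfl⟩)
      simp only [this])
    (fun z => by split_ifs; exacts [isIntegral_one, isIntegral_zero])
  have hsum : (∑ z : G, (if IsConj g z then (1 : ℂ) else 0) * ρ.character z) =
      ((Subgroup.centralizer ({g} : Set G)).index : ℂ) * ρ.character g := by
    simp only [ite_mul, one_mul, zero_mul]
    rw [← Finset.sum_filter]
    have h2 : ∀ z ∈ Finset.univ.filter (fun z => IsConj g z), ρ.character z = ρ.character g := by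
      intro z hz
      obtain ⟨c, hc⟩ := isConj_iff.1 (Finset.mem_filter.1 hz).2
      rw [← hc, char_conj]
    rw [Finset.sum_congr rfl h2, Finset.sum_const, nsmul_eq_mul]
    congr 2
    rw [index_centralizer_eq_card_conj, Nat.card_eq_fintype_card, Fintype.card_subtype]
  rw [hsum] at key
  exact key

end CharSchur2



open Representation

section CharSchur3

variable {G : Type*} [Group G]

theorem sum_char_mul_char_inv [Fintype G] {V : Type*} [AddCommGroup V] [Module ℂ V]
    [FiniteDimensional ℂ V] (ρ : Representation ℂ G V) [ρ.IsIrreducible] :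
    ∑ g : G, ρ.character g⁻¹ * ρ.character g = (Fintype.card G : ℂ) := by
  classical
  have hne : (Nat.card G : ℂ) ≠ 0 := by
    rw [Nat.card_eq_fintype_card]; exact_mod_cast Fintype.card_ne_zero
  haveI : Invertible (Nat.card G : ℂ) := invertibleOfNonzero hne
  have h := char_orthonormal ρ ρ
  rw [if_pos ⟨Representation.Equiv.refl ρ⟩] at h
  rw [inv_mul_eq_iff_eq_mul₀ hne, mul_one] at h
  rw [← Nat.card_eq_fintype_card, ← h]
  exact Finset.sum_congr rfl fun g _ => mul_comm _ _

theorem isIntegral_card_div_char_one [Fintype G] {V : Type*} [AddCommGroup V] [Module ℂ V]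
    [FiniteDimensional ℂ V] (ρ : Representation ℂ G V) [ρ.IsIrreducible] :
    IsIntegral ℤ ((Fintype.card G : ℂ) / ρ.character 1) := by
  have key := isIntegral_sum_classFun_mul_char_div ρ (fun z => ρ.character z⁻¹)
    (fun z x => by
      show ρ.character (x * z * x⁻¹)⁻¹ = ρ.character z⁻¹
      rw [show (x * z * x⁻¹)⁻¹ = x * z⁻¹ * x⁻¹ by group, char_conj])
    (fun z => isIntegral_character ρ z⁻¹)
  rw [sum_char_mul_char_inv] at key
  exact key

/-- A rational number whose image in `ℂ` is an algebraic integer is an integer. -/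
theorem exists_int_of_isIntegral_ratCast {q : ℚ} (h : IsIntegral ℤ (q : ℂ)) :
    ∃ k : ℤ, q = k := by
  have h1 : IsIntegral ℤ q := by
    have := (isIntegral_algebraMap_iff (R := ℤ) (A := ℚ) (B := ℂ)
      (algebraMap ℚ ℂ).injective (x := q)).1
    exact this (by simpa using h)
  obtain ⟨k, hk⟩ := IsIntegrallyClosed.isIntegral_iff.1 h1
  exact ⟨k, by simpa using hk.symm⟩

theorem finrank_dvd_card [Fintype G] {V : Type*} [AddCommGroup V] [Module ℂ V]
    [FiniteDimensional ℂ V] (ρ : Representation ℂ G V) [ρ.IsIrreducible] :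
    Module.finrank ℂ V ∣ Fintype.card G := by
  have h := isIntegral_card_div_char_one ρ
  have hne := char_one_ne_zero ρ
  rw [char_one] at h hne
  have h2 : ((Fintype.card G : ℂ) / (Module.finrank ℂ V : ℂ)) =
      (((Fintype.card G : ℚ) / (Module.finrank ℂ V : ℚ) : ℚ) : ℂ) := by
    push_cast; rfl
  rw [h2] at h
  obtain ⟨k, hk⟩ := exists_int_of_isIntegral_ratCast h
  have hne' : (Module.finrank ℂ V : ℚ) ≠ 0 := by exact_mod_cast hne
  rw [div_eq_iff hne'] at hk
  have hk' : (Fintype.card G : ℤ) = k * (Module.finrank ℂ V : ℤ) := by exact_mod_cast hk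
  have : (Module.finrank ℂ V : ℤ) ∣ (Fintype.card G : ℤ) := ⟨k, by rw [hk', mul_comm]⟩
  exact_mod_cast this

end CharSchur3


section CharSchur4

variable {G : Type*} [Group G]

theorem IsIrrCharacter.charDegree_dvd_card [Finite G] {χ : G → ℂ}
    (h : Cfsg.IsIrrCharacter G χ) : Cfsg.charDegree χ ∣ Nat.card G := by
  haveI := Fintype.ofFinite G
  have hc := IsCharacter.charDegree_cast (IsIrrCharacter.isCharacter h)
  obtain ⟨n, ρ, hρ, rfl⟩ := h
  have h1 := finrank_dvd_card ρ
  rw [char_one] at hc
  have : Cfsg.charDegree ρ.character = Module.finrank ℂ (Fin n → ℂ) := by exact_mod_cast hc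
  rw [this, Nat.card_eq_fintype_card]
  exact h1

end CharSchur4

end Cfsg.Agent.Lib.Helper82
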