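import Mathlib
import Cfsg.Prelude.Def_Blocks
import Cfsg.Agent.Lib.Helper01.CD3Defs
import Cfsg.Agent.Lib.Helper83.CharMisc

/-!
# K-CD3-PURE (S4460, keystone 446020): `mul_pure`

`χ`, `ψ` irreducible of coprime degrees `m`, `n > 1` in a group whose irreducible characters have
degrees `1`, `m`, `n`: all constituents of `χ ψ` have degree `m`, or all have degree `n`.
-/

set_option autoImplicit false
set_option linter.unusedSectionVars false
set_option linter.unusedVariables false
set_option linter.style.haveILetI false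

namespace Cfsg.Agent.Lib.Helper82.CD3

open Cfsg Cfsg.Agent.Lib.Helper01.CD3
open scoped ComplexConjugate

universe u

/-- moving a factor across the inner product -/
theorem pure_classInner_mul_left {G : Type u} [Group G] [Fintype G] (f ω g : G → ℂ) :
    classInner (f * ω) g = classInner f ((fun x => conj (ω x)) * g) := by
  rw [Cfsg.Agent.Lib.Helper83.classInner_def, Cfsg.Agent.Lib.Helper83.classInner_def]
  congr 1
  apply Finset.sum_congr rfl
  intro x _
  simp only [Pi.mul_apply, map_mul, Complex.conj_conj]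
  ring

/-- the complex conjugate of an irreducible character is irreducible -/
theorem pure_isIrrCharacter_conj {G : Type u} [Group G] [Fintype G] {χ : G → ℂ}
    (hχ : IsIrrCharacter G χ) : IsIrrCharacter G (fun g => conj (χ g)) := by
  classical
  apply Cfsg.Agent.Lib.Helper83.isIrrCharacter_of_norm_one
    (Cfsg.Agent.Lib.Helper83.isCharacter_conj (Cfsg.Agent.Lib.Helper83.isCharacter_of_irr hχ))
  have h1 := Cfsg.Agent.Lib.Helper83.irr_inner_self ⟨χ, hχ⟩
  rw [Cfsg.Agent.Lib.Helper83.classInner_def] at h1 ⊢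
  rw [← h1]
  congr 1
  refine Finset.sum_congr rfl fun g _ => ?_
  simp only [Complex.conj_conj]
  ring

theorem mul_pure {G : Type u} [Group G] [Fintype G] {m n : ℕ} (hm : 1 < m) (hn : 1 < n)
    (hmn : Nat.Coprime m n) (hcd : ThreeDeg G m n) {χ ψ : G → ℂ}
    (hχ : IsIrrCharacter G χ) (hψ : IsIrrCharacter G ψ)
    (hχm : charDegree χ = m) (hψn : charDegree ψ = n) :
    (∀ φ : G → ℂ, IsIrrCharacter G φ → classInner (χ * ψ) φ ≠ 0 → charDegree φ = m) ∨
    (∀ φ : G → ℂ, IsIrrCharacter G φ → classInner (χ * ψ) φ ≠ 0 → charDegree φ = n) := by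
  classical
  haveI : Fintype (IrrCharacter G) := Fintype.ofFinite _
  have hcχ := Cfsg.Agent.Lib.Helper83.isCharacter_of_irr hχ
  have hcψ := Cfsg.Agent.Lib.Helper83.isCharacter_of_irr hψ
  have hc : IsCharacter G (χ * ψ) := Cfsg.Agent.Lib.Helper83.isCharacter_mul hcχ hcψ
  have hχ1 : χ 1 = (m : ℂ) := by
    rw [← Cfsg.Agent.Lib.Helper83.charDegree_cast hcχ, hχm]
  have hψ1 : ψ 1 = (n : ℂ) := by
    rw [← Cfsg.Agent.Lib.Helper83.charDegree_cast hcψ, hψn]
  have hmne : m ≠ n := by
    rintro rfl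
    rw [Nat.coprime_self] at hmn
    omega
  set mult : IrrCharacter G → ℕ := fun φ => Cfsg.Agent.Lib.Helper83.irrMult (χ * ψ) φ with hmult
  have hcast : ∀ φ : IrrCharacter G, (mult φ : ℂ) = classInner (χ * ψ) (φ : G → ℂ) :=
    fun φ => Cfsg.Agent.Lib.Helper83.irrMult_cast hc φ
  -- no linear constituent
  have hnolin : ∀ φ : IrrCharacter G, mult φ ≠ 0 → charDegree (φ : G → ℂ) ≠ 1 := by
    intro φ hφ h1
    have hφc := Cfsg.Agent.Lib.Helper83.IrrCharacter_isCharacter φ
    have hφ1 : (φ : G → ℂ) 1 = 1 := by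
      rw [← Cfsg.Agent.Lib.Helper83.charDegree_cast hφc, h1]; simp
    have e := pure_classInner_mul_left χ ψ (φ : G → ℂ)
    have hirr : IsIrrCharacter G ((fun x => conj (ψ x)) * (φ : G → ℂ)) := by
      rw [mul_comm]
      exact Cfsg.Agent.Lib.Helper83.isIrrCharacter_mul_linear hφc hφ1 (pure_isIrrCharacter_conj hψ)
    have horth := Cfsg.Agent.Lib.Helper83.irr_orthonormal (⟨χ, hχ⟩ : IrrCharacter G) ⟨_, hirr⟩
    by_cases heq : (⟨χ, hχ⟩ : IrrCharacter G) = ⟨_, hirr⟩
    · have h2 : χ = (fun x => conj (ψ x)) * (φ : G → ℂ) := congrArg Subtype.val heq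
      have h3 : χ 1 = conj (ψ 1) * (φ : G → ℂ) 1 := by
        conv_lhs => rw [h2]
        rfl
      rw [hχ1, hψ1, hφ1, Complex.conj_natCast, mul_one] at h3
      exact hmne (by exact_mod_cast h3)
    · rw [if_neg heq] at horth
      apply hφ
      have h4 : (mult φ : ℂ) = 0 := by
        rw [hcast, e]
        exact horth
      exact_mod_cast h4
  -- degrees of constituents
  have hdeg : ∀ φ : IrrCharacter G, mult φ ≠ 0 →
      charDegree (φ : G → ℂ) = m ∨ charDegree (φ : G → ℂ) = n := by
    intro φ hφ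
    rcases hcd _ φ.2 with h | h | h
    · exact absurd h (hnolin φ hφ)
    · exact Or.inl h
    · exact Or.inr h
  -- evaluate at 1
  have hsum : m * n = ∑ φ : IrrCharacter G, mult φ * charDegree (φ : G → ℂ) := by
    have h1 := congrFun (Cfsg.Agent.Lib.Helper83.char_eq_sum_irrMult hc) 1
    rw [Finset.sum_apply] at h1
    simp only [Pi.smul_apply, Pi.mul_apply, smul_eq_mul] at h1
    rw [hχ1, hψ1] at h1
    have h2 : ((m * n : ℕ) : ℂ) =
        ((∑ φ : IrrCharacter G, mult φ * charDegree (φ : G → ℂ) : ℕ) : ℂ) := by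
      push_cast
      rw [h1]
      apply Finset.sum_congr rfl
      intro φ _
      rw [Cfsg.Agent.Lib.Helper83.charDegree_cast
        (Cfsg.Agent.Lib.Helper83.IrrCharacter_isCharacter φ)]
    exact_mod_cast h2
  set b : ℕ := ∑ φ : IrrCharacter G, if charDegree (φ : G → ℂ) = m then mult φ else 0 with hb
  set c : ℕ := ∑ φ : IrrCharacter G, if charDegree (φ : G → ℂ) = m then 0 else mult φ with hc'
  have hbc : m * n = b * m + c * n := by
    rw [hsum, hb, hc', Finset.sum_mul, Finset.sum_mul, ← Finset.sum_add_distrib]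
    apply Finset.sum_congr rfl
    intro φ _
    by_cases h : charDegree (φ : G → ℂ) = m
    · rw [if_pos h, if_pos h, h]; ring
    · rw [if_neg h, if_neg h]
      by_cases h0 : mult φ = 0
      · rw [h0]; ring
      · rcases hdeg φ h0 with h' | h'
        · exact absurd h' h
        · rw [h']; ring
  have hb0 : b = 0 ∨ c = 0 := by
    by_contra hcon
    rw [not_or] at hcon
    obtain ⟨hb1, hc1⟩ := hcon
    have h1 : m ∣ c * n := by
      have : m ∣ b * m + c * n := ⟨n, hbc.symm⟩
      exact (Nat.dvd_add_right (Dvd.intro_left b rfl)).1 this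
    have h2 : m ∣ c := (Nat.Coprime.dvd_mul_right hmn).1 h1
    have h3 : n ∣ b * m := by
      have : n ∣ b * m + c * n := ⟨m, by rw [← hbc]; ring⟩
      exact (Nat.dvd_add_left (Dvd.intro_left c rfl)).1 this
    have h4 : n ∣ b := (Nat.Coprime.dvd_mul_right hmn.symm).1 h3
    have h5 : m ≤ c := Nat.le_of_dvd (Nat.pos_of_ne_zero hc1) h2
    have h6 : n ≤ b := Nat.le_of_dvd (Nat.pos_of_ne_zero hb1) h4
    have h7 : n * m ≤ b * m := Nat.mul_le_mul_right m h6
    have h8 : m * n ≤ c * n := Nat.mul_le_mul_right n h5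
    have h9 : 0 < m * n := Nat.mul_pos (by omega) (by omega)
    have h10 : n * m = m * n := Nat.mul_comm n m
    omega
  rcases hb0 with h0 | h0
  · -- b = 0: all constituents have degree n
    right
    intro φ hφ hne
    have hφ0 : mult ⟨φ, hφ⟩ ≠ 0 := by
      intro h
      apply hne
      have := hcast ⟨φ, hφ⟩
      rw [h] at this
      simpa using this.symm
    rw [hb, Finset.sum_eq_zero_iff] at h0
    have h1 := h0 ⟨φ, hφ⟩ (Finset.mem_univ _)
    rcases hdeg ⟨φ, hφ⟩ hφ0 with h | h
    · rw [if_pos h] at h1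
      exact absurd h1 hφ0
    · exact h
  · left
    intro φ hφ hne
    have hφ0 : mult ⟨φ, hφ⟩ ≠ 0 := by
      intro h
      apply hne
      have := hcast ⟨φ, hφ⟩
      rw [h] at this
      simpa using this.symm
    rw [hc', Finset.sum_eq_zero_iff] at h0
    have h1 := h0 ⟨φ, hφ⟩ (Finset.mem_univ _)
    by_contra h
    rw [if_neg h] at h1
    exact hφ0 h1

end Cfsg.Agent.Lib.Helper82.CD3
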