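import Mathlib
import Cfsg.Prelude.Def_Blocks

set_option autoImplicit false

namespace Cfsg.Agent.Lib.Helper82

open Cfsg

section LocalRing

variable {M : Ideal AlgInt}

theorem coe_ne_zero_of_not_mem {b : AlgInt} (hb : b ∉ M) : (b : ℂ) ≠ 0 := by
  intro h
  apply hb
  have : b = 0 := Subtype.ext h
  rw [this]
  exact M.zero_mem

theorem one_not_mem (hM : M.IsPrime) : (1 : AlgInt) ∉ M :=
  (Ideal.ne_top_iff_one M).mp hM.ne_top

theorem memLocalIdeal_memLocalRing {z : ℂ} (h : MemLocalIdeal M z) : MemLocalRing M z := by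
  obtain ⟨a, b, _, hb, rfl⟩ := h
  exact ⟨a, b, hb, rfl⟩

/-- Algebraic integers are local integers. -/
theorem memLocalRing_of_algInt (hM : M.IsPrime) (a : AlgInt) : MemLocalRing M (a : ℂ) :=
  ⟨a, 1, one_not_mem hM, by simp⟩

theorem memLocalRing_of_isIntegral (hM : M.IsPrime) {z : ℂ} (hz : IsIntegral ℤ z) :
    MemLocalRing M z :=
  memLocalRing_of_algInt hM ⟨z, hz⟩

theorem memLocalRing_zero (hM : M.IsPrime) : MemLocalRing M 0 := by
  simpa using memLocalRing_of_algInt hM 0

theorem memLocalRing_one (hM : M.IsPrime) : MemLocalRing M 1 := by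
  simpa using memLocalRing_of_algInt hM 1

theorem memLocalRing_natCast (hM : M.IsPrime) (n : ℕ) : MemLocalRing M (n : ℂ) := by
  simpa using memLocalRing_of_algInt hM (n : AlgInt)

theorem memLocalRing_intCast (hM : M.IsPrime) (n : ℤ) : MemLocalRing M (n : ℂ) := by
  simpa using memLocalRing_of_algInt hM (n : AlgInt)

theorem memLocalRing_add (hM : M.IsPrime) {x y : ℂ} (hx : MemLocalRing M x)
    (hy : MemLocalRing M y) : MemLocalRing M (x + y) := by
  obtain ⟨a, b, hb, rfl⟩ := hx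
  obtain ⟨a', b', hb', rfl⟩ := hy
  refine ⟨a * b' + b * a', b * b', fun h => ?_, ?_⟩
  · rcases hM.mem_or_mem h with h | h
    exacts [hb h, hb' h]
  · rw [div_add_div _ _ (coe_ne_zero_of_not_mem hb) (coe_ne_zero_of_not_mem hb')]
    push_cast; rfl

theorem memLocalRing_neg {x : ℂ} (hx : MemLocalRing M x) : MemLocalRing M (-x) := by
  obtain ⟨a, b, hb, rfl⟩ := hx
  exact ⟨-a, b, hb, by push_cast; rw [neg_div]⟩

theorem memLocalRing_sub (hM : M.IsPrime) {x y : ℂ} (hx : MemLocalRing M x)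
    (hy : MemLocalRing M y) : MemLocalRing M (x - y) := by
  rw [sub_eq_add_neg]; exact memLocalRing_add hM hx (memLocalRing_neg hy)

theorem memLocalRing_mul (hM : M.IsPrime) {x y : ℂ} (hx : MemLocalRing M x)
    (hy : MemLocalRing M y) : MemLocalRing M (x * y) := by
  obtain ⟨a, b, hb, rfl⟩ := hx
  obtain ⟨a', b', hb', rfl⟩ := hy
  refine ⟨a * a', b * b', fun h => ?_, ?_⟩
  · rcases hM.mem_or_mem h with h | h
    exacts [hb h, hb' h]
  · rw [div_mul_div_comm]; push_cast; rfl

/-- The local ring at `M` as a subring of `ℂ`. -/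
def localSubring (M : Ideal AlgInt) (hM : M.IsPrime) : Subring ℂ where
  carrier := {z | MemLocalRing M z}
  mul_mem' := memLocalRing_mul hM
  one_mem' := memLocalRing_one hM
  add_mem' := memLocalRing_add hM
  zero_mem' := memLocalRing_zero hM
  neg_mem' := memLocalRing_neg

theorem mem_localSubring_iff (hM : M.IsPrime) {z : ℂ} :
    z ∈ localSubring M hM ↔ MemLocalRing M z := Iff.rfl

theorem memLocalRing_sum (hM : M.IsPrime) {ι : Type*} (s : Finset ι) (f : ι → ℂ)
    (h : ∀ i ∈ s, MemLocalRing M (f i)) : MemLocalRing M (∑ i ∈ s, f i) :=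
  (localSubring M hM).sum_mem h

theorem memLocalRing_prod (hM : M.IsPrime) {ι : Type*} (s : Finset ι) (f : ι → ℂ)
    (h : ∀ i ∈ s, MemLocalRing M (f i)) : MemLocalRing M (∏ i ∈ s, f i) :=
  (localSubring M hM).prod_mem h

theorem memLocalRing_pow (hM : M.IsPrime) {x : ℂ} (hx : MemLocalRing M x) (n : ℕ) :
    MemLocalRing M (x ^ n) :=
  (localSubring M hM).pow_mem hx n

/-! ### The local ideal -/

theorem memLocalIdeal_zero (hM : M.IsPrime) : MemLocalIdeal M 0 :=
  ⟨0, 1, M.zero_mem, one_not_mem hM, by simp⟩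

theorem memLocalIdeal_add (hM : M.IsPrime) {x y : ℂ} (hx : MemLocalIdeal M x)
    (hy : MemLocalIdeal M y) : MemLocalIdeal M (x + y) := by
  obtain ⟨a, b, ha, hb, rfl⟩ := hx
  obtain ⟨a', b', ha', hb', rfl⟩ := hy
  refine ⟨a * b' + b * a', b * b', ?_, fun h => ?_, ?_⟩
  · exact M.add_mem (M.mul_mem_right _ ha) (M.mul_mem_left _ ha')
  · rcases hM.mem_or_mem h with h | h
    exacts [hb h, hb' h]
  · rw [div_add_div _ _ (coe_ne_zero_of_not_mem hb) (coe_ne_zero_of_not_mem hb')]
    push_cast; rfl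

theorem memLocalIdeal_neg {x : ℂ} (hx : MemLocalIdeal M x) : MemLocalIdeal M (-x) := by
  obtain ⟨a, b, ha, hb, rfl⟩ := hx
  exact ⟨-a, b, M.neg_mem ha, hb, by push_cast; rw [neg_div]⟩

theorem memLocalIdeal_sub (hM : M.IsPrime) {x y : ℂ} (hx : MemLocalIdeal M x)
    (hy : MemLocalIdeal M y) : MemLocalIdeal M (x - y) := by
  rw [sub_eq_add_neg]; exact memLocalIdeal_add hM hx (memLocalIdeal_neg hy)

/-- The local ideal absorbs multiplication by local integers. -/
theorem memLocalIdeal_mul_left (hM : M.IsPrime) {x y : ℂ} (hx : MemLocalRing M x)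
    (hy : MemLocalIdeal M y) : MemLocalIdeal M (x * y) := by
  obtain ⟨a, b, hb, rfl⟩ := hx
  obtain ⟨a', b', ha', hb', rfl⟩ := hy
  refine ⟨a * a', b * b', M.mul_mem_left _ ha', fun h => ?_, ?_⟩
  · rcases hM.mem_or_mem h with h | h
    exacts [hb h, hb' h]
  · rw [div_mul_div_comm]; push_cast; rfl

theorem memLocalIdeal_mul_right (hM : M.IsPrime) {x y : ℂ} (hx : MemLocalIdeal M x)
    (hy : MemLocalRing M y) : MemLocalIdeal M (x * y) := by
  rw [mul_comm]; exact memLocalIdeal_mul_left hM hy hx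

/-- The local ideal as an additive subgroup of `ℂ`. -/
def localIdealAddSubgroup (M : Ideal AlgInt) (hM : M.IsPrime) : AddSubgroup ℂ where
  carrier := {z | MemLocalIdeal M z}
  add_mem' := memLocalIdeal_add hM
  zero_mem' := memLocalIdeal_zero hM
  neg_mem' := memLocalIdeal_neg

theorem memLocalIdeal_sum (hM : M.IsPrime) {ι : Type*} (s : Finset ι) (f : ι → ℂ)
    (h : ∀ i ∈ s, MemLocalIdeal M (f i)) : MemLocalIdeal M (∑ i ∈ s, f i) :=
  (localIdealAddSubgroup M hM).sum_mem h

/-- An algebraic integer lies in the local ideal iff it lies in `M`. -/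
theorem memLocalIdeal_algInt_iff (hM : M.IsPrime) (a : AlgInt) :
    MemLocalIdeal M (a : ℂ) ↔ a ∈ M := by
  constructor
  · rintro ⟨c, b, hc, hb, h⟩
    have hb0 := coe_ne_zero_of_not_mem hb
    rw [div_eq_iff hb0] at h
    have h' : c = a * b := Subtype.ext (by push_cast; exact h)
    rw [h'] at hc
    rcases hM.mem_or_mem hc with h1 | h1
    exacts [h1, absurd h1 hb]
  · intro ha
    exact ⟨a, 1, ha, one_not_mem hM, by simp⟩

theorem not_memLocalIdeal_one (hM : M.IsPrime) : ¬ MemLocalIdeal M 1 := by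
  have := memLocalIdeal_algInt_iff hM 1
  rw [show ((1 : AlgInt) : ℂ) = 1 from rfl] at this
  rw [this]
  exact one_not_mem hM

/-- A local integer outside the local ideal is a unit of the local ring. -/
theorem memLocalRing_inv {z : ℂ} (hz : MemLocalRing M z) (hz' : ¬ MemLocalIdeal M z) :
    MemLocalRing M z⁻¹ := by
  obtain ⟨a, b, hb, rfl⟩ := hz
  have ha : a ∉ M := fun ha => hz' ⟨a, b, ha, hb, rfl⟩
  exact ⟨b, a, ha, by rw [inv_div]⟩

theorem memLocalIdeal_of_mul_memLocalIdeal (hM : M.IsPrime) {x y : ℂ} (hx : MemLocalRing M x)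
    (hy : MemLocalRing M y) (hxy : MemLocalIdeal M (x * y)) :
    MemLocalIdeal M x ∨ MemLocalIdeal M y := by
  by_contra hcon
  rw [not_or] at hcon
  have hx' := memLocalRing_inv hx hcon.1
  have hy' := memLocalRing_inv hy hcon.2
  have hx0 : x ≠ 0 := fun h => hcon.1 (h ▸ memLocalIdeal_zero hM)
  have hy0 : y ≠ 0 := fun h => hcon.2 (h ▸ memLocalIdeal_zero hM)
  have h1 := memLocalIdeal_mul_left hM (memLocalRing_mul hM hy' hx') hxy
  have : y⁻¹ * x⁻¹ * (x * y) = 1 := by field_simp
  rw [this] at h1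
  exact not_memLocalIdeal_one hM h1

/-- For a modular maximal ideal at `p`, an integer lies in the local ideal iff `p` divides it. -/
theorem memLocalIdeal_intCast_iff {p : ℕ} (hM : IsPModular p M) (n : ℤ) :
    MemLocalIdeal M (n : ℂ) ↔ (p : ℤ) ∣ n := by
  have hprime := hM.2.1.isPrime
  have h0 := memLocalIdeal_algInt_iff hprime (n : AlgInt)
  rw [show ((n : AlgInt) : ℂ) = (n : ℂ) by simp] at h0
  rw [h0]
  constructor
  · intro hn
    by_contra hdvd
    have hcop : IsCoprime (p : ℤ) n := by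
      rw [Int.isCoprime_iff_gcd_eq_one]
      have hp' : Prime (p : ℤ) := Nat.prime_iff_prime_int.1 hM.1
      exact Int.isCoprime_iff_gcd_eq_one.1 ((Prime.coprime_iff_not_dvd hp').2 hdvd)
    obtain ⟨s, t, hst⟩ := hcop
    have h1 : ((s * p + t * n : ℤ) : AlgInt) ∈ M := by
      push_cast
      exact M.add_mem (M.mul_mem_left _ hM.2.2) (M.mul_mem_left _ hn)
    rw [hst] at h1
    exact one_not_mem hprime (by simpa using h1)
  · rintro ⟨k, rfl⟩
    push_cast
    exact M.mul_mem_right _ hM.2.2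

theorem memLocalIdeal_natCast_iff {p : ℕ} (hM : IsPModular p M) (n : ℕ) :
    MemLocalIdeal M (n : ℂ) ↔ p ∣ n := by
  have := memLocalIdeal_intCast_iff hM (n : ℤ)
  rw [Int.natCast_dvd_natCast] at this
  simpa using this

end LocalRing

end Cfsg.Agent.Lib.Helper82
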