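import Mathlib
import Cfsg.Prelude.Def_Blocks
import Cfsg.Agent.Lib.Helper82.LocalRing

set_option autoImplicit false

namespace Cfsg.Agent.Lib.Helper82

open Cfsg

section BlockBasic

variable {G : Type*} [Group G] {M : Ideal AlgInt}

theorem sameBlock_refl (hM : M.IsPrime) (χ : G → ℂ) : SameBlock M χ χ := fun g => by
  rw [sub_self]; exact memLocalIdeal_zero hM

theorem sameBlock_symm {χ ψ : G → ℂ} (h : SameBlock M χ ψ) : SameBlock M ψ χ := fun g => by
  have := memLocalIdeal_neg (h g)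
  rwa [neg_sub] at this

theorem sameBlock_trans (hM : M.IsPrime) {χ ψ φ : G → ℂ} (h1 : SameBlock M χ ψ)
    (h2 : SameBlock M ψ φ) : SameBlock M χ φ := fun g => by
  have := memLocalIdeal_add hM (h1 g) (h2 g)
  rwa [sub_add_sub_cancel] at this

theorem mem_blockOf_iff {χ : G → ℂ} {ψ : IrrCharacter G} :
    ψ ∈ blockOf M χ ↔ SameBlock M χ (ψ : G → ℂ) := Iff.rfl

theorem mem_blockOf_self (hM : M.IsPrime) (χ : IrrCharacter G) :
    χ ∈ blockOf M (χ : G → ℂ) := sameBlock_refl hM _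

theorem blockOf_eq_of_sameBlock (hM : M.IsPrime) {χ ψ : G → ℂ} (h : SameBlock M χ ψ) :
    blockOf M χ = blockOf M ψ := by
  ext φ
  exact ⟨fun h1 => sameBlock_trans hM (sameBlock_symm h) h1, fun h1 => sameBlock_trans hM h h1⟩

theorem blockOf_eq_of_mem (hM : M.IsPrime) {χ : G → ℂ} {ψ : IrrCharacter G}
    (h : ψ ∈ blockOf M χ) : blockOf M (ψ : G → ℂ) = blockOf M χ :=
  (blockOf_eq_of_sameBlock hM h).symm

theorem isPBlock_blockOf (χ : IrrCharacter G) : IsPBlock M (blockOf M (χ : G → ℂ)) := ⟨χ, rfl⟩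

theorem IsPBlock.eq_blockOf (hM : M.IsPrime) {B : Set (IrrCharacter G)} (hB : IsPBlock M B)
    {ψ : IrrCharacter G} (hψ : ψ ∈ B) : B = blockOf M (ψ : G → ℂ) := by
  obtain ⟨χ, rfl⟩ := hB
  exact (blockOf_eq_of_mem hM hψ).symm

theorem IsPBlock.nonempty (hM : M.IsPrime) {B : Set (IrrCharacter G)} (hB : IsPBlock M B) :
    B.Nonempty := by
  obtain ⟨χ, rfl⟩ := hB
  exact ⟨χ, mem_blockOf_self hM χ⟩

theorem IsPBlock.sameBlock (hM : M.IsPrime) {B : Set (IrrCharacter G)} (hB : IsPBlock M B)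
    {χ ψ : IrrCharacter G} (hχ : χ ∈ B) (hψ : ψ ∈ B) : SameBlock M (χ : G → ℂ) (ψ : G → ℂ) := by
  have h := IsPBlock.eq_blockOf hM hB hχ
  rw [h] at hψ
  exact hψ

theorem IsPBlock.mem_of_sameBlock (hM : M.IsPrime) {B : Set (IrrCharacter G)}
    (hB : IsPBlock M B) {χ ψ : IrrCharacter G} (hχ : χ ∈ B)
    (h : SameBlock M (χ : G → ℂ) (ψ : G → ℂ)) : ψ ∈ B := by
  rw [IsPBlock.eq_blockOf hM hB hχ]
  exact h

/-- Two blocks are equal or disjoint. -/
theorem IsPBlock.eq_or_disjoint (hM : M.IsPrime) {B B' : Set (IrrCharacter G)}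
    (hB : IsPBlock M B) (hB' : IsPBlock M B') : B = B' ∨ Disjoint B B' := by
  by_cases h : Disjoint B B'
  · exact Or.inr h
  · left
    rw [Set.not_disjoint_iff] at h
    obtain ⟨χ, h1, h2⟩ := h
    rw [IsPBlock.eq_blockOf hM hB h1, IsPBlock.eq_blockOf hM hB' h2]

/-- Every irreducible character lies in exactly one block. -/
theorem existsUnique_block (hM : M.IsPrime) (χ : IrrCharacter G) :
    ∃! B : Set (IrrCharacter G), IsPBlock M B ∧ χ ∈ B := by
  refine ⟨blockOf M (χ : G → ℂ), ⟨isPBlock_blockOf χ, mem_blockOf_self hM χ⟩, ?_⟩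
  rintro B ⟨hB, hχ⟩
  exact IsPBlock.eq_blockOf hM hB hχ

end BlockBasic

end Cfsg.Agent.Lib.Helper82
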