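import Mathlib
import Cfsg.Prelude.Def_Blocks
import Cfsg.Agent.Lib.Helper82.LocalRing

set_option autoImplicit false

namespace Cfsg.Agent.Lib.Helper82

open Cfsg

section ResidueField

variable (M : Ideal AlgInt) (hM : M.IsPrime)

/-- The local ideal as an ideal of the local subring. -/
def localIdeal : Ideal (localSubring M hM) where
  carrier := {z | MemLocalIdeal M (z : ℂ)}
  add_mem' := fun ha hb => memLocalIdeal_add hM ha hb
  zero_mem' := memLocalIdeal_zero hM
  smul_mem' := fun c _ hx => memLocalIdeal_mul_left hM c.2 hx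

theorem mem_localIdeal_iff {z : localSubring M hM} :
    z ∈ localIdeal M hM ↔ MemLocalIdeal M (z : ℂ) := Iff.rfl

instance localIdeal_isMaximal : (localIdeal M hM).IsMaximal := by
  rw [Ideal.isMaximal_iff]
  refine ⟨fun h => not_memLocalIdeal_one hM h, fun J x _ hxI hxJ => ?_⟩
  have hx' : ¬ MemLocalIdeal M (x : ℂ) := hxI
  have hinv := memLocalRing_inv x.2 hx'
  have hx0 : (x : ℂ) ≠ 0 := fun h => hx' (h ▸ memLocalIdeal_zero hM)
  have h1 : (⟨(x : ℂ)⁻¹, hinv⟩ : localSubring M hM) * x = 1 := by
    apply Subtype.ext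
    show (x : ℂ)⁻¹ * (x : ℂ) = 1
    exact inv_mul_cancel₀ hx0
  rw [← h1]
  exact J.mul_mem_left _ hxJ

/-- The residue field of the local ring at `M`. -/
abbrev LocalResidue : Type := localSubring M hM ⧸ localIdeal M hM

noncomputable instance : Field (LocalResidue M hM) := Ideal.Quotient.field (localIdeal M hM)

/-- The residue map. -/
noncomputable def residueMap : localSubring M hM →+* LocalResidue M hM :=
  Ideal.Quotient.mk (localIdeal M hM)

theorem residueMap_surjective : Function.Surjective (residueMap M hM) :=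
  Ideal.Quotient.mk_surjective

theorem residueMap_eq_zero_iff (z : localSubring M hM) :
    residueMap M hM z = 0 ↔ MemLocalIdeal M (z : ℂ) := by
  rw [residueMap, Ideal.Quotient.eq_zero_iff_mem]
  rfl

end ResidueField

section CharP

variable {M : Ideal AlgInt} {p : ℕ}

theorem residueMap_prime_eq_zero (hMp : IsPModular p M) :
    ((p : ℕ) : LocalResidue M hMp.2.1.isPrime) = 0 := by
  have h : residueMap M hMp.2.1.isPrime (p : localSubring M hMp.2.1.isPrime) = 0 := by
    rw [residueMap_eq_zero_iff]
    have := (memLocalIdeal_natCast_iff hMp p).2 dvd_rfl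
    simpa using this
  simpa using h

theorem localResidue_charP (hMp : IsPModular p M) : CharP (LocalResidue M hMp.2.1.isPrime) p :=
  (CharP.charP_iff_prime_eq_zero hMp.1).2 (residueMap_prime_eq_zero hMp)

/-- `p`-power roots of unity reduce to `1` in the residue field. -/
theorem residueMap_eq_one_of_pow_eq_one (hMp : IsPModular p M)
    (z : localSubring M hMp.2.1.isPrime) (n : ℕ) (hz : z ^ p ^ n = 1) :
    residueMap M hMp.2.1.isPrime z = 1 := by
  haveI : Fact p.Prime := ⟨hMp.1⟩
  haveI := localResidue_charP hMp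
  have h1 : (residueMap M hMp.2.1.isPrime z - 1) ^ p ^ n = 0 := by
    rw [sub_pow_char_pow, ← map_pow, hz, map_one, one_pow, sub_self]
  exact sub_eq_zero.1 (pow_eq_zero_iff (pow_ne_zero _ hMp.1.ne_zero) |>.1 h1)

end CharP

end Cfsg.Agent.Lib.Helper82
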