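import Mathlib

set_option autoImplicit false
set_option linter.style.haveILetI false

namespace Cfsg.Agent.Lib.Helper82

/-- Decomposition of a `p`-singular element into commuting `p`-part and `p'`-part. -/
theorem exists_p_decomposition {G : Type*} [Group G] {p : ℕ} (hp : p.Prime) (y : G)
    (hy : p ∣ orderOf y) (hfin : 0 < orderOf y) :
    ∃ (n m : ℕ) (u s : G), 0 < n ∧ ¬ p ∣ m ∧ 0 < m ∧ s * u = y ∧ Commute u s ∧
      orderOf u = p ^ n ∧ s ^ m = 1 := by
  obtain ⟨n, m, hpm, hord⟩ := Nat.exists_eq_pow_mul_and_not_dvd hfin.ne' p hp.ne_one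
  have hn : 0 < n := by
    rcases Nat.eq_zero_or_pos n with h0 | h0
    · exfalso
      rw [h0, pow_zero, one_mul] at hord
      exact hpm (hord ▸ hy)
    · exact h0
  have hm : 0 < m := by
    rcases Nat.eq_zero_or_pos m with h0 | h0
    · exfalso
      rw [h0, mul_zero] at hord
      exact hfin.ne' hord
    · exact h0
  have hcop : Nat.Coprime (p ^ n) m :=
    Nat.Coprime.pow_left n ((Nat.Prime.coprime_iff_not_dvd hp).2 hpm)
  obtain ⟨c, hc1, hc2⟩ := Nat.chineseRemainder hcop 1 0
  obtain ⟨d, hd1, hd2⟩ := Nat.chineseRemainder hcop 0 1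
  have hpd : p ^ n ∣ d := (Nat.modEq_zero_iff_dvd).1 hd1
  have hmc : m ∣ c := (Nat.modEq_zero_iff_dvd).1 hc2
  have hcopc : Nat.Coprime (p ^ n) c := by
    have := hc1.gcd_eq
    rw [Nat.gcd_one_left] at this
    rw [Nat.coprime_iff_gcd_eq_one, Nat.gcd_comm]
    exact this
  refine ⟨n, m, y ^ c, y ^ d, hn, hpm, hm, ?_, (Commute.refl y).pow_pow c d, ?_, ?_⟩
  · rw [← pow_add]
    have h1 : d + c ≡ 1 [MOD p ^ n * m] := by
      rw [← Nat.modEq_and_modEq_iff_modEq_mul hcop]
      constructor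
      · have := hd1.add hc1
        simpa using this
      · have := hd2.add hc2
        simpa using this
    rw [← hord] at h1
    have := (pow_eq_pow_iff_modEq (x := y)).2 h1
    rw [this, pow_one]
  · have hpn : 0 < p ^ n := pow_pos hp.pos n
    rw [orderOf_eq_iff hpn]
    constructor
    · rw [← pow_mul, ← orderOf_dvd_iff_pow_eq_one, hord]
      obtain ⟨c', rfl⟩ := hmc
      exact ⟨c', by ring⟩
    · intro j hj hj0 hcon
      rw [← pow_mul, ← orderOf_dvd_iff_pow_eq_one, hord] at hcon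
      have h1 : p ^ n ∣ c * j := (dvd_mul_right _ _).trans hcon
      have h2 : p ^ n ∣ j := hcopc.dvd_of_dvd_mul_left h1
      exact absurd (Nat.le_of_dvd hj0 h2) (by omega)
  · rw [← pow_mul, ← orderOf_dvd_iff_pow_eq_one, hord]
    exact Nat.mul_dvd_mul_right hpd m

end Cfsg.Agent.Lib.Helper82
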