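import Mathlib

set_option autoImplicit false
set_option linter.style.haveILetI false
set_option linter.unusedSectionVars false

namespace Cfsg.Agent.Lib.Helper82

section GroupMatrices

variable {G : Type*} [Group G] [Fintype G] [DecidableEq G] {R : Type*} [CommRing R]

/-- The permutation matrix of `h ↦ a * h * b` on the basis `G` of the group algebra. -/
def pmat (a b : G) : Matrix G G R := Matrix.of fun g h => if g = a * h * b then 1 else 0

/-- The matrix of left multiplication by the group-algebra element `∑ w g • g`. -/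
def lmat (w : G → R) : Matrix G G R := Matrix.of fun g h => w (g * h⁻¹)

theorem pmat_apply (a b g h : G) : (pmat a b : Matrix G G R) g h = if g = a * h * b then 1 else 0 :=
  rfl

theorem lmat_apply (w : G → R) (g h : G) : lmat w g h = w (g * h⁻¹) := rfl

theorem pmat_mul (a b a' b' : G) :
    (pmat a b : Matrix G G R) * pmat a' b' = pmat (a * a') (b' * b) := by
  ext g h
  rw [Matrix.mul_apply, Finset.sum_eq_single (a' * h * b')]
  · simp only [pmat_apply, if_true, mul_one]
    congr 1
    simp only [mul_assoc]
  · intro k _ hk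
    simp only [pmat_apply]
    rw [if_neg hk, mul_zero]
  · intro h0
    exact absurd (Finset.mem_univ _) h0

theorem pmat_one : (pmat 1 1 : Matrix G G R) = 1 := by
  ext g h
  simp [pmat_apply, Matrix.one_apply]

theorem pmat_pow (a b : G) (n : ℕ) : (pmat a b : Matrix G G R) ^ n = pmat (a ^ n) (b ^ n) := by
  induction n with
  | zero => simp [pmat_one]
  | succ n ih => rw [pow_succ, ih, pmat_mul, ← pow_succ, ← pow_succ']

theorem pmat_mul_lmat_apply (a b : G) (w : G → R) (g h : G) :
    ((pmat a b : Matrix G G R) * lmat w) g h = w (a⁻¹ * g * b⁻¹ * h⁻¹) := by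
  rw [Matrix.mul_apply, Finset.sum_eq_single (a⁻¹ * g * b⁻¹)]
  · rw [pmat_apply, lmat_apply, if_pos, one_mul]
    group
  · intro k _ hk
    rw [pmat_apply, if_neg, zero_mul]
    intro hg
    apply hk
    rw [hg]
    group
  · intro h0
    exact absurd (Finset.mem_univ _) h0

theorem lmat_mul_pmat_apply (a b : G) (w : G → R) (g h : G) :
    (lmat w * (pmat a b : Matrix G G R)) g h = w (g * b⁻¹ * h⁻¹ * a⁻¹) := by
  rw [Matrix.mul_apply, Finset.sum_eq_single (a * h * b)]
  · rw [pmat_apply, lmat_apply, if_pos rfl, mul_one]
    congr 1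
    group
  · intro k _ hk
    rw [pmat_apply, if_neg hk, mul_zero]
  · intro h0
    exact absurd (Finset.mem_univ _) h0

theorem pmat_mul_lmat_comm (a b : G) {w : G → R} (hw : ∀ g x : G, w (x * g * x⁻¹) = w g) :
    (pmat a b : Matrix G G R) * lmat w = lmat w * pmat a b := by
  ext g h
  rw [pmat_mul_lmat_apply, lmat_mul_pmat_apply, ← hw _ a]
  congr 1
  group

theorem lmat_mul (w w' : G → R) :
    lmat w * lmat w' = lmat fun z => ∑ k : G, w (z * k⁻¹) * w' k := by
  ext g h
  rw [Matrix.mul_apply, lmat_apply]
  rw [← Equiv.sum_comp (Equiv.mulRight h)]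
  refine Finset.sum_congr rfl fun k _ => ?_
  rw [lmat_apply, lmat_apply, Equiv.coe_mulRight]
  congr 2
  · group
  · group

theorem trace_pmat_mul_lmat (a b : G) (w : G → R) :
    ((pmat a b : Matrix G G R) * lmat w).trace = ∑ g : G, w (a⁻¹ * g * b⁻¹ * g⁻¹) := by
  rw [Matrix.trace]
  refine Finset.sum_congr rfl fun g _ => ?_
  rw [Matrix.diag_apply, pmat_mul_lmat_apply]

theorem trace_pmat_one_left (b : G) (hb : b ≠ 1) : (pmat 1 b : Matrix G G R).trace = 0 := by
  rw [Matrix.trace]
  refine Finset.sum_eq_zero fun g _ => ?_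
  rw [Matrix.diag_apply, pmat_apply, if_neg]
  intro h
  apply hb
  rw [one_mul] at h
  exact (mul_eq_left.1 h.symm)

theorem sum_pmat_pow_apply (u : G) (q : ℕ) (g h : G) :
    (∑ j ∈ Finset.range q, (pmat 1 u : Matrix G G R) ^ j) g h =
      ∑ j ∈ Finset.range q, if g = h * u ^ j then 1 else 0 := by
  rw [Matrix.sum_apply]
  refine Finset.sum_congr rfl fun j _ => ?_
  rw [pmat_pow, pmat_apply, one_pow, one_mul]

/-- The reduction of the norm element `∑ u^j` has rank at least `|G : ⟨u⟩|`, with an explicit
certificate. -/
theorem exists_norm_certificate {k : Type*} [Field k] (ψ : R →+* k) (u : G)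
    [Fintype (G ⧸ Subgroup.zpowers u)] [DecidableEq (G ⧸ Subgroup.zpowers u)] :
    ∃ (B : Matrix (G ⧸ Subgroup.zpowers u) G k) (C : Matrix G (G ⧸ Subgroup.zpowers u) k),
      B * (∑ j ∈ Finset.range (orderOf u), (pmat 1 u : Matrix G G R) ^ j).map ψ * C = 1 := by
  classical
  set rep : G ⧸ Subgroup.zpowers u → G := fun t => Quotient.out t with hrep
  refine ⟨Matrix.of fun t g => if g = rep t then 1 else 0,
    Matrix.of fun g t => if g = rep t then 1 else 0, ?_⟩
  ext t t'
  rw [Matrix.mul_apply]
  rw [Finset.sum_eq_single (rep t')]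
  · rw [Matrix.of_apply, if_pos rfl, mul_one, Matrix.mul_apply, Finset.sum_eq_single (rep t)]
    · rw [Matrix.of_apply, if_pos rfl, one_mul, Matrix.map_apply, sum_pmat_pow_apply, map_sum]
      by_cases htt : t = t'
      · subst htt
        rw [Matrix.one_apply_eq, Finset.sum_eq_single 0]
        · simp
        · intro j hj hj0
          rw [if_neg, map_zero]
          intro h
          have h1 : u ^ j = 1 := by
            have := mul_eq_left.1 h.symm
            exact this
          exact pow_ne_one_of_lt_orderOf hj0 (Finset.mem_range.1 hj) h1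
        · intro h0
          exfalso
          apply h0
          rw [Finset.mem_range]
          exact orderOf_pos u
      · rw [Matrix.one_apply_ne htt]
        refine Finset.sum_eq_zero fun j _ => ?_
        rw [if_neg, map_zero]
        intro h
        apply htt
        have h1 : (rep t')⁻¹ * rep t ∈ Subgroup.zpowers u := by
          rw [h]
          have : (rep t')⁻¹ * (rep t' * u ^ j) = u ^ j := by group
          rw [this]
          exact Subgroup.pow_mem _ (Subgroup.mem_zpowers u) j
        have h2 : ((rep t' : G) : G ⧸ Subgroup.zpowers u) = ((rep t : G) : G ⧸ Subgroup.zpowers u) :=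
          QuotientGroup.eq.2 h1
        rw [hrep] at h2
        simp only [QuotientGroup.out_eq'] at h2
        exact h2.symm
    · intro g _ hg
      rw [Matrix.of_apply, if_neg hg, zero_mul]
    · intro h0
      exact absurd (Finset.mem_univ _) h0
  · intro g _ hg
    rw [Matrix.of_apply, if_neg hg, mul_zero]
  · intro h0
    exact absurd (Finset.mem_univ _) h0

theorem card_quotient_zpowers_mul (u : G) [Fintype (G ⧸ Subgroup.zpowers u)] :
    Fintype.card (G ⧸ Subgroup.zpowers u) * orderOf u = Fintype.card G := by
  have h := Subgroup.card_eq_card_quotient_mul_card_subgroup (Subgroup.zpowers u)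
  rw [Nat.card_zpowers, Nat.card_eq_fintype_card, Nat.card_eq_fintype_card] at h
  exact h.symm

end GroupMatrices

end Cfsg.Agent.Lib.Helper82
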