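import Mathlib

set_option autoImplicit false
set_option linter.style.haveILetI false
set_option linter.unusedSectionVars false

namespace Cfsg.Agent.Lib.Helper82

section RankLemmas

variable {X : Type*} [Fintype X] [DecidableEq X] {K : Type*} [Field K]

theorem mem_range_mulVecLin {A : Matrix X X K} {v : X → K} :
    v ∈ LinearMap.range A.mulVecLin ↔ ∃ w, A.mulVec w = v := by
  rw [LinearMap.mem_range]
  rfl

/-- Subadditivity of the rank. -/
theorem rank_add_le' (A B : Matrix X X K) : (A + B).rank ≤ A.rank + B.rank := by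
  unfold Matrix.rank
  have h : LinearMap.range (A + B).mulVecLin ≤
      LinearMap.range A.mulVecLin ⊔ LinearMap.range B.mulVecLin := by
    intro v hv
    obtain ⟨w, rfl⟩ := mem_range_mulVecLin.1 hv
    rw [Matrix.add_mulVec]
    exact Submodule.add_mem_sup (mem_range_mulVecLin.2 ⟨w, rfl⟩) (mem_range_mulVecLin.2 ⟨w, rfl⟩)
  exact (Submodule.finrank_mono h).trans (Submodule.finrank_add_le_finrank_add_finrank _ _)

/-- For an idempotent `E` commuting with `P`, the ranks of `P * E` and `P * (1 - E)` add up to at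
most the rank of `P`. -/
theorem rank_mul_idem_add_le (P E : Matrix X X K) (hE : E * E = E) (hPE : P * E = E * P) :
    (P * E).rank + (P * (1 - E)).rank ≤ P.rank := by
  unfold Matrix.rank
  have h1 : LinearMap.range (P * E).mulVecLin ≤ LinearMap.range P.mulVecLin := by
    intro v hv
    obtain ⟨w, rfl⟩ := mem_range_mulVecLin.1 hv
    exact mem_range_mulVecLin.2 ⟨E.mulVec w, by rw [Matrix.mulVec_mulVec]⟩
  have h2 : LinearMap.range (P * (1 - E)).mulVecLin ≤ LinearMap.range P.mulVecLin := by
    intro v hv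
    obtain ⟨w, rfl⟩ := mem_range_mulVecLin.1 hv
    exact mem_range_mulVecLin.2 ⟨(1 - E).mulVec w, by rw [Matrix.mulVec_mulVec]⟩
  have hdisj : Disjoint (LinearMap.range (P * E).mulVecLin)
      (LinearMap.range (P * (1 - E)).mulVecLin) := by
    rw [Submodule.disjoint_def]
    intro v hv1 hv2
    obtain ⟨a, ha⟩ := mem_range_mulVecLin.1 hv1
    obtain ⟨b, hb⟩ := mem_range_mulVecLin.1 hv2
    have e1 : E.mulVec v = v := by
      rw [← ha, Matrix.mulVec_mulVec, hPE, ← Matrix.mul_assoc, hE]
    have e2 : E.mulVec v = 0 := by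
      rw [← hb, Matrix.mulVec_mulVec]
      have : E * (P * (1 - E)) = 0 := by
        rw [← Matrix.mul_assoc, ← hPE, Matrix.mul_assoc, Matrix.mul_sub, Matrix.mul_one, hE,
          sub_self, Matrix.mul_zero]
      rw [this, Matrix.zero_mulVec]
    rw [← e1, e2]
  have hle : LinearMap.range (P * E).mulVecLin ⊔ LinearMap.range (P * (1 - E)).mulVecLin ≤
      LinearMap.range P.mulVecLin := sup_le h1 h2
  have := Submodule.finrank_sup_add_finrank_inf_eq (LinearMap.range (P * E).mulVecLin)
    (LinearMap.range (P * (1 - E)).mulVecLin)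
  rw [hdisj.eq_bot, finrank_bot, add_zero] at this
  rw [← this]
  exact Submodule.finrank_mono hle

/-- Rank is invariant under nonzero scalars. -/
theorem rank_smul_of_ne_zero (c : K) (hc : c ≠ 0) (A : Matrix X X K) : (c • A).rank = A.rank := by
  unfold Matrix.rank
  have hrange : LinearMap.range (c • A).mulVecLin = LinearMap.range A.mulVecLin := ?_
  · rw [hrange]
  apply le_antisymm
  · intro v hv
    obtain ⟨w, rfl⟩ := mem_range_mulVecLin.1 hv
    exact mem_range_mulVecLin.2 ⟨c • w, by rw [Matrix.smul_mulVec, Matrix.mulVec_smul]⟩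
  · intro v hv
    obtain ⟨w, rfl⟩ := mem_range_mulVecLin.1 hv
    refine mem_range_mulVecLin.2 ⟨c⁻¹ • w, ?_⟩
    rw [Matrix.smul_mulVec, Matrix.mulVec_smul, smul_smul, mul_inv_cancel₀ hc, one_smul]

/-- The rank of an idempotent matrix is its trace. -/
theorem rank_eq_trace_of_idem (F : Matrix X X K) (hF : F * F = F) :
    (F.rank : K) = F.trace := by
  have hidem : IsIdempotentElem (Matrix.toLin' F) := by
    show Matrix.toLin' F * Matrix.toLin' F = Matrix.toLin' F
    rw [Module.End.mul_eq_comp, ← Matrix.toLin'_mul, hF]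
  have h := (LinearMap.IsIdempotentElem.isProj_range _ hidem).trace
  rw [Matrix.trace_toLin'_eq] at h
  rw [h, Matrix.rank, Matrix.toLin'_apply']

/-- If `A * A = c • A` with `c ≠ 0` then `rank A * c = trace A`. -/
theorem rank_mul_eq_trace_of_sq_eq_smul (A : Matrix X X K) (c : K) (hc : c ≠ 0)
    (hA : A * A = c • A) : (A.rank : K) * c = A.trace := by
  have hF : (c⁻¹ • A) * (c⁻¹ • A) = c⁻¹ • A := by
    rw [Matrix.smul_mul, Matrix.mul_smul, hA, smul_smul, smul_smul]
    congr 1
    field_simp
  have h := rank_eq_trace_of_idem _ hF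
  rw [rank_smul_of_ne_zero _ (inv_ne_zero hc), Matrix.trace_smul, smul_eq_mul] at h
  rw [h]
  field_simp

end RankLemmas

end Cfsg.Agent.Lib.Helper82
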