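import Mathlib

set_option autoImplicit false
set_option linter.style.haveILetI false

namespace Cfsg.Agent.Lib.Helper82

section RankReduction

variable {X : Type*} [Fintype X] [DecidableEq X]

/-- A matrix of rank `r` over a field can be compressed to the identity of size `r`. -/
theorem exists_mul_mul_eq_one_of_rank {k : Type*} [Field k] (A : Matrix X X k) (r : ℕ)
    (hrank : A.rank = r) :
    ∃ (B : Matrix (Fin r) X k) (C : Matrix X (Fin r) k), B * A * C = 1 := by
  classical
  set f : (X → k) →ₗ[k] (X → k) := Matrix.toLin' A with hf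
  have hr : Module.finrank k (Fin r → k) = Module.finrank k (LinearMap.range f) := by
    rw [Module.finrank_fin_fun, ← hrank, Matrix.rank, hf, Matrix.toLin'_apply']
  let e : (Fin r → k) ≃ₗ[k] LinearMap.range f := LinearEquiv.ofFinrankEq _ _ hr
  obtain ⟨s, hs⟩ := LinearMap.exists_rightInverse_of_surjective f.rangeRestrict
    (LinearMap.range_rangeRestrict f)
  obtain ⟨P, hP⟩ := LinearMap.exists_leftInverse_of_injective (LinearMap.range f).subtype
    (Submodule.ker_subtype _)
  let C' : (Fin r → k) →ₗ[k] (X → k) := s ∘ₗ e.toLinearMap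
  let B' : (X → k) →ₗ[k] (Fin r → k) := e.symm.toLinearMap ∘ₗ P
  have hcomp : B' ∘ₗ f ∘ₗ C' = LinearMap.id := by
    apply LinearMap.ext
    intro v
    have h1 : f (s (e v)) = ((e v : LinearMap.range f) : X → k) := by
      have := congrArg (fun g => ((g (e v) : LinearMap.range f) : X → k)) hs
      simpa using this
    have h2 : P ((e v : LinearMap.range f) : X → k) = e v := by
      have := congrArg (fun g => g (e v)) hP
      simpa using this
    show e.symm (P (f (s (e v)))) = v
    rw [h1, h2, LinearEquiv.symm_apply_apply]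
  refine ⟨LinearMap.toMatrix' B', LinearMap.toMatrix' C', ?_⟩
  have hA : A = LinearMap.toMatrix' f := by rw [hf, LinearMap.toMatrix'_toLin']
  rw [hA, ← LinearMap.toMatrix'_comp, ← LinearMap.toMatrix'_comp, LinearMap.comp_assoc, hcomp,
    LinearMap.toMatrix'_id]

/-- Reduction modulo a maximal ideal does not increase the rank: if `φ : R → K` is an injective
ring homomorphism into a field and `ψ : R → k` a surjective one onto a field, then the rank of
`ψ(A)` is at most the rank of `φ(A)`. -/
theorem rank_map_le_rank_map {R K k : Type*} [CommRing R] [Field K] [Field k]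
    (φ : R →+* K) (hφ : Function.Injective φ) (ψ : R →+* k) (hψ : Function.Surjective ψ)
    (A : Matrix X X R) : (A.map ψ).rank ≤ (A.map φ).rank := by
  classical
  generalize hr : (A.map ψ).rank = r
  obtain ⟨B₀, C₀, hBC⟩ := exists_mul_mul_eq_one_of_rank (A.map ψ) r hr
  let B : Matrix (Fin r) X R := Matrix.of fun i x => Classical.choose (hψ (B₀ i x))
  let C : Matrix X (Fin r) R := Matrix.of fun x i => Classical.choose (hψ (C₀ x i))
  have hB : B.map ψ = B₀ := by
    ext i x
    exact Classical.choose_spec (hψ (B₀ i x))
  have hC : C.map ψ = C₀ := by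
    ext x i
    exact Classical.choose_spec (hψ (C₀ x i))
  set D : Matrix (Fin r) (Fin r) R := B * A * C with hD
  have hDψ : D.map ψ = 1 := by
    rw [hD, Matrix.map_mul, Matrix.map_mul, hB, hC, hBC]
  have hdet : ψ D.det = 1 := by
    have := RingHom.map_det ψ D
    rw [this, RingHom.mapMatrix_apply, hDψ, Matrix.det_one]
  have hdet0 : D.det ≠ 0 := by
    intro h0
    rw [h0, map_zero] at hdet
    exact zero_ne_one hdet
  have hdetφ : (D.map φ).det ≠ 0 := by
    have := RingHom.map_det φ D
    rw [RingHom.mapMatrix_apply] at this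
    rw [← this]
    exact fun h => hdet0 (hφ (by rw [h, map_zero]))
  have hunit : IsUnit (D.map φ) := by
    rw [Matrix.isUnit_iff_isUnit_det]
    exact isUnit_iff_ne_zero.2 hdetφ
  have hrank : (D.map φ).rank = r := by
    rw [Matrix.rank_of_isUnit _ hunit, Fintype.card_fin]
  have hDφ : D.map φ = B.map φ * A.map φ * C.map φ := by
    rw [hD, Matrix.map_mul, Matrix.map_mul]
  calc r = (D.map φ).rank := hrank.symm
    _ = (B.map φ * A.map φ * C.map φ).rank := by rw [hDφ]
    _ ≤ (B.map φ * A.map φ).rank := Matrix.rank_mul_le_left _ _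
    _ ≤ (A.map φ).rank := Matrix.rank_mul_le_right _ _

end RankReduction

end Cfsg.Agent.Lib.Helper82
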