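import Mathlib
import Cfsg.Agent.Lib.Helper82.RankReduction
import Cfsg.Agent.Lib.Helper82.RankLemmas

set_option autoImplicit false
set_option linter.style.haveILetI false
set_option linter.unusedSectionVars false

namespace Cfsg.Agent.Lib.Helper82

section EigSum

variable {X : Type*} [Fintype X] [DecidableEq X] {R : Type*} [CommRing R]

/-- `eigSum q ζ' U i = ∑_{j<q} ζ'^(i*j) • U^j`: up to the factor `q`, the projection onto the
`ζ^i`-eigenspace of `U` (where `ζ' = ζ⁻¹`). -/
def eigSum (q : ℕ) (ζ' : R) (U : Matrix X X R) (i : ℕ) : Matrix X X R :=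
  ∑ j ∈ Finset.range q, ζ' ^ (i * j) • U ^ j

variable {q : ℕ} {ζ ζ' : R} {U : Matrix X X R}

theorem mul_eigSum (hζ : ζ * ζ' = 1) (hζ'q : ζ' ^ q = 1) (hU : U ^ q = 1) (i : ℕ) :
    U * eigSum q ζ' U i = ζ ^ i • eigSum q ζ' U i := by
  unfold eigSum
  rw [Finset.mul_sum, Finset.smul_sum]
  set g : ℕ → Matrix X X R := fun j => (ζ ^ i * ζ' ^ (i * j)) • U ^ j with hg
  have h1 : ∀ j ∈ Finset.range q, U * ζ' ^ (i * j) • U ^ j = g (j + 1) := by
    intro j _
    rw [hg]
    simp only
    rw [Matrix.mul_smul, ← pow_succ']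
    congr 1
    rw [mul_add, mul_one, pow_add, ← mul_assoc, mul_comm (ζ ^ i), mul_assoc, ← mul_pow, hζ,
      one_pow, mul_one]
  have h2 : ∀ j ∈ Finset.range q, ζ ^ i • ζ' ^ (i * j) • U ^ j = g j := by
    intro j _
    rw [hg]
    simp only
    rw [smul_smul]
  rw [Finset.sum_congr rfl h1, Finset.sum_congr rfl h2]
  have h3 := Finset.sum_range_succ' g q
  have h4 := Finset.sum_range_succ g q
  have h5 : g q = g 0 := by
    rw [hg]
    simp only
    rw [hU, pow_zero, mul_zero, pow_zero, mul_comm i q, pow_mul, hζ'q, one_pow]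
  rw [h5] at h4
  rw [h3] at h4
  exact add_right_cancel h4

theorem pow_mul_eigSum (hζ : ζ * ζ' = 1) (hζ'q : ζ' ^ q = 1) (hU : U ^ q = 1) (i j : ℕ) :
    U ^ j * eigSum q ζ' U i = ζ ^ (i * j) • eigSum q ζ' U i := by
  induction j with
  | zero => simp
  | succ j ih =>
    rw [pow_succ', Matrix.mul_assoc, ih, Matrix.mul_smul, mul_eigSum hζ hζ'q hU, smul_smul,
      mul_add, mul_one, pow_add]

theorem eigSum_mul_self (hζ : ζ * ζ' = 1) (hζ'q : ζ' ^ q = 1) (hU : U ^ q = 1) (i : ℕ) :
    eigSum q ζ' U i * eigSum q ζ' U i = (q : R) • eigSum q ζ' U i := by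
  have key : ∀ Y : Matrix X X R, eigSum q ζ' U i * Y =
      ∑ j ∈ Finset.range q, ζ' ^ (i * j) • U ^ j * Y := by
    intro Y
    unfold eigSum
    rw [Finset.sum_mul]
  rw [key]
  have h1 : ∀ j ∈ Finset.range q, ζ' ^ (i * j) • U ^ j * eigSum q ζ' U i = eigSum q ζ' U i := by
    intro j _
    rw [Matrix.smul_mul, pow_mul_eigSum hζ hζ'q hU, smul_smul, ← mul_pow, mul_comm ζ' ζ, hζ,
      one_pow, one_smul]
  rw [Finset.sum_congr rfl h1, Finset.sum_const, Finset.card_range, Nat.cast_smul_eq_nsmul]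

theorem eigSum_commute {E : Matrix X X R} (hUE : U * E = E * U) (i : ℕ) :
    eigSum q ζ' U i * E = E * eigSum q ζ' U i := by
  have hc : Commute U E := hUE
  have : Commute (eigSum q ζ' U i) E := by
    unfold eigSum
    exact Commute.sum_left _ _ _ fun j _ => (hc.pow_left j).smul_left _
  exact this

theorem trace_eigSum (htr : ∀ j, 0 < j → j < q → (U ^ j).trace = 0) (hq : 0 < q) (i : ℕ) :
    (eigSum q ζ' U i).trace = (Fintype.card X : R) := by
  unfold eigSum
  rw [Matrix.trace_sum]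
  rw [Finset.sum_eq_single 0]
  · simp [Matrix.trace_one]
  · intro j hj hj0
    rw [Matrix.trace_smul, htr j (Nat.pos_of_ne_zero hj0) (Finset.mem_range.1 hj), smul_zero]
  · intro h
    exact absurd (Finset.mem_range.2 hq) h

theorem eigSum_map {k : Type*} [CommRing k] (ψ : R →+* k) (hψ : ψ ζ' = 1) (i : ℕ) :
    (eigSum q ζ' U i).map ψ = (∑ j ∈ Finset.range q, U ^ j).map ψ := by
  rw [← RingHom.mapMatrix_apply, ← RingHom.mapMatrix_apply]
  unfold eigSum
  rw [map_sum, map_sum]
  refine Finset.sum_congr rfl fun j _ => ?_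
  rw [RingHom.mapMatrix_apply, RingHom.mapMatrix_apply, Matrix.map_smul' _ _ _ (map_mul ψ),
    map_pow, hψ, one_pow, one_smul]

end EigSum

end Cfsg.Agent.Lib.Helper82

namespace Cfsg.Agent.Lib.Helper82

section Core

variable {X : Type*} [Fintype X] [DecidableEq X]
variable {R K k : Type*} [CommRing R] [Field K] [CharZero K] [Field k]

theorem geom_sum_eq_zero_of_pow_eq_one {x : K} {q : ℕ} (hx : x ^ q = 1) (hx1 : x ≠ 1) :
    ∑ i ∈ Finset.range q, x ^ i = 0 := by
  have := geom_sum_mul x q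
  rw [hx, sub_self] at this
  exact (mul_eq_zero.1 this).resolve_right (sub_ne_zero.2 hx1)

/-- The eigen-sums add up to `q` times the identity (after mapping to a field in which `ζ` is a
primitive `q`-th root of unity). -/
theorem sum_map_eigSum (φ : R →+* K) {q : ℕ} (hq : 0 < q) {ζ ζ' : R} (hζζ' : ζ * ζ' = 1)
    (hζ : IsPrimitiveRoot (φ ζ) q) (U : Matrix X X R) :
    ∑ i ∈ Finset.range q, (φ.mapMatrix (m := X)) (eigSum q ζ' U i) =
      (q : K) • (1 : Matrix X X K) := by
  set Φ := φ.mapMatrix (m := X) with hΦ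
  have h1 : ∀ i ∈ Finset.range q, Φ (eigSum q ζ' U i) =
      ∑ j' ∈ Finset.range q, ((φ ζ') ^ j') ^ i • Φ (U ^ j') := by
    intro i _
    unfold eigSum
    rw [map_sum]
    refine Finset.sum_congr rfl fun j' _ => ?_
    show ((ζ' ^ (i * j')) • U ^ j').map φ = _
    rw [Matrix.map_smul' _ _ _ (map_mul φ), map_pow, mul_comm i j', pow_mul]
    rfl
  rw [Finset.sum_congr rfl h1, Finset.sum_comm]
  have h2 : ∀ j' ∈ Finset.range q, ∑ i ∈ Finset.range q, ((φ ζ') ^ j') ^ i • Φ (U ^ j') =
      if j' = 0 then (q : K) • (1 : Matrix X X K) else 0 := by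
    intro j' hj'
    rw [← Finset.sum_smul]
    split_ifs with h0
    · subst h0
      simp
    · have hprim : IsPrimitiveRoot (φ ζ') q := by
        have : φ ζ' = (φ ζ)⁻¹ :=
          eq_inv_of_mul_eq_one_left (by rw [← map_mul, mul_comm, hζζ', map_one])
        rw [this]
        exact hζ.inv
      have hne : (φ ζ') ^ j' ≠ 1 :=
        hprim.pow_ne_one_of_pos_of_lt (Nat.pos_of_ne_zero h0).ne' (Finset.mem_range.1 hj')
      have hpow : ((φ ζ') ^ j') ^ q = 1 := by
        rw [← pow_mul, mul_comm, pow_mul, hprim.pow_eq_one, one_pow]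
      rw [geom_sum_eq_zero_of_pow_eq_one hpow hne, zero_smul]
  rw [Finset.sum_congr rfl h2, Finset.sum_ite_eq' (Finset.range q) 0,
    if_pos (Finset.mem_range.2 hq)]

/-- **Core lemma** (characters of projective lattices vanish on nontrivial `p`-elements).
`U` is a matrix of order `q` over `R` (think: a semiregular permutation matrix), `E` an idempotent
commuting with `U`.  If all `q`-th roots of unity reduce to `1` under `ψ` and the norm element
`∑ U^j` has rank `|X|/q` after reduction, then `tr(U^j E) = 0` whenever `q ∤ j`. -/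
theorem trace_pow_mul_eq_zero_of_semiregular
    (φ : R →+* K) (hφ : Function.Injective φ) (ψ : R →+* k) (hψ : Function.Surjective ψ)
    {q : ℕ} (hq : 0 < q) {ζ ζ' : R} (hζζ' : ζ * ζ' = 1) (hζ : IsPrimitiveRoot (φ ζ) q)
    (hζψ : ψ ζ' = 1)
    {U E : Matrix X X R} (hU : U ^ q = 1) (hE : E * E = E) (hUE : U * E = E * U)
    (htr : ∀ j, 0 < j → j < q → (U ^ j).trace = 0)
    {T : Type*} [Fintype T] [DecidableEq T] (B : Matrix T X k) (C : Matrix X T k)
    (hBC : B * (∑ j ∈ Finset.range q, U ^ j).map ψ * C = 1)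
    (hT : Fintype.card T * q = Fintype.card X) (j : ℕ) (hj : ¬ q ∣ j) :
    (U ^ j * E).trace = 0 := by
  classical
  have hζq : ζ ^ q = 1 := hφ (by rw [map_pow, hζ.pow_eq_one, map_one])
  have hζ'q : ζ' ^ q = 1 := by
    have : ζ' ^ q = ζ' ^ q * ζ ^ q := by rw [hζq, mul_one]
    rw [this, ← mul_pow, mul_comm, hζζ', one_pow]
  set N := eigSum q ζ' U with hN
  set Φ := φ.mapMatrix (m := X) with hΦ
  set Ψ := ψ.mapMatrix (m := X) with hΨ
  set Nbar : Matrix X X k := Ψ (∑ j ∈ Finset.range q, U ^ j) with hNbar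
  have hNbar_i : ∀ i, Ψ (N i) = Nbar := fun i => eigSum_map ψ hζψ i
  set r := (Nbar * Ψ E).rank with hr
  set r' := (Nbar * (1 - Ψ E)).rank with hr'
  have hqK : (q : K) ≠ 0 := Nat.cast_ne_zero.2 hq.ne'
  -- `|T| ≤ rank Nbar ≤ r + r'`
  have hTle : Fintype.card T ≤ r + r' := by
    have h1 : Fintype.card T ≤ Nbar.rank := by
      calc Fintype.card T = (1 : Matrix T T k).rank := (Matrix.rank_one).symm
        _ = (B * Nbar * C).rank := by rw [← hBC]; rfl
        _ ≤ (B * Nbar).rank := Matrix.rank_mul_le_left _ _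
        _ ≤ Nbar.rank := Matrix.rank_mul_le_right _ _
    have h2 : Nbar = Nbar * Ψ E + Nbar * (1 - Ψ E) := by
      rw [← Matrix.mul_add, add_sub_cancel, Matrix.mul_one]
    calc Fintype.card T ≤ Nbar.rank := h1
      _ = (Nbar * Ψ E + Nbar * (1 - Ψ E)).rank := by rw [← h2]
      _ ≤ r + r' := rank_add_le' _ _
  -- for each `i`, the rank of `φ(N i E)` equals `r`
  have hmi : ∀ i, (Φ (N i * E)).rank = r := by
    intro i
    have hNE : N i * E = E * N i := eigSum_commute hUE i
    have hrankN : (Φ (N i)).rank = Fintype.card T := by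
      have hsq : Φ (N i) * Φ (N i) = (q : K) • Φ (N i) := by
        rw [← map_mul, eigSum_mul_self hζζ' hζ'q hU]
        show ((q : R) • N i).map φ = (q : K) • (N i).map φ
        rw [Matrix.map_smul' _ _ _ (map_mul φ), map_natCast]
      have h := rank_mul_eq_trace_of_sq_eq_smul _ (q : K) hqK hsq
      have htrace : (Φ (N i)).trace = (Fintype.card X : K) := by
        have h1 := AddMonoidHom.map_trace φ (N i)
        rw [trace_eigSum htr hq i, map_natCast] at h1
        exact h1.symm
      rw [htrace, ← hT] at h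
      push_cast at h
      exact_mod_cast mul_right_cancel₀ hqK h
    have hL2 := rank_mul_idem_add_le (Φ (N i)) (Φ E) (by rw [← map_mul, hE])
      (by rw [← map_mul, ← map_mul, hNE])
    have hred1 : r ≤ (Φ (N i * E)).rank := by
      have h := rank_map_le_rank_map φ hφ ψ hψ (N i * E)
      have h' : (Ψ (N i * E)).rank ≤ (Φ (N i * E)).rank := h
      rwa [map_mul, hNbar_i] at h'
    have hred2 : r' ≤ (Φ (N i * (1 - E))).rank := by
      have h := rank_map_le_rank_map φ hφ ψ hψ (N i * (1 - E))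
      have h' : (Ψ (N i * (1 - E))).rank ≤ (Φ (N i * (1 - E))).rank := h
      rwa [map_mul, hNbar_i, map_sub, map_one] at h'
    rw [map_mul] at hred1 ⊢
    rw [map_mul, map_sub, map_one] at hred2
    omega
  -- traces
  have htrace_i : ∀ i, (Φ (N i * E)).trace = (r : K) * q := by
    intro i
    have hNE : N i * E = E * N i := eigSum_commute hUE i
    have hsq : Φ (N i * E) * Φ (N i * E) = (q : K) • Φ (N i * E) := by
      rw [← map_mul]
      have : N i * E * (N i * E) = (q : R) • (N i * E) := by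
        calc N i * E * (N i * E) = N i * (E * N i) * E := by
              simp only [Matrix.mul_assoc]
          _ = N i * (N i * E) * E := by rw [hNE]
          _ = (N i * N i) * (E * E) := by simp only [Matrix.mul_assoc]
          _ = (q : R) • (N i * E) := by
              rw [eigSum_mul_self hζζ' hζ'q hU, hE, Matrix.smul_mul]
      rw [this]
      show ((q : R) • (N i * E)).map φ = (q : K) • (N i * E).map φ
      rw [Matrix.map_smul' _ _ _ (map_mul φ), map_natCast]
    have h := rank_mul_eq_trace_of_sq_eq_smul _ (q : K) hqK hsq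
    rw [hmi i] at h
    exact h.symm
  -- decomposition of the identity
  have hsumN : ∑ i ∈ Finset.range q, Φ (N i) = (q : K) • (1 : Matrix X X K) :=
    sum_map_eigSum φ hq hζζ' hζ U
  -- final computation
  have hfinal : (q : K) * (Φ (U ^ j * E)).trace = 0 := by
    have h1 : (q : K) • Φ (U ^ j * E) = ∑ i ∈ Finset.range q, ((φ ζ) ^ j) ^ i • Φ (N i * E) := by
      have h2 : ∀ i ∈ Finset.range q, ((φ ζ) ^ j) ^ i • Φ (N i * E) = Φ (U ^ j) * Φ (N i) * Φ E := by
        intro i _
        rw [← map_mul, ← map_mul, pow_mul_eigSum hζζ' hζ'q hU, Matrix.smul_mul]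
        show _ = ((ζ ^ (i * j)) • (N i * E)).map φ
        rw [Matrix.map_smul' _ _ _ (map_mul φ), map_pow, mul_comm i j, pow_mul]
        rfl
      rw [Finset.sum_congr rfl h2, ← Finset.sum_mul, ← Finset.mul_sum, hsumN, Matrix.mul_smul,
        Matrix.mul_one, Matrix.smul_mul, ← map_mul]
    have h3 := congrArg Matrix.trace h1
    rw [Matrix.trace_smul, smul_eq_mul, Matrix.trace_sum] at h3
    rw [h3]
    have h4 : ∀ i ∈ Finset.range q, (((φ ζ) ^ j) ^ i • Φ (N i * E)).trace =
        ((r : K) * q) * ((φ ζ) ^ j) ^ i := by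
      intro i _
      rw [Matrix.trace_smul, htrace_i, smul_eq_mul, mul_comm]
    rw [Finset.sum_congr rfl h4, ← Finset.mul_sum]
    have hne : (φ ζ) ^ j ≠ 1 := by
      intro h
      exact hj ((hζ.pow_eq_one_iff_dvd j).1 h)
    have hpow : ((φ ζ) ^ j) ^ q = 1 := by
      rw [← pow_mul, mul_comm, pow_mul, hζ.pow_eq_one, one_pow]
    rw [geom_sum_eq_zero_of_pow_eq_one hpow hne, mul_zero]
  have h5 : (Φ (U ^ j * E)).trace = 0 := (mul_eq_zero.1 hfinal).resolve_left hqK
  have h6 := AddMonoidHom.map_trace φ (U ^ j * E)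
  have h7 : φ (U ^ j * E).trace = 0 := by rw [h6]; exact h5
  exact hφ (by rw [h7, map_zero])

/-- **Theorem A.** As in the core lemma, with an additional matrix `S` of order `m` invertible in
`R` commuting with `U` and `E`: then `tr(U S E) = 0` (when `q > 1`). -/
theorem trace_mul_mul_eq_zero_of_semiregular
    (φ : R →+* K) (hφ : Function.Injective φ) (ψ : R →+* k) (hψ : Function.Surjective ψ)
    {q : ℕ} (hq : 1 < q) {ζ ζ' : R} (hζζ' : ζ * ζ' = 1) (hζ : IsPrimitiveRoot (φ ζ) q)
    (hζψ : ψ ζ' = 1)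
    {U S E : Matrix X X R} (hU : U ^ q = 1) (hE : E * E = E) (hUE : U * E = E * U)
    (hUS : U * S = S * U) (hSE : S * E = E * S)
    (htr : ∀ j, 0 < j → j < q → (U ^ j).trace = 0)
    {T : Type*} [Fintype T] [DecidableEq T] (B : Matrix T X k) (C : Matrix X T k)
    (hBC : B * (∑ j ∈ Finset.range q, U ^ j).map ψ * C = 1)
    (hT : Fintype.card T * q = Fintype.card X)
    {m : ℕ} (hm : 0 < m) {m' : R} (hmm' : (m : R) * m' = 1) {μ μ' : R} (hμμ' : μ * μ' = 1)
    (hμ : IsPrimitiveRoot (φ μ) m) (hS : S ^ m = 1) :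
    (U * S * E).trace = 0 := by
  classical
  have hμm : μ ^ m = 1 := hφ (by rw [map_pow, hμ.pow_eq_one, map_one])
  have hμ'm : μ' ^ m = 1 := by
    have : μ' ^ m = μ' ^ m * μ ^ m := by rw [hμm, mul_one]
    rw [this, ← mul_pow, mul_comm, hμμ', one_pow]
  obtain ⟨F, hF⟩ : ∃ F : ℕ → Matrix X X R, ∀ i, F i = m' • eigSum m μ' S i :=
    ⟨fun i => m' • eigSum m μ' S i, fun _ => rfl⟩
  have hSF : ∀ i, S * F i = μ ^ i • F i := by
    intro i
    rw [hF]
    rw [Matrix.mul_smul, mul_eigSum hμμ' hμ'm hS, smul_comm]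
  have hFF : ∀ i, F i * F i = F i := by
    intro i
    rw [hF]
    have hm3 : m' * m' * (m : R) = m' := by rw [mul_assoc, mul_comm m' (m : R), hmm', mul_one]
    rw [Matrix.smul_mul, Matrix.mul_smul, eigSum_mul_self hμμ' hμ'm hS, smul_smul, smul_smul, hm3]
  have hFE : ∀ i, F i * E = E * F i := by
    intro i
    rw [hF]
    rw [Matrix.smul_mul, Matrix.mul_smul, eigSum_commute hSE]
  have hUF : ∀ i, U * F i = F i * U := by
    intro i
    rw [hF]
    rw [Matrix.smul_mul, Matrix.mul_smul, ← eigSum_commute hUS.symm]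
  have hsumF : ∑ i ∈ Finset.range m, F i = 1 := by
    have hinj : Function.Injective (φ.mapMatrix (m := X)) := Matrix.map_injective hφ
    apply hinj
    rw [map_sum, map_one]
    have h1 : ∀ i ∈ Finset.range m, (φ.mapMatrix (m := X)) (F i) =
        φ m' • (φ.mapMatrix (m := X)) (eigSum m μ' S i) := by
      intro i _
      rw [hF]
      show (m' • eigSum m μ' S i).map φ = φ m' • (eigSum m μ' S i).map φ
      rw [Matrix.map_smul' _ _ _ (map_mul φ)]
    rw [Finset.sum_congr rfl h1, ← Finset.smul_sum, sum_map_eigSum φ hm hμμ' hμ, smul_smul]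
    have : φ m' * (m : K) = 1 := by
      have := congrArg φ hmm'
      rw [map_mul, map_natCast, map_one] at this
      rw [mul_comm]; exact this
    rw [this, one_smul]
  have hdecomp : U * S * E = ∑ i ∈ Finset.range m, μ ^ i • (U ^ 1 * (F i * E)) := by
    have h1 : ∀ i ∈ Finset.range m, μ ^ i • (U ^ 1 * (F i * E)) = U * S * F i * E := by
      intro i _
      rw [pow_one, Matrix.mul_assoc U S, hSF, Matrix.mul_smul, Matrix.smul_mul, Matrix.mul_assoc]
    rw [Finset.sum_congr rfl h1, ← Finset.sum_mul, ← Finset.mul_sum, hsumF, Matrix.mul_one]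
  rw [hdecomp, Matrix.trace_sum]
  refine Finset.sum_eq_zero fun i _ => ?_
  rw [Matrix.trace_smul]
  have hidem : F i * E * (F i * E) = F i * E := by
    calc F i * E * (F i * E) = F i * (E * F i) * E := by simp only [Matrix.mul_assoc]
      _ = F i * (F i * E) * E := by rw [hFE]
      _ = (F i * F i) * (E * E) := by simp only [Matrix.mul_assoc]
      _ = F i * E := by rw [hFF, hE]
  have hcomm : U * (F i * E) = F i * E * U := by
    rw [← Matrix.mul_assoc, hUF, Matrix.mul_assoc, hUE, Matrix.mul_assoc]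
  have h0 := trace_pow_mul_eq_zero_of_semiregular φ hφ ψ hψ (by omega : 0 < q) hζζ' hζ hζψ hU hidem
    hcomm htr B C hBC hT 1 (by intro h; exact absurd (Nat.le_of_dvd Nat.one_pos h) (by omega))
  rw [h0, smul_zero]

end Core

end Cfsg.Agent.Lib.Helper82
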