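import Mathlib
import Cfsg.Prelude.Def_Blocks
import Cfsg.Agent.Lib.Helper82.ResidueField
import Cfsg.Agent.Lib.Helper82.ProjTrace
import Cfsg.Agent.Lib.Helper82.GroupMatrices
import Cfsg.Agent.Lib.Helper82.PDecomp
import Cfsg.Agent.Lib.Helper21.OsimaApps

set_option autoImplicit false
set_option linter.style.haveILetI false
set_option linter.unusedSectionVars false

namespace Cfsg.Agent.Lib.Helper82

open Cfsg
open scoped ComplexConjugate

section WeakOrth

universe u
variable {G : Type u} [Group G] [Fintype G]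

open Cfsg.Agent.Lib.Helper21 Cfsg.Agent.Lib.Helper83

/-- Block idempotent coefficients are idempotent under convolution. -/
theorem conv_blockCoeff_self [Fintype (IrrCharacter G)] (B : Set (IrrCharacter G)) (z : G) :
    conv (blockCoeff B) (blockCoeff B) z = blockCoeff B z := by
  classical
  have hcf := blockCoeff_isClassFunction B
  refine (blockCoeff_eq_of_omega B (conv_isClassFunction hcf hcf) (fun χ => ?_) z).symm
  rw [omega_conv χ.2 _ _ hcf, omega_blockCoeff]
  split_ifs <;> simp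

/-- A root of unity is a local integer. -/
theorem memLocalRing_of_pow_eq_one {M : Ideal AlgInt} (hM : M.IsPrime) {z : ℂ} {n : ℕ} (hn : 0 < n)
    (hz : z ^ n = 1) : MemLocalRing M z :=
  memLocalRing_of_isIntegral hM (IsIntegral.of_pow hn (hz ▸ isIntegral_one))

/-- The sum of the block idempotent coefficients over a twisted conjugacy class, through
characters. -/
theorem sum_blockCoeff_twisted [Fintype (IrrCharacter G)] (B : Set (IrrCharacter G)) (x y : G) :
    ∑ g : G, blockCoeff B (x⁻¹ * g * y⁻¹ * g⁻¹) =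
      ∑ᶠ χ ∈ B, (χ : G → ℂ) x * (χ : G → ℂ) y := by
  classical
  have hG : (Fintype.card G : ℂ) ≠ 0 := by exact_mod_cast Fintype.card_ne_zero
  simp_rw [blockCoeff_eq_sum B]
  rw [← Finset.mul_sum, Finset.sum_comm, finsum_mem_eq_sum_ite, Finset.mul_sum]
  refine Finset.sum_congr rfl fun χ _ => ?_
  by_cases hχ : χ ∈ B
  · simp only [hχ, if_true]
    have hχc := IsIrrCharacter.isCharacter χ.2
    have h1 : ∀ g : G, conj ((χ : G → ℂ) (x⁻¹ * g * y⁻¹ * g⁻¹)) =
        (χ : G → ℂ) (x * (g * y * g⁻¹)) := by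
      intro g
      rw [← char_inv hχc]
      have : (x⁻¹ * g * y⁻¹ * g⁻¹)⁻¹ = (g * y * g⁻¹) * x := by group
      rw [this, IsCharacter.mul_comm_apply hχc]
    simp_rw [h1]
    rw [← Finset.mul_sum, IsIrrCharacter.sum_mul_conj χ.2, Nat.card_eq_fintype_card]
    have h0 := IsIrrCharacter.apply_one_ne_zero χ.2
    field_simp
  · simp [hχ]

/-- **Weak block orthogonality**, multiplicative form: for `x` `p`-regular and `y` `p`-singular,
`∑_{χ ∈ B} χ(x) χ(y) = 0` for every `p`-block `B`. -/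
theorem sum_block_mul_eq_zero {p : ℕ} {M : Ideal AlgInt} (hMp : IsPModular p M)
    (χ₀ : IrrCharacter G) (x y : G) (hx : ¬ p ∣ orderOf x) (hy : p ∣ orderOf y) :
    ∑ᶠ χ ∈ blockOf M (χ₀ : G → ℂ), (χ : G → ℂ) x * (χ : G → ℂ) y = 0 := by
  classical
  haveI : Fintype (IrrCharacter G) := Fintype.ofFinite _
  have hM : M.IsPrime := hMp.2.1.isPrime
  have hp : p.Prime := hMp.1
  set Bl := blockOf M (χ₀ : G → ℂ) with hBl
  -- the ring, the two homomorphisms
  set φ : localSubring M hM →+* ℂ := (localSubring M hM).subtype with hφdef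
  have hφ : Function.Injective φ := Subtype.coe_injective
  set ψ := residueMap M hM with hψdef
  have hψ : Function.Surjective ψ := residueMap_surjective M hM
  -- the idempotent
  set e : G → localSubring M hM :=
    fun g => ⟨blockCoeff Bl g, memLocalRing_blockCoeff_blockOf hM χ₀ g⟩ with he
  have he_coe : ∀ g, ((e g : localSubring M hM) : ℂ) = blockCoeff Bl g := fun g => rfl
  have hclass : ∀ g z : G, e (z * g * z⁻¹) = e g := by
    intro g z
    apply Subtype.ext
    exact blockCoeff_isClassFunction Bl g z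
  have hE : lmat e * lmat e = lmat e := by
    rw [lmat_mul]
    congr 1
    funext z
    apply Subtype.ext
    rw [he_coe, ← conv_blockCoeff_self Bl z]
    simp only [conv]
    push_cast
    refine Fintype.sum_equiv ((Equiv.inv G).trans (Equiv.mulLeft z)) _ _ (fun k => ?_)
    simp only [Equiv.trans_apply, Equiv.inv_apply, Equiv.coe_mulLeft, he_coe]
    congr 2
    group
  -- decompose `y`
  obtain ⟨n, m, u, s, hn, hpm, hm, hsu, hcomm, hordu, hsm⟩ :=
    exists_p_decomposition hp y hy (orderOf_pos y)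
  set q := p ^ n with hq
  have hq1 : 1 < q := Nat.one_lt_pow hn.ne' hp.one_lt
  have hq0 : 0 < q := by omega
  -- the matrices
  set U : Matrix G G (localSubring M hM) := pmat 1 u with hUdef
  set S : Matrix G G (localSubring M hM) := pmat x s with hSdef
  have hU : U ^ q = 1 := by
    rw [hUdef, pmat_pow, one_pow, ← hordu, pow_orderOf_eq_one, pmat_one]
  have hUE : U * lmat e = lmat e * U := pmat_mul_lmat_comm 1 u hclass
  have hSE : S * lmat e = lmat e * S := pmat_mul_lmat_comm x s hclass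
  have hUS : U * S = S * U := by
    rw [hUdef, hSdef, pmat_mul, pmat_mul, one_mul, mul_one, hcomm.eq]
  have htr : ∀ j, 0 < j → j < q → (U ^ j).trace = 0 := by
    intro j hj0 hjq
    rw [hUdef, pmat_pow, one_pow]
    apply trace_pmat_one_left
    rw [← hordu] at hjq
    exact pow_ne_one_of_lt_orderOf hj0.ne' hjq
  haveI : Fintype (G ⧸ Subgroup.zpowers u) := Fintype.ofFinite _
  obtain ⟨Bm, Cm, hBC⟩ := exists_norm_certificate (R := localSubring M hM) ψ u
  rw [hordu] at hBC
  have hT : Fintype.card (G ⧸ Subgroup.zpowers u) * q = Fintype.card G := by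
    rw [← hordu]
    exact card_quotient_zpowers_mul u
  -- the `p'`-part
  set m₀ := orderOf x * m with hm₀
  have hm₀pos : 0 < m₀ := Nat.mul_pos (orderOf_pos x) hm
  have hpm₀ : ¬ p ∣ m₀ := by
    intro h
    rcases (Nat.Prime.dvd_mul hp).1 h with h1 | h1
    · exact hx h1
    · exact hpm h1
  have hS : S ^ m₀ = 1 := by
    rw [hSdef, pmat_pow]
    have h1 : x ^ m₀ = 1 := by rw [hm₀, pow_mul, pow_orderOf_eq_one, one_pow]
    have h2 : s ^ m₀ = 1 := by rw [hm₀, mul_comm, pow_mul, hsm, one_pow]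
    rw [h1, h2, pmat_one]
  have hm₀R : MemLocalRing M ((m₀ : ℂ)⁻¹) :=
    memLocalRing_inv (memLocalRing_natCast hM m₀)
      (fun h => hpm₀ ((memLocalIdeal_natCast_iff hMp m₀).1 h))
  set m' : localSubring M hM := ⟨(m₀ : ℂ)⁻¹, hm₀R⟩ with hm'
  have hmm' : ((m₀ : ℕ) : localSubring M hM) * m' = 1 := by
    apply Subtype.ext
    push_cast
    show (m₀ : ℂ) * (m₀ : ℂ)⁻¹ = 1
    exact mul_inv_cancel₀ (Nat.cast_ne_zero.2 hm₀pos.ne')
  -- roots of unity
  have hζprim : IsPrimitiveRoot (Complex.exp (2 * Real.pi * Complex.I / q)) q :=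
    Complex.isPrimitiveRoot_exp q hq0.ne'
  set ζc : ℂ := Complex.exp (2 * Real.pi * Complex.I / q) with hζc
  have hζcq : ζc ^ q = 1 := hζprim.pow_eq_one
  have hζc'q : ζc⁻¹ ^ q = 1 := by rw [inv_pow, hζcq, inv_one]
  set ζ : localSubring M hM := ⟨ζc, memLocalRing_of_pow_eq_one hM hq0 hζcq⟩ with hζ
  set ζ' : localSubring M hM := ⟨ζc⁻¹, memLocalRing_of_pow_eq_one hM hq0 hζc'q⟩ with hζ'
  have hζζ' : ζ * ζ' = 1 := by
    apply Subtype.ext
    show ζc * ζc⁻¹ = 1
    exact mul_inv_cancel₀ (hζprim.ne_zero hq0.ne')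
  have hζψ : ψ ζ' = 1 := by
    apply residueMap_eq_one_of_pow_eq_one hMp ζ' n
    apply Subtype.ext
    push_cast
    exact hζc'q
  have hμprim : IsPrimitiveRoot (Complex.exp (2 * Real.pi * Complex.I / m₀)) m₀ :=
    Complex.isPrimitiveRoot_exp m₀ hm₀pos.ne'
  set μc : ℂ := Complex.exp (2 * Real.pi * Complex.I / m₀) with hμc
  have hμcm : μc ^ m₀ = 1 := hμprim.pow_eq_one
  have hμc'm : μc⁻¹ ^ m₀ = 1 := by rw [inv_pow, hμcm, inv_one]
  set μ : localSubring M hM := ⟨μc, memLocalRing_of_pow_eq_one hM hm₀pos hμcm⟩ with hμ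
  set μ' : localSubring M hM := ⟨μc⁻¹, memLocalRing_of_pow_eq_one hM hm₀pos hμc'm⟩ with hμ'
  have hμμ' : μ * μ' = 1 := by
    apply Subtype.ext
    show μc * μc⁻¹ = 1
    exact mul_inv_cancel₀ (hμprim.ne_zero hm₀pos.ne')
  -- apply Theorem A
  have key := trace_mul_mul_eq_zero_of_semiregular φ hφ ψ hψ hq1 hζζ' (ζ := ζ)
    (show IsPrimitiveRoot (φ ζ) q from hζprim) hζψ hU hE hUE hUS hSE htr Bm Cm hBC hT hm₀pos hmm'
    hμμ' (show IsPrimitiveRoot (φ μ) m₀ from hμprim) hS
  have hUSeq : U * S = pmat x y := by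
    rw [hUdef, hSdef, pmat_mul, one_mul, hsu]
  rw [hUSeq, trace_pmat_mul_lmat] at key
  have key2 := congrArg φ key
  rw [map_sum, map_zero] at key2
  rw [← sum_blockCoeff_twisted Bl x y]
  exact key2

/-- **Weak block orthogonality**: for `x` `p`-regular and `y` `p`-singular,
`∑_{χ ∈ B} χ(x) conj (χ(y)) = 0` for every `p`-block `B`. -/
theorem weak_block_orthogonality {p : ℕ} {M : Ideal AlgInt} (hMp : IsPModular p M)
    (χ₀ : IrrCharacter G) (x y : G) (hx : ¬ p ∣ orderOf x) (hy : p ∣ orderOf y) :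
    ∑ᶠ χ ∈ blockOf M (χ₀ : G → ℂ), (χ : G → ℂ) x * conj ((χ : G → ℂ) y) = 0 := by
  have h := sum_block_mul_eq_zero hMp χ₀ x y⁻¹ hx (by rwa [orderOf_inv])
  rw [← h]
  refine finsum_congr fun χ => ?_
  refine finsum_congr fun _ => ?_
  rw [char_inv (IsIrrCharacter.isCharacter χ.2)]

/-- The block idempotent is supported on `p`-regular elements. -/
theorem blockCoeff_eq_zero_of_singular {p : ℕ} {M : Ideal AlgInt} (hMp : IsPModular p M)
    (χ₀ : IrrCharacter G) (y : G) (hy : p ∣ orderOf y) :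
    blockCoeff (blockOf M (χ₀ : G → ℂ)) y = 0 := by
  have h := weak_block_orthogonality hMp χ₀ 1 y
    (by rw [orderOf_one]; exact hMp.1.not_dvd_one) hy
  rw [blockCoeff, h, mul_zero]

end WeakOrth

end Cfsg.Agent.Lib.Helper82
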