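import Mathlib
import Cfsg.Prelude.Def_Blocks
import Cfsg.Agent.Lib.Helper82.WeakOrth

set_option autoImplicit false
set_option linter.style.haveILetI false
set_option linter.unusedSectionVars false

namespace Cfsg.Agent.Lib.Helper82

open Cfsg
open scoped ComplexConjugate

section BlockOrth

universe u
variable {G : Type u} [Group G] [Fintype G]

open Cfsg.Agent.Lib.Helper21 Cfsg.Agent.Lib.Helper83

/-- First orthogonality relation, unnormalised. -/
theorem sum_irr_mul_conj (χ ψ : IrrCharacter G) :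
    ∑ g : G, (χ : G → ℂ) g * conj ((ψ : G → ℂ) g) = if χ = ψ then (Fintype.card G : ℂ) else 0 := by
  have hG : (Fintype.card G : ℂ) ≠ 0 := by exact_mod_cast Fintype.card_ne_zero
  have h := irr_orthonormal χ ψ
  rw [classInner_def, Nat.card_eq_fintype_card] at h
  have h2 : ∑ g : G, (χ : G → ℂ) g * conj ((ψ : G → ℂ) g) =
      (Fintype.card G : ℂ) * ((Fintype.card G : ℂ)⁻¹ *
        ∑ g : G, (χ : G → ℂ) g * conj ((ψ : G → ℂ) g)) := by
    rw [← mul_assoc, mul_inv_cancel₀ hG, one_mul]
  rw [h2, h]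
  split_ifs <;> simp

/-- Weak block orthogonality in `Finset.sum` form. -/
theorem sum_ite_block_eq_zero [Fintype (IrrCharacter G)] {p : ℕ} {M : Ideal AlgInt}
    (hMp : IsPModular p M) (χ₀ : IrrCharacter G)
    [DecidablePred (· ∈ blockOf M (χ₀ : G → ℂ))] (x y : G)
    (hx : ¬ p ∣ orderOf x) (hy : p ∣ orderOf y) :
    ∑ ψ : IrrCharacter G, (if ψ ∈ blockOf M (χ₀ : G → ℂ) then
      (ψ : G → ℂ) x * conj ((ψ : G → ℂ) y) else 0) = 0 := by
  rw [← finsum_mem_eq_sum_ite]
  exact weak_block_orthogonality hMp χ₀ x y hx hy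

/-- Characters in different blocks are orthogonal on the `p`-regular elements. -/
theorem sum_regular_mul_conj_eq_zero {p : ℕ} {M : Ideal AlgInt} (hMp : IsPModular p M)
    (χ ψ : IrrCharacter G) (h : ¬ SameBlock M (χ : G → ℂ) (ψ : G → ℂ))
    [DecidablePred fun x : G => p ∣ orderOf x] :
    ∑ x : G, (if p ∣ orderOf x then 0 else (χ : G → ℂ) x * conj ((ψ : G → ℂ) x)) = 0 := by
  classical
  haveI : Fintype (IrrCharacter G) := Fintype.ofFinite _
  have hM : M.IsPrime := hMp.2.1.isPrime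
  have hG : (Fintype.card G : ℂ) ≠ 0 := by exact_mod_cast Fintype.card_ne_zero
  set B' := blockOf M (ψ : G → ℂ) with hB'
  have hχB' : χ ∉ B' := fun hmem => h (sameBlock_symm (mem_blockOf_iff.1 hmem))
  have hψB' : ψ ∈ B' := mem_blockOf_self hM ψ
  -- the kernel
  set K : G → G → ℂ := fun y x => ∑ ψ' : IrrCharacter G,
    (if ψ' ∈ B' then (ψ' : G → ℂ) y * conj ((ψ' : G → ℂ) x) else 0) with hK
  -- (a) reproducing property
  have ha : ∀ x : G, ∑ y : G, K y x * conj ((ψ : G → ℂ) y) =
      (Fintype.card G : ℂ) * conj ((ψ : G → ℂ) x) := by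
    intro x
    simp only [hK, Finset.sum_mul]
    rw [Finset.sum_comm]
    rw [Finset.sum_eq_single ψ]
    · simp only [hψB', if_true]
      have : ∀ y : G, (ψ : G → ℂ) y * conj ((ψ : G → ℂ) x) * conj ((ψ : G → ℂ) y) =
          conj ((ψ : G → ℂ) x) * ((ψ : G → ℂ) y * conj ((ψ : G → ℂ) y)) := fun y => by ring
      simp_rw [this]
      rw [← Finset.mul_sum, sum_irr_mul_conj, if_pos rfl, mul_comm]
    · intro ψ' _ hne
      by_cases hmem : ψ' ∈ B'
      · simp only [hmem, if_true]
        have : ∀ y : G, (ψ' : G → ℂ) y * conj ((ψ' : G → ℂ) x) * conj ((ψ : G → ℂ) y) =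
            conj ((ψ' : G → ℂ) x) * ((ψ' : G → ℂ) y * conj ((ψ : G → ℂ) y)) := fun y => by ring
        simp_rw [this]
        rw [← Finset.mul_sum, sum_irr_mul_conj, if_neg hne, mul_zero]
      · simp [hmem]
    · intro h0
      exact absurd (Finset.mem_univ _) h0
  -- (c) vanishing
  have hKsing : ∀ y x : G, p ∣ orderOf y → ¬ p ∣ orderOf x → K y x = 0 := by
    intro y x hy hx
    have h1 := sum_ite_block_eq_zero hMp ψ x y hx hy
    have h3 : K y x = conj (∑ ψ' : IrrCharacter G, if ψ' ∈ blockOf M (ψ : G → ℂ) then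
        (ψ' : G → ℂ) x * conj ((ψ' : G → ℂ) y) else 0) := by
      rw [map_sum]
      simp only [hK]
      refine Finset.sum_congr rfl fun ψ' _ => ?_
      split_ifs
      · rw [map_mul, Complex.conj_conj, mul_comm]
      · rw [map_zero]
    rw [h3, h1, map_zero]
  have hKreg : ∀ y x : G, ¬ p ∣ orderOf y → p ∣ orderOf x → K y x = 0 := by
    intro y x hy hx
    exact sum_ite_block_eq_zero hMp ψ y x hy hx
  have hKall : ∀ y : G, ∑ x : G, (χ : G → ℂ) x * K y x = 0 := by
    intro y
    simp only [hK, Finset.mul_sum]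
    rw [Finset.sum_comm]
    refine Finset.sum_eq_zero fun ψ' _ => ?_
    by_cases hmem : ψ' ∈ B'
    · simp only [hmem, if_true]
      have : ∀ x : G, (χ : G → ℂ) x * ((ψ' : G → ℂ) y * conj ((ψ' : G → ℂ) x)) =
          (ψ' : G → ℂ) y * ((χ : G → ℂ) x * conj ((ψ' : G → ℂ) x)) := fun x => by ring
      simp_rw [this]
      rw [← Finset.mul_sum, sum_irr_mul_conj, if_neg, mul_zero]
      intro heq
      exact hχB' (heq ▸ hmem)
    · simp [hmem]
  have hc : ∀ y : G, ∑ x : G, (if p ∣ orderOf x then 0 else (χ : G → ℂ) x * K y x) = 0 := by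
    intro y
    by_cases hy : p ∣ orderOf y
    · refine Finset.sum_eq_zero fun x _ => ?_
      split_ifs with hx
      · rfl
      · rw [hKsing y x hy hx, mul_zero]
    · have hrew : ∑ x : G, (if p ∣ orderOf x then 0 else (χ : G → ℂ) x * K y x) =
          ∑ x : G, (χ : G → ℂ) x * K y x := by
        refine Finset.sum_congr rfl fun x _ => ?_
        split_ifs with hx
        · rw [hKreg y x hy hx, mul_zero]
        · rfl
      rw [hrew, hKall y]
  -- (b) assemble
  have hb : (Fintype.card G : ℂ) *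
      ∑ x : G, (if p ∣ orderOf x then 0 else (χ : G → ℂ) x * conj ((ψ : G → ℂ) x)) =
      ∑ y : G, conj ((ψ : G → ℂ) y) *
        ∑ x : G, (if p ∣ orderOf x then 0 else (χ : G → ℂ) x * K y x) := by
    simp_rw [Finset.mul_sum]
    rw [Finset.sum_comm]
    refine Finset.sum_congr rfl fun x _ => ?_
    split_ifs with hx
    · simp
    · have := ha x
      calc (Fintype.card G : ℂ) * ((χ : G → ℂ) x * conj ((ψ : G → ℂ) x))
          = (χ : G → ℂ) x * ((Fintype.card G : ℂ) * conj ((ψ : G → ℂ) x)) := by ring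
        _ = (χ : G → ℂ) x * ∑ y : G, K y x * conj ((ψ : G → ℂ) y) := by rw [this]
        _ = ∑ y : G, conj ((ψ : G → ℂ) y) * ((χ : G → ℂ) x * K y x) := by
            rw [Finset.mul_sum]
            refine Finset.sum_congr rfl fun y _ => ?_
            ring
  have hzero : (Fintype.card G : ℂ) *
      ∑ x : G, (if p ∣ orderOf x then 0 else (χ : G → ℂ) x * conj ((ψ : G → ℂ) x)) = 0 := by
    rw [hb]
    refine Finset.sum_eq_zero fun y _ => ?_
    rw [hc y, mul_zero]
  exact (mul_eq_zero.1 hzero).resolve_left hG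

end BlockOrth

end Cfsg.Agent.Lib.Helper82
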