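import Mathlib
import Cfsg.Prelude.Def_Blocks
import Cfsg.Agent.Lib.Helper82.CharSchur

set_option autoImplicit false
set_option linter.style.haveILetI false

namespace Cfsg.Agent.Lib.Helper82

open Representation

section ClassConst

variable {G : Type*} [Group G] [Fintype G]

/-- The decomposition of the regular character: the irreducible characters form a finite set `s`
and `∑ χ, χ 1 * χ g` is `|G|` at `g = 1` and `0` elsewhere. -/
def RegularDecomp (G : Type*) [Group G] [Fintype G] : Prop :=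
  ∃ s : Finset (Cfsg.IrrCharacter G), (∀ χ, χ ∈ s) ∧
    (∑ χ ∈ s, (χ : G → ℂ) 1 * (χ : G → ℂ) 1 = (Fintype.card G : ℂ)) ∧
    ∀ g : G, g ≠ 1 → ∑ χ ∈ s, (χ : G → ℂ) 1 * (χ : G → ℂ) g = 0

variable [DecidableEq G]

/-- Class multiplication constants through characters. -/
theorem card_conj_mul_conj_eq (s : Finset (Cfsg.IrrCharacter G))
    (hs : ∀ g : G, ∑ χ ∈ s, (χ : G → ℂ) 1 * (χ : G → ℂ) g =
      if g = 1 then (Fintype.card G : ℂ) else 0) (x y u : G) :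
    ((Finset.univ.filter fun ab : G × G =>
        (ab.1 * x * ab.1⁻¹) * (ab.2 * y * ab.2⁻¹) = u).card : ℂ) =
      (Fintype.card G : ℂ) * ∑ χ ∈ s, (χ : G → ℂ) x * (χ : G → ℂ) y * (χ : G → ℂ) u⁻¹ /
        (χ : G → ℂ) 1 := by
  have hG : (Fintype.card G : ℂ) ≠ 0 := by exact_mod_cast Fintype.card_ne_zero
  have h1 : ∀ χ ∈ s, ∑ a : G, ∑ b : G,
      (χ : G → ℂ) 1 * (χ : G → ℂ) (u⁻¹ * (a * x * a⁻¹) * (b * y * b⁻¹)) =
      (Fintype.card G : ℂ) ^ 2 * ((χ : G → ℂ) x * (χ : G → ℂ) y * (χ : G → ℂ) u⁻¹ /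
        (χ : G → ℂ) 1) := by
    intro χ _
    simp_rw [← Finset.mul_sum]
    rw [IsIrrCharacter.sum_sum_conj_mul χ.2]
    have := IsIrrCharacter.apply_one_ne_zero χ.2
    field_simp
  have h2 : ∑ χ ∈ s, ∑ a : G, ∑ b : G,
      (χ : G → ℂ) 1 * (χ : G → ℂ) (u⁻¹ * (a * x * a⁻¹) * (b * y * b⁻¹)) =
      (Fintype.card G : ℂ) ^ 2 * ∑ χ ∈ s, ((χ : G → ℂ) x * (χ : G → ℂ) y * (χ : G → ℂ) u⁻¹ /
        (χ : G → ℂ) 1) := by
    rw [Finset.mul_sum]
    exact Finset.sum_congr rfl h1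
  have h3 : ∑ χ ∈ s, ∑ a : G, ∑ b : G,
      (χ : G → ℂ) 1 * (χ : G → ℂ) (u⁻¹ * (a * x * a⁻¹) * (b * y * b⁻¹)) =
      (Fintype.card G : ℂ) * ((Finset.univ.filter fun ab : G × G =>
        (ab.1 * x * ab.1⁻¹) * (ab.2 * y * ab.2⁻¹) = u).card : ℂ) := by
    rw [Finset.sum_comm]
    simp_rw [Finset.sum_comm (s := s)]
    simp_rw [hs]
    rw [← Finset.sum_product', Finset.univ_product_univ]
    rw [Finset.card_filter, Nat.cast_sum, Finset.mul_sum]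
    refine Finset.sum_congr rfl fun ab _ => ?_
    have : (u⁻¹ * (ab.1 * x * ab.1⁻¹) * (ab.2 * y * ab.2⁻¹) = 1) ↔
        ((ab.1 * x * ab.1⁻¹) * (ab.2 * y * ab.2⁻¹) = u) := by
      rw [mul_assoc, inv_mul_eq_one, eq_comm]
    simp only [this]
    split_ifs <;> simp
  rw [h2] at h3
  have h4 : (Fintype.card G : ℂ) * ((Fintype.card G : ℂ) * ∑ χ ∈ s,
      ((χ : G → ℂ) x * (χ : G → ℂ) y * (χ : G → ℂ) u⁻¹ / (χ : G → ℂ) 1)) =
      (Fintype.card G : ℂ) * ((Finset.univ.filter fun ab : G × G =>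
        (ab.1 * x * ab.1⁻¹) * (ab.2 * y * ab.2⁻¹) = u).card : ℂ) := by
    rw [← h3]; ring
  exact (mul_left_cancel₀ hG h4).symm

theorem card_pairs_conj_eq (z : G) :
    (Finset.univ.filter fun ab : G × G =>
        (ab.1 * z * ab.1⁻¹) * (ab.2 * z⁻¹ * ab.2⁻¹) = 1).card =
      Fintype.card G * Nat.card (Subgroup.centralizer ({z} : Set G)) := by
  classical
  rw [Nat.card_eq_fintype_card, ← Fintype.card_prod, ← Fintype.card_subtype]
  refine Fintype.card_congr ?_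
  refine
    { toFun := fun ab => (ab.1.2, ⟨ab.1.2⁻¹ * ab.1.1, ?_⟩)
      invFun := fun bc => ⟨(bc.1 * bc.2.1, bc.1), ?_⟩
      left_inv := ?_
      right_inv := ?_ }
  · have h := ab.2
    rw [Subgroup.mem_centralizer_iff]
    intro w hw
    rw [Set.mem_singleton_iff] at hw
    subst hw
    have h2 : ab.1.1 * w * ab.1.1⁻¹ = ab.1.2 * w * ab.1.2⁻¹ := by
      have := mul_eq_one_iff_eq_inv.1 h
      rw [this]; group
    calc w * (ab.1.2⁻¹ * ab.1.1) = ab.1.2⁻¹ * (ab.1.2 * w * ab.1.2⁻¹) * ab.1.1 := by group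
      _ = ab.1.2⁻¹ * (ab.1.1 * w * ab.1.1⁻¹) * ab.1.1 := by rw [h2]
      _ = ab.1.2⁻¹ * ab.1.1 * w := by group
  · have h := bc.2.2
    rw [Subgroup.mem_centralizer_iff] at h
    have h2 := h z rfl
    show (bc.1 * bc.2.1) * z * (bc.1 * bc.2.1)⁻¹ * (bc.1 * z⁻¹ * bc.1⁻¹) = 1
    calc (bc.1 * bc.2.1) * z * (bc.1 * bc.2.1)⁻¹ * (bc.1 * z⁻¹ * bc.1⁻¹)
        = bc.1 * (bc.2.1 * z) * bc.2.1⁻¹ * z⁻¹ * bc.1⁻¹ := by group
      _ = bc.1 * (z * bc.2.1) * bc.2.1⁻¹ * z⁻¹ * bc.1⁻¹ := by rw [h2]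
      _ = 1 := by group
  · rintro ⟨⟨a, b⟩, h⟩
    simp
  · rintro ⟨b, c, hc⟩
    simp

/-- The regular decomposition in `if` form. -/
theorem RegularDecomp.ite_form {s : Finset (Cfsg.IrrCharacter G)}
    (h1 : ∑ χ ∈ s, (χ : G → ℂ) 1 * (χ : G → ℂ) 1 = (Fintype.card G : ℂ))
    (h2 : ∀ g : G, g ≠ 1 → ∑ χ ∈ s, (χ : G → ℂ) 1 * (χ : G → ℂ) g = 0) (g : G) :
    ∑ χ ∈ s, (χ : G → ℂ) 1 * (χ : G → ℂ) g = if g = 1 then (Fintype.card G : ℂ) else 0 := by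
  split_ifs with hg
  · rw [hg]; exact h1
  · exact h2 g hg

/-- Second orthogonality on one class. -/
theorem sum_char_mul_char_inv_eq_card_centralizer (s : Finset (Cfsg.IrrCharacter G))
    (hs : ∀ g : G, ∑ χ ∈ s, (χ : G → ℂ) 1 * (χ : G → ℂ) g =
      if g = 1 then (Fintype.card G : ℂ) else 0) (z : G) :
    ∑ χ ∈ s, (χ : G → ℂ) z * (χ : G → ℂ) z⁻¹ =
      (Nat.card (Subgroup.centralizer ({z} : Set G)) : ℂ) := by
  have hG : (Fintype.card G : ℂ) ≠ 0 := by exact_mod_cast Fintype.card_ne_zero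
  have h := card_conj_mul_conj_eq s hs z z⁻¹ 1
  rw [card_pairs_conj_eq, Nat.cast_mul] at h
  have h2 := mul_left_cancel₀ hG h
  rw [h2]
  refine Finset.sum_congr rfl fun χ _ => ?_
  have := IsIrrCharacter.apply_one_ne_zero χ.2
  rw [inv_one]
  field_simp

/-- Second orthogonality for non-conjugate elements. -/
theorem sum_char_mul_char_inv_eq_zero (s : Finset (Cfsg.IrrCharacter G))
    (hs : ∀ g : G, ∑ χ ∈ s, (χ : G → ℂ) 1 * (χ : G → ℂ) g =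
      if g = 1 then (Fintype.card G : ℂ) else 0) (x y : G) (hxy : ¬ IsConj x y) :
    ∑ χ ∈ s, (χ : G → ℂ) x * (χ : G → ℂ) y⁻¹ = 0 := by
  have hG : (Fintype.card G : ℂ) ≠ 0 := by exact_mod_cast Fintype.card_ne_zero
  have h := card_conj_mul_conj_eq s hs x y⁻¹ 1
  have h0 : (Finset.univ.filter fun ab : G × G =>
      (ab.1 * x * ab.1⁻¹) * (ab.2 * y⁻¹ * ab.2⁻¹) = 1) = ∅ := by
    rw [Finset.filter_eq_empty_iff]
    rintro ⟨a, b⟩ _ hab
    apply hxy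
    have h1 : a * x * a⁻¹ = b * y * b⁻¹ := by
      have := mul_eq_one_iff_eq_inv.1 hab
      rw [this]; group
    rw [isConj_iff]
    refine ⟨b⁻¹ * a, ?_⟩
    calc b⁻¹ * a * x * (b⁻¹ * a)⁻¹ = b⁻¹ * (a * x * a⁻¹) * b := by group
      _ = b⁻¹ * (b * y * b⁻¹) * b := by rw [h1]
      _ = y := by group
  rw [h0, Finset.card_empty, Nat.cast_zero] at h
  have h2 := (mul_eq_zero.1 h.symm).resolve_left hG
  rw [← h2]
  refine Finset.sum_congr rfl fun χ _ => ?_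
  have := IsIrrCharacter.apply_one_ne_zero χ.2
  rw [inv_one]
  field_simp

/-- Irreducible characters separate conjugacy classes. -/
theorem isConj_of_forall_irr_eq (s : Finset (Cfsg.IrrCharacter G))
    (hs : ∀ g : G, ∑ χ ∈ s, (χ : G → ℂ) 1 * (χ : G → ℂ) g =
      if g = 1 then (Fintype.card G : ℂ) else 0) (x y : G)
    (h : ∀ χ ∈ s, (χ : G → ℂ) x = (χ : G → ℂ) y) : IsConj x y := by
  by_contra hxy
  have h1 := sum_char_mul_char_inv_eq_zero s hs x y hxy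
  have h2 := sum_char_mul_char_inv_eq_card_centralizer s hs y
  have h3 : ∑ χ ∈ s, (χ : G → ℂ) x * (χ : G → ℂ) y⁻¹ =
      ∑ χ ∈ s, (χ : G → ℂ) y * (χ : G → ℂ) y⁻¹ :=
    Finset.sum_congr rfl fun χ hχ => by rw [h χ hχ]
  rw [h3, h2] at h1
  have : Nat.card (Subgroup.centralizer ({y} : Set G)) ≠ 0 := Nat.card_pos.ne'
  exact this (by exact_mod_cast h1)

end ClassConst

end Cfsg.Agent.Lib.Helper82
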