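import Mathlib
import Cfsg.Prelude.Def_Blocks
import Cfsg.Agent.Lib.Helper82.ClassConst

set_option autoImplicit false
set_option linter.style.haveILetI false

namespace Cfsg.Agent.Lib.Helper82

open Representation

/-- The sum of a character over a subgroup is the order of the subgroup times a natural number. -/
theorem IsCharacter.sum_subgroup {G : Type*} [Group G] {χ : G → ℂ} (h : Cfsg.IsCharacter G χ)
    (P : Subgroup G) [Fintype P] : ∃ m : ℕ, ∑ u : P, χ u = (Fintype.card P : ℂ) * m := by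
  obtain ⟨n, ρ, rfl⟩ := h
  have hne : (Nat.card P : ℂ) ≠ 0 := by
    rw [Nat.card_eq_fintype_card]; exact_mod_cast Fintype.card_ne_zero
  haveI : Invertible (Nat.card P : ℂ) := invertibleOfNonzero hne
  have h1 := card_inv_mul_sum_char_eq_finrank (ρ.comp P.subtype)
  refine ⟨Module.finrank ℂ ↥(invariants (ρ.comp P.subtype)), ?_⟩
  rw [← h1, ← Nat.card_eq_fintype_card, mul_inv_cancel_left₀ hne]
  rfl

/-- A divisor `n` of `N` whose `p`-part is at most `p ^ e` divides `p ^ e * (p'-part of N)`. -/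
theorem dvd_pow_mul_ordCompl {p n N e : ℕ} (hN : N ≠ 0) (hn : n ∣ N)
    (he : ¬ p ^ (e + 1) ∣ n) : n ∣ p ^ e * (N / p ^ N.factorization p) := by
  have hn0 : n ≠ 0 := fun h => hN (by rw [h] at hn; exact Nat.eq_zero_of_zero_dvd hn)
  have h1 : n.factorization p ≤ e := by
    by_contra hlt
    rw [not_le] at hlt
    exact he ((Nat.pow_dvd_pow p hlt).trans (Nat.ordProj_dvd n p))
  have h2 : n / p ^ n.factorization p ∣ N / p ^ N.factorization p :=
    Nat.ordCompl_dvd_ordCompl_of_dvd hn p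
  calc n = p ^ n.factorization p * (n / p ^ n.factorization p) :=
        (Nat.ordProj_mul_ordCompl_eq_self n p).symm
    _ ∣ p ^ e * (N / p ^ N.factorization p) := Nat.mul_dvd_mul (Nat.pow_dvd_pow p h1) h2

/-- Counting lemma (Brauer--Fowler type).  If no product of a conjugate of `x` with a conjugate of
`x⁻¹` is a non-identity element of the subgroup `P` of order `p ^ c`, and no irreducible character
degree is divisible by `p ^ (e + 1)`, then `p ^ (c - e)` divides the order of `C_G(x)`. -/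
theorem pow_dvd_card_centralizer {G : Type*} [Group G] [Fintype G] (hreg : RegularDecomp G)
    (p : ℕ) [hp : Fact p.Prime] (P : Subgroup G) (c : ℕ) (hP : Nat.card P = p ^ c) (x : G)
    (hno : ∀ u ∈ P, u ≠ 1 → ∀ a b : G, a * x * a⁻¹ * (b * x⁻¹ * b⁻¹) ≠ u) (e : ℕ)
    (he : ∀ χ : Cfsg.IrrCharacter G, ¬ p ^ (e + 1) ∣ Cfsg.charDegree (χ : G → ℂ)) :
    p ^ (c - e) ∣ Nat.card (Subgroup.centralizer ({x} : Set G)) := by
  classical
  rcases le_or_gt c e with hce | hce
  · rw [Nat.sub_eq_zero_of_le hce, pow_zero]; exact one_dvd _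
  obtain ⟨s, hall, h1, h2⟩ := hreg
  have hs := RegularDecomp.ite_form h1 h2
  haveI : Fintype P := Fintype.ofFinite P
  have hPc : (Fintype.card P : ℂ) = (p : ℂ) ^ c := by
    rw [← Nat.card_eq_fintype_card, hP]; push_cast; rfl
  -- Step 1: vanishing for non-identity elements of `P`
  have step1 : ∀ u : G, u ∈ P → u ≠ 1 →
      ∑ χ ∈ s, (χ : G → ℂ) x * (χ : G → ℂ) x⁻¹ * (χ : G → ℂ) u⁻¹ / (χ : G → ℂ) 1 = 0 := by
    intro u hu hu1
    have hG : (Fintype.card G : ℂ) ≠ 0 := by exact_mod_cast Fintype.card_ne_zero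
    have h := card_conj_mul_conj_eq s hs x x⁻¹ u
    have h0 : (Finset.univ.filter fun ab : G × G =>
        (ab.1 * x * ab.1⁻¹) * (ab.2 * x⁻¹ * ab.2⁻¹) = u) = ∅ := by
      rw [Finset.filter_eq_empty_iff]
      rintro ⟨a, b⟩ _ hab
      exact hno u hu hu1 a b hab
    rw [h0, Finset.card_empty, Nat.cast_zero] at h
    exact (mul_eq_zero.1 h.symm).resolve_left hG
  -- Step 2: summing over `P`
  have step2 : ∑ u : P, ∑ χ ∈ s,
      (χ : G → ℂ) x * (χ : G → ℂ) x⁻¹ * (χ : G → ℂ) (u : G)⁻¹ / (χ : G → ℂ) 1 =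
      (Nat.card (Subgroup.centralizer ({x} : Set G)) : ℂ) := by
    rw [Finset.sum_eq_single (1 : P)]
    · rw [← sum_char_mul_char_inv_eq_card_centralizer s hs x]
      refine Finset.sum_congr rfl fun χ _ => ?_
      have := IsIrrCharacter.apply_one_ne_zero χ.2
      simp only [OneMemClass.coe_one, inv_one]
      field_simp
    · intro u _ hu
      exact step1 u u.2 (fun h => hu (Subtype.ext h))
    · intro h; exact absurd (Finset.mem_univ _) h
  rw [Finset.sum_comm] at step2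
  -- the multiplicities
  have hm : ∀ χ : Cfsg.IrrCharacter G, ∃ m : ℕ,
      ∑ u : P, (χ : G → ℂ) (u : G)⁻¹ = (p : ℂ) ^ c * m := by
    intro χ
    obtain ⟨m, hm⟩ := IsCharacter.sum_subgroup (IsIrrCharacter.isCharacter χ.2) P
    refine ⟨m, ?_⟩
    rw [← hPc, ← hm]
    exact Equiv.sum_comp (Equiv.inv P) (fun u : P => (χ : G → ℂ) (u : G))
  choose m hm using hm
  -- the degrees
  have hN : Nat.card G ≠ 0 := Nat.card_pos.ne'
  set D : ℕ := Nat.card G / p ^ (Nat.card G).factorization p with hD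
  have hk : ∀ χ : Cfsg.IrrCharacter G, ∃ k : ℕ,
      p ^ e * D = Cfsg.charDegree (χ : G → ℂ) * k := by
    intro χ
    exact dvd_pow_mul_ordCompl hN (IsIrrCharacter.charDegree_dvd_card χ.2) (he χ)
  choose k hk using hk
  -- the main identity
  have main : (D : ℂ) * (Nat.card (Subgroup.centralizer ({x} : Set G)) : ℂ) =
      (p : ℂ) ^ (c - e) * ∑ χ ∈ s,
        (χ : G → ℂ) x * (χ : G → ℂ) x⁻¹ * (m χ : ℂ) * (k χ : ℂ) := by
    rw [← step2, Finset.mul_sum, Finset.mul_sum]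
    refine Finset.sum_congr rfl fun χ _ => ?_
    have hne := IsIrrCharacter.apply_one_ne_zero χ.2
    have hdeg := IsCharacter.charDegree_cast (IsIrrCharacter.isCharacter χ.2)
    have hk' : (p : ℂ) ^ e * (D : ℂ) = (χ : G → ℂ) 1 * (k χ : ℂ) := by
      rw [← hdeg]; exact_mod_cast hk χ
    have hpow : (p : ℂ) ^ c = (p : ℂ) ^ (c - e) * (p : ℂ) ^ e := by
      rw [← pow_add, Nat.sub_add_cancel hce.le]
    simp_rw [mul_div_assoc, ← Finset.mul_sum]
    simp_rw [div_eq_mul_inv, ← Finset.sum_mul]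
    rw [hm χ, hpow]
    field_simp
    linear_combination ((p : ℂ) ^ (c - e) * (χ : G → ℂ) x * (χ : G → ℂ) x⁻¹ * (m χ : ℂ)) * hk'
  -- integrality
  have hint : IsIntegral ℤ (∑ χ ∈ s,
      (χ : G → ℂ) x * (χ : G → ℂ) x⁻¹ * (m χ : ℂ) * (k χ : ℂ)) := by
    refine IsIntegral.sum _ fun χ _ => ?_
    have hc := IsIrrCharacter.isCharacter χ.2
    have hnat : ∀ n : ℕ, IsIntegral ℤ (n : ℂ) := fun n => by
      have := isIntegral_algebraMap (R := ℤ) (A := ℂ) (x := (n : ℤ))
      simpa using this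
    exact (((IsCharacter.isIntegral hc x).mul (IsCharacter.isIntegral hc x⁻¹)).mul
      (hnat _)).mul (hnat _)
  have hp0 : (p : ℂ) ^ (c - e) ≠ 0 := pow_ne_zero _ (by exact_mod_cast hp.out.ne_zero)
  have hA : (∑ χ ∈ s, (χ : G → ℂ) x * (χ : G → ℂ) x⁻¹ * (m χ : ℂ) * (k χ : ℂ)) =
      (((D * Nat.card (Subgroup.centralizer ({x} : Set G)) : ℕ) : ℚ) / ((p ^ (c - e) : ℕ) : ℚ) : ℚ) := by
    push_cast
    rw [eq_div_iff hp0, mul_comm, ← main]
  rw [hA] at hint
  obtain ⟨z, hz⟩ := exists_int_of_isIntegral_ratCast hint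
  have hp0' : ((p ^ (c - e) : ℕ) : ℚ) ≠ 0 := by
    exact_mod_cast pow_ne_zero _ hp.out.ne_zero
  rw [div_eq_iff hp0'] at hz
  have hz' : ((D * Nat.card (Subgroup.centralizer ({x} : Set G)) : ℕ) : ℤ) =
      z * ((p ^ (c - e) : ℕ) : ℤ) := by exact_mod_cast hz
  have hdvd : (p ^ (c - e) : ℕ) ∣ D * Nat.card (Subgroup.centralizer ({x} : Set G)) := by
    have : ((p ^ (c - e) : ℕ) : ℤ) ∣
        ((D * Nat.card (Subgroup.centralizer ({x} : Set G)) : ℕ) : ℤ) := ⟨z, by rw [hz', mul_comm]⟩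
    exact_mod_cast this
  have hcop : Nat.Coprime (p ^ (c - e)) D :=
    Nat.Coprime.pow_left _ (Nat.coprime_ordCompl hp.out hN)
  exact hcop.dvd_of_dvd_mul_left hdvd

end Cfsg.Agent.Lib.Helper82
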