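import Mathlib

set_option autoImplicit false
set_option linter.style.haveILetI false
set_option linter.unusedSectionVars false

/-!
# Green-type vanishing by a diagonal twist

`E` an idempotent matrix over a ring `R` (think: the local ring at a maximal ideal `M` above `p`)
commuting with a permutation matrix `P`.  If all `P`-orbits outside a `P`-stable set `X₀` have
length divisible by `p` and the `X₀ × X₀` block of `E` vanishes modulo `M`, then `tr (P E) = 0`.

Proof: twist by the diagonal matrix `D` with entries `ω ^ j a` (`ω` a primitive `p`-th root of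
unity, `j (π a) = j a + 1`); `T = 1 - E + E D E` is invertible (it is unipotent modulo `M`) and
`T (P E) = ω (P E) T`, so `tr (P E) = ω tr (P E)`.
-/

namespace Cfsg.Agent.Lib.Helper82

section Abstract

variable {X : Type*} [Fintype X] [DecidableEq X]
variable {R K k : Type*} [CommRing R] [Field K] [Field k]

/-- Abstract twist lemma. -/
theorem trace_mul_eq_zero_of_twist
    (φ : R →+* K) (hφ : Function.Injective φ) (ψ : R →+* k)
    {ω : R} (hω : ω ≠ 1)
    {P E D : Matrix X X R} (hE : E * E = E) (hPE : P * E = E * P)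
    (hDP : D * P = ω • (P * D))
    (hdet : ((1 - E + E * D * E).map ψ).det ≠ 0) :
    (P * E).trace = 0 := by
  set T : Matrix X X R := 1 - E + E * D * E with hT
  have hTE : T * E = E * D * E := by
    rw [hT, add_mul, sub_mul, one_mul, hE, sub_self, zero_add, Matrix.mul_assoc, hE]
  have hET : E * T = E * D * E := by
    rw [hT, mul_add, mul_sub, mul_one, hE, sub_self, zero_add, ← Matrix.mul_assoc,
      ← Matrix.mul_assoc, hE]
  have key : T * (P * E) = ω • ((P * E) * T) := by
    have h1 : T * (P * E) = E * (D * P) * E := by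
      rw [hPE, ← Matrix.mul_assoc, hTE, Matrix.mul_assoc, Matrix.mul_assoc, ← hPE]
      simp only [Matrix.mul_assoc]
    have h2 : (P * E) * T = E * (P * D) * E := by
      rw [Matrix.mul_assoc, hET, ← Matrix.mul_assoc, ← Matrix.mul_assoc, hPE]
      simp only [Matrix.mul_assoc]
    rw [h1, h2, hDP, Matrix.mul_smul, Matrix.smul_mul]
  have hdetT : T.det ≠ 0 := by
    intro h0
    apply hdet
    have : (T.map ψ).det = ψ T.det := (RingHom.map_det ψ T).symm
    rw [this, h0, map_zero]
  set Tk : Matrix X X K := T.map φ with hTk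
  set A : Matrix X X K := (P * E).map φ with hA
  have hdetTk : Tk.det ≠ 0 := by
    have : Tk.det = φ T.det := (RingHom.map_det φ T).symm
    rw [this]
    intro h0
    exact hdetT (hφ (by rw [h0, map_zero]))
  have hunit : IsUnit Tk.det := isUnit_iff_ne_zero.2 hdetTk
  have keyK : Tk * A = φ ω • (A * Tk) := by
    have h0 : (T * (P * E)).map φ = (ω • ((P * E) * T)).map φ := by rw [key]
    rw [Matrix.map_mul, Matrix.map_smul' _ _ _ (map_mul φ), Matrix.map_mul (L := P * E)] at h0
    exact h0
  have htr : A.trace = φ ω * A.trace := by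
    have h1 : A = Tk⁻¹ * (Tk * A) := by
      rw [← Matrix.mul_assoc, Matrix.nonsing_inv_mul _ hunit, Matrix.one_mul]
    calc A.trace = (Tk⁻¹ * (Tk * A)).trace := by rw [← h1]
      _ = (Tk⁻¹ * (φ ω • (A * Tk))).trace := by rw [keyK]
      _ = φ ω * (Tk⁻¹ * (A * Tk)).trace := by
          rw [Matrix.mul_smul, Matrix.trace_smul, smul_eq_mul]
      _ = φ ω * ((A * Tk) * Tk⁻¹).trace := by rw [Matrix.trace_mul_comm]
      _ = φ ω * A.trace := by
          rw [Matrix.mul_assoc, Matrix.mul_nonsing_inv _ hunit, Matrix.mul_one]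
  have hω' : φ ω ≠ 1 := fun h => hω (hφ (by rw [h, map_one]))
  have hA0 : A.trace = 0 := by
    have h2 : (1 - φ ω) * A.trace = 0 := by rw [sub_mul, one_mul, ← htr, sub_self]
    rcases mul_eq_zero.1 h2 with h3 | h3
    · exact absurd (sub_eq_zero.1 h3).symm hω'
    · exact h3
  have h4 : φ (P * E).trace = A.trace := AddMonoidHom.map_trace φ.toAddMonoidHom (P * E)
  exact hφ (by rw [h4, hA0, map_zero])

end Abstract

section TwistFun

variable {X : Type*} [Fintype X] [DecidableEq X]

/-- If all orbits of `π` through points outside `X₀` have length divisible by `p`, there is a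
function `j` with `j (π a) ≡ j a + 1 (mod p)` outside `X₀`. -/
theorem exists_twist_fun (π : Equiv.Perm X) (p : ℕ) (X₀ : Set X)
    (hπ : ∀ a, a ∉ X₀ → ∀ t : ℕ, (π ^ t) a = a → p ∣ t) :
    ∃ j : X → ℕ, ∀ a, a ∉ X₀ → j (π a) ≡ j a + 1 [MOD p] := by
  classical
  set s := Equiv.Perm.SameCycle.setoid π with hs
  set r : X → X := fun a => (Quotient.mk s a).out with hr
  have hra : ∀ a, ∃ i : ℕ, (π ^ i) (r a) = a := by
    intro a
    have h1 : s.r (r a) a := Quotient.mk_out (s := s) a
    exact Equiv.Perm.SameCycle.exists_nat_pow_eq h1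
  choose t ht using hra
  refine ⟨t, fun a ha => ?_⟩
  have hrπ : r (π a) = r a := by
    rw [hr]
    simp only
    congr 1
    apply Quotient.sound
    show Equiv.Perm.SameCycle π (π a) a
    exact Equiv.Perm.sameCycle_apply_left.2 (Equiv.Perm.SameCycle.refl π a)
  -- `π ^ t (π a) (r a) = π a = π ^ (t a + 1) (r a)`
  have h1 : (π ^ t (π a)) (r a) = (π ^ (t a + 1)) (r a) := by
    have := ht (π a)
    rw [hrπ] at this
    rw [this, pow_succ', Equiv.Perm.mul_apply, ht a]
  -- stabilizer property at `r a`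
  have hstab : ∀ n : ℕ, (π ^ n) (r a) = r a → p ∣ n := by
    intro n hn
    apply hπ a ha n
    have h2 : (π ^ n) ((π ^ t a) (r a)) = (π ^ t a) (r a) := by
      rw [← Equiv.Perm.mul_apply, ← pow_add, add_comm, pow_add, Equiv.Perm.mul_apply, hn]
    rwa [ht a] at h2
  rcases le_total (t (π a)) (t a + 1) with hle | hle
  · obtain ⟨d, hd⟩ := Nat.exists_eq_add_of_le hle
    have h3 : (π ^ d) (r a) = r a := by
      have h4 : (π ^ t (π a)) ((π ^ d) (r a)) = (π ^ t (π a)) (r a) := by
        rw [← Equiv.Perm.mul_apply, ← pow_add, ← hd, ← h1]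
      exact (π ^ t (π a)).injective h4
    have h5 := hstab d h3
    rw [hd]
    exact ((Nat.modEq_iff_dvd' (Nat.le_add_right _ _)).2 (by simpa using h5))
  · obtain ⟨d, hd⟩ := Nat.exists_eq_add_of_le hle
    have h3 : (π ^ d) (r a) = r a := by
      have h4 : (π ^ (t a + 1)) ((π ^ d) (r a)) = (π ^ (t a + 1)) (r a) := by
        rw [← Equiv.Perm.mul_apply, ← pow_add, ← hd, h1]
      exact (π ^ (t a + 1)).injective h4
    have h5 := hstab d h3
    rw [hd]
    exact ((Nat.modEq_iff_dvd' (Nat.le_add_right _ _)).2 (by simpa using h5)).symm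

end TwistFun

section Perm

variable {X : Type*} [Fintype X] [DecidableEq X]
variable {R K k : Type*} [CommRing R] [Field K] [Field k]

/-- **Green-type vanishing**, permutation form.  `P` is the permutation matrix of `π`, `E` an
idempotent commuting with `P`; every `π`-orbit outside the `π`-stable set `X₀` has length divisible
by `p`; the `X₀ × X₀` block of `E` vanishes under `ψ`.  Then `tr (P E) = 0`. -/
theorem trace_perm_mul_eq_zero
    (φ : R →+* K) (hφ : Function.Injective φ) (ψ : R →+* k)
    {p : ℕ} {ω : R} (hωp : ω ^ p = 1) (hω1 : ω ≠ 1) (hωψ : ψ ω = 1)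
    (π : Equiv.Perm X) (X₀ : Set X) (hX₀ : ∀ a, π a ∈ X₀ ↔ a ∈ X₀)
    (hπ : ∀ a, a ∉ X₀ → ∀ t : ℕ, (π ^ t) a = a → p ∣ t)
    {P E : Matrix X X R} (hP : ∀ a b, P a b = if a = π b then 1 else 0)
    (hE : E * E = E) (hPE : P * E = E * P)
    (hE₀ : ∀ a ∈ X₀, ∀ b ∈ X₀, ψ (E a b) = 0) :
    (P * E).trace = 0 := by
  classical
  obtain ⟨j, hj⟩ := exists_twist_fun π p X₀ hπ
  set d : X → R := fun a => if a ∈ X₀ then 0 else ω ^ j a with hd
  set D : Matrix X X R := Matrix.diagonal d with hD
  have hpow : ∀ a, a ∉ X₀ → ω ^ j (π a) = ω * ω ^ j a := by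
    intro a ha
    have h1 : j (π a) % p = (j a + 1) % p := hj a ha
    rw [pow_eq_pow_mod (j (π a)) hωp, h1, ← pow_eq_pow_mod (j a + 1) hωp, pow_succ']
  have hDP : D * P = ω • (P * D) := by
    ext a b
    rw [hD, Matrix.diagonal_mul, Matrix.smul_apply, Matrix.mul_diagonal, hP, smul_eq_mul]
    by_cases hab : a = π b
    · subst hab
      rw [if_pos rfl, mul_one, one_mul, hd]
      simp only
      by_cases hb : b ∈ X₀
      · rw [if_pos hb, if_pos ((hX₀ b).2 hb), mul_zero]
      · rw [if_neg hb, if_neg (fun h => hb ((hX₀ b).1 h)), hpow b hb]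
    · rw [if_neg hab, mul_zero, zero_mul, mul_zero]
  refine trace_mul_eq_zero_of_twist φ hφ ψ hω1 hE hPE hDP ?_
  -- invertibility modulo `ψ`
  set Eb : Matrix X X k := E.map ψ with hEb
  set Δ : Matrix X X k := Matrix.diagonal (fun a => if a ∈ X₀ then (1 : k) else 0) with hΔ
  have hEbEb : Eb * Eb = Eb := by rw [hEb, ← Matrix.map_mul, hE]
  have hDmap : D.map ψ = 1 - Δ := by
    ext a b
    rw [hD, hΔ, Matrix.map_apply, Matrix.sub_apply]
    by_cases hab : a = b
    · subst hab
      rw [Matrix.diagonal_apply_eq, Matrix.diagonal_apply_eq, Matrix.one_apply_eq, hd]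
      simp only
      by_cases ha : a ∈ X₀
      · rw [if_pos ha, if_pos ha, map_zero, sub_self]
      · rw [if_neg ha, if_neg ha, map_pow, hωψ, one_pow, sub_zero]
    · rw [Matrix.diagonal_apply_ne _ hab, Matrix.diagonal_apply_ne _ hab, Matrix.one_apply_ne hab,
        map_zero, sub_zero]
  have hΔEΔ : Δ * Eb * Δ = 0 := by
    ext a b
    rw [hΔ, Matrix.mul_diagonal, Matrix.diagonal_mul, Matrix.zero_apply, hEb, Matrix.map_apply]
    by_cases ha : a ∈ X₀
    · by_cases hb : b ∈ X₀
      · rw [hE₀ a ha b hb, mul_zero, zero_mul]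
      · rw [if_neg hb, mul_zero]
    · rw [if_neg ha, zero_mul, zero_mul]
  set N : Matrix X X k := Eb * Δ * Eb with hN
  have hNN : N * N = 0 := by
    have : N * N = Eb * (Δ * (Eb * Eb) * Δ) * Eb := by
      rw [hN]; simp only [Matrix.mul_assoc]
    rw [this, hEbEb, hΔEΔ, Matrix.mul_zero, Matrix.zero_mul]
  have hTmap : (1 - E + E * D * E).map ψ = 1 - N := by
    have h1 : (1 - E + E * D * E).map ψ = 1 - Eb + Eb * (D.map ψ) * Eb := by
      show ψ.mapMatrix (1 - E + E * D * E) = _
      rw [map_add, map_sub, map_mul, map_mul, map_one]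
      rfl
    rw [h1, hDmap, hN, Matrix.mul_sub, Matrix.sub_mul, Matrix.mul_one, hEbEb]
    abel
  rw [hTmap]
  have h2 : (1 - N) * (1 + N) = 1 := by
    rw [Matrix.mul_add, Matrix.mul_one, Matrix.sub_mul, Matrix.one_mul, hNN]
    abel
  intro h0
  have h3 := congrArg Matrix.det h2
  rw [Matrix.det_mul, h0, zero_mul, Matrix.det_one] at h3
  exact zero_ne_one h3

end Perm

end Cfsg.Agent.Lib.Helper82
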