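import Mathlib
import Cfsg.Prelude.Def_Blocks
import Cfsg.Agent.Lib.Helper82.ResidueField
import Cfsg.Agent.Lib.Helper82.TwistTrace
import Cfsg.Agent.Lib.Helper82.GroupMatrices
import Cfsg.Agent.Lib.Helper82.WeakOrth
import Cfsg.Agent.Lib.Helper82.PDecomp
import Cfsg.Agent.Lib.Helper21.OsimaApps

set_option autoImplicit false
set_option linter.style.haveILetI false
set_option linter.unusedSectionVars false

/-!
# Full block orthogonality

`∑_{χ ∈ B} χ(g) χ(h⁻¹) = 0` when the `p`-parts of `g` and `h` are not conjugate.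
-/

namespace Cfsg.Agent.Lib.Helper82

open Cfsg
open scoped ComplexConjugate

section PParts

variable {G : Type*} [Group G]

/-- If `a⁻¹ g^t a = h^t` with `p ∤ t`, then `a⁻¹` conjugates the `p`-part of `g` to that of `h`. -/
theorem conj_ppart_of_conj_pow {p : ℕ} (hp : p.Prime) {g h x y a : G} {t : ℕ}
    (hx : IsPPart p g x) (hy : IsPPart p h y) (ht : ¬ p ∣ t)
    (hfix : a⁻¹ * g ^ t * a = h ^ t) : a⁻¹ * x * a = y := by
  obtain ⟨s, hxs, hcs, ⟨k1, hk1⟩, hs⟩ := hx
  obtain ⟨s', hys, hcs', ⟨k2, hk2⟩, hs'⟩ := hy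
  by_cases hQ : k1 + k2 = 0
  · have h1 : k1 = 0 := by omega
    have h2 : k2 = 0 := by omega
    rw [h1, pow_zero, orderOf_eq_one_iff] at hk1
    rw [h2, pow_zero, orderOf_eq_one_iff] at hk2
    rw [hk1, hk2]
    group
  set m := orderOf s * orderOf s' with hm
  set Q := p ^ (k1 + k2) with hQdef
  have hQ1 : 1 < Q := Nat.one_lt_pow hQ hp.one_lt
  have hpm : ¬ p ∣ t * m := by
    intro h
    rcases (Nat.Prime.dvd_mul hp).1 h with h1 | h1
    · exact ht h1
    · rcases (Nat.Prime.dvd_mul hp).1 h1 with h2 | h2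
      · exact hs h2
      · exact hs' h2
  have hcop : Nat.Coprime (t * m) Q :=
    Nat.Coprime.pow_right _ ((Nat.Prime.coprime_iff_not_dvd hp).2 hpm).symm
  obtain ⟨c, -, hc⟩ := Nat.exists_mul_mod_eq_one_of_coprime hcop hQ1
  set n := m * c with hn
  have htn : t * n = t * m * c := by simp only [hn, hm]; ring
  have hxQ : x ^ Q = 1 := by
    rw [hQdef, pow_add, pow_mul, ← hk1, pow_orderOf_eq_one, one_pow]
  have hyQ : y ^ Q = 1 := by
    rw [hQdef, pow_add, mul_comm, pow_mul, ← hk2, pow_orderOf_eq_one, one_pow]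
  have hsN : s ^ (t * n) = 1 := by
    have : t * n = orderOf s * (orderOf s' * c * t) := by rw [hn, hm]; ring
    rw [this, pow_mul, pow_orderOf_eq_one, one_pow]
  have hs'N : s' ^ (t * n) = 1 := by
    have : t * n = orderOf s' * (orderOf s * c * t) := by rw [hn, hm]; ring
    rw [this, pow_mul, pow_orderOf_eq_one, one_pow]
  have hgN : g ^ (t * n) = x := by
    rw [← hxs, hcs.mul_pow, hsN, mul_one, pow_eq_pow_mod (t * n) hxQ, htn, hc, pow_one]
  have hhN : h ^ (t * n) = y := by
    rw [← hys, hcs'.mul_pow, hs'N, mul_one, pow_eq_pow_mod (t * n) hyQ, htn, hc, pow_one]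
  have hconj : a⁻¹ * g ^ (t * n) * a = h ^ (t * n) := by
    rw [pow_mul, pow_mul h, ← hfix]
    have := conj_pow (a := a⁻¹) (b := g ^ t) (i := n)
    rw [inv_inv] at this
    exact this.symm
  rw [hgN, hhN] at hconj
  exact hconj

/-- Every element of finite order has a `p`-part. -/
theorem exists_isPPart {p : ℕ} (hp : p.Prime) (g : G) (hfin : 0 < orderOf g) :
    ∃ w : G, IsPPart p g w := by
  by_cases hg : p ∣ orderOf g
  · obtain ⟨n, m, u, s, _, hpm, hm, hsu, hcomm, hordu, hsm⟩ :=
      exists_p_decomposition hp g hg hfin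
    refine ⟨u, s, ?_, hcomm, ⟨n, hordu⟩, ?_⟩
    · rw [hcomm.eq, hsu]
    · intro h
      exact hpm (h.trans (orderOf_dvd_of_pow_eq_one hsm))
  · exact ⟨1, g, one_mul g, Commute.one_left g, ⟨0, by rw [orderOf_one, pow_zero]⟩, hg⟩

end PParts

section FullOrth

universe u
variable {G : Type u} [Group G] [Fintype G]

open Cfsg.Agent.Lib.Helper21 Cfsg.Agent.Lib.Helper83

/-- The permutation `a ↦ g * a * h` of `G`. -/
def twoSidedPerm (g h : G) : Equiv.Perm G := (Equiv.mulLeft g).trans (Equiv.mulRight h)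

theorem twoSidedPerm_apply (g h a : G) : twoSidedPerm g h a = g * a * h := rfl

theorem twoSidedPerm_pow_apply (g h a : G) (t : ℕ) :
    (twoSidedPerm g h ^ t) a = g ^ t * a * h ^ t := by
  induction t generalizing a with
  | zero => simp
  | succ t ih =>
    rw [pow_succ, Equiv.Perm.mul_apply, ih, twoSidedPerm_apply, pow_succ, pow_succ']
    simp only [mul_assoc]

/-- **Block orthogonality**, multiplicative form: if the `p`-parts of `g` and `h⁻¹` are not
conjugate then `∑_{χ ∈ B} χ(g) χ(h) = 0`. -/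
theorem sum_block_mul_eq_zero_of_not_isConj {p : ℕ} {M : Ideal AlgInt} (hMp : IsPModular p M)
    (χ₀ : IrrCharacter G) (g h x y : G) (hx : IsPPart p g x) (hy : IsPPart p h⁻¹ y)
    (hxy : ¬ IsConj x y) :
    ∑ᶠ χ ∈ blockOf M (χ₀ : G → ℂ), (χ : G → ℂ) g * (χ : G → ℂ) h = 0 := by
  classical
  haveI : Fintype (IrrCharacter G) := Fintype.ofFinite _
  have hM : M.IsPrime := hMp.2.1.isPrime
  have hp : p.Prime := hMp.1
  set Bl := blockOf M (χ₀ : G → ℂ) with hBl
  set φ : localSubring M hM →+* ℂ := (localSubring M hM).subtype with hφdef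
  have hφ : Function.Injective φ := Subtype.coe_injective
  set ψ := residueMap M hM with hψdef
  set e : G → localSubring M hM :=
    fun g => ⟨blockCoeff Bl g, memLocalRing_blockCoeff_blockOf hM χ₀ g⟩ with he
  have he_coe : ∀ g, ((e g : localSubring M hM) : ℂ) = blockCoeff Bl g := fun g => rfl
  have hclass : ∀ g z : G, e (z * g * z⁻¹) = e g := by
    intro g z
    apply Subtype.ext
    exact blockCoeff_isClassFunction Bl g z
  have hE : lmat e * lmat e = lmat e := by
    rw [lmat_mul]
    congr 1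
    funext z
    apply Subtype.ext
    rw [he_coe, ← conv_blockCoeff_self Bl z]
    simp only [conv]
    push_cast
    refine Fintype.sum_equiv ((Equiv.inv G).trans (Equiv.mulLeft z)) _ _ (fun k => ?_)
    simp only [Equiv.trans_apply, Equiv.inv_apply, Equiv.coe_mulLeft, he_coe]
    congr 2
    group
  -- the root of unity
  have hp0 : 0 < p := hp.pos
  have hζprim : IsPrimitiveRoot (Complex.exp (2 * Real.pi * Complex.I / p)) p :=
    Complex.isPrimitiveRoot_exp p hp0.ne'
  set ζc : ℂ := Complex.exp (2 * Real.pi * Complex.I / p) with hζc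
  have hζcp : ζc ^ p = 1 := hζprim.pow_eq_one
  set ω : localSubring M hM := ⟨ζc, memLocalRing_of_pow_eq_one hM hp0 hζcp⟩ with hω
  have hωp : ω ^ p = 1 := by
    apply Subtype.ext
    push_cast
    exact hζcp
  have hω1 : ω ≠ 1 := by
    intro h
    have h1 : ζc = 1 := congrArg Subtype.val h
    exact hζprim.ne_one hp.one_lt h1
  have hωψ : ψ ω = 1 := by
    apply residueMap_eq_one_of_pow_eq_one hMp ω 1
    rw [pow_one]
    exact hωp
  -- the permutation
  set π := twoSidedPerm g h with hπ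
  have hP : ∀ a b : G, (pmat g h : Matrix G G (localSubring M hM)) a b =
      if a = π b then 1 else 0 := fun a b => rfl
  have hPE : (pmat g h : Matrix G G (localSubring M hM)) * lmat e = lmat e * pmat g h :=
    pmat_mul_lmat_comm g h hclass
  have horb : ∀ a, a ∉ (∅ : Set G) → ∀ t : ℕ, (π ^ t) a = a → p ∣ t := by
    intro a _ t hfix
    by_contra hpt
    rw [hπ, twoSidedPerm_pow_apply] at hfix
    have h1 : a⁻¹ * g ^ t * a = h⁻¹ ^ t := by
      rw [inv_pow]
      have : g ^ t * a = a * (h ^ t)⁻¹ := by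
        nth_rewrite 2 [← hfix]
        simp only [mul_assoc, mul_inv_cancel, mul_one]
      rw [mul_assoc, this, ← mul_assoc, inv_mul_cancel, one_mul]
    have h2 := conj_ppart_of_conj_pow hp hx hy hpt h1
    apply hxy
    rw [isConj_iff]
    exact ⟨a⁻¹, by rw [inv_inv]; exact h2⟩
  have key := trace_perm_mul_eq_zero φ hφ ψ hωp hω1 hωψ π ∅ (fun a => Iff.rfl) horb hP hE hPE
    (fun a ha => absurd ha (Set.notMem_empty a))
  rw [trace_pmat_mul_lmat] at key
  have key2 := congrArg φ key
  rw [map_sum, map_zero] at key2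
  rw [← sum_blockCoeff_twisted Bl g h]
  exact key2

end FullOrth

end Cfsg.Agent.Lib.Helper82
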