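import Mathlib
import Cfsg.Prelude.Def_Blocks
import Cfsg.Agent.Lib.Helper82.BlockOrthFull
import Cfsg.Agent.Lib.Helper82.BlockOrth
import Cfsg.Agent.Lib.Helper21.InducedBlock

set_option autoImplicit false
set_option linter.style.haveILetI false
set_option linter.unusedSectionVars false

/-!
# Characters vanish off the sections of defect groups (Green-type vanishing for blocks)
-/

namespace Cfsg.Agent.Lib.Helper82

open Cfsg
open scoped ComplexConjugate

section PParts

variable {G : Type*} [Group G]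

theorem isPPart_inv {p : ℕ} {h y : G} (hy : IsPPart p h y) : IsPPart p h⁻¹ y⁻¹ := by
  obtain ⟨s, hys, hc, ⟨k, hk⟩, hs⟩ := hy
  refine ⟨s⁻¹, ?_, hc.inv_inv, ⟨k, by rw [orderOf_inv, hk]⟩, by rwa [orderOf_inv]⟩
  rw [← hys, hc.eq, mul_inv_rev]

theorem isPPart_commute {p : ℕ} {g x : G} (hx : IsPPart p g x) : Commute x g := by
  obtain ⟨s, hxs, hc, _, _⟩ := hx
  rw [← hxs]
  exact (Commute.refl x).mul_right hc

end PParts

section Vanish

universe u
variable {G : Type u} [Group G] [Fintype G]

open Cfsg.Agent.Lib.Helper21 Cfsg.Agent.Lib.Helper83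

/-- If the block idempotent of `B` has all coefficients on `C_G(x)` in the local ideal, where `x`
is the `p`-part of `g`, then `∑_{χ ∈ B} χ(g) χ(h) = 0` for every `h`. -/
theorem sum_block_mul_eq_zero_of_coeff {p : ℕ} {M : Ideal AlgInt} (hMp : IsPModular p M)
    (χ₀ : IrrCharacter G) (g x : G) (hx : IsPPart p g x)
    (hC : ∀ c ∈ Subgroup.centralizer ({x} : Set G),
      MemLocalIdeal M (blockCoeff (blockOf M (χ₀ : G → ℂ)) c)) (h : G) :
    ∑ᶠ χ ∈ blockOf M (χ₀ : G → ℂ), (χ : G → ℂ) g * (χ : G → ℂ) h = 0 := by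
  classical
  haveI : Fintype (IrrCharacter G) := Fintype.ofFinite _
  have hM : M.IsPrime := hMp.2.1.isPrime
  have hp : p.Prime := hMp.1
  obtain ⟨y, hy⟩ := exists_isPPart (p := p) hp h (orderOf_pos h)
  set Bl := blockOf M (χ₀ : G → ℂ) with hBl
  set φ : localSubring M hM →+* ℂ := (localSubring M hM).subtype with hφdef
  have hφ : Function.Injective φ := Subtype.coe_injective
  set ψ := residueMap M hM with hψdef
  set e : G → localSubring M hM :=
    fun g => ⟨blockCoeff Bl g, memLocalRing_blockCoeff_blockOf hM χ₀ g⟩ with he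
  have he_coe : ∀ g, ((e g : localSubring M hM) : ℂ) = blockCoeff Bl g := fun g => rfl
  have hclass : ∀ g z : G, e (z * g * z⁻¹) = e g := by
    intro g z
    apply Subtype.ext
    exact blockCoeff_isClassFunction Bl g z
  have hE : lmat e * lmat e = lmat e := by
    rw [lmat_mul]
    congr 1
    funext z
    apply Subtype.ext
    rw [he_coe, ← conv_blockCoeff_self Bl z]
    simp only [conv]
    push_cast
    refine Fintype.sum_equiv ((Equiv.inv G).trans (Equiv.mulLeft z)) _ _ (fun k => ?_)
    simp only [Equiv.trans_apply, Equiv.inv_apply, Equiv.coe_mulLeft, he_coe]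
    congr 2
    group
  -- the root of unity
  have hp0 : 0 < p := hp.pos
  have hζprim : IsPrimitiveRoot (Complex.exp (2 * Real.pi * Complex.I / p)) p :=
    Complex.isPrimitiveRoot_exp p hp0.ne'
  set ζc : ℂ := Complex.exp (2 * Real.pi * Complex.I / p) with hζc
  have hζcp : ζc ^ p = 1 := hζprim.pow_eq_one
  set ω : localSubring M hM := ⟨ζc, memLocalRing_of_pow_eq_one hM hp0 hζcp⟩ with hω
  have hωp : ω ^ p = 1 := by
    apply Subtype.ext
    push_cast
    exact hζcp
  have hω1 : ω ≠ 1 := by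
    intro h
    have h1 : ζc = 1 := congrArg Subtype.val h
    exact hζprim.ne_one hp.one_lt h1
  have hωψ : ψ ω = 1 := by
    apply residueMap_eq_one_of_pow_eq_one hMp ω 1
    rw [pow_one]
    exact hωp
  -- the permutation and the set `X₀`
  set π := twoSidedPerm g h with hπ
  set X₀ : Set G := {a | x * a * y = a} with hX₀def
  have hxg : Commute x g := isPPart_commute hx
  have hyh : Commute y h := isPPart_commute hy
  have hX₀ : ∀ a, π a ∈ X₀ ↔ a ∈ X₀ := by
    intro a
    show x * (g * a * h) * y = g * a * h ↔ x * a * y = a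
    have h1 : x * (g * a * h) * y = g * (x * a * y) * h := by
      calc x * (g * a * h) * y = (x * g) * a * (h * y) := by group
        _ = (g * x) * a * (y * h) := by rw [hxg.eq, hyh.eq]
        _ = g * (x * a * y) * h := by group
    rw [h1]
    constructor
    · intro h2
      have h3 : g * (x * a * y) = g * a := mul_right_cancel h2
      exact mul_left_cancel h3
    · intro h2
      rw [h2]
  have hP : ∀ a b : G, (pmat g h : Matrix G G (localSubring M hM)) a b =
      if a = π b then 1 else 0 := fun a b => rfl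
  have hPE : (pmat g h : Matrix G G (localSubring M hM)) * lmat e = lmat e * pmat g h :=
    pmat_mul_lmat_comm g h hclass
  have horb : ∀ a, a ∉ X₀ → ∀ t : ℕ, (π ^ t) a = a → p ∣ t := by
    intro a ha t hfix
    by_contra hpt
    apply ha
    rw [hπ, twoSidedPerm_pow_apply] at hfix
    have h1 : a⁻¹ * g ^ t * a = h⁻¹ ^ t := by
      rw [inv_pow]
      have : g ^ t * a = a * (h ^ t)⁻¹ := by
        nth_rewrite 2 [← hfix]
        simp only [mul_assoc, mul_inv_cancel, mul_one]
      rw [mul_assoc, this, ← mul_assoc, inv_mul_cancel, one_mul]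
    have h2 := conj_ppart_of_conj_pow hp hx (isPPart_inv hy) hpt h1
    show x * a * y = a
    have h3 : x * a = a * y⁻¹ := by
      rw [← h2]; group
    rw [h3]; group
  have hE₀ : ∀ a ∈ X₀, ∀ b ∈ X₀, ψ (lmat e a b) = 0 := by
    intro a ha b hb
    rw [lmat_apply, hψdef, residueMap_eq_zero_iff, he_coe]
    apply hC
    rw [Subgroup.mem_centralizer_singleton_iff]
    have ha' : x * a * y = a := ha
    have hb' : x * b * y = b := hb
    have h1 : x * a = a * y⁻¹ := by
      nth_rewrite 2 [← ha']; group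
    have h2 : b⁻¹ * x = y⁻¹ * b⁻¹ := by
      have : x * b = b * y⁻¹ := by
        nth_rewrite 2 [← hb']; group
      calc b⁻¹ * x = b⁻¹ * (x * b) * b⁻¹ := by group
        _ = b⁻¹ * (b * y⁻¹) * b⁻¹ := by rw [this]
        _ = y⁻¹ * b⁻¹ := by group
    symm
    calc x * (a * b⁻¹) = (x * a) * b⁻¹ := by group
      _ = a * y⁻¹ * b⁻¹ := by rw [h1]
      _ = a * (y⁻¹ * b⁻¹) := by group
      _ = a * (b⁻¹ * x) := by rw [h2]
      _ = a * b⁻¹ * x := by group
  have key := trace_perm_mul_eq_zero φ hφ ψ hωp hω1 hωψ π X₀ hX₀ horb hP hE hPE hE₀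
  rw [trace_pmat_mul_lmat] at key
  have key2 := congrArg φ key
  rw [map_sum, map_zero] at key2
  rw [← sum_blockCoeff_twisted Bl g h]
  exact key2

/-- Under the same hypothesis every member of the block vanishes at `g`. -/
theorem irr_apply_eq_zero_of_coeff {p : ℕ} {M : Ideal AlgInt} (hMp : IsPModular p M)
    (χ₀ : IrrCharacter G) (g x : G) (hx : IsPPart p g x)
    (hC : ∀ c ∈ Subgroup.centralizer ({x} : Set G),
      MemLocalIdeal M (blockCoeff (blockOf M (χ₀ : G → ℂ)) c))
    (χ₁ : IrrCharacter G) (hχ₁ : χ₁ ∈ blockOf M (χ₀ : G → ℂ)) : (χ₁ : G → ℂ) g = 0 := by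
  classical
  haveI : Fintype (IrrCharacter G) := Fintype.ofFinite _
  have hG : (Fintype.card G : ℂ) ≠ 0 := by exact_mod_cast Fintype.card_ne_zero
  have h0 : ∀ h : G, ∑ χ : IrrCharacter G, (if χ ∈ blockOf M (χ₀ : G → ℂ) then
      (χ : G → ℂ) g * (χ : G → ℂ) h else 0) = 0 := by
    intro h
    rw [← finsum_mem_eq_sum_ite]
    exact sum_block_mul_eq_zero_of_coeff hMp χ₀ g x hx hC h
  have h1 : ∑ h : G, (∑ χ : IrrCharacter G, (if χ ∈ blockOf M (χ₀ : G → ℂ) then
      (χ : G → ℂ) g * (χ : G → ℂ) h else 0)) * conj ((χ₁ : G → ℂ) h) = 0 := by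
    refine Finset.sum_eq_zero fun h _ => ?_
    rw [h0 h, zero_mul]
  simp_rw [Finset.sum_mul] at h1
  rw [Finset.sum_comm] at h1
  have h2 : ∀ χ : IrrCharacter G, ∑ h : G, (if χ ∈ blockOf M (χ₀ : G → ℂ) then
      (χ : G → ℂ) g * (χ : G → ℂ) h else 0) * conj ((χ₁ : G → ℂ) h) =
      if χ = χ₁ then (χ₁ : G → ℂ) g * (Fintype.card G : ℂ) else 0 := by
    intro χ
    by_cases hχ : χ ∈ blockOf M (χ₀ : G → ℂ)
    · simp only [hχ, if_true]
      have : ∀ h : G, (χ : G → ℂ) g * (χ : G → ℂ) h * conj ((χ₁ : G → ℂ) h) =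
          (χ : G → ℂ) g * ((χ : G → ℂ) h * conj ((χ₁ : G → ℂ) h)) := fun h => by ring
      simp_rw [this]
      rw [← Finset.mul_sum, sum_irr_mul_conj]
      split_ifs with h3
      · rw [h3]
      · rw [mul_zero]
    · simp only [hχ, if_false, zero_mul, Finset.sum_const_zero]
      rw [if_neg]
      intro h3
      exact hχ (h3 ▸ hχ₁)
  rw [Finset.sum_congr rfl fun χ _ => h2 χ, Finset.sum_ite_eq' Finset.univ χ₁,
    if_pos (Finset.mem_univ _)] at h1
  exact (mul_eq_zero.1 h1).resolve_right hG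

end Vanish

section DefectConj

open Cfsg.Agent.Lib.Helper21 Cfsg.Agent.Lib.Helper83

/-- A `p`-subgroup of `K` at least as large as a Sylow `p`-subgroup of `K` is one. -/
theorem exists_sylow_eq_of_card_le {X : Type*} [Group X] [Finite X] {p : ℕ} [Fact p.Prime]
    (K T : Subgroup X) (hT : IsPGroup p T) (hTK : T ≤ K) (Q' : Sylow p K)
    (hcard : Nat.card (Q' : Subgroup K) ≤ Nat.card T) :
    ∃ Q'' : Sylow p K, T = (Q'' : Subgroup K).map K.subtype := by
  obtain ⟨Q'', hQ''⟩ := (hT.comap_subtype (K := K)).exists_le_sylow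
  refine ⟨Q'', ?_⟩
  have h1 : Nat.card (T.subgroupOf K) = Nat.card T := by
    have := Subgroup.card_map_of_injective (K := T.subgroupOf K) (Subgroup.subtype_injective K)
    rw [← this, Subgroup.subgroupOf_map_subtype, inf_of_le_left hTK]
  have h2 : Nat.card (Q'' : Subgroup K) = Nat.card (Q' : Subgroup K) := by
    rw [Sylow.card_eq_multiplicity, Sylow.card_eq_multiplicity]
  have h3 : T.subgroupOf K = (Q'' : Subgroup K) := by
    apply Subgroup.eq_of_le_of_card_ge hQ''
    have h1' : Nat.card (Subgroup.comap K.subtype T) = Nat.card T := h1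
    rw [h1', h2]
    exact hcard
  rw [← h3, Subgroup.subgroupOf_map_subtype, inf_of_le_left hTK]

/-- Conjugates of defect groups are defect groups. -/
theorem isDefectGroup_conj {G : Type*} [Group G] [Finite G] {p : ℕ} [Fact p.Prime]
    {M : Ideal AlgInt} {B : Set (IrrCharacter G)} {D : Subgroup G}
    (hD : IsDefectGroup p M B D) (s : G) :
    IsDefectGroup p M B (D.map (MulAut.conj s).toMonoidHom) := by
  classical
  haveI := Fintype.ofFinite G
  haveI : Fintype (IrrCharacter G) := Fintype.ofFinite _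
  obtain ⟨g, hg, P, rfl⟩ := hD
  have hgg' : IsConj g (s * g * s⁻¹) := isConj_iff.2 ⟨s, rfl⟩
  have hdc : IsDefectClass M B (s * g * s⁻¹) := isDefectClass_of_isConj hgg' hg
  set T := ((P : Subgroup (Subgroup.centralizer ({g} : Set G))).map
    (Subgroup.centralizer ({g} : Set G)).subtype).map (MulAut.conj s).toMonoidHom with hT
  have hTp : IsPGroup p T := (P.isPGroup'.map _).map _
  have hTK : T ≤ Subgroup.centralizer ({s * g * s⁻¹} : Set G) := by
    intro z hz
    rw [hT, Subgroup.mem_map] at hz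
    obtain ⟨d, hd, rfl⟩ := hz
    rw [Subgroup.mem_map] at hd
    obtain ⟨d', _, rfl⟩ := hd
    have hd' : (d' : G) * g = g * (d' : G) := Subgroup.mem_centralizer_singleton_iff.1 d'.2
    rw [Subgroup.mem_centralizer_singleton_iff]
    change s * (d' : G) * s⁻¹ * (s * g * s⁻¹) = s * g * s⁻¹ * (s * (d' : G) * s⁻¹)
    calc s * (d' : G) * s⁻¹ * (s * g * s⁻¹) = s * ((d' : G) * g) * s⁻¹ := by group
      _ = s * (g * (d' : G)) * s⁻¹ := by rw [hd']
      _ = s * g * s⁻¹ * (s * (d' : G) * s⁻¹) := by group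
  have hcardKC : Nat.card (Subgroup.centralizer ({s * g * s⁻¹} : Set G)) =
      Nat.card (Subgroup.centralizer ({g} : Set G)) := by
    have h1 := Subgroup.card_mul_index (Subgroup.centralizer ({s * g * s⁻¹} : Set G))
    have h2 := Subgroup.card_mul_index (Subgroup.centralizer ({g} : Set G))
    have h3 : (Subgroup.centralizer ({s * g * s⁻¹} : Set G)).index =
        (Subgroup.centralizer ({g} : Set G)).index := index_centralizer_conj g s
    have h4 : (Subgroup.centralizer ({g} : Set G)).index ≠ 0 := Subgroup.index_ne_zero_of_finite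
    rw [h3, ← h2] at h1
    exact Nat.eq_of_mul_eq_mul_right (Nat.pos_of_ne_zero h4) h1
  obtain ⟨Q'⟩ : Nonempty (Sylow p (Subgroup.centralizer ({s * g * s⁻¹} : Set G))) := inferInstance
  have hcard : Nat.card (Q' : Subgroup (Subgroup.centralizer ({s * g * s⁻¹} : Set G))) ≤
      Nat.card T := by
    have h1 : Nat.card T = Nat.card (P : Subgroup (Subgroup.centralizer ({g} : Set G))) := by
      rw [hT, Subgroup.card_map_of_injective (MulAut.conj s).injective,
        Subgroup.card_map_of_injective (Subgroup.subtype_injective _)]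
    rw [h1, Sylow.card_eq_multiplicity, Sylow.card_eq_multiplicity, hcardKC]
  obtain ⟨Q'', hQ''⟩ := exists_sylow_eq_of_card_le _ T hTp hTK Q' hcard
  exact ⟨s * g * s⁻¹, hdc, Q'', hQ''⟩

end DefectConj

end Cfsg.Agent.Lib.Helper82
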