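import Mathlib
import Cfsg.Prelude.Def_Blocks
import Cfsg.Agent.Lib.Helper21.Osima
import Cfsg.Agent.Lib.Helper21.BlockSupport
import Cfsg.Agent.Lib.Helper22.DefectConj
import Cfsg.Agent.Lib.Helper79.DefectSep
import Cfsg.Agent.Lib.Helper82.VanishOffDefect
import Cfsg.Agent.Lib.Helper82.BlockBasic
import Cfsg.Agent.Lib.Helper83.SecondOrth
import Cfsg.Agent.Lib.Helper83.Decompose
import Cfsg.Agent.Lib.Helper83.Completeness
import Cfsg.Prelude.Def_BrauerPairs
import Cfsg.Agent.Lib.Helper21.OsimaApps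
import Cfsg.Agent.Lib.Helper22.Covering
import Cfsg.Agent.S0911
import Cfsg.Agent.S0964
import Cfsg.Agent.S4491

/-!
# Fong's theorem on covering blocks of maximal defect

For a `G`-invariant block `b` of a normal subgroup `N`, the characters of `G` lying over `b`
form a union of blocks (those covering `b`), the sum of the squares of their degrees is
`|G : N|` times the dimension of `b`, and consequently (Brauer's dimension formula) some
covering block has defect `d(b) + ν_p |G : N|`.
-/

set_option autoImplicit false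
set_option linter.unusedSectionVars false
set_option linter.style.haveILetI false

namespace Cfsg.Agent.Lib.Helper82

open Cfsg
open scoped ComplexConjugate
open Cfsg.Agent.Lib.Helper83 Cfsg.Agent.Lib.Helper21

section Restrict

universe u
variable {G : Type u} [Group G] [Fintype G] (N : Subgroup G) [Fintype N]

/-- The multiplicity of `θ` in the restriction of `χ` to `N`, as a natural number. -/
theorem exists_resMult (χ : IrrCharacter G) (θ : IrrCharacter N) :
    ∃ n : ℕ, classInner (fun n : N => (χ : G → ℂ) n) (θ : N → ℂ) = n :=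
  classInner_char_nat (isCharacter_restrict N (IrrCharacter_isCharacter χ))
    (IrrCharacter_isCharacter θ)

/-- The degree of `χ` is the sum of the degrees of the constituents of its restriction. -/
theorem apply_one_eq_sum_restrict [Fintype (IrrCharacter N)] (χ : IrrCharacter G) :
    (χ : G → ℂ) 1 = ∑ θ : IrrCharacter N,
      classInner (fun n : N => (χ : G → ℂ) n) (θ : N → ℂ) * (θ : N → ℂ) 1 := by
  have hcf : IsClassFunction N (fun n : N => (χ : G → ℂ) n) := by
    intro n y
    exact isClassFunction_irr χ (n : G) (y : G)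
  have h := classFunction_eq_sum_irr hcf
  have h1 := congrFun h 1
  simp only [Finset.sum_apply, Pi.smul_apply, smul_eq_mul] at h1
  exact h1

/-- Frobenius reciprocity at the identity: `∑_χ χ(1) [χ_N, θ] = |G|/|N| · conj θ(1)`. -/
theorem sum_deg_mul_inner_restrict [Fintype (IrrCharacter G)] (θ : N → ℂ) :
    ∑ χ : IrrCharacter G, (χ : G → ℂ) 1 * classInner (fun n : N => (χ : G → ℂ) n) θ =
      (Nat.card G : ℂ) / (Nat.card N : ℂ) * conj (θ 1) := by
  classical
  simp only [classInner_def, Finset.mul_sum]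
  rw [Finset.sum_comm]
  have hterm : ∀ n : N, ∑ χ : IrrCharacter G,
      (χ : G → ℂ) 1 * ((Nat.card N : ℂ)⁻¹ * ((χ : G → ℂ) n * conj (θ n))) =
      (Nat.card N : ℂ)⁻¹ * conj (θ n) * (if (n : G) = 1 then (Nat.card G : ℂ) else 0) := by
    intro n
    rw [← sum_irr_degree_mul (n : G), Finset.mul_sum]
    refine Finset.sum_congr rfl fun χ _ => ?_
    ring
  rw [Finset.sum_congr rfl fun n _ => hterm n]
  rw [Finset.sum_eq_single (1 : N)]
  · simp
    ring
  · intro n _ hn
    have : (n : G) ≠ 1 := fun h => hn (Subtype.ext h)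
    simp [this]
  · intro h; exact absurd (Finset.mem_univ _) h

end Restrict


section Over

universe u
variable {G : Type u} [Group G] [Fintype G] (N : Subgroup G) [hN : N.Normal] [Fintype N]
variable {p : ℕ} [Fact p.Prime] {M : Ideal AlgInt}

/-- The irreducible characters of `G` lying over some member of `b`. -/
def overSet (b : Set (IrrCharacter N)) : Set (IrrCharacter G) :=
  {χ | ∃ θ ∈ b, classInner (fun n : N => (χ : G → ℂ) n) (θ : N → ℂ) ≠ 0}

/-- `G`-invariance of a set of irreducible characters of `N`, in the form used by the frozen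
statements. -/
def IsInvariantSet (b : Set (IrrCharacter N)) : Prop :=
  ∀ g : G, ∀ θ ∈ b, ∀ θ' : IrrCharacter N,
    (∀ n : N, (θ' : N → ℂ) n = (θ : N → ℂ) ⟨g * n * g⁻¹, hN.conj_mem n n.2 g⟩) → θ' ∈ b

theorem exists_constituent (χ : IrrCharacter G) :
    ∃ ψ : IrrCharacter N, classInner (fun n : N => (χ : G → ℂ) n) (ψ : N → ℂ) ≠ 0 := by
  classical
  haveI : Fintype (IrrCharacter N) := Fintype.ofFinite _
  by_contra hcon
  push Not at hcon
  have h1 := apply_one_eq_sum_restrict N χ
  rw [Finset.sum_eq_zero (fun θ _ => by rw [hcon θ, zero_mul])] at h1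
  exact IsIrrCharacter.apply_one_ne_zero χ.2 h1

/-- Over a `G`-invariant block `b`: every constituent of the restriction of a character lying
over `b` lies in `b`. -/
theorem mem_of_overSet (hM : IsPModular p M) {b : Set (IrrCharacter N)} (hb : IsPBlock M b)
    (hinv : IsInvariantSet N b) {χ : IrrCharacter G} (hχ : χ ∈ overSet N b)
    {χ' : IrrCharacter G} (hχ' : χ' ∈ blockOf M (χ : G → ℂ))
    {ψ : IrrCharacter N}
    (hψ : classInner (fun n : N => (χ' : G → ℂ) n) (ψ : N → ℂ) ≠ 0) : ψ ∈ b := by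
  obtain ⟨θ, hθ, hcon⟩ := hχ
  have hMp : M.IsPrime := hM.2.1.isPrime
  obtain ⟨g, θ', hθ', hconj⟩ := Cfsg.Agent.S0964.result p M hM N (blockOf M (χ : G → ℂ))
    ⟨χ, rfl⟩ b hb χ (mem_blockOf_self hMp χ) θ hθ hcon χ' hχ' ψ hψ
  exact hinv g θ' hθ' ψ hconj

theorem blockOf_subset_overSet (hM : IsPModular p M) {b : Set (IrrCharacter N)}
    (hb : IsPBlock M b) (hinv : IsInvariantSet N b) {χ : IrrCharacter G}
    (hχ : χ ∈ overSet N b) : blockOf M (χ : G → ℂ) ⊆ overSet N b := by
  intro χ' hχ'
  obtain ⟨ψ, hψ⟩ := exists_constituent N χ'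
  exact ⟨ψ, mem_of_overSet N hM hb hinv hχ hχ' hψ, hψ⟩

/-- The dimension identity: the characters over a `G`-invariant block `b` have squared degrees
summing to `|G|/|N|` times the dimension of `b`. -/
theorem sum_overSet_sq (hM : IsPModular p M) [Fintype (IrrCharacter G)]
    [Fintype (IrrCharacter N)] {b : Set (IrrCharacter N)} (hb : IsPBlock M b)
    (hinv : IsInvariantSet N b) [DecidablePred (· ∈ overSet N b)] [DecidablePred (· ∈ b)] :
    ∑ χ : IrrCharacter G, (if χ ∈ overSet N b then ((χ : G → ℂ) 1) ^ 2 else 0) =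
      (Nat.card G : ℂ) / (Nat.card N : ℂ) *
        ∑ θ : IrrCharacter N, (if θ ∈ b then ((θ : N → ℂ) 1) ^ 2 else 0) := by
  have hMp : M.IsPrime := hM.2.1.isPrime
  have key : ∑ θ : IrrCharacter N, (if θ ∈ b then (θ : N → ℂ) 1 *
      ∑ χ : IrrCharacter G, (χ : G → ℂ) 1 *
        classInner (fun n : N => (χ : G → ℂ) n) (θ : N → ℂ) else 0) =
      (Nat.card G : ℂ) / (Nat.card N : ℂ) *
        ∑ θ : IrrCharacter N, (if θ ∈ b then ((θ : N → ℂ) 1) ^ 2 else 0) := by
    rw [Finset.mul_sum]
    refine Finset.sum_congr rfl fun θ _ => ?_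
    split_ifs with h
    · rw [sum_deg_mul_inner_restrict, char_one_conj (IrrCharacter_isCharacter θ)]
      ring
    · rw [mul_zero]
  rw [← key]
  have hswap : ∑ θ : IrrCharacter N, (if θ ∈ b then (θ : N → ℂ) 1 *
      ∑ χ : IrrCharacter G, (χ : G → ℂ) 1 *
        classInner (fun n : N => (χ : G → ℂ) n) (θ : N → ℂ) else 0) =
      ∑ χ : IrrCharacter G, (χ : G → ℂ) 1 * ∑ θ : IrrCharacter N,
        (if θ ∈ b then classInner (fun n : N => (χ : G → ℂ) n) (θ : N → ℂ) *
          (θ : N → ℂ) 1 else 0) := by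
    have h1 : ∀ θ : IrrCharacter N, (if θ ∈ b then (θ : N → ℂ) 1 *
        ∑ χ : IrrCharacter G, (χ : G → ℂ) 1 *
          classInner (fun n : N => (χ : G → ℂ) n) (θ : N → ℂ) else 0) =
        ∑ χ : IrrCharacter G, (if θ ∈ b then (χ : G → ℂ) 1 *
          (classInner (fun n : N => (χ : G → ℂ) n) (θ : N → ℂ) * (θ : N → ℂ) 1) else 0) := by
      intro θ
      split_ifs with h
      · rw [Finset.mul_sum]
        refine Finset.sum_congr rfl fun χ _ => ?_
        ring
      · rw [Finset.sum_const_zero]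
    have h2 : ∀ χ : IrrCharacter G, (χ : G → ℂ) 1 * ∑ θ : IrrCharacter N,
        (if θ ∈ b then classInner (fun n : N => (χ : G → ℂ) n) (θ : N → ℂ) *
          (θ : N → ℂ) 1 else 0) =
        ∑ θ : IrrCharacter N, (if θ ∈ b then (χ : G → ℂ) 1 *
          (classInner (fun n : N => (χ : G → ℂ) n) (θ : N → ℂ) * (θ : N → ℂ) 1) else 0) := by
      intro χ
      rw [Finset.mul_sum]
      refine Finset.sum_congr rfl fun θ _ => ?_
      split_ifs with h
      · rfl
      · rw [mul_zero]
    rw [Finset.sum_congr rfl fun θ _ => h1 θ, Finset.sum_congr rfl fun χ _ => h2 χ,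
      Finset.sum_comm]
  rw [hswap]
  refine Finset.sum_congr rfl fun χ _ => ?_
  split_ifs with h
  · have h1 := apply_one_eq_sum_restrict N χ
    have h2 : ∑ θ : IrrCharacter N,
        (if θ ∈ b then classInner (fun n : N => (χ : G → ℂ) n) (θ : N → ℂ) *
          (θ : N → ℂ) 1 else 0) = (χ : G → ℂ) 1 := by
      rw [h1]
      refine Finset.sum_congr rfl fun θ _ => ?_
      split_ifs with hθ
      · rfl
      · by_cases h0 : classInner (fun n : N => (χ : G → ℂ) n) (θ : N → ℂ) = 0
        · rw [h0, zero_mul]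
        · exact absurd (mem_of_overSet N hM hb hinv h (mem_blockOf_self hMp χ) h0) hθ
    rw [h2]
    ring
  · have h2 : ∑ θ : IrrCharacter N,
        (if θ ∈ b then classInner (fun n : N => (χ : G → ℂ) n) (θ : N → ℂ) *
          (θ : N → ℂ) 1 else 0) = 0 := by
      refine Finset.sum_eq_zero fun θ _ => ?_
      split_ifs with hθ
      · have h0 : classInner (fun n : N => (χ : G → ℂ) n) (θ : N → ℂ) = 0 := by
          by_contra h0
          exact h ⟨θ, hθ, h0⟩
        rw [h0, zero_mul]
      · rfl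
    rw [h2, mul_zero]


/-- Natural-number form of the dimension identity. -/
theorem finsum_overSet_sq (hM : IsPModular p M) {b : Set (IrrCharacter N)} (hb : IsPBlock M b)
    (hinv : IsInvariantSet N b) :
    ∑ᶠ χ ∈ overSet N b, charDegree (χ : G → ℂ) ^ 2 =
      N.index * ∑ᶠ θ ∈ b, charDegree (θ : N → ℂ) ^ 2 := by
  classical
  haveI : Fintype (IrrCharacter G) := Fintype.ofFinite _
  haveI : Fintype (IrrCharacter N) := Fintype.ofFinite _
  have h := sum_overSet_sq N hM hb hinv
  have hcast : ∀ (H : Type u) [Group H] [Fintype H] [Fintype (IrrCharacter H)]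
      (A : Set (IrrCharacter H)) [DecidablePred (· ∈ A)],
      ((∑ᶠ χ ∈ A, charDegree (χ : H → ℂ) ^ 2 : ℕ) : ℂ) =
        ∑ χ : IrrCharacter H, (if χ ∈ A then ((χ : H → ℂ) 1) ^ 2 else 0) := by
    intro H _ _ _ A _
    rw [finsum_mem_eq_finite_toFinset_sum _ (Set.toFinite A), Nat.cast_sum,
      ← Finset.sum_filter]
    refine Finset.sum_congr ?_ fun χ _ => ?_
    · ext χ; simp
    · rw [Nat.cast_pow, IsCharacter.charDegree_cast (IrrCharacter_isCharacter χ)]
  apply Nat.cast_injective (R := ℂ)
  rw [hcast G, Nat.cast_mul, hcast N, h]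
  congr 1
  have hmul : Nat.card N * N.index = Nat.card G := N.card_mul_index
  have hN0 : (Nat.card N : ℂ) ≠ 0 := Nat.cast_ne_zero.2 Nat.card_pos.ne'
  rw [← hmul, Nat.cast_mul]
  field_simp

/-- A sum over a union of blocks is divisible by `k` as soon as the sum over each of the
blocks is. -/
theorem dvd_finsum_of_union_blocks (hMp : M.IsPrime) (A : Set (IrrCharacter G))
    (hA : ∀ χ ∈ A, blockOf M (χ : G → ℂ) ⊆ A) (k : ℕ) (f : IrrCharacter G → ℕ)
    (h : ∀ χ ∈ A, k ∣ ∑ᶠ ψ ∈ blockOf M (χ : G → ℂ), f ψ) : k ∣ ∑ᶠ χ ∈ A, f χ := by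
  classical
  haveI : Fintype (IrrCharacter G) := Fintype.ofFinite _
  rw [finsum_mem_eq_finite_toFinset_sum _ (Set.toFinite A)]
  set s := (Set.toFinite A).toFinset with hs
  rw [← Finset.sum_fiberwise_of_maps_to (s := s)
    (t := s.image (fun χ : IrrCharacter G => blockOf M (χ : G → ℂ)))
    (g := fun χ : IrrCharacter G => blockOf M (χ : G → ℂ))
    (fun χ hχ => Finset.mem_image_of_mem _ hχ) f]
  refine Finset.dvd_sum fun B' hB' => ?_
  obtain ⟨χ₀, hχ₀, rfl⟩ := Finset.mem_image.1 hB'
  have hχ₀A : χ₀ ∈ A := by simpa [hs] using hχ₀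
  have hfil : s.filter (fun χ : IrrCharacter G => blockOf M (χ : G → ℂ) =
      blockOf M (χ₀ : G → ℂ)) = (Set.toFinite (blockOf M (χ₀ : G → ℂ))).toFinset := by
    ext χ
    simp only [Finset.mem_filter, Set.Finite.mem_toFinset, hs]
    constructor
    · rintro ⟨_, h2⟩
      rw [← h2]
      exact mem_blockOf_self hMp χ
    · intro hχ
      refine ⟨hA χ₀ hχ₀A hχ, ?_⟩
      exact (IsPBlock.eq_blockOf hMp ⟨χ₀, rfl⟩ hχ).symm
  rw [hfil, ← finsum_mem_eq_finite_toFinset_sum]
  exact h χ₀ hχ₀A


theorem factorization_card_eq_add :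
    (Nat.card G).factorization p = (Nat.card N).factorization p + N.index.factorization p := by
  have hmul : Nat.card N * N.index = Nat.card G := N.card_mul_index
  rw [← hmul, Nat.factorization_mul Nat.card_pos.ne' Subgroup.index_ne_zero_of_finite,
    Finsupp.add_apply]

/-- The degree of a character over the invariant block `b` is divisible by the least `p`-power
of the degrees of `b`. -/
theorem sInf_le_factorization_of_over (hM : IsPModular p M) {b : Set (IrrCharacter N)}
    (hb : IsPBlock M b) (hinv : IsInvariantSet N b) {χ : IrrCharacter G}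
    (hχ : χ ∈ overSet N b) {χ' : IrrCharacter G} (hχ' : χ' ∈ blockOf M (χ : G → ℂ)) :
    sInf ((fun θ : IrrCharacter N => (charDegree (θ : N → ℂ)).factorization p) '' b) ≤
      (charDegree (χ' : G → ℂ)).factorization p := by
  classical
  haveI : Fintype (IrrCharacter N) := Fintype.ofFinite _
  have hp : p.Prime := hM.1
  set s := sInf ((fun θ : IrrCharacter N => (charDegree (θ : N → ℂ)).factorization p) '' b)
    with hs
  choose n hn using fun θ : IrrCharacter N => exists_resMult N χ' θ
  have hdeg : charDegree (χ' : G → ℂ) = ∑ θ : IrrCharacter N, n θ * charDegree (θ : N → ℂ) := by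
    apply Nat.cast_injective (R := ℂ)
    rw [IsCharacter.charDegree_cast (IrrCharacter_isCharacter χ'), apply_one_eq_sum_restrict N χ',
      Nat.cast_sum]
    refine Finset.sum_congr rfl fun θ _ => ?_
    rw [hn θ, Nat.cast_mul, IsCharacter.charDegree_cast (IrrCharacter_isCharacter θ)]
  have hdvd : p ^ s ∣ charDegree (χ' : G → ℂ) := by
    rw [hdeg]
    refine Finset.dvd_sum fun θ _ => ?_
    by_cases h0 : n θ = 0
    · rw [h0, zero_mul]; exact dvd_zero _
    · have hθb : θ ∈ b := by
        apply mem_of_overSet N hM hb hinv hχ hχ'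
        rw [hn θ]
        exact Nat.cast_ne_zero.2 h0
      have hle : s ≤ (charDegree (θ : N → ℂ)).factorization p := Nat.sInf_le ⟨θ, hθb, rfl⟩
      have hpos : charDegree (θ : N → ℂ) ≠ 0 := (IsIrrCharacter.charDegree_pos θ.2).ne'
      exact Dvd.dvd.mul_left ((hp.pow_dvd_iff_le_factorization hpos).2 hle) _
  have hpos' : charDegree (χ' : G → ℂ) ≠ 0 := (IsIrrCharacter.charDegree_pos χ'.2).ne'
  exact (hp.pow_dvd_iff_le_factorization hpos').1 hdvd

/-- A block of `G` covering the invariant block `b` has defect at most `d(b) + ν_p |G : N|`. -/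
theorem blockDefect_le_of_over (hM : IsPModular p M) {b : Set (IrrCharacter N)}
    (hb : IsPBlock M b) (hinv : IsInvariantSet N b) {χ : IrrCharacter G}
    (hχ : χ ∈ overSet N b) :
    blockDefect p (blockOf M (χ : G → ℂ)) ≤ blockDefect p b + N.index.factorization p := by
  have hMp : M.IsPrime := hM.2.1.isPrime
  have h1 := Cfsg.Agent.Lib.Helper79.sInf_add_blockDefect (p := p) hMp hb
  have h2 := Cfsg.Agent.Lib.Helper79.sInf_add_blockDefect (p := p) hMp
    (⟨χ, rfl⟩ : IsPBlock M (blockOf M (χ : G → ℂ)))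
  have h3 := factorization_card_eq_add (p := p) N
  have hne : ((fun ψ : IrrCharacter G => (charDegree (ψ : G → ℂ)).factorization p) ''
      (blockOf M (χ : G → ℂ))).Nonempty := ⟨_, χ, mem_blockOf_self hMp χ, rfl⟩
  have h4 : sInf ((fun θ : IrrCharacter N => (charDegree (θ : N → ℂ)).factorization p) '' b) ≤
      sInf ((fun ψ : IrrCharacter G => (charDegree (ψ : G → ℂ)).factorization p) ''
        (blockOf M (χ : G → ℂ))) := by
    apply le_csInf hne
    rintro _ ⟨χ', hχ', rfl⟩
    exact sInf_le_factorization_of_over N hM hb hinv hχ hχ'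
  omega

/-- **Fong**: a block covering the invariant block `b` with the largest defect among such
blocks has defect `d(b) + ν_p |G : N|`. -/
theorem blockDefect_eq_of_max (hM : IsPModular p M) {b : Set (IrrCharacter N)}
    (hb : IsPBlock M b) (hinv : IsInvariantSet N b) {χ₀ : IrrCharacter G}
    (hχ₀ : χ₀ ∈ overSet N b)
    (hmax : ∀ χ ∈ overSet N b, blockDefect p (blockOf M (χ : G → ℂ)) ≤
      blockDefect p (blockOf M (χ₀ : G → ℂ))) :
    blockDefect p (blockOf M (χ₀ : G → ℂ)) = blockDefect p b + N.index.factorization p := by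
  classical
  have hp : p.Prime := hM.1
  have hMp : M.IsPrime := hM.2.1.isPrime
  have hle := blockDefect_le_of_over N hM hb hinv hχ₀
  refine le_antisymm hle ?_
  set δ := blockDefect p (blockOf M (χ₀ : G → ℂ)) with hδ
  have h1 := Cfsg.Agent.Lib.Helper79.sInf_add_blockDefect (p := p) hMp hb
  have h2 := Cfsg.Agent.Lib.Helper79.sInf_add_blockDefect (p := p) hMp
    (⟨χ₀, rfl⟩ : IsPBlock M (blockOf M (χ₀ : G → ℂ)))
  have h3 := factorization_card_eq_add (p := p) N
  -- divisibility of the total dimension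
  have hdvd : p ^ (2 * (Nat.card G).factorization p - δ) ∣
      ∑ᶠ χ ∈ overSet N b, charDegree (χ : G → ℂ) ^ 2 := by
    apply dvd_finsum_of_union_blocks hMp (overSet N b)
      (fun χ hχ => blockOf_subset_overSet N hM hb hinv hχ)
    intro χ hχ
    have hfac := Cfsg.Agent.S4491.result p M hM (blockOf M (χ : G → ℂ)) ⟨χ, rfl⟩
    have hle' := hmax χ hχ
    have hne : ∑ᶠ ψ ∈ blockOf M (χ : G → ℂ), charDegree (ψ : G → ℂ) ^ 2 ≠ 0 := by
      intro h0
      have hpos : 0 < ∑ᶠ ψ ∈ blockOf M (χ : G → ℂ), charDegree (ψ : G → ℂ) ^ 2 := by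
        rw [finsum_mem_eq_finite_toFinset_sum _ (Set.toFinite _)]
        apply Finset.sum_pos'
        · intro _ _; exact Nat.zero_le _
        · exact ⟨χ, by simpa using mem_blockOf_self hMp χ,
            pow_pos (IsIrrCharacter.charDegree_pos χ.2) 2⟩
      omega
    apply (hp.pow_dvd_iff_le_factorization hne).2
    rw [hfac]
    omega
  rw [finsum_overSet_sq N hM hb hinv] at hdvd
  have hbne : ∑ᶠ θ ∈ b, charDegree (θ : N → ℂ) ^ 2 ≠ 0 := by
    obtain ⟨θ₀, hθ₀⟩ := IsPBlock.nonempty hMp hb
    have hpos : 0 < ∑ᶠ θ ∈ b, charDegree (θ : N → ℂ) ^ 2 := by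
      rw [finsum_mem_eq_finite_toFinset_sum _ (Set.toFinite _)]
      apply Finset.sum_pos'
      · intro _ _; exact Nat.zero_le _
      · exact ⟨θ₀, by simpa using hθ₀, pow_pos (IsIrrCharacter.charDegree_pos θ₀.2) 2⟩
    omega
  have hidx : N.index ≠ 0 := Subgroup.index_ne_zero_of_finite
  have hprod : N.index * ∑ᶠ θ ∈ b, charDegree (θ : N → ℂ) ^ 2 ≠ 0 := mul_ne_zero hidx hbne
  have hle2 := (hp.pow_dvd_iff_le_factorization hprod).1 hdvd
  rw [Nat.factorization_mul hidx hbne, Finsupp.add_apply,
    Cfsg.Agent.S4491.result p M hM b hb] at hle2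
  omega

end Over

section Idem

universe u
variable {G : Type u} [Group G] [Fintype G] (N : Subgroup G) [hN : N.Normal] [Fintype N]
variable {p : ℕ} [Fact p.Prime] {M : Ideal AlgInt}

theorem conjSet_eq_of_invariant {b : Set (IrrCharacter N)} (hinv : IsInvariantSet N b) :
    Cfsg.Agent.Lib.Helper22.conjSet hN b = b := by
  apply Set.Subset.antisymm
  · rintro ψ ⟨g, θ, hθ, rfl⟩
    exact hinv g θ hθ _ (fun n => Cfsg.Agent.Lib.Helper22.irrConj_apply hN g θ n)
  · exact Cfsg.Agent.Lib.Helper22.subset_conjSet hN b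

theorem subgroupBlockCoeff_apply_mem (b : Set (IrrCharacter N)) {g : G} (hg : g ∈ N) :
    subgroupBlockCoeff N b g = blockCoeff b ⟨g, hg⟩ := by
  unfold subgroupBlockCoeff
  rw [dif_pos hg]

theorem subgroupBlockCoeff_apply_not_mem (b : Set (IrrCharacter N)) {g : G} (hg : g ∉ N) :
    subgroupBlockCoeff N b g = 0 := by
  unfold subgroupBlockCoeff
  rw [dif_neg hg]

/-- The idempotent of an invariant block of `N`, extended by zero, is a class function of `G`. -/
theorem subgroupBlockCoeff_isClassFunction {b : Set (IrrCharacter N)}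
    (hinv : IsInvariantSet N b) : IsClassFunction G (subgroupBlockCoeff N b) := by
  intro g y
  by_cases hg : g ∈ N
  · have hg' : y * g * y⁻¹ ∈ N := hN.conj_mem g hg y
    rw [subgroupBlockCoeff_apply_mem N b hg, subgroupBlockCoeff_apply_mem N b hg']
    have h := Cfsg.Agent.Lib.Helper22.blockCoeff_conjSet_conj hN b y ⟨g, hg⟩
    rw [conjSet_eq_of_invariant N hinv] at h
    exact h
  · have hg' : y * g * y⁻¹ ∉ N := by
      intro h
      apply hg
      have := hN.conj_mem _ h y⁻¹
      simpa [mul_assoc] using this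
    rw [subgroupBlockCoeff_apply_not_mem N b hg, subgroupBlockCoeff_apply_not_mem N b hg']

theorem subgroupBlockCoeff_memLocalRing (hMp : M.IsPrime) {b : Set (IrrCharacter N)}
    (hb : IsPBlock M b) (g : G) : MemLocalRing M (subgroupBlockCoeff N b g) := by
  classical
  haveI : Fintype (IrrCharacter N) := Fintype.ofFinite _
  by_cases hg : g ∈ N
  · rw [subgroupBlockCoeff_apply_mem N b hg]
    obtain ⟨θ₀, rfl⟩ := hb
    exact memLocalRing_blockCoeff_blockOf hMp θ₀ _
  · rw [subgroupBlockCoeff_apply_not_mem N b hg]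
    exact memLocalRing_zero hMp

/-- The central character of `χ` at the extended idempotent of `b`: the part of the degree of
`χ` carried by the constituents in `b`. -/
theorem omega_subgroupBlockCoeff [Fintype (IrrCharacter N)] (b : Set (IrrCharacter N))
    [DecidablePred (· ∈ b)] (χ : IrrCharacter G) :
    omega (subgroupBlockCoeff N b) (χ : G → ℂ) =
      (∑ θ : IrrCharacter N, (if θ ∈ b then
        classInner (fun n : N => (χ : G → ℂ) n) (θ : N → ℂ) * (θ : N → ℂ) 1 else 0)) /
        (χ : G → ℂ) 1 := by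
  classical
  unfold omega
  congr 1
  have h1 : ∑ g : G, subgroupBlockCoeff N b g * (χ : G → ℂ) g =
      ∑ n : N, blockCoeff b n * (χ : G → ℂ) n := by
    have h1' : ∑ n : N, blockCoeff b n * (χ : G → ℂ) n =
        ∑ n : N, subgroupBlockCoeff N b (n : G) * (χ : G → ℂ) n := by
      refine Finset.sum_congr rfl fun n _ => ?_
      rw [subgroupBlockCoeff_apply_mem N b n.2]
    rw [h1', sum_subgroup_eq_sum_ite N (fun g => subgroupBlockCoeff N b g * (χ : G → ℂ) g)]
    refine Finset.sum_congr rfl fun g _ => ?_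
    split_ifs with hg
    · rfl
    · rw [subgroupBlockCoeff_apply_not_mem N b hg, zero_mul]
  rw [h1]
  have hcf : IsClassFunction N (fun n : N => (χ : G → ℂ) n) := by
    intro n y
    exact isClassFunction_irr χ (n : G) (y : G)
  have hdec := classFunction_eq_sum_irr hcf
  have h2 : ∀ n : N, (χ : G → ℂ) n = ∑ θ : IrrCharacter N,
      classInner (fun n : N => (χ : G → ℂ) n) (θ : N → ℂ) * (θ : N → ℂ) n := by
    intro n
    have := congrFun hdec n
    simp only [Finset.sum_apply, Pi.smul_apply, smul_eq_mul] at this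
    exact this
  calc ∑ n : N, blockCoeff b n * (χ : G → ℂ) n
      = ∑ n : N, ∑ θ : IrrCharacter N, classInner (fun n : N => (χ : G → ℂ) n) (θ : N → ℂ) *
          (blockCoeff b n * (θ : N → ℂ) n) := by
        refine Finset.sum_congr rfl fun n _ => ?_
        rw [h2 n, Finset.mul_sum]
        refine Finset.sum_congr rfl fun θ _ => ?_
        ring
    _ = ∑ θ : IrrCharacter N, classInner (fun n : N => (χ : G → ℂ) n) (θ : N → ℂ) *
          ∑ n : N, blockCoeff b n * (θ : N → ℂ) n := by
        rw [Finset.sum_comm]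
        refine Finset.sum_congr rfl fun θ _ => ?_
        rw [Finset.mul_sum]
    _ = _ := by
        refine Finset.sum_congr rfl fun θ _ => ?_
        have h3 := omega_blockCoeff b θ
        unfold omega at h3
        have hθ1 : (θ : N → ℂ) 1 ≠ 0 := IsIrrCharacter.apply_one_ne_zero θ.2
        rw [div_eq_iff hθ1] at h3
        rw [h3]
        split_ifs with h
        · rw [one_mul]
        · rw [zero_mul, mul_zero]


theorem omega_subgroupBlockCoeff_of_over (hM : IsPModular p M) {b : Set (IrrCharacter N)}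
    (hb : IsPBlock M b) (hinv : IsInvariantSet N b) {χ : IrrCharacter G}
    (hχ : χ ∈ overSet N b) :
    omega (subgroupBlockCoeff N b) (χ : G → ℂ) = 1 := by
  classical
  haveI : Fintype (IrrCharacter N) := Fintype.ofFinite _
  have hMp : M.IsPrime := hM.2.1.isPrime
  rw [omega_subgroupBlockCoeff]
  have h1 := apply_one_eq_sum_restrict N χ
  have hχ1 : (χ : G → ℂ) 1 ≠ 0 := IsIrrCharacter.apply_one_ne_zero χ.2
  rw [div_eq_one_iff_eq hχ1, h1]
  refine Finset.sum_congr rfl fun θ _ => ?_
  split_ifs with hθ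
  · rfl
  · by_cases h0 : classInner (fun n : N => (χ : G → ℂ) n) (θ : N → ℂ) = 0
    · rw [h0, zero_mul]
    · exact absurd (mem_of_overSet N hM hb hinv hχ (mem_blockOf_self hMp χ) h0) hθ

theorem omega_subgroupBlockCoeff_of_not_over {b : Set (IrrCharacter N)} {χ : IrrCharacter G}
    (hχ : χ ∉ overSet N b) :
    omega (subgroupBlockCoeff N b) (χ : G → ℂ) = 0 := by
  classical
  haveI : Fintype (IrrCharacter N) := Fintype.ofFinite _
  rw [omega_subgroupBlockCoeff]
  rw [Finset.sum_eq_zero, zero_div]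
  intro θ _
  split_ifs with hθ
  · have h0 : classInner (fun n : N => (χ : G → ℂ) n) (θ : N → ℂ) = 0 := by
      by_contra h0
      exact hχ ⟨θ, hθ, h0⟩
    rw [h0, zero_mul]
  · rfl

/-- The idempotent of the set of characters over the invariant block `b` is the idempotent of
`b`. -/
theorem blockCoeff_overSet (hM : IsPModular p M) {b : Set (IrrCharacter N)}
    (hb : IsPBlock M b) (hinv : IsInvariantSet N b) (g : G) :
    blockCoeff (overSet N b) g = subgroupBlockCoeff N b g := by
  classical
  haveI : Fintype (IrrCharacter G) := Fintype.ofFinite _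
  apply blockCoeff_eq_of_omega (overSet N b) (subgroupBlockCoeff_isClassFunction N hinv)
  intro χ
  split_ifs with h
  · exact omega_subgroupBlockCoeff_of_over N hM hb hinv h
  · exact omega_subgroupBlockCoeff_of_not_over N h

/-- `e_B e_b = e_B` for a block `B` covering the invariant block `b`. -/
theorem conv_blockCoeff_subgroupBlockCoeff (hM : IsPModular p M) {b : Set (IrrCharacter N)}
    (hb : IsPBlock M b) (hinv : IsInvariantSet N b) {χ : IrrCharacter G}
    (hχ : χ ∈ overSet N b) (g : G) :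
    blockCoeff (blockOf M (χ : G → ℂ)) g =
      conv (blockCoeff (blockOf M (χ : G → ℂ))) (subgroupBlockCoeff N b) g := by
  classical
  haveI : Fintype (IrrCharacter G) := Fintype.ofFinite _
  have hMp : M.IsPrime := hM.2.1.isPrime
  apply blockCoeff_eq_of_omega (blockOf M (χ : G → ℂ))
    (conv_isClassFunction (blockCoeff_isClassFunction _) (subgroupBlockCoeff_isClassFunction N hinv))
  intro χ'
  rw [omega_conv χ'.2 _ _ (subgroupBlockCoeff_isClassFunction N hinv), omega_blockCoeff]
  split_ifs with h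
  · have hχ' : χ' ∈ overSet N b := blockOf_subset_overSet N hM hb hinv hχ h
    rw [omega_subgroupBlockCoeff_of_over N hM hb hinv hχ', mul_one]
  · rw [zero_mul]

end Idem

section LemmaL

/-- A `p`-subgroup of `K` lies in a `K`-conjugate of any given Sylow `p`-subgroup of `K`. -/
theorem exists_le_conj_sylow {X : Type*} [Group X] [Finite X] {p : ℕ} [Fact p.Prime]
    (K T : Subgroup X) (hT : IsPGroup p T) (hTK : T ≤ K) (Q : Sylow p K) :
    ∃ c : X, c ∈ K ∧
      T ≤ ((Q : Subgroup K).map K.subtype).map (MulAut.conj c).toMonoidHom := by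
  obtain ⟨Q', hQ'⟩ := (hT.comap_subtype (K := K)).exists_le_sylow
  obtain ⟨c, hc⟩ := MulAction.exists_smul_eq K Q Q'
  refine ⟨(c : X), c.2, ?_⟩
  intro z hz
  have hzK : z ∈ K := hTK hz
  have h1 : (⟨z, hzK⟩ : K) ∈ (Q' : Subgroup K) := hQ' (by
    show (⟨z, hzK⟩ : K) ∈ Subgroup.comap K.subtype T
    exact hz)
  rw [← hc, Sylow.coe_subgroup_smul, Subgroup.mem_pointwise_smul_iff_inv_smul_mem] at h1
  have h2 : c⁻¹ * ⟨z, hzK⟩ * c ∈ (Q : Subgroup K) := by
    simpa [MulAut.smul_def] using h1
  rw [Subgroup.mem_map]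
  refine ⟨(c : X)⁻¹ * z * (c : X), ?_, ?_⟩
  · rw [Subgroup.mem_map]
    exact ⟨c⁻¹ * ⟨z, hzK⟩ * c, h2, rfl⟩
  · simp [MulAut.conj_apply]
    group

universe u
variable {G : Type u} [Group G] [Fintype G] (N : Subgroup G) [hN : N.Normal] [Fintype N]
variable {p : ℕ} [Fact p.Prime] {M : Ideal AlgInt}

/-- **Lemma L.** If the block `B` of `G` covers the `G`-invariant block `b` of `N` and `P` is a
defect group of `B`, then `P ∩ N` lies in a defect group of `b`. -/
theorem exists_defectGroup_ge_inf (hM : IsPModular p M) {b : Set (IrrCharacter N)}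
    (hb : IsPBlock M b) (hinv : IsInvariantSet N b) {χ : IrrCharacter G}
    (hχ : χ ∈ overSet N b) {P : Subgroup G}
    (hP : IsDefectGroup p M (blockOf M (χ : G → ℂ)) P) :
    ∃ Q : Subgroup N, IsDefectGroup p M b Q ∧ (P ⊓ N).subgroupOf N ≤ Q := by
  classical
  haveI : Fintype (IrrCharacter G) := Fintype.ofFinite _
  haveI : Fintype (IrrCharacter N) := Fintype.ofFinite _
  have hp : p.Prime := hM.1
  have hMp : M.IsPrime := hM.2.1.isPrime
  obtain ⟨x, hx, S, rfl⟩ := hP
  set P := (S : Subgroup (Subgroup.centralizer ({x} : Set G))).map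
    (Subgroup.centralizer ({x} : Set G)).subtype with hPdef
  have hPp : IsPGroup p P := S.isPGroup'.map _
  set R := P ⊓ N with hRdef
  have hRp : IsPGroup p R := hPp.to_le inf_le_left
  -- `x` centralizes `R`
  have hxR : x ∈ Subgroup.centralizer (R : Set G) := by
    rw [Subgroup.mem_centralizer_iff]
    intro r hr
    have hrP : r ∈ P := hr.1
    rw [hPdef, Subgroup.mem_map] at hrP
    obtain ⟨r', _, rfl⟩ := hrP
    exact Subgroup.mem_centralizer_singleton_iff.1 r'.2
  set B := blockOf M (χ : G → ℂ) with hBdef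
  set F₂ := subgroupBlockCoeff N b with hF₂
  have hcf₁ : IsClassFunction G (blockCoeff B) := blockCoeff_isClassFunction B
  have hcf₂ : IsClassFunction G F₂ := subgroupBlockCoeff_isClassFunction N hinv
  have hR₁ : ∀ g, MemLocalRing M (blockCoeff B g) := memLocalRing_blockCoeff_blockOf hMp χ
  have hR₂ : ∀ g, MemLocalRing M (F₂ g) := subgroupBlockCoeff_memLocalRing N hMp hb
  have hcut := cutC_conv_sub hM R hRp hcf₁ hcf₂ hR₁ hR₂ x
  rw [cutC_apply, if_pos hxR, ← conv_blockCoeff_subgroupBlockCoeff N hM hb hinv hχ x] at hcut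
  -- find a unit coefficient of `e_b` in the centralizer of `R`
  have hex : ∃ n : N, (n : G) ∈ Subgroup.centralizer (R : Set G) ∧
      ¬ MemLocalIdeal M (blockCoeff b n) := by
    by_contra hcon
    push Not at hcon
    have hall : ∀ g : G, MemLocalIdeal M (cutC R F₂ g) := by
      intro g
      rw [cutC_apply]
      split_ifs with hg
      · by_cases hgN : g ∈ N
        · rw [hF₂, subgroupBlockCoeff_apply_mem N b hgN]
          exact hcon ⟨g, hgN⟩ hg
        · rw [hF₂, subgroupBlockCoeff_apply_not_mem N b hgN]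
          exact memLocalIdeal_zero hMp
      · exact memLocalIdeal_zero hMp
    have hconv : MemLocalIdeal M (conv (cutC R (blockCoeff B)) (cutC R F₂) x) := by
      unfold conv
      apply memLocalIdeal_sum hMp
      intro y _
      exact memLocalIdeal_mul_left hMp (cutC_memLocalRing R hMp hR₁ y) (hall _)
    have := memLocalIdeal_add hMp hcut hconv
    rw [sub_add_cancel] at this
    exact hx.2.1 this
  obtain ⟨n, hnR, hnunit⟩ := hex
  -- min-max in `N`
  obtain ⟨θ₀, rfl⟩ := hb
  obtain ⟨g_b, hg_b⟩ := exists_isDefectClass hMp θ₀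
  obtain ⟨D₀⟩ : Nonempty (Sylow p (Subgroup.centralizer ({g_b} : Set N))) := inferInstance
  obtain ⟨t, Q, hQ⟩ := (Cfsg.Agent.S0911.result p M hM (blockOf M (θ₀ : N → ℂ)) ⟨θ₀, rfl⟩ g_b
    hg_b D₀ n).1 (memLocalRing_blockCoeff_blockOf hMp θ₀ n) hnunit
  -- `R ∩ N` as a subgroup of `C_N(n)`
  set RN := R.subgroupOf N with hRN
  have hRNp : IsPGroup p RN := hRp.comap_subtype
  have hRNle : RN ≤ Subgroup.centralizer ({n} : Set N) := by
    intro r hr
    rw [Subgroup.mem_centralizer_singleton_iff]
    have hr' : (r : G) ∈ R := hr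
    have := (Subgroup.mem_centralizer_iff.1 hnR) (r : G) hr'
    apply Subtype.ext
    show (r : G) * (n : G) = (n : G) * (r : G)
    exact this
  obtain ⟨c, _, hc⟩ := exists_le_conj_sylow (Subgroup.centralizer ({n} : Set N)) RN hRNp hRNle Q
  refine ⟨(((D₀ : Subgroup (Subgroup.centralizer ({g_b} : Set N))).map
    (Subgroup.centralizer ({g_b} : Set N)).subtype).map (MulAut.conj t).toMonoidHom).map
      (MulAut.conj c).toMonoidHom, ?_, ?_⟩
  · apply isDefectGroup_conj
    apply isDefectGroup_conj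
    exact ⟨g_b, hg_b, D₀, rfl⟩
  · exact hc.trans (Subgroup.map_mono hQ)


/-- **Fong's theorem.** Let `b` be a `G`-invariant block of the normal subgroup `N`, and `B` a
block of `G` covering `b` with the largest defect among such blocks.  For a defect group `P` of
`B`: `p ∤ |G : PN|`, `P ∩ N` is a defect group of `b`, and `d(B) = d(b) + ν_p |G : N|`. -/
theorem fong (hM : IsPModular p M) {b : Set (IrrCharacter N)}
    (hb : IsPBlock M b) (hinv : IsInvariantSet N b) {χ₀ : IrrCharacter G}
    (hχ₀ : χ₀ ∈ overSet N b)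
    (hmax : ∀ χ ∈ overSet N b, blockDefect p (blockOf M (χ : G → ℂ)) ≤
      blockDefect p (blockOf M (χ₀ : G → ℂ)))
    {P : Subgroup G} (hP : IsDefectGroup p M (blockOf M (χ₀ : G → ℂ)) P) :
    ¬ p ∣ (P ⊔ N).index ∧ IsDefectGroup p M b ((P ⊓ N).subgroupOf N) ∧
      blockDefect p (blockOf M (χ₀ : G → ℂ)) = blockDefect p b + N.index.factorization p := by
  classical
  have hp : p.Prime := hM.1
  have hMp : M.IsPrime := hM.2.1.isPrime
  have hdef := blockDefect_eq_of_max N hM hb hinv hχ₀ hmax
  obtain ⟨Q, hQ, hle⟩ := exists_defectGroup_ge_inf N hM hb hinv hχ₀ hP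
  set δ := blockDefect p (blockOf M (χ₀ : G → ℂ)) with hδ
  set m := N.index.factorization p with hm
  have hcardP : Nat.card P = p ^ δ :=
    Cfsg.Agent.Lib.Helper22.IsDefectGroup.card_eq hM ⟨χ₀, rfl⟩ hP
  have hcardQ : Nat.card Q = p ^ blockDefect p b :=
    Cfsg.Agent.Lib.Helper22.IsDefectGroup.card_eq hM hb hQ
  have hPp : IsPGroup p P := IsPGroup.of_card hcardP
  have hRp : IsPGroup p ((P ⊓ N).subgroupOf N) := (hPp.to_le inf_le_left).comap_subtype
  obtain ⟨j, hj⟩ := hRp.exists_card_eq
  have hjle : j ≤ blockDefect p b := by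
    have h1 : Nat.card ((P ⊓ N).subgroupOf N) ≤ Nat.card Q := Subgroup.card_le_of_le hle
    rw [hj, hcardQ] at h1
    exact (Nat.pow_le_pow_iff_right hp.one_lt).1 h1
  -- the order of `P ∩ N`
  have hcardR : Nat.card ((P ⊓ N).subgroupOf P) = p ^ j := by
    rw [← hj]
    have e1 : ((P ⊓ N).subgroupOf P) ≃* (P ⊓ N : Subgroup G) :=
      Subgroup.subgroupOfEquivOfLe inf_le_left
    have e2 : ((P ⊓ N).subgroupOf N) ≃* (P ⊓ N : Subgroup G) :=
      Subgroup.subgroupOfEquivOfLe inf_le_right
    rw [Nat.card_congr e1.toEquiv, Nat.card_congr e2.toEquiv]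
  -- `|P : P ∩ N| = p ^ (δ - j)`
  have hrel : N.relIndex P * p ^ j = p ^ δ := by
    rw [← Subgroup.inf_relIndex_right N P, inf_comm, ← hcardR, ← hcardP, Subgroup.relIndex,
      mul_comm]
    exact Subgroup.card_mul_index _
  have hjδ : j ≤ δ := by
    have h1 : p ^ j ∣ p ^ δ := Dvd.intro_left _ hrel
    exact (Nat.pow_dvd_pow_iff_le_right hp.one_lt).1 h1
  have hrel' : N.relIndex P = p ^ (δ - j) := by
    have h1 : p ^ δ = p ^ (δ - j) * p ^ j := by rw [← pow_add, Nat.sub_add_cancel hjδ]
    rw [h1] at hrel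
    exact Nat.eq_of_mul_eq_mul_right (pow_pos hp.pos j) hrel
  -- second isomorphism theorem
  have hsup : N.relIndex (P ⊔ N) = N.relIndex P := Subgroup.relIndex_sup_right P N
  have hmul : N.relIndex (P ⊔ N) * (P ⊔ N).index = N.index :=
    Subgroup.relIndex_mul_index le_sup_right
  rw [hsup, hrel'] at hmul
  have hidx : (P ⊔ N).index ≠ 0 := Subgroup.index_ne_zero_of_finite
  have hfac : (δ - j) + ((P ⊔ N).index).factorization p = m := by
    rw [hm, ← hmul, Nat.factorization_mul (pow_pos hp.pos _).ne' hidx, Finsupp.add_apply,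
      Nat.factorization_pow, Finsupp.smul_apply, hp.factorization_self, smul_eq_mul, mul_one]
  have h0 : ((P ⊔ N).index).factorization p = 0 := by omega
  have hjeq : j = blockDefect p b := by omega
  refine ⟨?_, ?_, hdef⟩
  · intro hdvd
    have := (hp.pow_dvd_iff_le_factorization hidx (k := 1)).1 (by simpa using hdvd)
    omega
  · have heq : (P ⊓ N).subgroupOf N = Q := by
      apply Subgroup.eq_of_le_of_card_ge hle
      rw [hj, hcardQ, hjeq]
    rw [heq]
    exact hQ

end LemmaL

end Cfsg.Agent.Lib.Helper82
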