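import Mathlib
import Cfsg.Prelude.Def_Blocks
import Cfsg.Agent.Lib.Helper82.WeakOrth
import Cfsg.Agent.Lib.Helper82.Counting

set_option autoImplicit false
set_option linter.style.haveILetI false
set_option linter.unusedSectionVars false

namespace Cfsg.Agent.Lib.Helper82

open Cfsg
open scoped ComplexConjugate

section DefectZero

universe u
variable {G : Type u} [Group G] [Fintype G]

open Cfsg.Agent.Lib.Helper21 Cfsg.Agent.Lib.Helper83

/-- There is a maximal ideal of the algebraic integers containing a given prime. -/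
theorem exists_isPModular (p : ℕ) (hp : p.Prime) : ∃ M : Ideal AlgInt, IsPModular p M := by
  have hne : Ideal.span {(p : AlgInt)} ≠ ⊤ := by
    intro htop
    rw [Ideal.eq_top_iff_one, Ideal.mem_span_singleton] at htop
    obtain ⟨a, ha⟩ := htop
    have ha' : (1 : ℂ) = (p : ℂ) * (a : ℂ) := by
      have := congrArg (fun z : AlgInt => (z : ℂ)) ha
      simpa using this
    have hp0 : (p : ℂ) ≠ 0 := Nat.cast_ne_zero.2 hp.ne_zero
    have haq : (a : ℂ) = ((1 / p : ℚ) : ℂ) := by
      push_cast
      field_simp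
      rw [mul_comm]; exact ha'.symm
    have hint : IsIntegral ℤ (((1 / p : ℚ)) : ℂ) := by
      rw [← haq]; exact a.2
    obtain ⟨k, hk⟩ := exists_int_of_isIntegral_ratCast hint
    have hpq : (p : ℚ) ≠ 0 := Nat.cast_ne_zero.2 hp.ne_zero
    have h1 : (p : ℚ) * k = 1 := by
      rw [← hk]; field_simp
    have h2 : (p : ℤ) * k = 1 := by exact_mod_cast h1
    have h3 : (p : ℤ) ∣ 1 := ⟨k, h2.symm⟩
    have h4 : p ∣ 1 := by exact_mod_cast h3
    exact hp.one_lt.ne' (Nat.dvd_one.1 h4)
  obtain ⟨M, hMmax, hle⟩ := Ideal.exists_le_maximal _ hne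
  exact ⟨M, hp, hMmax, hle (Ideal.subset_span rfl)⟩

/-- A character of `p`-defect zero is alone in its block. -/
theorem blockOf_eq_singleton_of_not_dvd {p : ℕ} {M : Ideal AlgInt} (hMp : IsPModular p M)
    (χ : IrrCharacter G) (h : ¬ p ∣ Nat.card G / charDegree (χ : G → ℂ)) :
    blockOf M (χ : G → ℂ) = {χ} := by
  classical
  haveI : Fintype (IrrCharacter G) := Fintype.ofFinite _
  have hM : M.IsPrime := hMp.2.1.isPrime
  have hχc := IsIrrCharacter.isCharacter χ.2
  obtain ⟨k, hk⟩ := IsIrrCharacter.charDegree_dvd_card χ.2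
  have hdpos := IsIrrCharacter.charDegree_pos χ.2
  have hdiv : Nat.card G / charDegree (χ : G → ℂ) = k := by
    rw [hk, Nat.mul_div_cancel_left _ hdpos]
  rw [hdiv] at h
  have hk0 : (k : ℂ) ≠ 0 := by
    intro h0
    have : k = 0 := by exact_mod_cast h0
    rw [this] at h
    exact h (dvd_zero p)
  have hkinv : MemLocalRing M ((k : ℂ)⁻¹) :=
    memLocalRing_inv (memLocalRing_natCast hM k)
      (fun hh => h ((memLocalIdeal_natCast_iff hMp k).1 hh))
  have hA : ∀ g : G, MemLocalRing M (blockCoeff ({χ} : Set (IrrCharacter G)) g) := by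
    intro g
    rw [blockCoeff, finsum_mem_singleton]
    have hd : ((χ : G → ℂ) 1) = (charDegree (χ : G → ℂ) : ℂ) :=
      (IsCharacter.charDegree_cast hχc).symm
    have hd0 : (charDegree (χ : G → ℂ) : ℂ) ≠ 0 := Nat.cast_ne_zero.2 hdpos.ne'
    have hrew : (Nat.card G : ℂ)⁻¹ * ((χ : G → ℂ) 1 * conj ((χ : G → ℂ) g)) =
        (k : ℂ)⁻¹ * (χ : G → ℂ) g⁻¹ := by
      rw [hk, hd, char_inv hχc]
      push_cast
      field_simp
    rw [hrew]
    exact memLocalRing_mul hM hkinv (memLocalRing_of_isIntegral hM (IsCharacter.isIntegral hχc _))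
  apply Set.Subset.antisymm
  · exact blockOf_subset_of_memLocalRing_blockCoeff hM {χ} hA (Set.mem_singleton χ)
  · intro ψ hψ
    rw [Set.mem_singleton_iff] at hψ
    rw [hψ]
    exact mem_blockOf_self hM χ

/-- A character alone in its block vanishes on `p`-singular elements. -/
theorem eq_zero_of_blockOf_eq_singleton {p : ℕ} {M : Ideal AlgInt} (hMp : IsPModular p M)
    (χ : IrrCharacter G) (h : blockOf M (χ : G → ℂ) = {χ}) (y : G) (hy : p ∣ orderOf y) :
    (χ : G → ℂ) y = 0 := by
  have h1 := weak_block_orthogonality hMp χ 1 y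
    (by rw [orderOf_one]; exact hMp.1.not_dvd_one) hy
  rw [h, finsum_mem_singleton] at h1
  have h0 := IsIrrCharacter.apply_one_ne_zero χ.2
  have h2 := (mul_eq_zero.1 h1).resolve_left h0
  simpa using h2

/-- A character vanishing on `p`-singular elements has degree divisible by the order of a Sylow
`p`-subgroup. -/
theorem card_sylow_dvd_charDegree {p : ℕ} [Fact p.Prime] {χ : G → ℂ} (hχ : IsCharacter G χ)
    (hvan : ∀ y : G, p ∣ orderOf y → χ y = 0) (P : Sylow p G) :
    Nat.card P ∣ charDegree χ := by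
  classical
  haveI : Fintype (P : Subgroup G) := Fintype.ofFinite _
  obtain ⟨m, hm⟩ := IsCharacter.sum_subgroup hχ (P : Subgroup G)
  have hsum : ∑ u : (P : Subgroup G), χ u = χ 1 := by
    rw [Finset.sum_eq_single (1 : (P : Subgroup G))]
    · rfl
    · intro u _ hu
      apply hvan
      have hu' : (u : G) ≠ 1 := fun h => hu (Subtype.ext h)
      obtain ⟨j, hj⟩ := (IsPGroup.iff_orderOf.1 P.isPGroup') u
      have hj' : orderOf (u : G) = p ^ j := by rw [← hj, Subgroup.orderOf_coe]
      rw [hj']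
      rcases Nat.eq_zero_or_pos j with h0 | h0
      · exfalso
        rw [h0, pow_zero, orderOf_eq_one_iff] at hj'
        exact hu' hj'
      · exact dvd_pow_self p h0.ne'
    · intro h0
      exact absurd (Finset.mem_univ _) h0
  rw [hsum, ← IsCharacter.charDegree_cast hχ, ← Nat.card_eq_fintype_card] at hm
  refine ⟨m, ?_⟩
  exact_mod_cast hm

/-- A character alone in its block has `p`-defect zero. -/
theorem not_dvd_of_blockOf_eq_singleton {p : ℕ} [Fact p.Prime] {M : Ideal AlgInt}
    (hMp : IsPModular p M) (χ : IrrCharacter G) (h : blockOf M (χ : G → ℂ) = {χ}) :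
    ¬ p ∣ Nat.card G / charDegree (χ : G → ℂ) := by
  classical
  have hp : p.Prime := hMp.1
  have hχc := IsIrrCharacter.isCharacter χ.2
  obtain ⟨k, hk⟩ := IsIrrCharacter.charDegree_dvd_card χ.2
  have hdpos := IsIrrCharacter.charDegree_pos χ.2
  have hdiv : Nat.card G / charDegree (χ : G → ℂ) = k := by
    rw [hk, Nat.mul_div_cancel_left _ hdpos]
  rw [hdiv]
  intro hpk
  obtain ⟨P⟩ : Nonempty (Sylow p G) := inferInstance
  have h1 := card_sylow_dvd_charDegree hχc (eq_zero_of_blockOf_eq_singleton hMp χ h) P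
  rw [Sylow.card_eq_multiplicity] at h1
  have h2 : p ^ ((Nat.card G).factorization p + 1) ∣ Nat.card G := by
    rw [pow_succ]
    conv_rhs => rw [hk]
    exact Nat.mul_dvd_mul h1 hpk
  exact Nat.pow_succ_factorization_not_dvd Nat.card_pos.ne' hp h2

end DefectZero

end Cfsg.Agent.Lib.Helper82
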