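import Cfsg.Agent.Lib.Helper99.OTsDefs
import Cfsg.Agent.Lib.Helper98.Sy6
import Cfsg.Agent.Lib.Helper08.OsElA

/-!
# K-OTs-O7 (keystone 597307, architect helper99): `exists_model_blocks`

Model with `j` blocks: helper98's symplectic model `Sy.VS c' 0 j` with `A := Sy.BS`, `y := Sy.yS y0`, and the QUADRATIC
form `Q v := A (y v) v` (all characteristics), whose polar form is the twisted form `Helper08.OsEl.tw A r y`.
-/

set_option autoImplicit false
set_option linter.unusedSectionVars false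
set_option linter.unusedVariables false
set_option linter.style.haveILetI false

namespace Cfsg.Agent.Lib.Helper82.OTs

open Module Cfsg.Agent.Lib.Helper98.Elus Cfsg.Agent.Lib.Helper98.Sy Cfsg.Agent.Lib.Helper99.OTs

universe u
variable {F : Type u} [Field F] {V : Type u} [AddCommGroup V] [Module F V]

/-- the quadratic form `v ↦ A (y v) v` -/
noncomputable def twQ (A : LinearMap.BilinForm F V) (y : V →ₗ[F] V) : QuadraticForm F V :=
  LinearMap.BilinMap.toQuadraticMap (A.compl₁₂ y LinearMap.id)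

theorem twQ_apply (A : LinearMap.BilinForm F V) (y : V →ₗ[F] V) (v : V) :
    twQ A y v = A (y v) v := by
  simp [twQ, LinearMap.BilinMap.toQuadraticMap_apply, LinearMap.compl₁₂_apply]

/-- the polar form of `v ↦ A (y v) v` is the twisted form, for an isometry `y` of order `r` of an alternating form -/
theorem polarBilin_twQ (A : LinearMap.BilinForm F V) (hA : A.IsAlt) (r : ℕ) (hr : 0 < r)
    (y : V →ₗ[F] V) (hy : y ^ r = 1) (hiso : Iso A y) (u v : V) :
    QuadraticMap.polarBilin (twQ A y) u v = Cfsg.Agent.Lib.Helper08.OsEl.tw A r y u v := by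
  show QuadraticMap.polar (twQ A y) u v = _
  unfold QuadraticMap.polar
  rw [twQ_apply, twQ_apply, twQ_apply, Cfsg.Agent.Lib.Helper08.OsEl.tw_apply,
    Cfsg.Agent.Lib.Helper08.OsEl.iso_pred A r hr y hy hiso u v, alt_swap hA u (y v)]
  simp only [map_add, LinearMap.add_apply]
  ring

theorem twQ_iso (A : LinearMap.BilinForm F V) (y : V →ₗ[F] V) (hiso : Iso A y) :
    QIso (twQ A y) y := by
  intro v
  rw [twQ_apply, twQ_apply, hiso]

/-- **O7 (597307)** -/
theorem exists_model_blocks [Fintype F] (p f : ℕ) [Fact p.Prime] (hF : Fintype.card F = p ^ f)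
    (r : ℕ) [Fact r.Prime] (hpr : p ≠ r) (hr2 : r ≠ 2) (hrF : (r : F) ≠ 0) (j : ℕ) :
    ∃ (V : Type u) (_ : AddCommGroup V) (_ : Module F V) (_ : FiniteDimensional F V)
      (Q : QuadraticForm F V) (y : V →ₗ[F] V),
      NonDeg (QuadraticMap.polarBilin Q) ⊤ ∧ QIso Q y ∧ y ^ r = 1 ∧ (∀ v, gsum r y v = 0) ∧
      finrank F V = cOf (orderOf ((Fintype.card F : ℕ) : ZMod r)) * j := by
  classical
  have hr : r.Prime := Fact.out
  have hodd : Odd r := hr.eq_two_or_odd'.resolve_left hr2
  obtain ⟨c', hc⟩ : ∃ c', cOf (orderOf ((Fintype.card F : ℕ) : ZMod r)) = 2 * c' := by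
    obtain ⟨c', hc'⟩ := cOf_even (orderOf ((Fintype.card F : ℕ) : ZMod r))
    exact ⟨c', by omega⟩
  obtain ⟨y0, hiso0, hy0, -, hG0⟩ := exists_block p f hF r hpr hr2 hrF c' hc
  set A : LinearMap.BilinForm F (VS (F := F) c' 0 j) := BS c' 0 j with hAdef
  set y : VS (F := F) c' 0 j →ₗ[F] VS (F := F) c' 0 j := yS y0 with hydef
  have hA : A.IsAlt := BS_alt
  have hiso : Iso A y := yS_iso y0 hiso0
  have hy : y ^ r = 1 := yS_pow_eq_one r y0 hy0
  have hG : ∀ v, gsum r y v = 0 := by
    intro v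
    rw [hydef, gsum_yS r y0 hG0 v]
    exact Prod.ext rfl (Subsingleton.elim _ _)
  refine ⟨VS (F := F) c' 0 j, inferInstance, inferInstance, inferInstance, twQ A y, y, ?_,
    twQ_iso A y hiso, hy, hG, ?_⟩
  · have h1 : NonDeg (Cfsg.Agent.Lib.Helper08.OsEl.tw A r y) ⊤ :=
      (Cfsg.Agent.Lib.Helper08.OsEl.tw_nonDeg_iff A r hodd hrF y hy ⊤
        (fun _ _ => Submodule.mem_top)
        (fun v _ => (mem_V1 r y v).mpr (hG v))).mpr BS_nonDeg
    intro u hu h
    apply h1 u hu
    intro v hv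
    rw [← polarBilin_twQ A hA r hr.pos y hy hiso u v]
    exact h v hv
  · rw [finrank_VS, hc]
    ring

end Cfsg.Agent.Lib.Helper82.OTs
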