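import Cfsg.Agent.Lib.Helper06.Hall4.Defs

/-!
# K-H4-BR3 (keystone 422103, architect helper6, S4221): `card_eq_mul_FS`

`|G| = n (n-1) (n-2) (n-3) · |FS G {a,b,c,d}|` for a 4-fold pretransitive `G ≤ Perm α`.
-/

set_option autoImplicit false
set_option linter.unusedSectionVars false
set_option linter.unusedVariables false
set_option linter.style.haveILetI false

open Equiv

namespace Cfsg.Agent.Lib.Helper82.Hall4

open Cfsg.Agent.Lib.Helper06.Hall4

variable {α : Type*} [Fintype α] [DecidableEq α]

/-- the pointwise stabilizer `FS G S` has the cardinality of Mathlib's `fixingSubgroup ↥G S` -/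
theorem card_fixingSubgroup_eq (G : Subgroup (Perm α)) (S : Set α) :
    Nat.card (fixingSubgroup G S) = Nat.card (FS G S) := by
  apply Nat.card_congr
  refine ⟨fun g => ⟨((g : ↥G) : Perm α), (g : ↥G).2, fun x hx => ?_⟩,
    fun g => ⟨⟨(g : Perm α), g.2.1⟩, ?_⟩, ?_, ?_⟩
  · have h := (mem_fixingSubgroup_iff ↥G).mp g.2 x hx
    exact h
  · rw [mem_fixingSubgroup_iff]
    intro x hx
    exact g.2.2 x hx
  · intro g
    rfl
  · intro g
    rfl

/-- **LEAF BR3 (422103)** -/
theorem card_eq_mul_FS (G : Subgroup (Perm α)) (hG : MulAction.IsMultiplyPretransitive G α 4)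
    {a b c d : α} (hab : a ≠ b) (hac : a ≠ c) (had : a ≠ d) (hbc : b ≠ c) (hbd : b ≠ d)
    (hcd : c ≠ d) :
    Nat.card G = Fintype.card α * (Fintype.card α - 1) * (Fintype.card α - 2) *
      (Fintype.card α - 3) * Nat.card (FS G {a, b, c, d}) := by
  classical
  obtain ⟨s, hs⟩ : ∃ s : Set α, s = {a, b, c, d} := ⟨_, rfl⟩
  have hsc : s.ncard = 4 := by
    rw [hs, Set.ncard_insert_of_notMem (by simp [hab, hac, had]),
      Set.ncard_insert_of_notMem (by simp [hbc, hbd]),
      Set.ncard_insert_of_notMem (by simp [hcd]), Set.ncard_singleton]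
  have hidx := hG.index_of_fixingSubgroup_mul hsc
  have hcard : (fixingSubgroup G s).index * Nat.card (fixingSubgroup G s) = Nat.card G :=
    Subgroup.index_mul_card _
  rw [card_fixingSubgroup_eq G s] at hcard
  rw [Nat.card_eq_fintype_card] at hidx
  have h4 : 4 ≤ Fintype.card α := by
    rw [← hsc, ← Nat.card_eq_fintype_card, ← Set.ncard_univ]
    exact Set.ncard_le_ncard (Set.subset_univ s)
  have hfac := Nat.factorial_mul_descFactorial h4
  have hpos : 0 < (Fintype.card α - 4).factorial := Nat.factorial_pos _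
  have hindex : (fixingSubgroup G s).index = (Fintype.card α).descFactorial 4 := by
    apply Nat.eq_of_mul_eq_mul_left hpos
    rw [hfac, mul_comm, hidx]
  have hdesc : (Fintype.card α).descFactorial 4 = Fintype.card α * (Fintype.card α - 1) *
      (Fintype.card α - 2) * (Fintype.card α - 3) := by
    simp only [Nat.descFactorial_succ, Nat.descFactorial_zero, Nat.sub_zero, mul_one]
    ring
  rw [← hs, ← hcard, hindex, hdesc]

end Cfsg.Agent.Lib.Helper82.Hall4
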