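import Mathlib
import Cfsg.Prelude.Def_Local
import Cfsg.Prelude.Def_LocalEven

/-!
# K-PMinAlt-G2 (keystone 293002; architect helper6)
-/

set_option autoImplicit false
set_option linter.unusedSectionVars false
set_option linter.unusedVariables false
set_option linter.style.haveILetI false

namespace Cfsg.Agent.Lib.Helper82.PMinAlt

/-- **K-PMinAlt-G2.** A normal subgroup containing every Sylow `p`-subgroup of a `p`-minimal group
is the whole group. -/
theorem eq_top_of_isPMinimal_of_sylow_le {X : Type*} [Group X] [Finite X] (p : ℕ) [Fact p.Prime]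
    (hX : Cfsg.IsPMinimal p X) (K : Subgroup X) [K.Normal]
    (hK : ∀ S : Sylow p X, (S : Subgroup X) ≤ K) : K = ⊤ := by
  by_contra hne
  obtain ⟨S⟩ : Nonempty (Sylow p X) := inferInstance
  obtain ⟨hSn, M, ⟨hM, hSM⟩, huniq⟩ := hX S
  have hN : Subgroup.normalizer ((S : Subgroup X) : Set X) ≠ ⊤ := by
    intro h
    exact hSn (Subgroup.normalizer_eq_top_iff.mp h)
  obtain ⟨M₁, hM₁, hKM₁⟩ := (eq_top_or_exists_le_coatom K).resolve_left hne
  obtain ⟨M₂, hM₂, hNM₂⟩ := (eq_top_or_exists_le_coatom _).resolve_left hN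
  have h1 : M₁ = M := huniq M₁ ⟨hM₁, (hK S).trans hKM₁⟩
  have h2 : M₂ = M := huniq M₂ ⟨hM₂, Subgroup.le_normalizer.trans hNM₂⟩
  have hfr := Sylow.normalizer_sup_eq_top' S (hK S)
  apply hM.1
  rw [eq_top_iff, ← hfr]
  exact sup_le (h2 ▸ hNM₂) (h1 ▸ hKM₁)

end Cfsg.Agent.Lib.Helper82.PMinAlt
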