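import Mathlib
import Cfsg.Prelude.Def_Blocks
import Cfsg.Prelude.Def_BlockRank
import Cfsg.Agent.Lib.Helper82.BlockOrth
import Cfsg.Agent.Lib.Helper82.RankLemmas

set_option autoImplicit false
set_option linter.style.haveILetI false
set_option linter.unusedSectionVars false

namespace Cfsg.Agent.Lib.Helper82

open Cfsg
open scoped ComplexConjugate

section PRegularPart

universe u
variable {G : Type u} [Group G] {p : ℕ}

theorem pRegularPart_of_regular (χ : G → ℂ) {g : G} (h : ¬ p ∣ orderOf g) :
    pRegularPart p χ g = χ g := by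
  unfold pRegularPart
  exact if_pos h

theorem pRegularPart_of_singular (χ : G → ℂ) {g : G} (h : p ∣ orderOf g) :
    pRegularPart p χ g = 0 := by
  unfold pRegularPart
  exact if_neg (not_not.2 h)

theorem pRegularPart_apply (χ : G → ℂ) (g : G) [Decidable (p ∣ orderOf g)] :
    pRegularPart p χ g = if p ∣ orderOf g then 0 else χ g := by
  split_ifs with h
  · exact pRegularPart_of_singular χ h
  · exact pRegularPart_of_regular χ h

theorem pRegularPart_idem (χ : G → ℂ) : pRegularPart p (pRegularPart p χ) = pRegularPart p χ := by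
  classical
  funext g
  rw [pRegularPart_apply, pRegularPart_apply]
  split_ifs <;> rfl

/-- `pRegularPart` as a linear map. -/
noncomputable def pRegLin (G : Type u) [Group G] (p : ℕ) : (G → ℂ) →ₗ[ℂ] (G → ℂ) where
  toFun := pRegularPart p
  map_add' f h := by
    classical
    funext g
    rw [Pi.add_apply, pRegularPart_apply, pRegularPart_apply, pRegularPart_apply]
    split_ifs <;> simp
  map_smul' c f := by
    classical
    funext g
    rw [Pi.smul_apply, pRegularPart_apply, pRegularPart_apply, RingHom.id_apply]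
    split_ifs <;> simp

theorem pRegLin_apply (χ : G → ℂ) : pRegLin G p χ = pRegularPart p χ := rfl

theorem pRegularPart_isClassFunction {χ : G → ℂ} (hχ : IsClassFunction G χ) :
    IsClassFunction G (pRegularPart p χ) := by
  classical
  intro g h
  have hord : orderOf (h * g * h⁻¹) = orderOf g := by
    have := (MulAut.conj h).orderOf_eq g
    rwa [MulAut.conj_apply] at this
  rw [pRegularPart_apply, pRegularPart_apply, hord, hχ g h]

end PRegularPart

section BlockRank

universe u
variable {G : Type u} [Group G] [Fintype G] {p : ℕ}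

open Cfsg.Agent.Lib.Helper21 Cfsg.Agent.Lib.Helper83

theorem classInner_pRegularPart_left (χ ψ : G → ℂ) [DecidablePred fun x : G => p ∣ orderOf x] :
    classInner (pRegularPart p χ) ψ =
      (Nat.card G : ℂ)⁻¹ * ∑ x : G, (if p ∣ orderOf x then 0 else χ x * conj (ψ x)) := by
  rw [classInner_def]
  congr 1
  refine Finset.sum_congr rfl fun x _ => ?_
  rw [pRegularPart_apply]
  split_ifs <;> simp

theorem classInner_pRegularPart_comm (χ ψ : G → ℂ) :
    classInner (pRegularPart p χ) ψ = classInner χ (pRegularPart p ψ) := by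
  classical
  rw [classInner_def, classInner_def]
  congr 1
  refine Finset.sum_congr rfl fun x _ => ?_
  rw [pRegularPart_apply, pRegularPart_apply]
  split_ifs <;> simp

/-- Regular parts of characters in different blocks are orthogonal. -/
theorem classInner_pRegularPart_eq_zero {M : Ideal AlgInt} (hMp : IsPModular p M)
    (χ ψ : IrrCharacter G) (h : ¬ SameBlock M (χ : G → ℂ) (ψ : G → ℂ)) :
    classInner (pRegularPart p (χ : G → ℂ)) (ψ : G → ℂ) = 0 := by
  classical
  rw [classInner_pRegularPart_left, sum_regular_mul_conj_eq_zero hMp χ ψ h, mul_zero]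

variable [Fintype (IrrCharacter G)]

/-- The Gram matrix of the regular parts of the members of `B` against all irreducible
characters. -/
noncomputable def gramReg (p : ℕ) (B : Set (IrrCharacter G)) [DecidablePred (· ∈ B)] :
    Matrix (IrrCharacter G) (IrrCharacter G) ℂ :=
  Matrix.of fun χ ψ => if χ ∈ B then classInner (pRegularPart p (χ : G → ℂ)) (ψ : G → ℂ) else 0

theorem gramReg_apply (B : Set (IrrCharacter G)) [DecidablePred (· ∈ B)] (χ ψ : IrrCharacter G) :
    gramReg p B χ ψ =
      if χ ∈ B then classInner (pRegularPart p (χ : G → ℂ)) (ψ : G → ℂ) else 0 := rfl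

/-- Expansion of the regular part of a character through the irreducible characters. -/
theorem pRegularPart_eq_sum_irr (χ : IrrCharacter G) :
    pRegularPart p (χ : G → ℂ) = ∑ ψ : IrrCharacter G,
      classInner (pRegularPart p (χ : G → ℂ)) (ψ : G → ℂ) • (ψ : G → ℂ) :=
  classFunction_eq_sum_irr (pRegularPart_isClassFunction (isClassFunction_irr χ))

/-- The linear map `c ↦ ∑ ψ, c ψ • ψ`. -/
noncomputable def irrComb (G : Type u) [Group G] [Fintype (IrrCharacter G)] :
    (IrrCharacter G → ℂ) →ₗ[ℂ] (G → ℂ) :=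
  Fintype.linearCombination ℂ (fun ψ : IrrCharacter G => (ψ : G → ℂ))

theorem irrComb_apply (c : IrrCharacter G → ℂ) :
    irrComb G c = ∑ ψ : IrrCharacter G, c ψ • (ψ : G → ℂ) := by
  rw [irrComb, Fintype.linearCombination_apply]

theorem irrComb_injective : Function.Injective (irrComb G) := by
  rw [← LinearMap.ker_eq_bot, LinearMap.ker_eq_bot']
  intro c hc
  rw [irrComb_apply] at hc
  funext ψ
  exact (Fintype.linearIndependent_iff.1 irr_linearIndependent) c hc ψ

section GramBlock

variable {M : Ideal AlgInt} (hMp : IsPModular p M) (χ₀ : IrrCharacter G)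
  [DecidablePred (· ∈ blockOf M (χ₀ : G → ℂ))]

include hMp in
/-- For `χ` in the block, the Gram row of `χ` vanishes outside the block. -/
theorem classInner_pRegularPart_eq_zero_of_mem {χ ψ : IrrCharacter G}
    (hχ : χ ∈ blockOf M (χ₀ : G → ℂ)) (hψ : ψ ∉ blockOf M (χ₀ : G → ℂ)) :
    classInner (pRegularPart p (χ : G → ℂ)) (ψ : G → ℂ) = 0 := by
  apply classInner_pRegularPart_eq_zero hMp
  intro h
  exact hψ (sameBlock_trans hMp.2.1.isPrime (mem_blockOf_iff.1 hχ) h)

include hMp in
theorem gramReg_mul_self :
    gramReg p (blockOf M (χ₀ : G → ℂ)) * gramReg p (blockOf M (χ₀ : G → ℂ)) =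
      gramReg p (blockOf M (χ₀ : G → ℂ)) := by
  classical
  ext χ ψ
  rw [Matrix.mul_apply]
  by_cases hχ : χ ∈ blockOf M (χ₀ : G → ℂ)
  · have h1 : ∀ θ : IrrCharacter G,
        gramReg p (blockOf M (χ₀ : G → ℂ)) χ θ * gramReg p (blockOf M (χ₀ : G → ℂ)) θ ψ =
        classInner (classInner (pRegularPart p (χ : G → ℂ)) (θ : G → ℂ) • (θ : G → ℂ))
          (pRegularPart p (ψ : G → ℂ)) := by
      intro θ
      rw [classInner_smul_left, gramReg_apply, gramReg_apply, if_pos hχ]
      split_ifs with hθ
      · rw [classInner_pRegularPart_comm (θ : G → ℂ) (ψ : G → ℂ)]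
      · rw [classInner_pRegularPart_eq_zero_of_mem hMp χ₀ hχ hθ, zero_mul, zero_mul]
    rw [Finset.sum_congr rfl fun θ _ => h1 θ, ← classInner_sum_left, ← pRegularPart_eq_sum_irr,
      ← classInner_pRegularPart_comm, pRegularPart_idem, gramReg_apply, if_pos hχ]
  · rw [gramReg_apply, if_neg hχ]
    refine Finset.sum_eq_zero fun θ _ => ?_
    rw [gramReg_apply, if_neg hχ, zero_mul]

/-- The trace of the Gram matrix. -/
theorem trace_gramReg (B : Set (IrrCharacter G)) [DecidablePred (· ∈ B)] :
    (gramReg p B).trace = ∑ χ : IrrCharacter G,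
      if χ ∈ B then classInner (pRegularPart p (χ : G → ℂ)) (χ : G → ℂ) else 0 := by
  rw [Matrix.trace]
  rfl

/-- The rank of the Gram matrix is the `p`-regular rank. -/
theorem rank_gramReg (B : Set (IrrCharacter G)) [DecidablePred (· ∈ B)] :
    (gramReg p B).rank = blockRank p B := by
  classical
  rw [Matrix.rank_eq_finrank_span_row, blockRank]
  set S := Submodule.span ℂ (Set.range (gramReg p B).row) with hS
  have h1 : Module.finrank ℂ S = Module.finrank ℂ (S.map (irrComb G)) :=
    (LinearEquiv.finrank_eq (Submodule.equivMapOfInjective (irrComb G) irrComb_injective S))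
  rw [h1, hS, Submodule.map_span]
  have hrow : ∀ χ : IrrCharacter G, irrComb G ((gramReg p B).row χ) =
      if χ ∈ B then pRegularPart p (χ : G → ℂ) else 0 := by
    intro χ
    rw [irrComb_apply]
    split_ifs with hχ
    · rw [pRegularPart_eq_sum_irr χ]
      refine Finset.sum_congr rfl fun ψ _ => ?_
      rw [Matrix.row_apply, gramReg_apply, if_pos hχ]
    · refine Finset.sum_eq_zero fun ψ _ => ?_
      rw [Matrix.row_apply, gramReg_apply, if_neg hχ, zero_smul]
  have hspan : Submodule.span ℂ ((irrComb G) '' Set.range (gramReg p B).row) =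
      Submodule.span ℂ ((fun χ : IrrCharacter G => pRegularPart p (χ : G → ℂ)) '' B) := by
    apply le_antisymm
    · rw [Submodule.span_le]
      rintro _ ⟨_, ⟨χ, rfl⟩, rfl⟩
      rw [hrow]
      split_ifs with hχ
      · exact Submodule.subset_span ⟨χ, hχ, rfl⟩
      · exact Submodule.zero_mem _
    · rw [Submodule.span_le]
      rintro _ ⟨χ, hχ, rfl⟩
      apply Submodule.subset_span
      refine ⟨(gramReg p B).row χ, ⟨χ, rfl⟩, ?_⟩
      rw [hrow, if_pos hχ]
  rw [hspan]

include hMp in
/-- **Trace formula for the `p`-regular rank of a block**: `l(B) = ∑_{χ ∈ B} ⟨χ⁰, χ⟩`. -/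
theorem blockRank_eq_sum :
    (blockRank p (blockOf M (χ₀ : G → ℂ)) : ℂ) = ∑ χ : IrrCharacter G,
      if χ ∈ blockOf M (χ₀ : G → ℂ) then
        classInner (pRegularPart p (χ : G → ℂ)) (χ : G → ℂ) else 0 := by
  classical
  rw [← rank_gramReg, rank_eq_trace_of_idem _ (gramReg_mul_self hMp χ₀), trace_gramReg]

end GramBlock

end BlockRank

end Cfsg.Agent.Lib.Helper82
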