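import Mathlib
import Cfsg.Prelude.Def_Blocks
import Cfsg.Prelude.Def_BlockRank
import Cfsg.Agent.Lib.Helper82.BlockOrthFull
import Cfsg.Agent.Lib.Helper82.VanishOffDefect
import Cfsg.Agent.Lib.Helper82.BlockRank
import Cfsg.Agent.Lib.Helper04.IndFun

set_option autoImplicit false
set_option linter.style.haveILetI false
set_option linter.unusedSectionVars false

/-!
# Subsections: class functions on the `p`-section of a `p`-element `x` and on `C_G(x)`
-/

namespace Cfsg.Agent.Lib.Helper82

open Cfsg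
open scoped ComplexConjugate

section PParts

variable {G : Type*} [Group G]

theorem isPPart_unique {p : ℕ} (hp : p.Prime) {g z z' : G} (h : IsPPart p g z)
    (h' : IsPPart p g z') : z = z' := by
  have := conj_ppart_of_conj_pow (a := 1) (t := 1) hp h h' hp.not_dvd_one (by simp)
  simpa using this

theorem isPPart_mul {p : ℕ} {x y : G} (hx : ∃ k : ℕ, orderOf x = p ^ k) (hy : ¬ p ∣ orderOf y)
    (hc : Commute x y) : IsPPart p (x * y) x := ⟨y, rfl, hc, hx, hy⟩

theorem orderOf_conj' (t z : G) : orderOf (t * z * t⁻¹) = orderOf z :=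
  (MulAut.conj t).orderOf_eq z

theorem isPPart_conj {p : ℕ} {g z : G} (h : IsPPart p g z) (t : G) :
    IsPPart p (t * g * t⁻¹) (t * z * t⁻¹) := by
  obtain ⟨y, hzy, hc, ⟨k, hk⟩, hy⟩ := h
  refine ⟨t * y * t⁻¹, ?_, ?_, ⟨k, by rw [orderOf_conj', hk]⟩, by rwa [orderOf_conj']⟩
  · rw [← hzy]; group
  · show t * z * t⁻¹ * (t * y * t⁻¹) = t * y * t⁻¹ * (t * z * t⁻¹)
    have h1 : z * y = y * z := hc.eq
    calc t * z * t⁻¹ * (t * y * t⁻¹) = t * (z * y) * t⁻¹ := by group
      _ = t * (y * z) * t⁻¹ := by rw [h1]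
      _ = t * y * t⁻¹ * (t * z * t⁻¹) := by group

end PParts

section Induction

variable {G : Type*} [Group G] [Fintype G]

/-- `x` as an element of its own centralizer. -/
def centElt (x : G) : Subgroup.centralizer ({x} : Set G) :=
  ⟨x, Subgroup.mem_centralizer_singleton_iff.2 rfl⟩

theorem coe_centElt (x : G) : ((centElt x : Subgroup.centralizer ({x} : Set G)) : G) = x := rfl

/-- Translate a function on `C_G(x)` by `x`. -/
def shiftFun (x : G) (φ : Subgroup.centralizer ({x} : Set G) → ℂ) :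
    Subgroup.centralizer ({x} : Set G) → ℂ := fun c => φ ((centElt x)⁻¹ * c)

theorem mem_centralizer_comm {x : G} (c : Subgroup.centralizer ({x} : Set G)) :
    (c : G) * x = x * (c : G) := Subgroup.mem_centralizer_singleton_iff.1 c.2

/-- The key term computation for induction from the section. -/
theorem extendByZero_shiftFun_conj {p : ℕ} (hp : p.Prime) {x : G}
    (hx : ∃ k : ℕ, orderOf x = p ^ k) (φ : Subgroup.centralizer ({x} : Set G) → ℂ)
    (hφ : IsClassFunction (Subgroup.centralizer ({x} : Set G)) φ)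
    (hsupp : ∀ c : Subgroup.centralizer ({x} : Set G), p ∣ orderOf c → φ c = 0)
    (y : Subgroup.centralizer ({x} : Set G)) (hy : ¬ p ∣ orderOf y) (t : G)
    [Decidable (t ∈ Subgroup.centralizer ({x} : Set G))] :
    extendByZero (Subgroup.centralizer ({x} : Set G)) (shiftFun x φ) (t⁻¹ * (x * (y : G)) * t) =
      if t ∈ Subgroup.centralizer ({x} : Set G) then φ y else 0 := by
  classical
  have hyG : ¬ p ∣ orderOf (y : G) := by rwa [Subgroup.orderOf_coe]
  split_ifs with ht
  · -- `t ∈ C`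
    have htx : t * x = x * t := Subgroup.mem_centralizer_singleton_iff.1 ht
    have hmem : t⁻¹ * (x * (y : G)) * t ∈ Subgroup.centralizer ({x} : Set G) :=
      Subgroup.mul_mem _ (Subgroup.mul_mem _ (Subgroup.inv_mem _ ht)
        (Subgroup.mul_mem _ (centElt x).2 y.2)) ht
    rw [Cfsg.Agent.Lib.Helper04.extendByZero_apply_of_mem _ _ _ hmem]
    show φ ((centElt x)⁻¹ * ⟨t⁻¹ * (x * (y : G)) * t, hmem⟩) = φ y
    set tC : Subgroup.centralizer ({x} : Set G) := ⟨t, ht⟩ with htC
    have h1 : (centElt x)⁻¹ * ⟨t⁻¹ * (x * (y : G)) * t, hmem⟩ = tC⁻¹ * y * tC⁻¹⁻¹ := by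
      apply Subtype.ext
      push_cast
      show x⁻¹ * (t⁻¹ * (x * (y : G)) * t) = t⁻¹ * (y : G) * t⁻¹⁻¹
      have h2 : t⁻¹ * x = x * t⁻¹ := by
        calc t⁻¹ * x = t⁻¹ * (x * t) * t⁻¹ := by group
          _ = t⁻¹ * (t * x) * t⁻¹ := by rw [htx]
          _ = x * t⁻¹ := by group
      calc x⁻¹ * (t⁻¹ * (x * (y : G)) * t) = x⁻¹ * ((t⁻¹ * x) * (y : G) * t) := by group
        _ = x⁻¹ * ((x * t⁻¹) * (y : G) * t) := by rw [h2]
        _ = t⁻¹ * (y : G) * t⁻¹⁻¹ := by group
    rw [h1, hφ]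
  · -- `t ∉ C`
    by_cases hmem : t⁻¹ * (x * (y : G)) * t ∈ Subgroup.centralizer ({x} : Set G)
    · rw [Cfsg.Agent.Lib.Helper04.extendByZero_apply_of_mem _ _ _ hmem]
      show φ ((centElt x)⁻¹ * ⟨t⁻¹ * (x * (y : G)) * t, hmem⟩) = 0
      by_contra hne
      apply ht
      set c : Subgroup.centralizer ({x} : Set G) := ⟨t⁻¹ * (x * (y : G)) * t, hmem⟩ with hc
      set y' : Subgroup.centralizer ({x} : Set G) := (centElt x)⁻¹ * c with hy'
      have hy'reg : ¬ p ∣ orderOf y' := fun h => hne (hsupp y' h)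
      have hy'G : ¬ p ∣ orderOf (y' : G) := by rwa [Subgroup.orderOf_coe]
      have hcx : (c : G) = x * (y' : G) := by
        rw [hy']
        push_cast
        rw [coe_centElt]
        group
      have hP1 : IsPPart p (c : G) x :=
        hcx ▸ isPPart_mul hx hy'G (mem_centralizer_comm y').symm
      have hP2 : IsPPart p (c : G) (t⁻¹ * x * t⁻¹⁻¹) := by
        have h0 := isPPart_conj (isPPart_mul hx hyG (mem_centralizer_comm y).symm) t⁻¹
        have h3 : t⁻¹ * (x * (y : G)) * t⁻¹⁻¹ = (c : G) := by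
          rw [hc, inv_inv]
        rwa [h3] at h0
      have h4 := isPPart_unique hp hP1 hP2
      rw [Subgroup.mem_centralizer_singleton_iff]
      rw [inv_inv] at h4
      symm
      calc x * t = t * (t⁻¹ * x * t) := by group
        _ = t * x := by rw [← h4]
    · exact Cfsg.Agent.Lib.Helper04.extendByZero_apply_not_mem _ _ _ hmem

theorem sum_ite_mem_subgroup (H : Subgroup G) [DecidablePred (· ∈ H)] (a : ℂ) :
    ∑ t : G, (if t ∈ H then a else 0) = (Nat.card H : ℂ) * a := by
  classical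
  rw [← Finset.sum_filter, Finset.sum_const, nsmul_eq_mul]
  congr 2
  rw [Nat.card_eq_fintype_card, Fintype.card_subtype]

/-- The section restriction `c ↦ θ (x c)` of a function on `G`. -/
def secFun (x : G) (θ : G → ℂ) : Subgroup.centralizer ({x} : Set G) → ℂ :=
  fun c => θ (x * (c : G))

theorem secFun_isClassFunction (x : G) {θ : G → ℂ} (hθ : IsClassFunction G θ) :
    IsClassFunction (Subgroup.centralizer ({x} : Set G)) (secFun x θ) := by
  intro c t
  show θ (x * ((t * c * t⁻¹ : Subgroup.centralizer ({x} : Set G)) : G)) = θ (x * (c : G))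
  have h1 : x * ((t * c * t⁻¹ : Subgroup.centralizer ({x} : Set G)) : G) =
      (t : G) * (x * (c : G)) * (t : G)⁻¹ := by
    push_cast
    have h2 := mem_centralizer_comm t
    calc x * ((t : G) * (c : G) * (t : G)⁻¹) = (x * (t : G)) * (c : G) * (t : G)⁻¹ := by group
      _ = ((t : G) * x) * (c : G) * (t : G)⁻¹ := by rw [h2]
      _ = (t : G) * (x * (c : G)) * (t : G)⁻¹ := by group
  rw [h1, hθ]

/-- Induction from the section: values on the section. -/
theorem indFun_shiftFun_apply {p : ℕ} (hp : p.Prime) {x : G}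
    (hx : ∃ k : ℕ, orderOf x = p ^ k) (φ : Subgroup.centralizer ({x} : Set G) → ℂ)
    (hφ : IsClassFunction (Subgroup.centralizer ({x} : Set G)) φ)
    (hsupp : ∀ c : Subgroup.centralizer ({x} : Set G), p ∣ orderOf c → φ c = 0)
    (y : Subgroup.centralizer ({x} : Set G)) (hy : ¬ p ∣ orderOf y) :
    indFun (Subgroup.centralizer ({x} : Set G)) (shiftFun x φ) (x * (y : G)) = φ y := by
  classical
  rw [Cfsg.Agent.Lib.Helper04.indFun_apply]
  simp_rw [extendByZero_shiftFun_conj hp hx φ hφ hsupp y hy]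
  rw [sum_ite_mem_subgroup, ← mul_assoc, inv_mul_cancel₀, one_mul]
  exact_mod_cast (Nat.card_pos (α := Subgroup.centralizer ({x} : Set G))).ne'

/-- Induction from the section: vanishing off the section. -/
theorem indFun_shiftFun_eq_zero {p : ℕ} {x : G}
    (hx : ∃ k : ℕ, orderOf x = p ^ k) (φ : Subgroup.centralizer ({x} : Set G) → ℂ)
    (hsupp : ∀ c : Subgroup.centralizer ({x} : Set G), p ∣ orderOf c → φ c = 0)
    (g : G) (hg : ∀ z : G, IsPPart p g z → ¬ IsConj x z) :
    indFun (Subgroup.centralizer ({x} : Set G)) (shiftFun x φ) g = 0 := by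
  classical
  rw [Cfsg.Agent.Lib.Helper04.indFun_apply]
  rw [Finset.sum_eq_zero, mul_zero]
  intro t _
  by_cases hmem : t⁻¹ * g * t ∈ Subgroup.centralizer ({x} : Set G)
  · rw [Cfsg.Agent.Lib.Helper04.extendByZero_apply_of_mem _ _ _ hmem]
    show φ ((centElt x)⁻¹ * ⟨t⁻¹ * g * t, hmem⟩) = 0
    by_contra hne
    set c : Subgroup.centralizer ({x} : Set G) := ⟨t⁻¹ * g * t, hmem⟩ with hc
    set y' : Subgroup.centralizer ({x} : Set G) := (centElt x)⁻¹ * c with hy'
    have hy'reg : ¬ p ∣ orderOf y' := fun h => hne (hsupp y' h)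
    have hy'G : ¬ p ∣ orderOf (y' : G) := by rwa [Subgroup.orderOf_coe]
    have hcx : (c : G) = x * (y' : G) := by
      rw [hy']
      push_cast
      rw [coe_centElt]
      group
    have hP1 : IsPPart p (c : G) x :=
      hcx ▸ isPPart_mul hx hy'G (mem_centralizer_comm y').symm
    have hP2 := isPPart_conj hP1 t
    have h3 : t * (c : G) * t⁻¹ = g := by
      rw [hc]; group
    rw [h3] at hP2
    exact hg _ hP2 (isConj_iff.2 ⟨t, rfl⟩)
  · exact Cfsg.Agent.Lib.Helper04.extendByZero_apply_not_mem _ _ _ hmem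

/-- Frobenius reciprocity for induction from the section. -/
theorem classInner_indFun_shiftFun {p : ℕ} {x : G}
    [Fintype (Subgroup.centralizer ({x} : Set G))]
    (φ : Subgroup.centralizer ({x} : Set G) → ℂ)
    (hsupp : ∀ c : Subgroup.centralizer ({x} : Set G), p ∣ orderOf c → φ c = 0)
    (χ : G → ℂ) (hχ : IsClassFunction G χ) :
    classInner (indFun (Subgroup.centralizer ({x} : Set G)) (shiftFun x φ)) χ =
      classInner φ (pRegularPart p (secFun x χ)) := by
  classical
  rw [Cfsg.Agent.Lib.Helper04.frobenius_reciprocity _ _ _ hχ]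
  unfold classInner
  congr 1
  rw [← Equiv.sum_comp (Equiv.mulLeft (centElt x))]
  refine Finset.sum_congr rfl fun y _ => ?_
  rw [Equiv.coe_mulLeft]
  show φ ((centElt x)⁻¹ * (centElt x * y)) * conj (χ ((centElt x * y : Subgroup.centralizer ({x} : Set G)) : G)) = _
  rw [inv_mul_cancel_left]
  by_cases hy : p ∣ orderOf y
  · rw [hsupp y hy, zero_mul, zero_mul]
  · rw [pRegularPart_of_regular _ hy]
    rfl

end Induction

end Cfsg.Agent.Lib.Helper82
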