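import Mathlib
import Cfsg.Prelude.Def_Blocks
import Cfsg.Prelude.Def_BlockRank
import Cfsg.Agent.Lib.Helper82.Subsection
import Cfsg.Agent.Lib.Helper21.BrauerCorr
import Cfsg.Agent.S0923

set_option autoImplicit false
set_option linter.style.haveILetI false
set_option linter.unusedSectionVars false

/-!
# Subsections and blocks: the generalized decomposition numbers respect the Brauer correspondence
-/

namespace Cfsg.Agent.Lib.Helper82

open Cfsg
open scoped ComplexConjugate
open Cfsg.Agent.Lib.Helper21 Cfsg.Agent.Lib.Helper83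

section General

universe u
variable {H : Type u} [Group H] [Fintype H] {p : ℕ} {M : Ideal AlgInt}

theorem blockPart_apply_inst (b : Set (IrrCharacter H)) (f : H → ℂ) (g : H) :
    blockPart b f g = ∑ᶠ χ ∈ b, classInner f (χ : H → ℂ) * (χ : H → ℂ) g := by
  unfold blockPart
  have : (Fintype.ofFinite H) = (inferInstance : Fintype H) := Subsingleton.elim _ _
  rw [this]

theorem classInner_sum_smul_pReg [Fintype (IrrCharacter H)] (c : IrrCharacter H → ℂ)
    (ψ : IrrCharacter H) :
    classInner (∑ ψ' : IrrCharacter H, c ψ' • (ψ' : H → ℂ)) (pRegularPart p (ψ : H → ℂ)) =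
      ∑ ψ' : IrrCharacter H, c ψ' * classInner (pRegularPart p (ψ' : H → ℂ)) (ψ : H → ℂ) := by
  rw [classInner_sum_left]
  refine Finset.sum_congr rfl fun ψ' _ => ?_
  rw [classInner_smul_left, classInner_pRegularPart_comm]

/-- Only the block of `ψ` contributes to the `p`-regular inner product with `ψ`. -/
theorem classInner_pReg_eq_blockPart (hMp : IsPModular p M) {f : H → ℂ}
    (hf : IsClassFunction H f) (ψ : IrrCharacter H) :
    classInner (pRegularPart p f) (ψ : H → ℂ) =
      classInner (pRegularPart p (blockPart (blockOf M (ψ : H → ℂ)) f)) (ψ : H → ℂ) := by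
  classical
  haveI : Fintype (IrrCharacter H) := Fintype.ofFinite _
  have hM : M.IsPrime := hMp.2.1.isPrime
  set b := blockOf M (ψ : H → ℂ) with hb
  set c : IrrCharacter H → ℂ := fun ψ' => classInner f (ψ' : H → ℂ) with hc
  have hf_exp : f = ∑ ψ' : IrrCharacter H, c ψ' • (ψ' : H → ℂ) := classFunction_eq_sum_irr hf
  have hfb : blockPart b f =
      ∑ ψ' : IrrCharacter H, (if ψ' ∈ b then c ψ' else 0) • (ψ' : H → ℂ) := by
    funext g
    rw [blockPart_apply_inst, finsum_mem_eq_sum_ite, Finset.sum_apply]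
    refine Finset.sum_congr rfl fun ψ' _ => ?_
    rw [Pi.smul_apply, smul_eq_mul]
    split_ifs
    · rfl
    · rw [zero_mul]
  have h1 : classInner (pRegularPart p f) (ψ : H → ℂ) =
      ∑ ψ' : IrrCharacter H, c ψ' * classInner (pRegularPart p (ψ' : H → ℂ)) (ψ : H → ℂ) := by
    rw [classInner_pRegularPart_comm]
    nth_rewrite 1 [hf_exp]
    exact classInner_sum_smul_pReg c ψ
  have h2 : classInner (pRegularPart p (blockPart b f)) (ψ : H → ℂ) =
      ∑ ψ' : IrrCharacter H, (if ψ' ∈ b then c ψ' else 0) *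
        classInner (pRegularPart p (ψ' : H → ℂ)) (ψ : H → ℂ) := by
    rw [classInner_pRegularPart_comm, hfb]
    exact classInner_sum_smul_pReg _ ψ
  rw [h1, h2]
  refine Finset.sum_congr rfl fun ψ' _ => ?_
  split_ifs with hψ'
  · rfl
  · rw [zero_mul]
    have hns : ¬ SameBlock M (ψ' : H → ℂ) (ψ : H → ℂ) := by
      intro hs
      exact hψ' (mem_blockOf_iff.2 (sameBlock_symm hs))
    rw [classInner_pRegularPart_eq_zero hMp ψ' ψ hns, mul_zero]

/-- Regrouping a sum of block ranks over a family of blocks as a sum over characters. -/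
theorem finsum_blockRank_eq (hMp : IsPModular p M) [Fintype (IrrCharacter H)]
    (P : Set (IrrCharacter H) → Prop) (hP : ∀ b, P b → IsPBlock M b)
    [DecidablePred fun ψ : IrrCharacter H => P (blockOf M (ψ : H → ℂ))] :
    ((∑ᶠ b ∈ {b : Set (IrrCharacter H) | P b}, blockRank p b : ℕ) : ℂ) =
      ∑ ψ : IrrCharacter H, if P (blockOf M (ψ : H → ℂ)) then
        classInner (pRegularPart p (ψ : H → ℂ)) (ψ : H → ℂ) else 0 := by
  classical
  have hM : M.IsPrime := hMp.2.1.isPrime
  have hfin : ({b : Set (IrrCharacter H) | P b}).Finite := Set.toFinite _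
  rw [finsum_mem_eq_finite_toFinset_sum _ hfin, Nat.cast_sum]
  have h1 : ∀ b ∈ hfin.toFinset, (blockRank p b : ℂ) =
      ∑ ψ : IrrCharacter H, if b = blockOf M (ψ : H → ℂ) then
        classInner (pRegularPart p (ψ : H → ℂ)) (ψ : H → ℂ) else 0 := by
    intro b hb
    have hPb : P b := by simpa using hb
    obtain ⟨ψ₀, rfl⟩ := hP b hPb
    rw [blockRank_eq_sum hMp ψ₀]
    refine Finset.sum_congr rfl fun ψ _ => ?_
    by_cases h : ψ ∈ blockOf M (ψ₀ : H → ℂ)
    · rw [if_pos h, if_pos]
      exact blockOf_eq_of_sameBlock hM (mem_blockOf_iff.1 h)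
    · rw [if_neg h, if_neg]
      intro heq
      exact h (heq ▸ mem_blockOf_self hM ψ)
  rw [Finset.sum_congr rfl h1, Finset.sum_comm]
  refine Finset.sum_congr rfl fun ψ _ => ?_
  rw [Finset.sum_ite_eq']
  by_cases h : P (blockOf M (ψ : H → ℂ))
  · rw [if_pos h, if_pos]
    simpa using h
  · rw [if_neg h, if_neg]
    simpa using h

end General

section Vanishing

universe u
variable {G : Type u} [Group G] [Fintype G] {p : ℕ} {M : Ideal AlgInt}

/-- **Second main theorem, inner product form**: the generalized decomposition number of `χ` at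
`ψ` (inner product on the `p`-regular elements of `C_G(x)`) vanishes unless the block of `ψ`
induces the block of `χ`. -/
theorem classInner_secFun_eq_zero (hMp : IsPModular p M) {x : G}
    (hx : ∃ k : ℕ, orderOf x = p ^ k)
    [Fintype (Subgroup.centralizer ({x} : Set G))]
    (χ : IrrCharacter G) (ψ : IrrCharacter (Subgroup.centralizer ({x} : Set G)))
    (hnot : ¬ IsInducedBlock M (Subgroup.centralizer ({x} : Set G))
      (blockOf M (ψ : Subgroup.centralizer ({x} : Set G) → ℂ)) (blockOf M (χ : G → ℂ))) :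
    classInner (pRegularPart p (secFun x (χ : G → ℂ)))
      (ψ : Subgroup.centralizer ({x} : Set G) → ℂ) = 0 := by
  classical
  haveI : Fact p.Prime := ⟨hMp.1⟩
  have hM : M.IsPrime := hMp.2.1.isPrime
  rw [classInner_pReg_eq_blockPart hMp (secFun_isClassFunction x (isClassFunction_irr χ)) ψ]
  have hzero : pRegularPart p (blockPart (blockOf M (ψ : Subgroup.centralizer ({x} : Set G) → ℂ))
      (secFun x (χ : G → ℂ))) = 0 := by
    funext y
    by_cases hy : p ∣ orderOf y
    · rw [pRegularPart_of_singular _ hy]; rfl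
    · rw [pRegularPart_of_regular _ hy]
      exact Cfsg.Agent.S0923.result p M hMp x hx (blockOf M (χ : G → ℂ)) ⟨χ, rfl⟩ χ
        (mem_blockOf_self hM χ) _ ⟨ψ, rfl⟩ hnot y hy
  rw [hzero, classInner_zero_left]

end Vanishing

section SectionIdentity

universe u
variable {G : Type u} [Group G] [Fintype G] {p : ℕ} {M : Ideal AlgInt}

/-- `θ ↦ (c ↦ θ (x c))` restricted to the `p`-regular elements of `C_G(x)`, as a linear map. -/
noncomputable def secLin (p : ℕ) (x : G) :
    (G → ℂ) →ₗ[ℂ] (Subgroup.centralizer ({x} : Set G) → ℂ) :=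
  (pRegLin (Subgroup.centralizer ({x} : Set G)) p).comp
    (LinearMap.funLeft ℂ ℂ (fun c : Subgroup.centralizer ({x} : Set G) => x * (c : G)))

theorem secLin_apply (x : G) (θ : G → ℂ) : secLin p x θ = pRegularPart p (secFun x θ) := rfl

theorem pRegularPart_secLin (x : G) (θ : G → ℂ) :
    pRegularPart p (secLin p x θ) = secLin p x θ := by
  rw [secLin_apply, pRegularPart_idem]

theorem secLin_isClassFunction (x : G) {θ : G → ℂ} (hθ : IsClassFunction G θ) :
    IsClassFunction (Subgroup.centralizer ({x} : Set G)) (secLin p x θ) :=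
  pRegularPart_isClassFunction (secFun_isClassFunction x hθ)

theorem section_identity_aux (hMp : IsPModular p M) {x : G} (hx : ∃ k : ℕ, orderOf x = p ^ k)
    [Fintype (Subgroup.centralizer ({x} : Set G))]
    [Fintype (IrrCharacter G)] [Fintype (IrrCharacter (Subgroup.centralizer ({x} : Set G)))]
    (χ₀ : IrrCharacter G) (B : Set (IrrCharacter G)) (hB : B = blockOf M (χ₀ : G → ℂ))
    [DecidablePred (· ∈ B)]
    [DecidablePred fun ψ : IrrCharacter (Subgroup.centralizer ({x} : Set G)) =>
      IsInducedBlock M (Subgroup.centralizer ({x} : Set G))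
        (blockOf M (ψ : Subgroup.centralizer ({x} : Set G) → ℂ)) B] :
    ∑ χ : IrrCharacter G, (if χ ∈ B then
        classInner (secLin p x (χ : G → ℂ)) (secLin p x (χ : G → ℂ)) else 0) =
      ∑ ψ : IrrCharacter (Subgroup.centralizer ({x} : Set G)),
        (if IsInducedBlock M (Subgroup.centralizer ({x} : Set G))
          (blockOf M (ψ : Subgroup.centralizer ({x} : Set G) → ℂ)) B then
          classInner (pRegularPart p (ψ : Subgroup.centralizer ({x} : Set G) → ℂ))
            (ψ : Subgroup.centralizer ({x} : Set G) → ℂ) else 0) := by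
  classical
  have hM : M.IsPrime := hMp.2.1.isPrime
  have hp : p.Prime := hMp.1
  set D : IrrCharacter G → IrrCharacter (Subgroup.centralizer ({x} : Set G)) → ℂ :=
    fun χ ψ => classInner (secLin p x (χ : G → ℂ))
      (ψ : Subgroup.centralizer ({x} : Set G) → ℂ) with hD
  -- vanishing
  have hV1 : ∀ χ ∈ B, ∀ ψ : IrrCharacter (Subgroup.centralizer ({x} : Set G)),
      ¬ IsInducedBlock M (Subgroup.centralizer ({x} : Set G))
        (blockOf M (ψ : Subgroup.centralizer ({x} : Set G) → ℂ)) B → D χ ψ = 0 := by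
    intro χ hχ ψ hnot
    apply classInner_secFun_eq_zero hMp hx χ ψ
    have : blockOf M (χ₀ : G → ℂ) = blockOf M (χ : G → ℂ) :=
      blockOf_eq_of_sameBlock hM (mem_blockOf_iff.1 (hB ▸ hχ))
    rwa [← this, ← hB]
  have hV2 : ∀ χ : IrrCharacter G, χ ∉ B →
      ∀ ψ : IrrCharacter (Subgroup.centralizer ({x} : Set G)),
      IsInducedBlock M (Subgroup.centralizer ({x} : Set G))
        (blockOf M (ψ : Subgroup.centralizer ({x} : Set G) → ℂ)) B → D χ ψ = 0 := by
    intro χ hχ ψ hind
    apply classInner_secFun_eq_zero hMp hx χ ψ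
    intro hind'
    have := isInducedBlock_unique hM _ hind hind'
    exact hχ (this ▸ mem_blockOf_self hM χ)
  -- expansion 1
  have hE1 : ∀ χ : IrrCharacter G, secLin p x (χ : G → ℂ) =
      ∑ ψ : IrrCharacter (Subgroup.centralizer ({x} : Set G)),
        D χ ψ • pRegularPart p (ψ : Subgroup.centralizer ({x} : Set G) → ℂ) := by
    intro χ
    have h1 := classFunction_eq_sum_irr (secLin_isClassFunction (p := p) x (isClassFunction_irr χ))
    have h2 := congrArg (pRegLin (Subgroup.centralizer ({x} : Set G)) p) h1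
    rw [pRegLin_apply, pRegularPart_secLin, map_sum] at h2
    rw [h2]
    refine Finset.sum_congr rfl fun ψ _ => ?_
    rw [map_smul, pRegLin_apply]
  have hnorm1 : ∀ χ : IrrCharacter G,
      classInner (secLin p x (χ : G → ℂ)) (secLin p x (χ : G → ℂ)) =
        ∑ ψ : IrrCharacter (Subgroup.centralizer ({x} : Set G)), D χ ψ * conj (D χ ψ) := by
    intro χ
    nth_rewrite 1 [hE1 χ]
    rw [classInner_sum_left]
    refine Finset.sum_congr rfl fun ψ _ => ?_
    rw [classInner_smul_left, classInner_pRegularPart_comm, pRegularPart_secLin,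
      ← classInner_conj_symm]
  -- expansion 2
  have hE2 : ∀ ψ : IrrCharacter (Subgroup.centralizer ({x} : Set G)),
      IsInducedBlock M (Subgroup.centralizer ({x} : Set G))
        (blockOf M (ψ : Subgroup.centralizer ({x} : Set G) → ℂ)) B →
      pRegularPart p (ψ : Subgroup.centralizer ({x} : Set G) → ℂ) =
        ∑ χ : IrrCharacter G, (if χ ∈ B then conj (D χ ψ) else 0) • secLin p x (χ : G → ℂ) := by
    intro ψ hind
    set φ := pRegularPart p (ψ : Subgroup.centralizer ({x} : Set G) → ℂ) with hφ
    have hφcf : IsClassFunction (Subgroup.centralizer ({x} : Set G)) φ :=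
      pRegularPart_isClassFunction (isClassFunction_irr ψ)
    have hsupp : ∀ c : Subgroup.centralizer ({x} : Set G), p ∣ orderOf c → φ c = 0 :=
      fun c hc => pRegularPart_of_singular _ hc
    set θ := indFun (Subgroup.centralizer ({x} : Set G)) (shiftFun x φ) with hθ
    have hθcf : IsClassFunction G θ := Cfsg.Agent.Lib.Helper04.indFun_isClassFunction _ _
    have hcoef : ∀ χ : IrrCharacter G,
        classInner θ (χ : G → ℂ) = if χ ∈ B then conj (D χ ψ) else 0 := by
      intro χ
      rw [hθ, classInner_indFun_shiftFun φ hsupp _ (isClassFunction_irr χ), ← secLin_apply,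
        hφ, classInner_pRegularPart_comm, pRegularPart_secLin, ← classInner_conj_symm]
      split_ifs with hχ
      · rfl
      · have := hV2 χ hχ ψ hind
        show conj (D χ ψ) = 0
        rw [this, map_zero]
    have hθexp : θ = ∑ χ : IrrCharacter G,
        (if χ ∈ B then conj (D χ ψ) else 0) • (χ : G → ℂ) := by
      have := classFunction_eq_sum_irr hθcf
      rw [this]
      refine Finset.sum_congr rfl fun χ _ => ?_
      rw [hcoef χ]
    have hRθ : secLin p x θ = φ := by
      funext y
      rw [secLin_apply]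
      by_cases hy : p ∣ orderOf y
      · rw [pRegularPart_of_singular _ hy, hsupp y hy]
      · rw [pRegularPart_of_regular _ hy]
        exact indFun_shiftFun_apply hp hx φ hφcf hsupp y hy
    rw [← hRθ]
    nth_rewrite 1 [hθexp]
    rw [map_sum]
    refine Finset.sum_congr rfl fun χ _ => ?_
    rw [map_smul]
  have hnorm2 : ∀ ψ : IrrCharacter (Subgroup.centralizer ({x} : Set G)),
      IsInducedBlock M (Subgroup.centralizer ({x} : Set G))
        (blockOf M (ψ : Subgroup.centralizer ({x} : Set G) → ℂ)) B →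
      classInner (pRegularPart p (ψ : Subgroup.centralizer ({x} : Set G) → ℂ))
        (ψ : Subgroup.centralizer ({x} : Set G) → ℂ) =
        ∑ χ : IrrCharacter G, if χ ∈ B then conj (D χ ψ) * D χ ψ else 0 := by
    intro ψ hind
    have h1 : classInner (pRegularPart p (ψ : Subgroup.centralizer ({x} : Set G) → ℂ))
        (ψ : Subgroup.centralizer ({x} : Set G) → ℂ) =
        classInner (pRegularPart p (ψ : Subgroup.centralizer ({x} : Set G) → ℂ))
          (pRegularPart p (ψ : Subgroup.centralizer ({x} : Set G) → ℂ)) := by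
      rw [← classInner_pRegularPart_comm, pRegularPart_idem]
    rw [h1]
    nth_rewrite 1 [hE2 ψ hind]
    rw [classInner_sum_left]
    refine Finset.sum_congr rfl fun χ _ => ?_
    rw [classInner_smul_left, ← classInner_pRegularPart_comm, pRegularPart_secLin]
    split_ifs
    · rfl
    · rw [zero_mul]
  -- assembly
  have hL : ∀ χ : IrrCharacter G, (if χ ∈ B then
      classInner (secLin p x (χ : G → ℂ)) (secLin p x (χ : G → ℂ)) else 0) =
      ∑ ψ : IrrCharacter (Subgroup.centralizer ({x} : Set G)),
        if IsInducedBlock M (Subgroup.centralizer ({x} : Set G))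
          (blockOf M (ψ : Subgroup.centralizer ({x} : Set G) → ℂ)) B then
          (if χ ∈ B then conj (D χ ψ) * D χ ψ else 0) else 0 := by
    intro χ
    split_ifs with hχ
    · rw [hnorm1 χ]
      refine Finset.sum_congr rfl fun ψ _ => ?_
      split_ifs with hind
      · rw [mul_comm]
      · rw [hV1 χ hχ ψ hind, zero_mul]
    · simp
  rw [Finset.sum_congr rfl fun χ _ => hL χ, Finset.sum_comm]
  refine Finset.sum_congr rfl fun ψ _ => ?_
  split_ifs with hind
  · rw [hnorm2 ψ hind]
  · simp

/-- The contribution of the `p`-section of `x` to the norms of the characters in `B` equals the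
sum of the `p`-regular norms of the characters in the blocks of `C_G(x)` inducing `B`. -/
theorem section_identity (hMp : IsPModular p M) {x : G} (hx : ∃ k : ℕ, orderOf x = p ^ k)
    [Fintype (Subgroup.centralizer ({x} : Set G))]
    [Fintype (IrrCharacter G)] [Fintype (IrrCharacter (Subgroup.centralizer ({x} : Set G)))]
    (χ₀ : IrrCharacter G) [DecidablePred (· ∈ blockOf M (χ₀ : G → ℂ))]
    [DecidablePred fun ψ : IrrCharacter (Subgroup.centralizer ({x} : Set G)) =>
      IsInducedBlock M (Subgroup.centralizer ({x} : Set G))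
        (blockOf M (ψ : Subgroup.centralizer ({x} : Set G) → ℂ)) (blockOf M (χ₀ : G → ℂ))] :
    ∑ χ : IrrCharacter G, (if χ ∈ blockOf M (χ₀ : G → ℂ) then
        classInner (secLin p x (χ : G → ℂ)) (secLin p x (χ : G → ℂ)) else 0) =
      ∑ ψ : IrrCharacter (Subgroup.centralizer ({x} : Set G)),
        (if IsInducedBlock M (Subgroup.centralizer ({x} : Set G))
          (blockOf M (ψ : Subgroup.centralizer ({x} : Set G) → ℂ)) (blockOf M (χ₀ : G → ℂ)) then
          classInner (pRegularPart p (ψ : Subgroup.centralizer ({x} : Set G) → ℂ))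
            (ψ : Subgroup.centralizer ({x} : Set G) → ℂ) else 0) :=
  section_identity_aux hMp hx χ₀ (blockOf M (χ₀ : G → ℂ)) rfl

end SectionIdentity

section SectionDecomposition

universe u
variable {G : Type u} [Group G] [Fintype G] {p : ℕ}

/-- A class function is the sum of the functions induced from its `p`-sections. -/
theorem eq_sum_indFun_shiftFun_secLin (hp : p.Prime) (X : Finset G)
    (hX : ∀ x ∈ X, ∃ k : ℕ, orderOf x = p ^ k)
    (hXrep : ∀ g : G, (∃ k : ℕ, orderOf g = p ^ k) → ∃! x, x ∈ X ∧ IsConj g x)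
    {θ : G → ℂ} (hθ : IsClassFunction G θ) :
    θ = ∑ x ∈ X, indFun (Subgroup.centralizer ({x} : Set G)) (shiftFun x (secLin p x θ)) := by
  classical
  funext g
  rw [Finset.sum_apply]
  obtain ⟨z, hz⟩ := exists_isPPart hp g (orderOf_pos g)
  have hz' := hz
  obtain ⟨y, hzy, hc, hzp, hy⟩ := hz'
  obtain ⟨x₀, ⟨hx₀X, hx₀c⟩, hx₀u⟩ := hXrep z hzp
  obtain ⟨t, ht⟩ := isConj_iff.1 hx₀c
  -- `ht : t * z * t⁻¹ = x₀`
  have hsupp : ∀ x : G, ∀ c : Subgroup.centralizer ({x} : Set G), p ∣ orderOf c →
      secLin p x θ c = 0 := fun x c hc => by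
    rw [secLin_apply]; exact pRegularPart_of_singular _ hc
  rw [Finset.sum_eq_single x₀]
  · -- main term
    have hcf := Cfsg.Agent.Lib.Helper04.indFun_isClassFunction
      (Subgroup.centralizer ({x₀} : Set G)) (shiftFun x₀ (secLin p x₀ θ))
    rw [← hcf g t, ← hθ g t]
    have hy₀mem : t * y * t⁻¹ ∈ Subgroup.centralizer ({x₀} : Set G) := by
      rw [Subgroup.mem_centralizer_singleton_iff, ← ht]
      have h1 : z * y = y * z := hc.eq
      calc t * y * t⁻¹ * (t * z * t⁻¹) = t * (y * z) * t⁻¹ := by group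
        _ = t * (z * y) * t⁻¹ := by rw [h1]
        _ = t * z * t⁻¹ * (t * y * t⁻¹) := by group
    set y₀ : Subgroup.centralizer ({x₀} : Set G) := ⟨t * y * t⁻¹, hy₀mem⟩ with hy₀
    have hgt : t * g * t⁻¹ = x₀ * (y₀ : G) := by
      show t * g * t⁻¹ = x₀ * (t * y * t⁻¹)
      rw [← ht, ← hzy]
      group
    have hy₀ord : ¬ p ∣ orderOf y₀ := by
      rw [← Subgroup.orderOf_coe]
      show ¬ p ∣ orderOf (t * y * t⁻¹)
      rwa [orderOf_conj']
    rw [hgt, indFun_shiftFun_apply hp (hX x₀ hx₀X) (secLin p x₀ θ)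
      (secLin_isClassFunction x₀ hθ) (hsupp x₀) y₀ hy₀ord, secLin_apply,
      pRegularPart_of_regular _ hy₀ord]
    rfl
  · intro x hxX hne
    apply indFun_shiftFun_eq_zero (hX x hxX) _ (hsupp x)
    intro z' hz' hconj
    have hzz : z = z' := isPPart_unique hp hz hz'
    subst hzz
    exact hne (hx₀u x ⟨hxX, hconj.symm⟩)
  · intro h
    exact absurd hx₀X h

/-- The norm of a class function is the sum of the norms of its `p`-sections. -/
theorem classInner_self_eq_sum_sections (hp : p.Prime) (X : Finset G)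
    (hX : ∀ x ∈ X, ∃ k : ℕ, orderOf x = p ^ k)
    (hXrep : ∀ g : G, (∃ k : ℕ, orderOf g = p ^ k) → ∃! x, x ∈ X ∧ IsConj g x)
    [∀ x : G, Fintype (Subgroup.centralizer ({x} : Set G))]
    {θ : G → ℂ} (hθ : IsClassFunction G θ) :
    classInner θ θ = ∑ x ∈ X, classInner (secLin p x θ) (secLin p x θ) := by
  nth_rewrite 1 [eq_sum_indFun_shiftFun_secLin hp X hX hXrep hθ]
  rw [classInner_sum_left]
  refine Finset.sum_congr rfl fun x _ => ?_
  rw [classInner_indFun_shiftFun (p := p) (secLin p x θ) (fun c hc => by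
    rw [secLin_apply]; exact pRegularPart_of_singular _ hc) θ hθ, ← secLin_apply]

end SectionDecomposition

end Cfsg.Agent.Lib.Helper82
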