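import Mathlib
import Cfsg.Prelude.Def_Blocks
import Cfsg.Agent.Lib.Helper82.ClassConst
import Cfsg.Agent.Lib.Helper83.SecondOrth

set_option autoImplicit false
set_option linter.style.haveILetI false

namespace Cfsg.Agent.Lib.Helper82

/-- The regular character decomposition holds for every finite group (from helper83's second
orthogonality). -/
theorem regularDecomp {G : Type*} [Group G] [Fintype G] : RegularDecomp G := by
  classical
  haveI : Fintype (Cfsg.IrrCharacter G) := Fintype.ofFinite _
  refine ⟨Finset.univ, fun χ => Finset.mem_univ χ, ?_, ?_⟩
  · have := Cfsg.Agent.Lib.Helper83.sum_irr_degree_mul (G := G) 1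
    rw [if_pos rfl, Nat.card_eq_fintype_card] at this
    exact this
  · intro g hg
    have := Cfsg.Agent.Lib.Helper83.sum_irr_degree_mul (G := G) g
    rw [if_neg hg] at this
    exact this

end Cfsg.Agent.Lib.Helper82
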