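import Mathlib
import Cfsg.Agent.Lib.Helper50.ClsPlus
import Cfsg.Agent.Lib.Helper50.DiagPlus
import Cfsg.Agent.Lib.Helper50.PlusInndiag
import Cfsg.Agent.Lib.Helper43.ReflParity

/-!
# K-S2718-C (keystone 271807, architect helper50): `exists_comm_diag`

The commutator of the reflection swapping `e₁, f₁` with the dilation `diag(ζ,…,ζ,1,…,1)` of the
hyperbolic form is `diag(A, A⁻ᵀ)` with `A = diag(ζ⁻¹, 1, …, 1)`.
-/

set_option autoImplicit false
set_option linter.unusedSectionVars false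
set_option linter.unusedVariables false
set_option linter.style.haveILetI false

namespace Cfsg.Agent.Lib.Helper82.S2718K

open Matrix Module Cfsg.Agent.Lib.Helper50

universe u

variable {F : Type u} [Field F] {m : ℕ}

/-- the vector `e_{i₀} - f_{i₀}` -/
def v0 (i₀ : Fin m) : Fin m ⊕ Fin m → F := tw (fun _ => (1 : F)) i₀

theorem Q_v0 (i₀ : Fin m) : Cfsg.quadFormPlus m F (v0 i₀) = -1 := QPlus_tw (fun _ => (1 : F)) i₀

/-- the reflection in `e_{i₀} - f_{i₀}` -/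
def swM (i₀ : Fin m) : Matrix (Fin m ⊕ Fin m) (Fin m ⊕ Fin m) F :=
  Cfsg.reflectionMatrix (Cfsg.quadFormPlus m F) (v0 i₀)

theorem swM_mulVec (i₀ : Fin m) (x : Fin m ⊕ Fin m → F) :
    swM i₀ *ᵥ x = Sum.elim (fun j => if j = i₀ then x (Sum.inr i₀) else x (Sum.inl j))
      (fun j => if j = i₀ then x (Sum.inl i₀) else x (Sum.inr j)) := by
  have h := Cfsg.Agent.Lib.Helper19.reflectionMatrix_mulVec (QPlus m F) (v0 i₀) x
  have hQ : (QPlus m F) (v0 i₀) = -1 := Q_v0 i₀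
  have hp : QuadraticMap.polar (⇑(QPlus m F)) (v0 i₀) x = x (Sum.inr i₀) - 1 * x (Sum.inl i₀) :=
    polar_tw (fun _ => (1 : F)) i₀ x
  unfold swM
  rw [← QPlus_coe, h, hQ, hp]
  funext c
  rcases c with j | j
  · simp only [Pi.sub_apply, Pi.smul_apply, smul_eq_mul, Sum.elim_inl]
    unfold v0
    rw [tw_inl]
    by_cases hj : j = i₀
    · subst hj; simp
    · simp [hj]
  · simp only [Pi.sub_apply, Pi.smul_apply, smul_eq_mul, Sum.elim_inr]
    unfold v0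
    rw [tw_inr]
    by_cases hj : j = i₀
    · subst hj; simp
    · simp [hj]

theorem swM_mul_self (i₀ : Fin m) : swM (F := F) i₀ * swM i₀ = 1 := by
  have h : (QPlus m F) (v0 i₀) ≠ 0 := by
    have hQ : (QPlus m F) (v0 i₀) = -1 := Q_v0 i₀
    rw [hQ]; exact neg_ne_zero.mpr one_ne_zero
  exact Cfsg.Agent.Lib.Helper43.reflectionMatrix_mul_self (QPlus m F) (v0 i₀) h

/-- the reflection as an element of `GL` -/
def swGL (i₀ : Fin m) : GL (Fin m ⊕ Fin m) F :=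
  ⟨swM i₀, swM i₀, swM_mul_self i₀, swM_mul_self i₀⟩

theorem swGL_mem (i₀ : Fin m) :
    swGL (F := F) i₀ ∈ Cfsg.Geo.quadSimilarityGroup (F := F) (Cfsg.quadFormPlus m F) := by
  refine ⟨1, fun v => ?_⟩
  have h : (QPlus m F) (v0 i₀) ≠ 0 := by
    have hQ : (QPlus m F) (v0 i₀) = -1 := Q_v0 i₀
    rw [hQ]; exact neg_ne_zero.mpr one_ne_zero
  have := Cfsg.Agent.Lib.Helper19.reflectionMatrix_isometry (QPlus m F) (v0 i₀) h v
  rw [Units.val_one, one_mul]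
  exact this

theorem dilGL_mem (μ : Fˣ) :
    dilGL m μ ∈ Cfsg.Geo.quadSimilarityGroup (F := F) (Cfsg.quadFormPlus m F) :=
  ⟨μ, fun v => quadFormPlus_dil m (μ : F) v⟩

/-- the diagonal matrix `diag(a, 1, …, 1)` at `i₀` -/
def dg (i₀ : Fin m) (a : F) : Matrix (Fin m) (Fin m) F :=
  Matrix.diagonal (fun j => if j = i₀ then a else 1)

theorem dg_mul (i₀ : Fin m) (a b : F) (hab : a * b = 1) : dg i₀ a * dg i₀ b = 1 := by
  unfold dg
  rw [Matrix.diagonal_mul_diagonal, ← Matrix.diagonal_one]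
  congr 1
  funext j
  by_cases hj : j = i₀
  · simp [hj, hab]
  · simp [hj]

/-- `diag(μ⁻¹, 1, …, 1)` in `GL` -/
def dgGL (i₀ : Fin m) (μ : Fˣ) : GL (Fin m) F :=
  ⟨dg i₀ ((μ⁻¹ : Fˣ) : F), dg i₀ (μ : F), dg_mul i₀ _ _ (by rw [← Units.val_mul, inv_mul_cancel, Units.val_one]),
    dg_mul i₀ _ _ (by rw [← Units.val_mul, mul_inv_cancel, Units.val_one])⟩

theorem det_dgGL (i₀ : Fin m) (μ : Fˣ) :
    ((dgGL i₀ μ : GL (Fin m) F) : Matrix (Fin m) (Fin m) F).det = ((μ⁻¹ : Fˣ) : F) := by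
  show (dg i₀ ((μ⁻¹ : Fˣ) : F)).det = _
  unfold dg
  rw [Matrix.det_diagonal, Finset.prod_ite_eq']
  simp

theorem comm_eq (i₀ : Fin m) (μ : Fˣ) :
    swGL i₀ * dilGL m μ * (swGL i₀)⁻¹ * (dilGL m μ)⁻¹ = diagPlusGL (dgGL i₀ μ) := by
  apply Units.ext
  show swM i₀ * dilMat m (μ : F) * swM i₀ * dilMat m ((μ⁻¹ : Fˣ) : F) =
    Matrix.fromBlocks (dg i₀ ((μ⁻¹ : Fˣ) : F)) 0 0 (dg i₀ (μ : F))ᵀ
  rw [Matrix.ext_iff_mulVec]
  intro x
  have hμ : (μ : F) * ((μ⁻¹ : Fˣ) : F) = 1 := by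
    rw [← Units.val_mul, mul_inv_cancel, Units.val_one]
  rw [← Matrix.mulVec_mulVec, ← Matrix.mulVec_mulVec, ← Matrix.mulVec_mulVec, dilMat_mulVec,
    swM_mulVec, dilMat_mulVec, swM_mulVec, Matrix.fromBlocks_mulVec]
  unfold dg
  rw [Matrix.diagonal_transpose]
  funext c
  rcases c with j | j
  · simp only [Sum.elim_inl, Sum.elim_inr, Matrix.zero_mulVec, add_zero,
      Matrix.mulVec_diagonal]
    by_cases hj : j = i₀
    · subst hj; simp
    · simp [hj]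
  · simp only [Sum.elim_inl, Sum.elim_inr, Matrix.zero_mulVec, zero_add,
      Matrix.mulVec_diagonal]
    by_cases hj : j = i₀
    · subst hj; simp
    · simp [hj]

/-- **K-S2718-C** -/
theorem exists_comm_diag [Fintype F] (hm : 1 ≤ m) (ζ : F) (hζ : ζ ≠ 0) :
    ∃ (t₀ d : ↥(Cfsg.Geo.quadSimilarityGroup (F := F) (Cfsg.quadFormPlus m F)))
      (A : GL (Fin m) F), t₀ ∉ clsPlus m ∧ d ∈ clsPlus m ∧
      ((A : Matrix (Fin m) (Fin m) F).det = ζ ∨ (A : Matrix (Fin m) (Fin m) F).det = ζ⁻¹) ∧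
      ((t₀ * d * t₀⁻¹ * d⁻¹ : ↥(Cfsg.Geo.quadSimilarityGroup (F := F)
        (Cfsg.quadFormPlus m F))) : GL (Fin m ⊕ Fin m) F) = diagPlusGL A := by
  classical
  set i₀ : Fin m := ⟨0, hm⟩ with hi₀
  set μ : Fˣ := Units.mk0 ζ hζ with hμ
  refine ⟨⟨swGL i₀, swGL_mem i₀⟩, ⟨dilGL m μ, dilGL_mem μ⟩, dgGL i₀ μ, ?_, ?_, ?_, ?_⟩
  · refine reflection_not_mem_clsPlus m hm _ (v0 i₀) ?_ rfl
    rw [Q_v0]; exact neg_ne_zero.mpr one_ne_zero
  · show Cfsg.PreservesSingularClasses (⇑(QPlus m F))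
      ((dilGL m μ : GL (Fin m ⊕ Fin m) F) : Matrix (Fin m ⊕ Fin m) (Fin m ⊕ Fin m) F)
    refine (psc_iff_even (QPlus m F) QPlus_nondegenerate m (card_plus_index m) (kerInr F m)
      kerInr_singular finrank_kerInr (dilGL m μ) (μ : F)
      (fun v => quadFormPlus_dil m (μ : F) v) (kerInr F m) kerInr_singular finrank_kerInr).mpr ?_
    rw [gmap_dilGL_kerInr, inf_idem, finrank_kerInr, Nat.sub_self]
    exact ⟨0, rfl⟩
  · right
    rw [det_dgGL]
    simp [hμ]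
  · simp only [Subgroup.coe_mul, Subgroup.coe_inv]
    exact comm_eq i₀ μ

end Cfsg.Agent.Lib.Helper82.S2718K
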