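import Mathlib
import Cfsg.Prelude.Def_Blocks
import Cfsg.Prelude.Def_BlockRank
import Cfsg.Agent.Lib.Helper82.BlockRank
import Cfsg.Agent.Lib.Helper82.DefectZero

set_option autoImplicit false
set_option linter.style.haveILetI false
set_option linter.unusedSectionVars false

namespace Cfsg.Agent.Lib.Helper82

open Cfsg
open scoped ComplexConjugate

section DefectRank

universe u
variable {G : Type u} [Group G] [Fintype G] {p : ℕ}

open Cfsg.Agent.Lib.Helper21 Cfsg.Agent.Lib.Helper83

/-- The `p`-regular rank is at most the number of characters. -/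
theorem blockRank_le_card (B : Set (IrrCharacter G)) : blockRank p B ≤ Nat.card B := by
  classical
  haveI : Fintype (IrrCharacter G) := Fintype.ofFinite _
  haveI : Fintype B := Fintype.ofFinite _
  rw [blockRank]
  set f : IrrCharacter G → (G → ℂ) := fun χ => pRegularPart p (χ : G → ℂ) with hf
  have hfin : (f '' B).Finite := Set.toFinite _
  haveI : Fintype (f '' B) := hfin.fintype
  calc Module.finrank ℂ (Submodule.span ℂ (f '' B)) ≤ (f '' B).toFinset.card :=
        finrank_span_le_card _
    _ = (f '' B).ncard := by rw [Set.ncard_eq_toFinset_card']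
    _ ≤ B.ncard := Set.ncard_image_le (Set.toFinite B)
    _ = Nat.card B := (Nat.card_coe_set_eq B).symm

/-- The regular rank of a singleton is `1`. -/
theorem blockRank_singleton (hp : p.Prime) (χ : IrrCharacter G) :
    blockRank p ({χ} : Set (IrrCharacter G)) = 1 := by
  rw [blockRank, Set.image_singleton]
  apply finrank_span_singleton
  intro h0
  have h1 := congrFun h0 1
  rw [pRegularPart_of_regular _ (by rw [orderOf_one]; exact hp.not_dvd_one)] at h1
  exact IsIrrCharacter.apply_one_ne_zero χ.2 h1

/-- The defect of a nonempty set of characters vanishes iff every member has full `p`-part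
degree. -/
theorem blockDefect_eq_zero_iff {B : Set (IrrCharacter G)} (hB : B.Nonempty) :
    blockDefect p B = 0 ↔ ∀ χ ∈ B, (Nat.card G).factorization p ≤
      (charDegree (χ : G → ℂ)).factorization p := by
  rw [blockDefect, Nat.sub_eq_zero_iff_le]
  set S := (fun χ : IrrCharacter G => (charDegree (χ : G → ℂ)).factorization p) '' B with hS
  have hSne : S.Nonempty := hB.image _
  constructor
  · intro h χ hχ
    exact h.trans (Nat.sInf_le ⟨χ, hχ, rfl⟩)
  · intro h
    obtain ⟨χ, hχ, hχeq⟩ := Nat.sInf_mem hSne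
    rw [← hχeq]
    exact h χ hχ

/-- Full `p`-part degree is the same as `p ∤ |G|/χ(1)`. -/
theorem factorization_le_iff_not_dvd (hp : p.Prime) (χ : IrrCharacter G) :
    (Nat.card G).factorization p ≤ (charDegree (χ : G → ℂ)).factorization p ↔
      ¬ p ∣ Nat.card G / charDegree (χ : G → ℂ) := by
  obtain ⟨k, hk⟩ := IsIrrCharacter.charDegree_dvd_card χ.2
  have hdpos := IsIrrCharacter.charDegree_pos χ.2
  have hG : Nat.card G ≠ 0 := Nat.card_pos.ne'
  have hk0 : k ≠ 0 := by
    intro h0
    rw [h0, mul_zero] at hk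
    exact hG hk
  have hdiv : Nat.card G / charDegree (χ : G → ℂ) = k := by
    rw [hk, Nat.mul_div_cancel_left _ hdpos]
  rw [hdiv, hk, Nat.factorization_mul hdpos.ne' hk0, Finsupp.add_apply]
  constructor
  · intro h hpk
    have : 0 < k.factorization p := hp.factorization_pos_of_dvd hk0 hpk
    omega
  · intro h
    rw [Nat.factorization_eq_zero_of_not_dvd h]
    omega

/-- If a block has as many characters as its `p`-regular rank, all its characters vanish on
`p`-singular elements. -/
theorem eq_zero_of_card_eq_blockRank {M : Ideal AlgInt} (hMp : IsPModular p M)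
    (χ₀ : IrrCharacter G)
    (h : Nat.card (blockOf M (χ₀ : G → ℂ)) = blockRank p (blockOf M (χ₀ : G → ℂ)))
    (χ : IrrCharacter G) (hχ : χ ∈ blockOf M (χ₀ : G → ℂ)) (y : G) (hy : p ∣ orderOf y) :
    (χ : G → ℂ) y = 0 := by
  classical
  haveI : Fintype (IrrCharacter G) := Fintype.ofFinite _
  have hG : (Nat.card G : ℂ) ≠ 0 := Nat.cast_ne_zero.2 Nat.card_pos.ne'
  set Bl := blockOf M (χ₀ : G → ℂ) with hBl
  have hl := blockRank_eq_sum hMp χ₀
  have hk : (Nat.card Bl : ℂ) = ∑ θ : IrrCharacter G, if θ ∈ Bl then (1 : ℂ) else 0 := by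
    rw [Finset.sum_boole, Nat.card_eq_fintype_card, Fintype.card_subtype]
  set t : IrrCharacter G → ℝ := fun θ =>
    ∑ x : G, if p ∣ orderOf x then Complex.normSq ((θ : G → ℂ) x) else 0 with ht
  have ht_nonneg : ∀ θ, 0 ≤ t θ := by
    intro θ
    refine Finset.sum_nonneg fun x _ => ?_
    split_ifs
    · exact Complex.normSq_nonneg _
    · exact le_rfl
  have h1 : ∀ θ : IrrCharacter G,
      (1 : ℂ) - classInner (pRegularPart p (θ : G → ℂ)) (θ : G → ℂ) =
        (Nat.card G : ℂ)⁻¹ * (t θ : ℂ) := by
    intro θ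
    rw [← irr_inner_self θ, classInner_pRegularPart_left, classInner_def, ← mul_sub,
      ← Finset.sum_sub_distrib]
    congr 1
    rw [ht]
    push_cast
    refine Finset.sum_congr rfl fun x _ => ?_
    split_ifs
    · rw [sub_zero, Complex.mul_conj]
    · rw [sub_self, Complex.ofReal_zero]
  have h2 : ∑ θ : IrrCharacter G, (if θ ∈ Bl then (t θ : ℂ) else 0) = 0 := by
    have h3 : ∑ θ : IrrCharacter G, (if θ ∈ Bl then
        (1 : ℂ) - classInner (pRegularPart p (θ : G → ℂ)) (θ : G → ℂ) else 0) = 0 := by
      have : ∀ θ : IrrCharacter G, (if θ ∈ Bl then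
          (1 : ℂ) - classInner (pRegularPart p (θ : G → ℂ)) (θ : G → ℂ) else 0) =
          (if θ ∈ Bl then (1 : ℂ) else 0) -
          (if θ ∈ Bl then classInner (pRegularPart p (θ : G → ℂ)) (θ : G → ℂ) else 0) := by
        intro θ
        split_ifs <;> simp
      rw [Finset.sum_congr rfl fun θ _ => this θ, Finset.sum_sub_distrib, ← hk, ← hl, h, sub_self]
    have h4 : ∀ θ : IrrCharacter G, (if θ ∈ Bl then
        (1 : ℂ) - classInner (pRegularPart p (θ : G → ℂ)) (θ : G → ℂ) else 0) =
        (Nat.card G : ℂ)⁻¹ * (if θ ∈ Bl then (t θ : ℂ) else 0) := by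
      intro θ
      split_ifs
      · exact h1 θ
      · rw [mul_zero]
    rw [Finset.sum_congr rfl fun θ _ => h4 θ, ← Finset.mul_sum] at h3
    exact (mul_eq_zero.1 h3).resolve_left (inv_ne_zero hG)
  have h5 : ∑ θ : IrrCharacter G, (if θ ∈ Bl then t θ else 0) = 0 := by
    have : ((∑ θ : IrrCharacter G, (if θ ∈ Bl then t θ else 0) : ℝ) : ℂ) = 0 := by
      rw [← h2]
      push_cast
      refine Finset.sum_congr rfl fun θ _ => ?_
      split_ifs <;> simp
    exact_mod_cast this
  have h6 : t χ = 0 := by
    have := (Finset.sum_eq_zero_iff_of_nonneg (fun θ _ => by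
      split_ifs
      · exact ht_nonneg θ
      · exact le_rfl)).1 h5 χ (Finset.mem_univ _)
    rwa [if_pos hχ] at this
  have h7 := (Finset.sum_eq_zero_iff_of_nonneg (fun x _ => by
      split_ifs
      · exact Complex.normSq_nonneg _
      · exact le_rfl)).1 h6 y (Finset.mem_univ _)
  rw [if_pos hy] at h7
  exact Complex.normSq_eq_zero.1 h7

end DefectRank

end Cfsg.Agent.Lib.Helper82
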