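import Mathlib
import Cfsg.Prelude.Def_Blocks
import Cfsg.Prelude.Def_BlockRank
import Cfsg.Agent.Lib.Helper82.SubsectionBlocks

set_option autoImplicit false
set_option linter.style.haveILetI false
set_option linter.unusedSectionVars false

/-!
# Norms of subsections: `∑_{χ ∈ B} ‖(χ_u^e)°‖² = l(e)` when `e^G = B`
-/

namespace Cfsg.Agent.Lib.Helper82

open Cfsg
open scoped ComplexConjugate
open Cfsg.Agent.Lib.Helper21 Cfsg.Agent.Lib.Helper83

section GeneralNorm

universe u
variable {H : Type u} [Group H] [Fintype H] {p : ℕ} {M : Ideal AlgInt}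

/-- The block part of a function as a combination of the irreducible characters. -/
theorem blockPart_eq_sum_smul [Fintype (IrrCharacter H)] (b : Set (IrrCharacter H))
    [DecidablePred (· ∈ b)] (f : H → ℂ) :
    blockPart b f =
      ∑ ψ : IrrCharacter H, (if ψ ∈ b then classInner f (ψ : H → ℂ) else 0) • (ψ : H → ℂ) := by
  funext g
  rw [blockPart_apply_inst, Cfsg.Agent.Lib.Helper21.finsum_mem_eq_sum_ite, Finset.sum_apply]
  refine Finset.sum_congr rfl fun ψ _ => ?_
  rw [Pi.smul_apply, smul_eq_mul]
  split_ifs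
  · rfl
  · rw [zero_mul]

theorem classInner_blockPart_irr [Fintype (IrrCharacter H)] (b : Set (IrrCharacter H))
    [DecidablePred (· ∈ b)] (f : H → ℂ) (ψ' : IrrCharacter H) :
    classInner (blockPart b f) (ψ' : H → ℂ) =
      if ψ' ∈ b then classInner f (ψ' : H → ℂ) else 0 := by
  rw [blockPart_eq_sum_smul, classInner_sum_irr_left]

theorem blockPart_isClassFunction' (b : Set (IrrCharacter H)) (f : H → ℂ) :
    IsClassFunction H (blockPart b f) := by
  classical
  haveI : Fintype (IrrCharacter H) := Fintype.ofFinite _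
  intro g h
  rw [blockPart_eq_sum_smul, Finset.sum_apply, Finset.sum_apply]
  refine Finset.sum_congr rfl fun ψ _ => ?_
  rw [Pi.smul_apply, Pi.smul_apply, isClassFunction_irr ψ g h]

/-- Taking the block part commutes with restricting to the `p`-regular elements. -/
theorem pRegularPart_blockPart_comm (hMp : IsPModular p M) (ψ₀ : IrrCharacter H) {f : H → ℂ}
    (hf : IsClassFunction H f) :
    pRegularPart p (blockPart (blockOf M (ψ₀ : H → ℂ)) f) =
      blockPart (blockOf M (ψ₀ : H → ℂ)) (pRegularPart p f) := by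
  classical
  haveI : Fintype (IrrCharacter H) := Fintype.ofFinite _
  have hM : M.IsPrime := hMp.2.1.isPrime
  set b := blockOf M (ψ₀ : H → ℂ) with hb
  set c : IrrCharacter H → ℂ := fun ψ => classInner f (ψ : H → ℂ) with hc
  have hf_exp : f = ∑ ψ : IrrCharacter H, c ψ • (ψ : H → ℂ) := classFunction_eq_sum_irr hf
  have hL := classFunction_eq_sum_irr
    (pRegularPart_isClassFunction (p := p) (blockPart_isClassFunction' b f))
  rw [hL, blockPart_eq_sum_smul b (pRegularPart p f)]
  refine Finset.sum_congr rfl fun ψ' _ => ?_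
  congr 1
  -- coefficient comparison
  have h1 : classInner (pRegularPart p (blockPart b f)) (ψ' : H → ℂ) =
      ∑ ψ : IrrCharacter H, (if ψ ∈ b then c ψ else 0) *
        classInner (pRegularPart p (ψ : H → ℂ)) (ψ' : H → ℂ) := by
    rw [classInner_pRegularPart_comm, blockPart_eq_sum_smul b f]
    exact classInner_sum_smul_pReg _ ψ'
  have h2 : classInner (pRegularPart p f) (ψ' : H → ℂ) =
      ∑ ψ : IrrCharacter H, c ψ * classInner (pRegularPart p (ψ : H → ℂ)) (ψ' : H → ℂ) := by
    rw [classInner_pRegularPart_comm]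
    nth_rewrite 1 [hf_exp]
    exact classInner_sum_smul_pReg c ψ'
  rw [h1]
  by_cases hψ' : ψ' ∈ b
  · rw [if_pos hψ', h2]
    refine Finset.sum_congr rfl fun ψ _ => ?_
    split_ifs with hψ
    · rfl
    · rw [zero_mul]
      have hns : ¬ SameBlock M (ψ : H → ℂ) (ψ' : H → ℂ) := by
        intro hs
        exact hψ (mem_blockOf_iff.2
          (sameBlock_trans hM (mem_blockOf_iff.1 hψ') (sameBlock_symm hs)))
      rw [classInner_pRegularPart_eq_zero hMp ψ ψ' hns, mul_zero]
  · rw [if_neg hψ']
    refine Finset.sum_eq_zero fun ψ _ => ?_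
    split_ifs with hψ
    · have hns : ¬ SameBlock M (ψ : H → ℂ) (ψ' : H → ℂ) := by
        intro hs
        exact hψ' (mem_blockOf_iff.2 (sameBlock_trans hM (mem_blockOf_iff.1 hψ) hs))
      rw [classInner_pRegularPart_eq_zero hMp ψ ψ' hns, mul_zero]
    · rw [zero_mul]

end GeneralNorm

section SubsectionNorm

universe u
variable {G : Type u} [Group G] [Fintype G] {p : ℕ} {M : Ideal AlgInt}

/-- The `p`-regular norm of `ψ ∈ Irr(C_G(x))` is the sum of the squares of the generalized
decomposition inner products over the block `B` induced by the block of `ψ`. -/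
theorem classInner_pReg_self_eq_sum_sq (hMp : IsPModular p M) {x : G}
    (hx : ∃ k : ℕ, orderOf x = p ^ k)
    [Fintype (Subgroup.centralizer ({x} : Set G))]
    [Fintype (IrrCharacter G)]
    (χ₀ : IrrCharacter G) [DecidablePred (· ∈ blockOf M (χ₀ : G → ℂ))]
    (ψ : IrrCharacter (Subgroup.centralizer ({x} : Set G)))
    (hind : IsInducedBlock M (Subgroup.centralizer ({x} : Set G))
        (blockOf M (ψ : Subgroup.centralizer ({x} : Set G) → ℂ)) (blockOf M (χ₀ : G → ℂ))) :
    classInner (pRegularPart p (ψ : Subgroup.centralizer ({x} : Set G) → ℂ))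
        (ψ : Subgroup.centralizer ({x} : Set G) → ℂ) =
      ∑ χ : IrrCharacter G, if χ ∈ blockOf M (χ₀ : G → ℂ) then
        conj (classInner (secLin p x (χ : G → ℂ)) (ψ : Subgroup.centralizer ({x} : Set G) → ℂ)) *
          classInner (secLin p x (χ : G → ℂ)) (ψ : Subgroup.centralizer ({x} : Set G) → ℂ)
        else 0 := by
  classical
  have hM : M.IsPrime := hMp.2.1.isPrime
  have hp : p.Prime := hMp.1
  set D : IrrCharacter G → ℂ :=
    fun χ => classInner (secLin p x (χ : G → ℂ))
      (ψ : Subgroup.centralizer ({x} : Set G) → ℂ) with hD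
  have hV2 : ∀ χ : IrrCharacter G, χ ∉ blockOf M (χ₀ : G → ℂ) → D χ = 0 := by
    intro χ hχ
    apply classInner_secFun_eq_zero hMp hx χ ψ
    intro hind'
    have := isInducedBlock_unique hM _ hind hind'
    exact hχ (this ▸ mem_blockOf_self hM χ)
  set φ := pRegularPart p (ψ : Subgroup.centralizer ({x} : Set G) → ℂ) with hφ
  have hφcf : IsClassFunction (Subgroup.centralizer ({x} : Set G)) φ :=
    pRegularPart_isClassFunction (isClassFunction_irr ψ)
  have hsupp : ∀ c : Subgroup.centralizer ({x} : Set G), p ∣ orderOf c → φ c = 0 :=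
    fun c hc => pRegularPart_of_singular _ hc
  set θ := indFun (Subgroup.centralizer ({x} : Set G)) (shiftFun x φ) with hθ
  have hθcf : IsClassFunction G θ := Cfsg.Agent.Lib.Helper04.indFun_isClassFunction _ _
  have hcoef : ∀ χ : IrrCharacter G,
      classInner θ (χ : G → ℂ) = if χ ∈ blockOf M (χ₀ : G → ℂ) then conj (D χ) else 0 := by
    intro χ
    rw [hθ, classInner_indFun_shiftFun φ hsupp _ (isClassFunction_irr χ), ← secLin_apply,
      hφ, classInner_pRegularPart_comm, pRegularPart_secLin, ← classInner_conj_symm]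
    split_ifs with hχ
    · rfl
    · have := hV2 χ hχ
      show conj (D χ) = 0
      rw [this, map_zero]
  have hθexp : θ = ∑ χ : IrrCharacter G,
      (if χ ∈ blockOf M (χ₀ : G → ℂ) then conj (D χ) else 0) • (χ : G → ℂ) := by
    have := classFunction_eq_sum_irr hθcf
    rw [this]
    refine Finset.sum_congr rfl fun χ _ => ?_
    rw [hcoef χ]
  have hRθ : secLin p x θ = φ := by
    funext y
    rw [secLin_apply]
    by_cases hy : p ∣ orderOf y
    · rw [pRegularPart_of_singular _ hy, hsupp y hy]
    · rw [pRegularPart_of_regular _ hy]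
      exact indFun_shiftFun_apply hp hx φ hφcf hsupp y hy
  have hE2 : φ = ∑ χ : IrrCharacter G,
      (if χ ∈ blockOf M (χ₀ : G → ℂ) then conj (D χ) else 0) • secLin p x (χ : G → ℂ) := by
    rw [← hRθ]
    nth_rewrite 1 [hθexp]
    rw [map_sum]
    refine Finset.sum_congr rfl fun χ _ => ?_
    rw [map_smul]
  have h1 : classInner φ (ψ : Subgroup.centralizer ({x} : Set G) → ℂ) = classInner φ φ := by
    rw [hφ, ← classInner_pRegularPart_comm, pRegularPart_idem]
  rw [h1]
  nth_rewrite 1 [hE2]
  rw [classInner_sum_left]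
  refine Finset.sum_congr rfl fun χ _ => ?_
  rw [classInner_smul_left, hφ, ← classInner_pRegularPart_comm, pRegularPart_secLin]
  split_ifs
  · rfl
  · rw [zero_mul]

/-- **Norms of subsections.** If the block `e` of `C_G(x)` induces `B`, the `p`-regular norms of
the `e`-parts of the section functions of the members of `B` add up to `l(e)`. -/
theorem sum_classInner_blockPart_secFun (hMp : IsPModular p M) {x : G}
    (hx : ∃ k : ℕ, orderOf x = p ^ k)
    [Fintype (Subgroup.centralizer ({x} : Set G))]
    [Fintype (IrrCharacter G)]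
    (χ₀ : IrrCharacter G) [DecidablePred (· ∈ blockOf M (χ₀ : G → ℂ))]
    (e : Set (IrrCharacter (Subgroup.centralizer ({x} : Set G))))
    (hind : IsInducedBlock M (Subgroup.centralizer ({x} : Set G)) e (blockOf M (χ₀ : G → ℂ))) :
    ∑ χ : IrrCharacter G, (if χ ∈ blockOf M (χ₀ : G → ℂ) then
        classInner (pRegularPart p (blockPart e (secFun x (χ : G → ℂ))))
          (blockPart e (secFun x (χ : G → ℂ))) else 0) = (blockRank p e : ℂ) := by
  classical
  haveI : Fintype (IrrCharacter (Subgroup.centralizer ({x} : Set G))) := Fintype.ofFinite _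
  have hM : M.IsPrime := hMp.2.1.isPrime
  obtain ⟨ψ₀, rfl⟩ := hind.1
  set e := blockOf M (ψ₀ : Subgroup.centralizer ({x} : Set G) → ℂ) with he
  set D : IrrCharacter G → IrrCharacter (Subgroup.centralizer ({x} : Set G)) → ℂ :=
    fun χ ψ => classInner (secLin p x (χ : G → ℂ))
      (ψ : Subgroup.centralizer ({x} : Set G) → ℂ) with hD
  have hnorm : ∀ χ : IrrCharacter G,
      classInner (pRegularPart p (blockPart e (secFun x (χ : G → ℂ))))
          (blockPart e (secFun x (χ : G → ℂ))) =
        ∑ ψ : IrrCharacter (Subgroup.centralizer ({x} : Set G)),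
          if ψ ∈ e then conj (D χ ψ) * D χ ψ else 0 := by
    intro χ
    have hcf : IsClassFunction (Subgroup.centralizer ({x} : Set G)) (secFun x (χ : G → ℂ)) :=
      secFun_isClassFunction x (isClassFunction_irr χ)
    have hg : pRegularPart p (blockPart e (secFun x (χ : G → ℂ))) =
        ∑ ψ : IrrCharacter (Subgroup.centralizer ({x} : Set G)),
          (if ψ ∈ e then D χ ψ else 0) • (ψ : Subgroup.centralizer ({x} : Set G) → ℂ) := by
      rw [pRegularPart_blockPart_comm hMp ψ₀ hcf, blockPart_eq_sum_smul]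
      rfl
    have h1 : classInner (pRegularPart p (blockPart e (secFun x (χ : G → ℂ))))
          (blockPart e (secFun x (χ : G → ℂ))) =
        classInner (pRegularPart p (blockPart e (secFun x (χ : G → ℂ))))
          (pRegularPart p (blockPart e (secFun x (χ : G → ℂ)))) := by
      rw [← classInner_pRegularPart_comm, pRegularPart_idem]
    rw [h1, hg, classInner_sum_irr_self]
    refine Finset.sum_congr rfl fun ψ _ => ?_
    split_ifs
    · rw [mul_comm]
    · simp
  have hstep : ∀ χ : IrrCharacter G, (if χ ∈ blockOf M (χ₀ : G → ℂ) then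
        classInner (pRegularPart p (blockPart e (secFun x (χ : G → ℂ))))
          (blockPart e (secFun x (χ : G → ℂ))) else 0) =
      ∑ ψ : IrrCharacter (Subgroup.centralizer ({x} : Set G)),
        if ψ ∈ e then (if χ ∈ blockOf M (χ₀ : G → ℂ) then conj (D χ ψ) * D χ ψ else 0)
        else 0 := by
    intro χ
    split_ifs with hχ
    · rw [hnorm χ]
    · simp
  rw [Finset.sum_congr rfl fun χ _ => hstep χ, Finset.sum_comm, blockRank_eq_sum hMp ψ₀]
  refine Finset.sum_congr rfl fun ψ _ => ?_
  by_cases hψ : ψ ∈ e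
  · rw [if_pos hψ]
    simp only [if_pos hψ]
    have hbe : blockOf M (ψ : Subgroup.centralizer ({x} : Set G) → ℂ) = e :=
      (blockOf_eq_of_sameBlock hM (mem_blockOf_iff.1 hψ)).symm
    have hind' : IsInducedBlock M (Subgroup.centralizer ({x} : Set G))
        (blockOf M (ψ : Subgroup.centralizer ({x} : Set G) → ℂ)) (blockOf M (χ₀ : G → ℂ)) := by
      rw [hbe]; exact hind
    rw [classInner_pReg_self_eq_sum_sq hMp hx χ₀ ψ hind']
  · rw [if_neg hψ]
    simp only [if_neg hψ, Finset.sum_const_zero]

end SubsectionNorm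

section FinsumForm

universe u
variable {G : Type u} [Group G] [Fintype G] {p : ℕ} {M : Ideal AlgInt}

/-- The inner product with an irreducible character of the "inverse" section function. -/
theorem classInner_secFun_inv {x : G} [Fintype (Subgroup.centralizer ({x} : Set G))]
    (χ : IrrCharacter G) (ψ : IrrCharacter (Subgroup.centralizer ({x} : Set G))) :
    classInner (fun c : Subgroup.centralizer ({x} : Set G) => (χ : G → ℂ) (x⁻¹ * (c : G)))
        (ψ : Subgroup.centralizer ({x} : Set G) → ℂ) =
      conj (classInner (secFun x (χ : G → ℂ)) (ψ : Subgroup.centralizer ({x} : Set G) → ℂ)) := by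
  rw [classInner_def, classInner_def, map_mul, map_inv₀, Complex.conj_natCast, map_sum]
  congr 1
  rw [← Equiv.sum_comp (Equiv.inv (Subgroup.centralizer ({x} : Set G)))]
  refine Finset.sum_congr rfl fun c _ => ?_
  rw [map_mul, Complex.conj_conj, Equiv.inv_apply,
    char_inv (IrrCharacter_isCharacter ψ) c, Complex.conj_conj]
  congr 1
  show (χ : G → ℂ) (x⁻¹ * ((c⁻¹ : Subgroup.centralizer ({x} : Set G)) : G)) =
    conj ((χ : G → ℂ) (x * (c : G)))
  rw [← char_inv (IrrCharacter_isCharacter χ)]
  rw [mul_inv_rev, Subgroup.coe_inv]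
  have h := mem_centralizer_comm c
  -- `c * x = x * c`
  have h2 : (c : G)⁻¹ * x⁻¹ = x⁻¹ * (c : G)⁻¹ := by
    rw [← mul_inv_rev, ← mul_inv_rev, h]
  rw [h2]

theorem blockPart_secFun_inv {x : G} [Fintype (Subgroup.centralizer ({x} : Set G))]
    (e : Set (IrrCharacter (Subgroup.centralizer ({x} : Set G)))) (χ : IrrCharacter G)
    (s : Subgroup.centralizer ({x} : Set G)) :
    blockPart e (fun c : Subgroup.centralizer ({x} : Set G) => (χ : G → ℂ) (x⁻¹ * (c : G))) s⁻¹ =
      conj (blockPart e (secFun x (χ : G → ℂ)) s) := by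
  classical
  haveI : Fintype (IrrCharacter (Subgroup.centralizer ({x} : Set G))) := Fintype.ofFinite _
  rw [blockPart_eq_sum_smul, blockPart_eq_sum_smul, Finset.sum_apply, Finset.sum_apply, map_sum]
  refine Finset.sum_congr rfl fun ψ _ => ?_
  rw [Pi.smul_apply, Pi.smul_apply, smul_eq_mul, smul_eq_mul, map_mul,
    char_inv (IrrCharacter_isCharacter ψ) s]
  congr 1
  split_ifs
  · exact classInner_secFun_inv χ ψ
  · rw [map_zero]

/-- **Norms of subsections, sum form**, for any subgroup `C` equal to `C_G(x)`. -/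
theorem subsection_norm_finsum (hMp : IsPModular p M) {x : G}
    (hx : ∃ k : ℕ, orderOf x = p ^ k) (C : Subgroup G)
    (hC : C = Subgroup.centralizer ({x} : Set G)) (χ₀ : IrrCharacter G)
    (e : Set (IrrCharacter C)) (hind : IsInducedBlock M C e (blockOf M (χ₀ : G → ℂ))) :
    ∑ᶠ χ ∈ blockOf M (χ₀ : G → ℂ), ∑ᶠ s : C,
        pRegularPart p (blockPart e (fun c : C => (χ : G → ℂ) (x * c))) s *
          blockPart e (fun c : C => (χ : G → ℂ) (x⁻¹ * c)) s⁻¹ =
      (Nat.card C : ℂ) * (blockRank p e : ℂ) := by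
  classical
  subst hC
  haveI : Fintype (Subgroup.centralizer ({x} : Set G)) := Fintype.ofFinite _
  haveI : Fintype (IrrCharacter G) := Fintype.ofFinite _
  have hcard : (Nat.card (Subgroup.centralizer ({x} : Set G)) : ℂ) ≠ 0 :=
    Nat.cast_ne_zero.2 Nat.card_pos.ne'
  have hinner : ∀ χ : IrrCharacter G, ∑ᶠ s : Subgroup.centralizer ({x} : Set G),
        pRegularPart p (blockPart e (fun c : Subgroup.centralizer ({x} : Set G) =>
          (χ : G → ℂ) (x * c))) s *
          blockPart e (fun c : Subgroup.centralizer ({x} : Set G) =>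
            (χ : G → ℂ) (x⁻¹ * c)) s⁻¹ =
      (Nat.card (Subgroup.centralizer ({x} : Set G)) : ℂ) *
        classInner (pRegularPart p (blockPart e (secFun x (χ : G → ℂ))))
          (blockPart e (secFun x (χ : G → ℂ))) := by
    intro χ
    rw [finsum_eq_sum_of_fintype, classInner_def, ← mul_assoc, mul_inv_cancel₀ hcard, one_mul]
    refine Finset.sum_congr rfl fun s _ => ?_
    rw [blockPart_secFun_inv]
    rfl
  rw [Cfsg.Agent.Lib.Helper21.finsum_mem_eq_sum_ite]
  rw [← sum_classInner_blockPart_secFun hMp hx χ₀ e hind, Finset.mul_sum]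
  refine Finset.sum_congr rfl fun χ _ => ?_
  split_ifs
  · exact hinner χ
  · rw [mul_zero]

end FinsumForm

end Cfsg.Agent.Lib.Helper82
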