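import Mathlib
import Cfsg.Prelude.Def_Blocks
import Cfsg.Prelude.Def_BlockRank
import Cfsg.Agent.Lib.Helper82.SubsectionNorm

set_option autoImplicit false
set_option linter.style.haveILetI false
set_option linter.unusedSectionVars false

/-!
# Contributions of subsections

For a `p`-element `x`, a block `e` of `C = C_G(x)` and `χ, χ' ∈ Irr(G)`, the contribution
`m^{(x,e)}_{χχ'}` is the inner product of the `p`-regular `e`-parts of the section functions of
`χ` and `χ'`.  If `e^G = B`, the matrix `(m_{χχ'})_{χ,χ' ∈ B}` is a hermitian idempotent of trace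
`l(e)`; hence the squares of the absolute values of its entries add up to `l(e)`.
-/

namespace Cfsg.Agent.Lib.Helper82

open Cfsg
open scoped ComplexConjugate
open Cfsg.Agent.Lib.Helper21 Cfsg.Agent.Lib.Helper83

section TwoCoeff

universe u
variable {H : Type u} [Group H] [Fintype H]

theorem classInner_sum_irr_sum_irr [Fintype (IrrCharacter H)] (a b : IrrCharacter H → ℂ) :
    classInner (∑ φ : IrrCharacter H, a φ • (φ : H → ℂ))
        (∑ φ : IrrCharacter H, b φ • (φ : H → ℂ)) =
      ∑ φ : IrrCharacter H, a φ * conj (b φ) := by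
  rw [classInner_sum_right]
  refine Finset.sum_congr rfl fun ψ _ => ?_
  rw [classInner_smul_right, classInner_sum_irr_left, mul_comm]

theorem classInner_pReg_sum_sum {p : ℕ} [Fintype (IrrCharacter H)] (a b : IrrCharacter H → ℂ) :
    classInner (pRegularPart p (∑ ψ : IrrCharacter H, a ψ • (ψ : H → ℂ)))
        (∑ ψ : IrrCharacter H, b ψ • (ψ : H → ℂ)) =
      ∑ ψ : IrrCharacter H, ∑ ψ' : IrrCharacter H,
        a ψ * conj (b ψ') * classInner (pRegularPart p (ψ : H → ℂ)) (ψ' : H → ℂ) := by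
  rw [← pRegLin_apply, map_sum, classInner_sum_left]
  refine Finset.sum_congr rfl fun ψ _ => ?_
  rw [map_smul, classInner_smul_left, classInner_sum_right, Finset.mul_sum]
  refine Finset.sum_congr rfl fun ψ' _ => ?_
  rw [classInner_smul_right, pRegLin_apply]
  ring

end TwoCoeff

section Defs

universe u
variable {G : Type u} [Group G] [Fintype G]

/-- The `p`-regular `e`-part of the section function `c ↦ χ (x c)` on the subgroup `C`. -/
noncomputable def contribFun (p : ℕ) {C : Subgroup G} (e : Set (IrrCharacter C)) (x : G)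
    (χ : G → ℂ) : C → ℂ :=
  pRegularPart p (blockPart e (fun c : C => χ (x * (c : G))))

/-- The contribution of the subsection `(x, e)` to the pair `χ, χ'`. -/
noncomputable def contrib (p : ℕ) {C : Subgroup G} [Fintype C] (e : Set (IrrCharacter C)) (x : G)
    (χ χ' : G → ℂ) : ℂ :=
  classInner (contribFun p e x χ) (contribFun p e x χ')

/-- The contributions in terms of the inner products of the section functions with the
irreducible characters of `C` and of the `p`-regular inner products of the latter. -/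
theorem contrib_eq_sum_sum (p : ℕ) {C : Subgroup G} [Fintype C] [Fintype (IrrCharacter C)]
    (e : Set (IrrCharacter C)) [DecidablePred (· ∈ e)] (x : G) (χ χ' : G → ℂ) :
    contrib p e x χ χ' =
      ∑ ψ : IrrCharacter C, ∑ ψ' : IrrCharacter C,
        (if ψ ∈ e then classInner (fun c : C => χ (x * (c : G))) (ψ : C → ℂ) else 0) *
          conj (if ψ' ∈ e then classInner (fun c : C => χ' (x * (c : G))) (ψ' : C → ℂ) else 0) *
          classInner (pRegularPart p (ψ : C → ℂ)) (ψ' : C → ℂ) := by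
  unfold contrib contribFun
  rw [← classInner_pRegularPart_comm, pRegularPart_idem, blockPart_eq_sum_smul,
    blockPart_eq_sum_smul]
  exact classInner_pReg_sum_sum _ _

end Defs

section XForm

universe u
variable {G : Type u} [Group G] [Fintype G] {p : ℕ} {M : Ideal AlgInt}

local notation "C[" g "]" => Subgroup.centralizer (singleton g)

/-- The contribution function as a combination of the irreducible characters in `e`, with the
generalized decomposition inner products as coefficients. -/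
theorem contribFun_eq_sum (hMp : IsPModular p M) {x : G} [Fintype C[x]]
    [Fintype (IrrCharacter C[x])] (ψ₀ : IrrCharacter C[x])
    [DecidablePred (· ∈ blockOf M (ψ₀ : C[x] → ℂ))] (χ : IrrCharacter G) :
    contribFun p (blockOf M (ψ₀ : C[x] → ℂ)) x (χ : G → ℂ) =
      ∑ ψ : IrrCharacter C[x], (if ψ ∈ blockOf M (ψ₀ : C[x] → ℂ) then
        classInner (secLin p x (χ : G → ℂ)) (ψ : C[x] → ℂ) else 0) • (ψ : C[x] → ℂ) := by
  have hcf : IsClassFunction C[x] (secFun x (χ : G → ℂ)) :=
    secFun_isClassFunction x (isClassFunction_irr χ)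
  show pRegularPart p (blockPart _ (secFun x (χ : G → ℂ))) = _
  rw [pRegularPart_blockPart_comm hMp ψ₀ hcf, blockPart_eq_sum_smul]
  rfl

/-- The contributions in terms of the generalized decomposition inner products. -/
theorem contrib_eq_sum (hMp : IsPModular p M) {x : G} [Fintype C[x]]
    [Fintype (IrrCharacter C[x])] (ψ₀ : IrrCharacter C[x])
    [DecidablePred (· ∈ blockOf M (ψ₀ : C[x] → ℂ))] (χ χ' : IrrCharacter G) :
    contrib p (blockOf M (ψ₀ : C[x] → ℂ)) x (χ : G → ℂ) (χ' : G → ℂ) =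
      ∑ ψ : IrrCharacter C[x], if ψ ∈ blockOf M (ψ₀ : C[x] → ℂ) then
        classInner (secLin p x (χ : G → ℂ)) (ψ : C[x] → ℂ) *
          conj (classInner (secLin p x (χ' : G → ℂ)) (ψ : C[x] → ℂ)) else 0 := by
  unfold contrib
  rw [contribFun_eq_sum hMp ψ₀ χ, contribFun_eq_sum hMp ψ₀ χ', classInner_sum_irr_sum_irr]
  refine Finset.sum_congr rfl fun ψ _ => ?_
  split_ifs
  · rfl
  · rw [zero_mul]

/-- The `p`-regular part of `ψ ∈ e` in terms of the section functions of the members of `B`. -/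
theorem pRegularPart_eq_sum_secLin (hMp : IsPModular p M) {x : G}
    (hx : ∃ k : ℕ, orderOf x = p ^ k) [Fintype C[x]] [Fintype (IrrCharacter G)]
    (χ₀ : IrrCharacter G) [DecidablePred (· ∈ blockOf M (χ₀ : G → ℂ))]
    (ψ : IrrCharacter C[x])
    (hind : IsInducedBlock M C[x] (blockOf M (ψ : C[x] → ℂ)) (blockOf M (χ₀ : G → ℂ))) :
    pRegularPart p (ψ : C[x] → ℂ) =
      ∑ χ : IrrCharacter G, (if χ ∈ blockOf M (χ₀ : G → ℂ) then
        conj (classInner (secLin p x (χ : G → ℂ)) (ψ : C[x] → ℂ)) else 0) •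
          secLin p x (χ : G → ℂ) := by
  classical
  have hM : M.IsPrime := hMp.2.1.isPrime
  have hp : p.Prime := hMp.1
  set D : IrrCharacter G → ℂ :=
    fun χ => classInner (secLin p x (χ : G → ℂ)) (ψ : C[x] → ℂ) with hD
  have hV2 : ∀ χ : IrrCharacter G, χ ∉ blockOf M (χ₀ : G → ℂ) → D χ = 0 := by
    intro χ hχ
    apply classInner_secFun_eq_zero hMp hx χ ψ
    intro hind'
    have := isInducedBlock_unique hM _ hind hind'
    exact hχ (this ▸ mem_blockOf_self hM χ)
  set φ := pRegularPart p (ψ : C[x] → ℂ) with hφ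
  have hφcf : IsClassFunction C[x] φ :=
    pRegularPart_isClassFunction (isClassFunction_irr ψ)
  have hsupp : ∀ c : C[x], p ∣ orderOf c → φ c = 0 :=
    fun c hc => pRegularPart_of_singular _ hc
  set θ := indFun C[x] (shiftFun x φ) with hθ
  have hθcf : IsClassFunction G θ := Cfsg.Agent.Lib.Helper04.indFun_isClassFunction _ _
  have hcoef : ∀ χ : IrrCharacter G,
      classInner θ (χ : G → ℂ) = if χ ∈ blockOf M (χ₀ : G → ℂ) then conj (D χ) else 0 := by
    intro χ
    rw [hθ, classInner_indFun_shiftFun φ hsupp _ (isClassFunction_irr χ), ← secLin_apply,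
      hφ, classInner_pRegularPart_comm, pRegularPart_secLin, ← classInner_conj_symm]
    split_ifs with hχ
    · rfl
    · have := hV2 χ hχ
      show conj (D χ) = 0
      rw [this, map_zero]
  have hθexp : θ = ∑ χ : IrrCharacter G,
      (if χ ∈ blockOf M (χ₀ : G → ℂ) then conj (D χ) else 0) • (χ : G → ℂ) := by
    have := classFunction_eq_sum_irr hθcf
    rw [this]
    refine Finset.sum_congr rfl fun χ _ => ?_
    rw [hcoef χ]
  have hRθ : secLin p x θ = φ := by
    funext y
    rw [secLin_apply]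
    by_cases hy : p ∣ orderOf y
    · rw [pRegularPart_of_singular _ hy, hsupp y hy]
    · rw [pRegularPart_of_regular _ hy]
      exact indFun_shiftFun_apply hp hx φ hφcf hsupp y hy
  rw [← hRθ]
  nth_rewrite 1 [hθexp]
  rw [map_sum]
  refine Finset.sum_congr rfl fun χ _ => ?_
  rw [map_smul]

/-- Polarized column orthogonality of the generalized decomposition inner products. -/
theorem classInner_pRegularPart_eq_sum (hMp : IsPModular p M) {x : G}
    (hx : ∃ k : ℕ, orderOf x = p ^ k) [Fintype C[x]] [Fintype (IrrCharacter G)]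
    (χ₀ : IrrCharacter G) [DecidablePred (· ∈ blockOf M (χ₀ : G → ℂ))]
    (ψ ψ' : IrrCharacter C[x])
    (hind : IsInducedBlock M C[x] (blockOf M (ψ : C[x] → ℂ)) (blockOf M (χ₀ : G → ℂ))) :
    classInner (pRegularPart p (ψ : C[x] → ℂ)) (ψ' : C[x] → ℂ) =
      ∑ χ : IrrCharacter G, if χ ∈ blockOf M (χ₀ : G → ℂ) then
        conj (classInner (secLin p x (χ : G → ℂ)) (ψ : C[x] → ℂ)) *
          classInner (secLin p x (χ : G → ℂ)) (ψ' : C[x] → ℂ) else 0 := by
  rw [pRegularPart_eq_sum_secLin hMp hx χ₀ ψ hind, classInner_sum_left]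
  refine Finset.sum_congr rfl fun χ _ => ?_
  rw [classInner_smul_left]
  split_ifs
  · rfl
  · rw [zero_mul]

/-- The diagonal contributions as `p`-regular norms. -/
theorem contrib_self_eq (p : ℕ) {C : Subgroup G} [Fintype C] (e : Set (IrrCharacter C)) (x : G)
    (χ : G → ℂ) :
    contrib p e x χ χ =
      classInner (pRegularPart p (blockPart e (fun c : C => χ (x * (c : G)))))
        (blockPart e (fun c : C => χ (x * (c : G)))) := by
  unfold contrib contribFun
  rw [← classInner_pRegularPart_comm, pRegularPart_idem]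

/-- **Row idempotency** of the matrix of contributions. -/
theorem sum_contrib_mul_conj (hMp : IsPModular p M) {x : G}
    (hx : ∃ k : ℕ, orderOf x = p ^ k) [Fintype C[x]] [Fintype (IrrCharacter G)]
    [Fintype (IrrCharacter C[x])]
    (χ₀ : IrrCharacter G) [DecidablePred (· ∈ blockOf M (χ₀ : G → ℂ))]
    (ψ₀ : IrrCharacter C[x]) [DecidablePred (· ∈ blockOf M (ψ₀ : C[x] → ℂ))]
    (hind : IsInducedBlock M C[x] (blockOf M (ψ₀ : C[x] → ℂ)) (blockOf M (χ₀ : G → ℂ)))
    (χ : IrrCharacter G) :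
    ∑ χ' : IrrCharacter G, (if χ' ∈ blockOf M (χ₀ : G → ℂ) then
        contrib p (blockOf M (ψ₀ : C[x] → ℂ)) x (χ : G → ℂ) (χ' : G → ℂ) *
          conj (contrib p (blockOf M (ψ₀ : C[x] → ℂ)) x (χ : G → ℂ) (χ' : G → ℂ)) else 0) =
      contrib p (blockOf M (ψ₀ : C[x] → ℂ)) x (χ : G → ℂ) (χ : G → ℂ) := by
  have hM : M.IsPrime := hMp.2.1.isPrime
  set D : IrrCharacter G → IrrCharacter C[x] → ℂ :=
    fun χ ψ => classInner (secLin p x (χ : G → ℂ)) (ψ : C[x] → ℂ) with hD
  set a : IrrCharacter C[x] → ℂ :=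
    fun ψ => if ψ ∈ blockOf M (ψ₀ : C[x] → ℂ) then D χ ψ else 0 with ha
  -- the entries of the row of `χ`
  have hm : ∀ χ' : IrrCharacter G,
      contrib p (blockOf M (ψ₀ : C[x] → ℂ)) x (χ : G → ℂ) (χ' : G → ℂ) =
        ∑ ψ : IrrCharacter C[x], a ψ * conj (D χ' ψ) := by
    intro χ'
    rw [contrib_eq_sum hMp ψ₀ χ χ']
    refine Finset.sum_congr rfl fun ψ _ => ?_
    rw [ha]
    simp only
    split_ifs
    · rfl
    · rw [zero_mul]
  -- polarized orthogonality
  have hpol : ∀ ψ ∈ blockOf M (ψ₀ : C[x] → ℂ), ∀ ψ' : IrrCharacter C[x],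
      classInner (pRegularPart p (ψ : C[x] → ℂ)) (ψ' : C[x] → ℂ) =
        ∑ χ' : IrrCharacter G, if χ' ∈ blockOf M (χ₀ : G → ℂ) then
          conj (D χ' ψ) * D χ' ψ' else 0 := by
    intro ψ hψ ψ'
    have hbe : blockOf M (ψ : C[x] → ℂ) = blockOf M (ψ₀ : C[x] → ℂ) :=
      (blockOf_eq_of_sameBlock hM (mem_blockOf_iff.1 hψ)).symm
    have hind' : IsInducedBlock M C[x] (blockOf M (ψ : C[x] → ℂ)) (blockOf M (χ₀ : G → ℂ)) := by
      rw [hbe]; exact hind
    exact classInner_pRegularPart_eq_sum hMp hx χ₀ ψ ψ' hind'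
  -- the diagonal entry
  have hdiag : contrib p (blockOf M (ψ₀ : C[x] → ℂ)) x (χ : G → ℂ) (χ : G → ℂ) =
      ∑ ψ : IrrCharacter C[x], ∑ ψ' : IrrCharacter C[x],
        a ψ * conj (a ψ') * classInner (pRegularPart p (ψ : C[x] → ℂ)) (ψ' : C[x] → ℂ) := by
    have h1 : contrib p (blockOf M (ψ₀ : C[x] → ℂ)) x (χ : G → ℂ) (χ : G → ℂ) =
        classInner (pRegularPart p (contribFun p (blockOf M (ψ₀ : C[x] → ℂ)) x (χ : G → ℂ)))
          (contribFun p (blockOf M (ψ₀ : C[x] → ℂ)) x (χ : G → ℂ)) := by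
      unfold contrib
      congr 1
      unfold contribFun
      rw [pRegularPart_idem]
    rw [h1, contribFun_eq_sum hMp ψ₀ χ]
    exact classInner_pReg_sum_sum a a
  rw [hdiag]
  have hstep : ∀ χ' : IrrCharacter G, (if χ' ∈ blockOf M (χ₀ : G → ℂ) then
        contrib p (blockOf M (ψ₀ : C[x] → ℂ)) x (χ : G → ℂ) (χ' : G → ℂ) *
          conj (contrib p (blockOf M (ψ₀ : C[x] → ℂ)) x (χ : G → ℂ) (χ' : G → ℂ)) else 0) =
      ∑ ψ : IrrCharacter C[x], ∑ ψ' : IrrCharacter C[x],
        a ψ * conj (a ψ') *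
          (if χ' ∈ blockOf M (χ₀ : G → ℂ) then conj (D χ' ψ) * D χ' ψ' else 0) := by
    intro χ'
    split_ifs with hχ'
    · rw [hm χ', map_sum, Finset.sum_mul]
      refine Finset.sum_congr rfl fun ψ _ => ?_
      rw [Finset.mul_sum]
      refine Finset.sum_congr rfl fun ψ' _ => ?_
      rw [map_mul, Complex.conj_conj]
      ring
    · simp
  rw [Finset.sum_congr rfl fun χ' _ => hstep χ', Finset.sum_comm]
  refine Finset.sum_congr rfl fun ψ _ => ?_
  rw [Finset.sum_comm]
  refine Finset.sum_congr rfl fun ψ' _ => ?_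
  rw [← Finset.mul_sum]
  by_cases hψ : ψ ∈ blockOf M (ψ₀ : C[x] → ℂ)
  · rw [hpol ψ hψ ψ']
  · have : a ψ = 0 := by
      rw [ha]
      simp only
      rw [if_neg hψ]
    rw [this, zero_mul, zero_mul, zero_mul]

/-- **The squares of the contributions add up to `l(e)`.** -/
theorem sum_sum_contrib_mul_conj (hMp : IsPModular p M) {x : G}
    (hx : ∃ k : ℕ, orderOf x = p ^ k) [Fintype C[x]] [Fintype (IrrCharacter G)]
    (χ₀ : IrrCharacter G) [DecidablePred (· ∈ blockOf M (χ₀ : G → ℂ))]
    (e : Set (IrrCharacter C[x]))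
    (hind : IsInducedBlock M C[x] e (blockOf M (χ₀ : G → ℂ))) :
    ∑ χ : IrrCharacter G, ∑ χ' : IrrCharacter G,
      (if χ ∈ blockOf M (χ₀ : G → ℂ) ∧ χ' ∈ blockOf M (χ₀ : G → ℂ) then
        contrib p e x (χ : G → ℂ) (χ' : G → ℂ) *
          conj (contrib p e x (χ : G → ℂ) (χ' : G → ℂ)) else 0) = (blockRank p e : ℂ) := by
  classical
  haveI : Fintype (IrrCharacter C[x]) := Fintype.ofFinite _
  rw [← sum_classInner_blockPart_secFun hMp hx χ₀ e hind]
  obtain ⟨ψ₀, rfl⟩ := hind.1
  refine Finset.sum_congr rfl fun χ _ => ?_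
  by_cases hχ : χ ∈ blockOf M (χ₀ : G → ℂ)
  · rw [if_pos hχ]
    have h1 := sum_contrib_mul_conj hMp hx χ₀ ψ₀ hind χ
    have h2 : contrib p (blockOf M (ψ₀ : C[x] → ℂ)) x (χ : G → ℂ) (χ : G → ℂ) =
        classInner (pRegularPart p (blockPart (blockOf M (ψ₀ : C[x] → ℂ))
          (secFun x (χ : G → ℂ)))) (blockPart (blockOf M (ψ₀ : C[x] → ℂ))
          (secFun x (χ : G → ℂ))) := contrib_self_eq p _ x _
    rw [← h2, ← h1]
    refine Finset.sum_congr rfl fun χ' _ => ?_
    by_cases hχ' : χ' ∈ blockOf M (χ₀ : G → ℂ)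
    · rw [if_pos hχ', if_pos ⟨hχ, hχ'⟩]
    · rw [if_neg hχ', if_neg (fun h => hχ' h.2)]
  · rw [if_neg hχ]
    refine Finset.sum_eq_zero fun χ' _ => ?_
    rw [if_neg (fun h => hχ h.1)]

end XForm

section CForm

universe u
variable {G : Type u} [Group G] [Fintype G] {p : ℕ} {M : Ideal AlgInt}

/-- **The squares of the contributions add up to `l(e)`**, for any subgroup `C` equal to
`C_G(x)`. -/
theorem sum_sum_contrib_mul_conj' (hMp : IsPModular p M) {x : G}
    (hx : ∃ k : ℕ, orderOf x = p ^ k) (C : Subgroup G) [Fintype C]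
    (hC : C = Subgroup.centralizer ({x} : Set G)) [Fintype (IrrCharacter G)]
    (χ₀ : IrrCharacter G) [DecidablePred (· ∈ blockOf M (χ₀ : G → ℂ))]
    (e : Set (IrrCharacter C))
    (hind : IsInducedBlock M C e (blockOf M (χ₀ : G → ℂ))) :
    ∑ χ : IrrCharacter G, ∑ χ' : IrrCharacter G,
      (if χ ∈ blockOf M (χ₀ : G → ℂ) ∧ χ' ∈ blockOf M (χ₀ : G → ℂ) then
        contrib p e x (χ : G → ℂ) (χ' : G → ℂ) *
          conj (contrib p e x (χ : G → ℂ) (χ' : G → ℂ)) else 0) = (blockRank p e : ℂ) := by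
  subst hC
  exact sum_sum_contrib_mul_conj hMp hx χ₀ e hind

end CForm

end Cfsg.Agent.Lib.Helper82
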