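import Mathlib
import Cfsg.Prelude.Def_Blocks
import Cfsg.Prelude.Def_BlockRank
import Cfsg.Agent.Lib.Helper82.SubsectionNorm
import Cfsg.Agent.Lib.Helper82.LocalRing
import Cfsg.Agent.Lib.Helper82.CharBasic
import Cfsg.Agent.Lib.Helper21.BrouePuig
import Cfsg.Agent.Lib.Helper21.Osima
import Cfsg.Agent.Lib.Helper22.DefectClass
import Cfsg.Agent.Lib.Helper22.BlockPartSum
import Cfsg.Agent.Lib.Helper79.DefectSep
import Cfsg.Agent.Lib.Helper22.DefectConj
import Cfsg.Agent.S0927
import Cfsg.Agent.S0923

set_option autoImplicit false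
set_option linter.style.haveILetI false
set_option linter.unusedSectionVars false

/-!
# Existence of major subsections

If `B` has a defect class `g₀`, `P` is a Sylow `p`-subgroup of `C_G(g₀)` and `y ∈ Z(P)`, then some
block `b` of `C_G(y)` induces `B` and has defect at least that of `B`.
-/

namespace Cfsg.Agent.Lib.Helper82

open Cfsg
open scoped ComplexConjugate
open Cfsg.Agent.Lib.Helper21 Cfsg.Agent.Lib.Helper83

section LocalQuot

variable {p : ℕ} {M : Ideal AlgInt}

/-- A quotient of natural numbers whose numerator has the strictly larger `p`-part lies in the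
local ideal. -/
theorem memLocalIdeal_natCast_div_of_lt (hM : IsPModular p M) (n m : ℕ) (hm : m ≠ 0)
    (h : m.factorization p < n.factorization p) : MemLocalIdeal M ((n : ℂ) / (m : ℂ)) := by
  have hp : p.Prime := hM.1
  have hMp : M.IsPrime := hM.2.1.isPrime
  have hpm : p * m ≠ 0 := Nat.mul_ne_zero hp.ne_zero hm
  have h1 : (p * m).factorization p ≤ n.factorization p := by
    rw [Nat.factorization_mul hp.ne_zero hm, Finsupp.add_apply, hp.factorization_self]
    omega
  have h2 := Cfsg.Agent.Lib.Helper22.memLocalRing_div_of_factorization_le hM n (p * m) hpm h1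
  have h3 : MemLocalIdeal M ((p : ℕ) : ℂ) := (memLocalIdeal_natCast_iff hM p).2 dvd_rfl
  have h4 : (n : ℂ) / (m : ℂ) = ((p : ℕ) : ℂ) * ((n : ℂ) / ((p * m : ℕ) : ℂ)) := by
    have hp0 : ((p : ℕ) : ℂ) ≠ 0 := Nat.cast_ne_zero.2 hp.ne_zero
    have hm0 : (m : ℂ) ≠ 0 := Nat.cast_ne_zero.2 hm
    push_cast
    field_simp
  rw [h4]
  exact memLocalIdeal_mul_right hMp h3 h2

end LocalQuot

section Values

universe u
variable {H : Type u} [Group H] [Fintype H] {p : ℕ} [Fact p.Prime] {M : Ideal AlgInt}

/-- An irreducible character is `≡ 0` modulo the local ideal at the elements whose centralizer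
has `p`-part larger than the defect of its block. -/
theorem irr_apply_memLocalIdeal_of_defect_lt (hM : IsPModular p M) (ψ : IrrCharacter H) (g : H)
    (hlt : blockDefect p (blockOf M (ψ : H → ℂ)) <
      (Nat.card (Subgroup.centralizer ({g} : Set H))).factorization p) :
    MemLocalIdeal M ((ψ : H → ℂ) g) := by
  classical
  haveI : Fintype (IrrCharacter H) := Fintype.ofFinite _
  have hp : p.Prime := hM.1
  have hMp : M.IsPrime := hM.2.1.isPrime
  set C := Subgroup.centralizer ({g} : Set H) with hC
  have hψchar : IsCharacter H (ψ : H → ℂ) := IrrCharacter_isCharacter ψ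
  have hdeg : (charDegree (ψ : H → ℂ) : ℂ) = (ψ : H → ℂ) 1 := IsCharacter.charDegree_cast hψchar
  have hdegpos : 0 < charDegree (ψ : H → ℂ) := IsIrrCharacter.charDegree_pos ψ.2
  have hidx : C.index ≠ 0 := Subgroup.index_ne_zero_of_finite
  have hcardC : Nat.card C ≠ 0 := Nat.card_pos.ne'
  have hmul : Nat.card C * C.index = Nat.card H := C.card_mul_index
  have hfac : (Nat.card C).factorization p + C.index.factorization p =
      (Nat.card H).factorization p := by
    rw [← hmul, Nat.factorization_mul hcardC hidx, Finsupp.add_apply]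
  have hsInf := Cfsg.Agent.Lib.Helper79.sInf_add_blockDefect (p := p) hMp
    (⟨ψ, rfl⟩ : IsPBlock M (blockOf M (ψ : H → ℂ)))
  have hle : sInf ((fun χ : IrrCharacter H => (charDegree (χ : H → ℂ)).factorization p) ''
      (blockOf M (ψ : H → ℂ))) ≤ (charDegree (ψ : H → ℂ)).factorization p :=
    Nat.sInf_le ⟨ψ, mem_blockOf_self hMp ψ, rfl⟩
  have hν : C.index.factorization p < (charDegree (ψ : H → ℂ)).factorization p := by omega
  have hq := memLocalIdeal_natCast_div_of_lt hM (charDegree (ψ : H → ℂ)) C.index hidx hν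
  have hcc : MemLocalRing M (centralChar (ψ : H → ℂ) g) := memLocalRing_centralChar hMp ψ g
  have heq : (ψ : H → ℂ) g =
      centralChar (ψ : H → ℂ) g * ((charDegree (ψ : H → ℂ) : ℂ) / (C.index : ℂ)) := by
    unfold centralChar
    rw [hdeg, ← hC]
    have h1 : (ψ : H → ℂ) 1 ≠ 0 := by
      rw [← hdeg]; exact Nat.cast_ne_zero.2 hdegpos.ne'
    have h2 : (C.index : ℂ) ≠ 0 := Nat.cast_ne_zero.2 hidx
    field_simp
  rw [heq]
  exact memLocalIdeal_mul_left hMp hcc hq

end Values

section SecInner

universe u
variable {G : Type u} [Group G] [Fintype G] {p : ℕ} {M : Ideal AlgInt}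

theorem centElt_mem_center (y : G) :
    centElt y ∈ Subgroup.center (Subgroup.centralizer ({y} : Set G)) := by
  rw [Subgroup.mem_center_iff]
  intro c
  apply Subtype.ext
  show (c : G) * y = y * (c : G)
  exact mem_centralizer_comm c

/-- The inner product of a section function with an irreducible character of `C_G(y)` is a
root-of-unity multiple of a restriction multiplicity. -/
theorem classInner_secFun_eq_mul {y : G} [Fintype (Subgroup.centralizer ({y} : Set G))]
    (χ : IrrCharacter G) (ψ : IrrCharacter (Subgroup.centralizer ({y} : Set G))) :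
    classInner (secFun y (χ : G → ℂ)) (ψ : Subgroup.centralizer ({y} : Set G) → ℂ) =
      ((ψ : Subgroup.centralizer ({y} : Set G) → ℂ) (centElt y) /
        (ψ : Subgroup.centralizer ({y} : Set G) → ℂ) 1) *
      classInner (fun h : Subgroup.centralizer ({y} : Set G) => (χ : G → ℂ) (h : G))
        (ψ : Subgroup.centralizer ({y} : Set G) → ℂ) := by
  set z := centElt y with hz
  have hzc : z ∈ Subgroup.center (Subgroup.centralizer ({y} : Set G)) := centElt_mem_center y
  have hzc' : z⁻¹ ∈ Subgroup.center (Subgroup.centralizer ({y} : Set G)) :=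
    Subgroup.inv_mem _ hzc
  have hψchar := IrrCharacter_isCharacter ψ
  obtain ⟨n, hn⟩ := IsCharacter.apply_one hψchar
  have hconj1 : conj ((ψ : Subgroup.centralizer ({y} : Set G) → ℂ) 1) =
      (ψ : Subgroup.centralizer ({y} : Set G) → ℂ) 1 := by
    rw [hn, Complex.conj_natCast]
  have hterm : ∀ c : Subgroup.centralizer ({y} : Set G),
      conj ((ψ : Subgroup.centralizer ({y} : Set G) → ℂ) c) =
        ((ψ : Subgroup.centralizer ({y} : Set G) → ℂ) z /
          (ψ : Subgroup.centralizer ({y} : Set G) → ℂ) 1) *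
        conj ((ψ : Subgroup.centralizer ({y} : Set G) → ℂ) (z * c)) := by
    intro c
    have h1 : (ψ : Subgroup.centralizer ({y} : Set G) → ℂ) c =
        (ψ : Subgroup.centralizer ({y} : Set G) → ℂ) z⁻¹ /
          (ψ : Subgroup.centralizer ({y} : Set G) → ℂ) 1 *
        (ψ : Subgroup.centralizer ({y} : Set G) → ℂ) (z * c) := by
      rw [← irr_central_mul ψ hzc' (z * c), inv_mul_cancel_left]
    rw [h1, map_mul, map_div₀, hconj1, char_inv hψchar z, Complex.conj_conj]
  rw [classInner_def, classInner_def, ← mul_assoc, mul_comm _ ((Nat.card _ : ℂ)⁻¹), mul_assoc]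
  congr 1
  rw [Finset.mul_sum, ← Equiv.sum_comp (Equiv.mulLeft z)
    (fun c' : Subgroup.centralizer ({y} : Set G) =>
      (ψ : Subgroup.centralizer ({y} : Set G) → ℂ) z /
        (ψ : Subgroup.centralizer ({y} : Set G) → ℂ) 1 *
      ((χ : G → ℂ) (c' : G) * conj ((ψ : Subgroup.centralizer ({y} : Set G) → ℂ) c')))]
  refine Finset.sum_congr rfl fun c _ => ?_
  rw [hterm c, Equiv.coe_mulLeft]
  show (χ : G → ℂ) (y * (c : G)) * _ = _
  have : ((z * c : Subgroup.centralizer ({y} : Set G)) : G) = y * (c : G) := rfl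
  rw [this]
  ring

theorem classInner_secFun_memLocalRing (hMp : M.IsPrime) {y : G}
    [Fintype (Subgroup.centralizer ({y} : Set G))]
    (χ : IrrCharacter G) (ψ : IrrCharacter (Subgroup.centralizer ({y} : Set G))) :
    MemLocalRing M (classInner (secFun y (χ : G → ℂ))
      (ψ : Subgroup.centralizer ({y} : Set G) → ℂ)) := by
  classical
  haveI : Fintype (IrrCharacter (Subgroup.centralizer ({y} : Set G))) := Fintype.ofFinite _
  rw [classInner_secFun_eq_mul]
  apply memLocalRing_mul hMp
  · have hcc := memLocalRing_centralChar hMp ψ (centElt y)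
    have htop : Subgroup.centralizer ({centElt y} : Set (Subgroup.centralizer ({y} : Set G))) = ⊤ := by
      rw [Subgroup.centralizer_eq_top_iff_subset]
      intro w hw
      rw [Set.mem_singleton_iff] at hw
      rw [hw]
      exact centElt_mem_center y
    unfold centralChar at hcc
    rw [htop, Subgroup.index_top, Nat.cast_one, one_mul] at hcc
    exact hcc
  · obtain ⟨n, hn⟩ := classInner_char_nat
      (isCharacter_restrict (Subgroup.centralizer ({y} : Set G)) (IrrCharacter_isCharacter χ))
      (IrrCharacter_isCharacter ψ)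
    rw [hn]
    exact memLocalRing_natCast hMp n

end SecInner

section Major

universe u
variable {G : Type u} [Group G] [Fintype G] {p : ℕ} [Fact p.Prime] {M : Ideal AlgInt}

/-- A block has a member of height zero. -/
theorem exists_height_zero (hMp : M.IsPrime) (χ₀ : IrrCharacter G) :
    ∃ χ ∈ blockOf M (χ₀ : G → ℂ), blockHeight p (blockOf M (χ₀ : G → ℂ)) (χ : G → ℂ) = 0 := by
  have hne : ((fun χ : IrrCharacter G => (charDegree (χ : G → ℂ)).factorization p) ''
      (blockOf M (χ₀ : G → ℂ))).Nonempty := ⟨_, χ₀, mem_blockOf_self hMp χ₀, rfl⟩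
  obtain ⟨χ, hχ, hχe⟩ := Nat.sInf_mem hne
  refine ⟨χ, hχ, ?_⟩
  unfold blockHeight
  simp only at hχe
  rw [hχe, Nat.sub_self]

/-- **Existence of major subsections.** Let `g₀` represent a defect class of the block `B`, `P` a
Sylow `p`-subgroup of `C_G(g₀)` and `x ∈ Z(P)`. Then some block of `C_G(x)` induces `B` and has
defect at least the defect of `B`. -/
theorem exists_induced_block_defect_ge (hM : IsPModular p M) (χ₀ : IrrCharacter G) (g₀ : G)
    (hg₀ : IsDefectClass M (blockOf M (χ₀ : G → ℂ)) g₀)
    (P : Sylow p (Subgroup.centralizer ({g₀} : Set G)))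
    (x : Subgroup.centralizer ({g₀} : Set G))
    (hxP : x ∈ (P : Subgroup (Subgroup.centralizer ({g₀} : Set G))))
    (hxZ : ∀ w ∈ (P : Subgroup (Subgroup.centralizer ({g₀} : Set G))), x * w = w * x) :
    ∃ b : Set (IrrCharacter (Subgroup.centralizer ({(x : G)} : Set G))),
      IsInducedBlock M (Subgroup.centralizer ({(x : G)} : Set G)) b (blockOf M (χ₀ : G → ℂ)) ∧
        blockDefect p (blockOf M (χ₀ : G → ℂ)) ≤ blockDefect p b := by
  classical
  by_contra hcon
  push Not at hcon
  have hp : p.Prime := hM.1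
  have hMp : M.IsPrime := hM.2.1.isPrime
  set B := blockOf M (χ₀ : G → ℂ) with hBdef
  have hB : IsPBlock M B := ⟨χ₀, rfl⟩
  set y : G := (x : G) with hy
  set H := Subgroup.centralizer ({y} : Set G) with hH
  haveI : Fintype H := Fintype.ofFinite _
  haveI : Fintype (IrrCharacter H) := Fintype.ofFinite _
  haveI : Fintype (Set (IrrCharacter H)) := Fintype.ofFinite _
  haveI : Fintype (IrrCharacter G) := Fintype.ofFinite _
  set d := blockDefect p B with hd
  -- the element `y` is a `p`-element
  have hyp : ∃ k : ℕ, orderOf y = p ^ k := by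
    obtain ⟨k, hk⟩ := (IsPGroup.iff_orderOf.1 P.isPGroup') ⟨x, hxP⟩
    refine ⟨k, ?_⟩
    have h1 : orderOf (⟨x, hxP⟩ : (P : Subgroup (Subgroup.centralizer ({g₀} : Set G)))) =
        orderOf x := Subgroup.orderOf_mk x hxP
    have h2 : orderOf (x : G) = orderOf x := Subgroup.orderOf_coe x
    rw [hy, h2, ← h1, hk]
  -- `g₀` lies in `H` and is `p`-regular
  have hg₀H : g₀ ∈ H := by
    rw [hH, Subgroup.mem_centralizer_singleton_iff]
    exact (Subgroup.mem_centralizer_singleton_iff.1 x.2).symm
  set g₀' : H := ⟨g₀, hg₀H⟩ with hg₀'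
  have hreg : ¬ p ∣ orderOf g₀ := Cfsg.Agent.Lib.Helper22.IsDefectClass.not_dvd_orderOf hM hB hg₀
  have hreg' : ¬ p ∣ orderOf g₀' := by
    rw [hg₀', Subgroup.orderOf_mk]; exact hreg
  -- a height zero character is a unit at `y * g₀`
  obtain ⟨χ, hχB, hχ0⟩ := exists_height_zero (p := p) hMp χ₀
  have hunit : ¬ MemLocalIdeal M ((χ : G → ℂ) (y * g₀)) :=
    (Cfsg.Agent.S0927.result p M hM B hB g₀ hg₀ P x hxP).1 χ hχB hχ0
  apply hunit
  -- the order of `P`
  have hDG : IsDefectGroup p M B
      ((P : Subgroup (Subgroup.centralizer ({g₀} : Set G))).map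
        (Subgroup.centralizer ({g₀} : Set G)).subtype) := ⟨g₀, hg₀, P, rfl⟩
  have hcardP : Nat.card (P : Subgroup (Subgroup.centralizer ({g₀} : Set G))) = p ^ d := by
    rw [← Cfsg.Agent.Lib.Helper22.IsDefectGroup.card_eq hM hB hDG]
    exact (Subgroup.card_map_of_injective (Subgroup.subtype_injective _)).symm
  -- `P` embeds in `C_H(g₀')`
  have hmemH : ∀ q : (P : Subgroup (Subgroup.centralizer ({g₀} : Set G))),
      ((q : Subgroup.centralizer ({g₀} : Set G)) : G) ∈ H := by
    intro q
    rw [hH, Subgroup.mem_centralizer_singleton_iff]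
    have := congrArg (fun w : Subgroup.centralizer ({g₀} : Set G) => (w : G)) (hxZ q q.2)
    simp only [Subgroup.coe_mul] at this
    exact this.symm
  have hmemC : ∀ q : (P : Subgroup (Subgroup.centralizer ({g₀} : Set G))),
      (⟨((q : Subgroup.centralizer ({g₀} : Set G)) : G), hmemH q⟩ : H) ∈
        Subgroup.centralizer ({g₀'} : Set H) := by
    intro q
    rw [Subgroup.mem_centralizer_singleton_iff]
    apply Subtype.ext
    show ((q : Subgroup.centralizer ({g₀} : Set G)) : G) * g₀ =
      g₀ * ((q : Subgroup.centralizer ({g₀} : Set G)) : G)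
    exact Subgroup.mem_centralizer_singleton_iff.1 (q : Subgroup.centralizer ({g₀} : Set G)).2
  let φ : (P : Subgroup (Subgroup.centralizer ({g₀} : Set G))) →*
      Subgroup.centralizer ({g₀'} : Set H) :=
    MonoidHom.mk' (fun q => ⟨⟨((q : Subgroup.centralizer ({g₀} : Set G)) : G), hmemH q⟩, hmemC q⟩)
      (fun a b => by
        apply Subtype.ext
        apply Subtype.ext
        rfl)
  have hφinj : Function.Injective φ := by
    intro a b hab
    have h1 := congrArg (fun w : Subgroup.centralizer ({g₀'} : Set H) => ((w : H) : G)) hab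
    apply Subtype.ext
    apply Subtype.ext
    exact h1
  have hdvd : p ^ d ∣ Nat.card (Subgroup.centralizer ({g₀'} : Set H)) := by
    rw [← hcardP]
    exact Subgroup.card_dvd_of_injective φ hφinj
  have hdle : d ≤ (Nat.card (Subgroup.centralizer ({g₀'} : Set H))).factorization p :=
    (hp.pow_dvd_iff_le_factorization Nat.card_pos.ne').1 hdvd
  -- decompose the section function into its block parts
  have hfcf : IsClassFunction H (secFun y (χ : G → ℂ)) :=
    secFun_isClassFunction y (isClassFunction_irr χ)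
  have hsum := Cfsg.Agent.Lib.Helper22.eq_sum_blockPart hMp hfcf g₀'
  have hval : (χ : G → ℂ) (y * g₀) = secFun y (χ : G → ℂ) g₀' := rfl
  rw [hval, hsum]
  apply memLocalIdeal_sum hMp
  intro b _
  split_ifs with hb
  · by_cases hind : IsInducedBlock M H b B
    · have hlt : blockDefect p b < d := hcon b hind
      rw [blockPart_eq_sum_smul, Finset.sum_apply]
      apply memLocalIdeal_sum hMp
      intro ψ _
      rw [Pi.smul_apply, smul_eq_mul]
      split_ifs with hψ
      · apply memLocalIdeal_mul_left hMp (classInner_secFun_memLocalRing hMp χ ψ)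
        apply irr_apply_memLocalIdeal_of_defect_lt hM ψ g₀'
        obtain ⟨ψ₀, rfl⟩ := hb
        have hbe : blockOf M (ψ : H → ℂ) = blockOf M (ψ₀ : H → ℂ) :=
          (blockOf_eq_of_sameBlock hMp (mem_blockOf_iff.1 hψ)).symm
        rw [hbe]
        omega
      · rw [zero_mul]
        exact memLocalIdeal_zero hMp
    · have h0 := Cfsg.Agent.S0923.result p M hM y hyp B hB χ hχB b hb hind g₀' hreg'
      have h0' : blockPart b (secFun y (χ : G → ℂ)) g₀' = 0 := h0
      rw [h0']
      exact memLocalIdeal_zero hMp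
  · exact memLocalIdeal_zero hMp

end Major

end Cfsg.Agent.Lib.Helper82
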