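import Mathlib
import Cfsg.Prelude.Def_Blocks
import Cfsg.Prelude.Def_BlockRank
import Cfsg.Agent.Lib.Helper82.Contrib
import Cfsg.Agent.Lib.Helper82.MajorSubsection

set_option autoImplicit false
set_option linter.style.haveILetI false
set_option linter.unusedSectionVars false

/-!
# Contributions of the subsections `(y ^ k, e)` on `C_G(y)`

The element `y ^ k` is central in `C = C_G(y)`, so the section functions of `χ` at `y ^ k` are
obtained from the restriction of `χ` to `C` by twisting with the central characters.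
-/

namespace Cfsg.Agent.Lib.Helper82

open Cfsg
open scoped ComplexConjugate
open Cfsg.Agent.Lib.Helper21 Cfsg.Agent.Lib.Helper83

section Central

universe u
variable {H : Type u} [Group H] [Fintype H]

/-- Translating by a central element multiplies the inner product with an irreducible character
by the value of its central character. -/
theorem classInner_mul_left_central (f : H → ℂ) (ψ : IrrCharacter H) {z : H}
    (hz : z ∈ Subgroup.center H) :
    classInner (fun c => f (z * c)) (ψ : H → ℂ) =
      (ψ : H → ℂ) z / (ψ : H → ℂ) 1 * classInner f (ψ : H → ℂ) := by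
  have hzc' : z⁻¹ ∈ Subgroup.center H := Subgroup.inv_mem _ hz
  have hψchar := IrrCharacter_isCharacter ψ
  obtain ⟨n, hn⟩ := IsCharacter.apply_one hψchar
  have hconj1 : conj ((ψ : H → ℂ) 1) = (ψ : H → ℂ) 1 := by
    rw [hn, Complex.conj_natCast]
  have hterm : ∀ c : H, conj ((ψ : H → ℂ) c) =
      ((ψ : H → ℂ) z / (ψ : H → ℂ) 1) * conj ((ψ : H → ℂ) (z * c)) := by
    intro c
    have h1 : (ψ : H → ℂ) c = (ψ : H → ℂ) z⁻¹ / (ψ : H → ℂ) 1 * (ψ : H → ℂ) (z * c) := by
      rw [← irr_central_mul ψ hzc' (z * c), inv_mul_cancel_left]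
    rw [h1, map_mul, map_div₀, hconj1, char_inv hψchar z, Complex.conj_conj]
  rw [classInner_def, classInner_def, ← mul_assoc, mul_comm _ ((Nat.card _ : ℂ)⁻¹), mul_assoc]
  congr 1
  rw [Finset.mul_sum, ← Equiv.sum_comp (Equiv.mulLeft z)
    (fun c' : H => (ψ : H → ℂ) z / (ψ : H → ℂ) 1 * (f c' * conj ((ψ : H → ℂ) c')))]
  refine Finset.sum_congr rfl fun c _ => ?_
  rw [hterm c, Equiv.coe_mulLeft]
  ring

end Central

section CentPow

variable {G : Type*} [Group G]

/-- The centralizer of a power of `y` prime to its order is the centralizer of `y`. -/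
theorem centralizer_pow_eq_of_coprime (y : G) (k : ℕ) (hk : Nat.Coprime k (orderOf y)) :
    Subgroup.centralizer ({y ^ k} : Set G) = Subgroup.centralizer ({y} : Set G) := by
  ext c
  rw [Subgroup.mem_centralizer_singleton_iff, Subgroup.mem_centralizer_singleton_iff]
  constructor
  · intro h
    obtain ⟨m, hm⟩ := exists_pow_eq_self_of_coprime hk
    have h1 : Commute c (y ^ k) := h
    have h2 : Commute c ((y ^ k) ^ m) := h1.pow_right m
    rw [hm] at h2
    exact h2
  · intro h
    have h1 : Commute c y := h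
    exact h1.pow_right k

end CentPow

section Formula

universe u
variable {G : Type u} [Group G] [Fintype G] {p : ℕ}

local notation "C[" g "]" => Subgroup.centralizer (singleton g)

theorem centElt_pow_mem_center (y : G) (k : ℕ) :
    (centElt y) ^ k ∈ Subgroup.center C[y] :=
  Subgroup.pow_mem _ (centElt_mem_center y) k

/-- The inner products of the section function of `χ` at `y ^ k` on `C_G(y)`. -/
theorem classInner_secFun_pow (y : G) [Fintype C[y]] (k : ℕ) (χ : G → ℂ)
    (ψ : IrrCharacter C[y]) :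
    classInner (fun c : C[y] => χ (y ^ k * (c : G))) (ψ : C[y] → ℂ) =
      ((ψ : C[y] → ℂ) (centElt y) / (ψ : C[y] → ℂ) 1) ^ k *
        classInner (fun h : C[y] => χ (h : G)) (ψ : C[y] → ℂ) := by
  have h := classInner_mul_left_central (fun h : C[y] => χ (h : G)) ψ
    (centElt_pow_mem_center y k)
  rw [irr_central_pow ψ (centElt_mem_center y) k]
  exact h

/-- The contributions of the subsection `(y ^ k, e)` on `C_G(y)`. -/
theorem contrib_pow_eq (p : ℕ) (y : G) [Fintype C[y]] [Fintype (IrrCharacter C[y])]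
    (e : Set (IrrCharacter C[y])) [DecidablePred (· ∈ e)] (k : ℕ) (χ χ' : G → ℂ) :
    contrib p e (y ^ k) χ χ' =
      ∑ ψ : IrrCharacter C[y], ∑ ψ' : IrrCharacter C[y],
        (if ψ ∈ e ∧ ψ' ∈ e then
          classInner (fun h : C[y] => χ (h : G)) (ψ : C[y] → ℂ) *
            conj (classInner (fun h : C[y] => χ' (h : G)) (ψ' : C[y] → ℂ)) *
            classInner (pRegularPart p (ψ : C[y] → ℂ)) (ψ' : C[y] → ℂ) *
            ((ψ : C[y] → ℂ) (centElt y) / (ψ : C[y] → ℂ) 1 *
              conj ((ψ' : C[y] → ℂ) (centElt y) / (ψ' : C[y] → ℂ) 1)) ^ k else 0) := by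
  rw [contrib_eq_sum_sum]
  refine Finset.sum_congr rfl fun ψ _ => ?_
  refine Finset.sum_congr rfl fun ψ' _ => ?_
  by_cases hψ : ψ ∈ e
  · by_cases hψ' : ψ' ∈ e
    · rw [if_pos hψ, if_pos hψ', if_pos ⟨hψ, hψ'⟩, classInner_secFun_pow, classInner_secFun_pow,
        map_mul, map_pow, mul_pow]
      ring
    · rw [if_neg hψ', if_neg (show ¬ (ψ ∈ e ∧ ψ' ∈ e) from fun h => hψ' h.2), map_zero, mul_zero,
        zero_mul]
  · rw [if_neg hψ, if_neg (show ¬ (ψ ∈ e ∧ ψ' ∈ e) from fun h => hψ h.1), zero_mul, zero_mul]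

end Formula

end Cfsg.Agent.Lib.Helper82
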