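import Mathlib
import Cfsg.Prelude.Def_Blocks
import Cfsg.Prelude.Def_BlockRank
import Cfsg.Agent.Lib.Helper82.BlockRank
import Cfsg.Agent.Lib.Helper82.LocalRing
import Cfsg.Agent.Lib.Helper82.CharBasic
import Cfsg.Agent.Lib.Helper21.RegularPart
import Cfsg.Agent.Lib.Helper21.OsimaApps
import Cfsg.Agent.Lib.Helper79.DefectSep

set_option autoImplicit false
set_option linter.style.haveILetI false
set_option linter.unusedSectionVars false

/-!
# The contributions of height zero characters are units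

Let `e` be a block of the subgroup `H` inducing the block `B` of `G`, of defect `d`.  For
`χ, χ' ∈ B` of height zero, the number `p ^ d ⟨(Ψ_χ)°, Ψ_χ'⟩`, where `Ψ_χ` is the `e`-part of
the restriction of `χ` to `H`, is a unit of the local ring.
-/

namespace Cfsg.Agent.Lib.Helper82

open Cfsg
open scoped ComplexConjugate
open Cfsg.Agent.Lib.Helper21 Cfsg.Agent.Lib.Helper83

section Formulas

universe u
variable {G : Type u} [Group G] [Fintype G]

/-- The `p`-regular inner product of a character with an irreducible character through the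
central character of the latter. -/
theorem classInner_pReg_char_irr (p : ℕ) {f : G → ℂ} (hf : IsCharacter G f) (ψ : IrrCharacter G) :
    classInner (pRegularPart p f) (ψ : G → ℂ) =
      (ψ : G → ℂ) 1 / (Nat.card G : ℂ) * omega (regConj p f) (ψ : G → ℂ) := by
  classical
  have hψ1 : (ψ : G → ℂ) 1 ≠ 0 := IsIrrCharacter.apply_one_ne_zero ψ.2
  have hψc : IsCharacter G (ψ : G → ℂ) := IrrCharacter_isCharacter ψ
  rw [classInner_def, omega]
  have hsum : ∑ g : G, pRegularPart p f g * conj ((ψ : G → ℂ) g) =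
      ∑ g : G, regConj p f g * (ψ : G → ℂ) g := by
    rw [← Equiv.sum_comp (Equiv.inv G)]
    refine Finset.sum_congr rfl fun g _ => ?_
    rw [Equiv.inv_apply, pRegularPart_apply, regConj_apply, orderOf_inv]
    split_ifs
    · simp
    · rw [char_inv hψc, Complex.conj_conj, char_inv hf]
  rw [hsum]
  field_simp

/-- The same for the restriction of a character of `G` to a subgroup. -/
theorem classInner_pReg_restrict_irr (p : ℕ) (H : Subgroup G) [Fintype H] {f : G → ℂ}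
    (hf : IsCharacter G f) (ψ : IrrCharacter H) :
    classInner (pRegularPart p (fun h : H => f (h : G))) (ψ : H → ℂ) =
      (ψ : H → ℂ) 1 / (Nat.card H : ℂ) *
        omega (fun h : H => regConj p f (h : G)) (ψ : H → ℂ) := by
  rw [classInner_pReg_char_irr p (isCharacter_restrict H hf) ψ]
  congr 2
  funext h
  rw [regConj_apply, regConj_apply, Subgroup.orderOf_coe]

/-- The `p`-regular inner product of an irreducible character of a subgroup with the restriction
of a function on `G`. -/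
theorem classInner_pReg_irr_restrict (p : ℕ) (H : Subgroup G) [Fintype H] (ψ : IrrCharacter H)
    (f : G → ℂ) :
    classInner (pRegularPart p (ψ : H → ℂ)) (fun h : H => f (h : G)) =
      (ψ : H → ℂ) 1 / (Nat.card H : ℂ) *
        omega (fun h : H => regConj p f (h : G)) (ψ : H → ℂ) := by
  classical
  have hψ1 : (ψ : H → ℂ) 1 ≠ 0 := IsIrrCharacter.apply_one_ne_zero ψ.2
  rw [classInner_def, omega]
  have hsum : ∑ h : H, pRegularPart p (ψ : H → ℂ) h * conj (f (h : G)) =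
      ∑ h : H, regConj p f (h : G) * (ψ : H → ℂ) h := by
    refine Finset.sum_congr rfl fun h _ => ?_
    rw [pRegularPart_apply, regConj_apply, Subgroup.orderOf_coe]
    split_ifs
    · simp
    · ring
  rw [hsum]
  field_simp

end Formulas

section Unit

universe u
variable {G : Type u} [Group G] [Fintype G] {p : ℕ} [Fact p.Prime] {M : Ideal AlgInt}

/-- **The contributions of height zero characters are units.** -/
theorem not_memLocalIdeal_sum_mult (hMp : IsPModular p M) (H : Subgroup G) [Fintype H]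
    [Fintype (IrrCharacter H)] (e : Set (IrrCharacter H)) [DecidablePred (· ∈ e)]
    (ψ₀ : IrrCharacter H) (he : e = blockOf M (ψ₀ : H → ℂ))
    (hmin : ∀ ψ ∈ e, (charDegree (ψ₀ : H → ℂ)).factorization p ≤
      (charDegree (ψ : H → ℂ)).factorization p)
    (B : Set (IrrCharacter G)) (hind : IsInducedBlock M H e B)
    (χ χ' : IrrCharacter G) (hχ : χ ∈ B) (hχ' : χ' ∈ B)
    (h0 : blockHeight p B (χ : G → ℂ) = 0) (h0' : blockHeight p B (χ' : G → ℂ) = 0) :
    ¬ MemLocalIdeal M (∑ ψ : IrrCharacter H, ∑ ψ' : IrrCharacter H,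
      if ψ ∈ e ∧ ψ' ∈ e then
        classInner (fun h : H => (χ : G → ℂ) h) (ψ : H → ℂ) *
          classInner (fun h : H => (χ' : G → ℂ) h) (ψ' : H → ℂ) *
          (((p ^ blockDefect p e : ℕ) : ℂ) *
            classInner (pRegularPart p (ψ : H → ℂ)) (ψ' : H → ℂ))
      else 0) := by
  classical
  haveI : Fintype (IrrCharacter G) := Fintype.ofFinite _
  have hp : p.Prime := Fact.out
  have hM : M.IsPrime := hMp.2.1.isPrime
  have heB : IsPBlock M e := ⟨ψ₀, he⟩
  have hψ₀e : ψ₀ ∈ e := by rw [he]; exact mem_blockOf_self hM ψ₀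
  have hsame : ∀ ψ ∈ e, SameBlock M (ψ₀ : H → ℂ) (ψ : H → ℂ) := by
    intro ψ hψ
    rw [he] at hψ
    exact mem_blockOf_iff.1 hψ
  have hmem_of : ∀ ψ : IrrCharacter H, SameBlock M (ψ₀ : H → ℂ) (ψ : H → ℂ) → ψ ∈ e := by
    intro ψ hs
    rw [he]
    exact mem_blockOf_iff.2 hs
  set d := blockDefect p e with hd
  set a := (Nat.card H).factorization p with ha
  -- valuations
  have hsum := Cfsg.Agent.Lib.Helper79.sInf_add_blockDefect (p := p) hM heB
  have hle : ∀ ψ ∈ e, a ≤ d + (charDegree (ψ : H → ℂ)).factorization p := by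
    intro ψ hψ
    have : sInf ((fun χ : IrrCharacter H => (charDegree (χ : H → ℂ)).factorization p) '' e) ≤
        (charDegree (ψ : H → ℂ)).factorization p := Nat.sInf_le ⟨ψ, hψ, rfl⟩
    omega
  have heq0 : d + (charDegree (ψ₀ : H → ℂ)).factorization p = a := by
    have hne : ((fun χ : IrrCharacter H => (charDegree (χ : H → ℂ)).factorization p) ''
        e).Nonempty := ⟨_, ψ₀, hψ₀e, rfl⟩
    obtain ⟨ψ₁, hψ₁, hψ₁e⟩ := Nat.sInf_mem hne
    have h1 := hmin ψ₁ hψ₁
    have h2 : sInf ((fun χ : IrrCharacter H => (charDegree (χ : H → ℂ)).factorization p) '' e) ≤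
        (charDegree (ψ₀ : H → ℂ)).factorization p := Nat.sInf_le ⟨ψ₀, hψ₀e, rfl⟩
    simp only at hψ₁e
    omega
  have hcardH : Nat.card H ≠ 0 := Nat.card_pos.ne'
  have hcardHc : (Nat.card H : ℂ) ≠ 0 := Nat.cast_ne_zero.2 hcardH
  have hpd : p ^ d ≠ 0 := pow_ne_zero _ hp.ne_zero
  have hdeg0 : ∀ ψ : IrrCharacter H, charDegree (ψ : H → ℂ) ≠ 0 :=
    fun ψ => (IsIrrCharacter.charDegree_pos ψ.2).ne'
  have hfac : ∀ ψ : IrrCharacter H, (p ^ d * charDegree (ψ : H → ℂ)).factorization p =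
      d + (charDegree (ψ : H → ℂ)).factorization p := by
    intro ψ
    rw [Nat.factorization_mul hpd (hdeg0 ψ), Nat.factorization_pow]
    simp only [Finsupp.add_apply, Finsupp.smul_apply, hp.factorization_self, smul_eq_mul, mul_one]
  -- the numbers `γ`
  set γ : IrrCharacter H → ℂ :=
    fun ψ => ((p ^ d : ℕ) : ℂ) * ((ψ : H → ℂ) 1 / (Nat.card H : ℂ)) with hγ
  have hγeq : ∀ ψ : IrrCharacter H, γ ψ =
      ((p ^ d * charDegree (ψ : H → ℂ) : ℕ) : ℂ) / ((Nat.card H : ℕ) : ℂ) := by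
    intro ψ
    rw [hγ]
    simp only
    rw [Nat.cast_mul, IsCharacter.charDegree_cast (IrrCharacter_isCharacter ψ)]
    ring
  have hγR : ∀ ψ ∈ e, MemLocalRing M (γ ψ) := by
    intro ψ hψ
    rw [hγeq]
    apply memLocalRing_natCast_div hMp hcardH
    rw [hfac]
    exact hle ψ hψ
  have hγ₀ : ¬ MemLocalIdeal M (γ ψ₀) := by
    intro hmem
    have hne : p ^ d * charDegree (ψ₀ : H → ℂ) ≠ 0 := Nat.mul_ne_zero hpd (hdeg0 ψ₀)
    have hinv : MemLocalRing M (((Nat.card H : ℕ) : ℂ) /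
        ((p ^ d * charDegree (ψ₀ : H → ℂ) : ℕ) : ℂ)) := by
      apply memLocalRing_natCast_div hMp hne
      rw [hfac, heq0]
    have h1 := memLocalIdeal_mul_right hM hmem hinv
    rw [hγeq, div_mul_div_comm, mul_comm, div_self] at h1
    · exact not_memLocalIdeal_one hM h1
    · exact mul_ne_zero (Nat.cast_ne_zero.2 hcardH) (Nat.cast_ne_zero.2 hne)
  -- the truncated conjugates
  have hΘc : ∀ χ : IrrCharacter G, IsClassFunction G (regConj p (χ : G → ℂ)) :=
    fun χ => regConj_isClassFunction p (isClassFunction_irr χ)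
  have hΘR : ∀ χ : IrrCharacter G, ∀ g, MemLocalRing M (regConj p (χ : G → ℂ) g) :=
    fun χ => regConj_memLocalRing p hM χ
  set W : IrrCharacter G → ℂ :=
    fun χ => omega (regConj p (χ : G → ℂ)) (χ : G → ℂ) with hW
  set Ω : IrrCharacter G → IrrCharacter H → ℂ :=
    fun χ ψ => omega (fun h : H => regConj p (χ : G → ℂ) (h : G)) (ψ : H → ℂ) with hΩ
  have hB2 : ∀ χ ∈ B, ∀ ψ ∈ e, MemLocalIdeal M (Ω χ ψ - W χ) :=
    fun χ hχ ψ hψ => omega_restrict_sub_memLocalIdeal H hM hind hψ hχ (hΘc χ) (hΘR χ)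
  have hWR : ∀ χ : IrrCharacter G, MemLocalRing M (W χ) :=
    fun χ => memLocalRing_omega hM (hΘc χ) (hΘR χ) χ
  have hB3 : ∀ χ ∈ B, blockHeight p B (χ : G → ℂ) = 0 → ¬ MemLocalIdeal M (W χ) := by
    intro χ hχ hht
    refine omega_regConj_not_memLocalIdeal hMp χ ?_
    intro χ'' hs
    have hχ''B : χ'' ∈ B := by
      have hBχ : B = blockOf M (χ : G → ℂ) := IsPBlock.eq_blockOf hM hind.2.1 hχ
      rw [hBχ, mem_blockOf_iff]
      exact hs
    unfold blockHeight at hht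
    have hle' := Nat.sub_eq_zero_iff_le.1 hht
    exact le_trans hle' (Nat.sInf_le ⟨χ'', hχ''B, rfl⟩)
  -- the multiplicities
  set n : IrrCharacter G → IrrCharacter H → ℂ :=
    fun χ ψ => classInner (fun h : H => (χ : G → ℂ) h) (ψ : H → ℂ) with hn
  have hnat : ∀ χ ψ, ∃ k : ℕ, n χ ψ = k := fun χ ψ =>
    classInner_char_nat (isCharacter_restrict H (IrrCharacter_isCharacter χ))
      (IrrCharacter_isCharacter ψ)
  have hnR : ∀ χ ψ, MemLocalRing M (n χ ψ) := by
    intro χ ψ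
    obtain ⟨k, hk⟩ := hnat χ ψ
    rw [hk]
    exact memLocalRing_natCast hM k
  have hnconj : ∀ χ ψ, conj (n χ ψ) = n χ ψ := by
    intro χ ψ
    obtain ⟨k, hk⟩ := hnat χ ψ
    rw [hk, Complex.conj_natCast]
  have hres : ∀ χ : IrrCharacter G, (fun h : H => (χ : G → ℂ) h) =
      ∑ ψ : IrrCharacter H, n χ ψ • (ψ : H → ℂ) := fun χ =>
    classFunction_eq_sum_irr
      (char_isClassFunction (isCharacter_restrict H (IrrCharacter_isCharacter χ)))
  -- the scaled regular inner products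
  set P : IrrCharacter H → IrrCharacter H → ℂ :=
    fun ψ ψ' => ((p ^ d : ℕ) : ℂ) * classInner (pRegularPart p (ψ : H → ℂ)) (ψ' : H → ℂ) with hP
  have hPzero : ∀ ψ ψ' : IrrCharacter H, (ψ ∈ e ∧ ψ' ∉ e) ∨ (ψ ∉ e ∧ ψ' ∈ e) → P ψ ψ' = 0 := by
    intro ψ ψ' h
    have hns : ¬ SameBlock M (ψ : H → ℂ) (ψ' : H → ℂ) := by
      intro hs
      rcases h with ⟨h1, h2⟩ | ⟨h1, h2⟩
      · exact h2 (hmem_of ψ' (sameBlock_trans hM (hsame ψ h1) hs))
      · exact h1 (hmem_of ψ (sameBlock_trans hM (hsame ψ' h2) (sameBlock_symm hs)))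
    rw [hP]
    simp only
    rw [classInner_pRegularPart_eq_zero hMp ψ ψ' hns, mul_zero]
  have hB1 : ∀ (χ : IrrCharacter G) (ψ' : IrrCharacter H),
      ∑ ψ : IrrCharacter H, n χ ψ * P ψ ψ' = γ ψ' * Ω χ ψ' := by
    intro χ ψ'
    have h1 : classInner (pRegularPart p (fun h : H => (χ : G → ℂ) h)) (ψ' : H → ℂ) =
        ∑ ψ : IrrCharacter H,
          n χ ψ * classInner (pRegularPart p (ψ : H → ℂ)) (ψ' : H → ℂ) := by
      rw [hres χ, ← pRegLin_apply, map_sum, classInner_sum_left]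
      refine Finset.sum_congr rfl fun ψ _ => ?_
      rw [map_smul, classInner_smul_left, pRegLin_apply]
    have h2 := classInner_pReg_restrict_irr p H (IrrCharacter_isCharacter χ) ψ'
    calc ∑ ψ : IrrCharacter H, n χ ψ * P ψ ψ'
        = ((p ^ d : ℕ) : ℂ) * ∑ ψ : IrrCharacter H,
            n χ ψ * classInner (pRegularPart p (ψ : H → ℂ)) (ψ' : H → ℂ) := by
          rw [Finset.mul_sum]
          refine Finset.sum_congr rfl fun ψ _ => ?_
          rw [hP]
          ring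
      _ = γ ψ' * Ω χ ψ' := by
          rw [← h1, h2, hγ, hΩ]
          ring
  have hB1' : ∀ χ' : IrrCharacter G,
      ∑ ψ' : IrrCharacter H, n χ' ψ' * P ψ₀ ψ' = γ ψ₀ * Ω χ' ψ₀ := by
    intro χ'
    have h1 : classInner (pRegularPart p (ψ₀ : H → ℂ)) (fun h : H => (χ' : G → ℂ) h) =
        ∑ ψ' : IrrCharacter H,
          n χ' ψ' * classInner (pRegularPart p (ψ₀ : H → ℂ)) (ψ' : H → ℂ) := by
      rw [hres χ', classInner_sum_right]
      refine Finset.sum_congr rfl fun ψ' _ => ?_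
      rw [classInner_smul_right, hnconj]
    have h2 := classInner_pReg_irr_restrict p H ψ₀ (χ' : G → ℂ)
    calc ∑ ψ' : IrrCharacter H, n χ' ψ' * P ψ₀ ψ'
        = ((p ^ d : ℕ) : ℂ) * ∑ ψ' : IrrCharacter H,
            n χ' ψ' * classInner (pRegularPart p (ψ₀ : H → ℂ)) (ψ' : H → ℂ) := by
          rw [Finset.mul_sum]
          refine Finset.sum_congr rfl fun ψ' _ => ?_
          rw [hP]
          ring
      _ = γ ψ₀ * Ω χ' ψ₀ := by
          rw [← h1, h2, hγ, hΩ]
          ring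
  set W₀ : ℂ := omega (regConj p (ψ₀ : H → ℂ)) (ψ₀ : H → ℂ) with hW₀
  have hψ₀c : IsClassFunction H (regConj p (ψ₀ : H → ℂ)) :=
    regConj_isClassFunction p (isClassFunction_irr ψ₀)
  have hψ₀R : ∀ h, MemLocalRing M (regConj p (ψ₀ : H → ℂ) h) := regConj_memLocalRing p hM ψ₀
  have hW₀R : MemLocalRing M W₀ := memLocalRing_omega hM hψ₀c hψ₀R ψ₀
  have hB4 : ∀ ψ' : IrrCharacter H,
      P ψ₀ ψ' = γ ψ' * omega (regConj p (ψ₀ : H → ℂ)) (ψ' : H → ℂ) := by
    intro ψ'
    rw [hP, hγ]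
    simp only
    rw [classInner_pReg_char_irr p (IrrCharacter_isCharacter ψ₀) ψ']
    ring
  have hB4' : ∀ ψ' ∈ e,
      MemLocalIdeal M (omega (regConj p (ψ₀ : H → ℂ)) (ψ' : H → ℂ) - W₀) := fun ψ' hψ' =>
    omega_sub_memLocalIdeal hM hψ₀c hψ₀R (sameBlock_symm (hsame ψ' hψ'))
  -- the sum `Γ'`
  set Γ' : ℂ := ∑ ψ' : IrrCharacter H, if ψ' ∈ e then n χ' ψ' * γ ψ' else 0 with hΓ'
  have hΓ'R : MemLocalRing M Γ' := by
    apply memLocalRing_sum hM
    intro ψ' _
    split_ifs with hψ'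
    · exact memLocalRing_mul hM (hnR χ' ψ') (hγR ψ' hψ')
    · exact memLocalRing_zero hM
  -- Step 1: the sum in the statement
  set T : ℂ := ∑ ψ : IrrCharacter H, ∑ ψ' : IrrCharacter H,
      if ψ ∈ e ∧ ψ' ∈ e then n χ ψ * n χ' ψ' * P ψ ψ' else 0 with hT
  have hT1 : T = ∑ ψ' : IrrCharacter H,
      if ψ' ∈ e then n χ' ψ' * (γ ψ' * Ω χ ψ') else 0 := by
    rw [hT, Finset.sum_comm]
    refine Finset.sum_congr rfl fun ψ' _ => ?_
    by_cases hψ' : ψ' ∈ e
    · rw [if_pos hψ', ← hB1 χ ψ', Finset.mul_sum]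
      refine Finset.sum_congr rfl fun ψ _ => ?_
      by_cases hψ : ψ ∈ e
      · rw [if_pos ⟨hψ, hψ'⟩]
        ring
      · rw [if_neg (show ¬ (ψ ∈ e ∧ ψ' ∈ e) from fun h => hψ h.1),
          hPzero ψ ψ' (Or.inr ⟨hψ, hψ'⟩), mul_zero, mul_zero]
    · rw [if_neg hψ']
      refine Finset.sum_eq_zero fun ψ _ => ?_
      rw [if_neg (show ¬ (ψ ∈ e ∧ ψ' ∈ e) from fun h => hψ' h.2)]
  -- Step 2
  have hT2 : MemLocalIdeal M (T - W χ * Γ') := by
    have : T - W χ * Γ' = ∑ ψ' : IrrCharacter H,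
        if ψ' ∈ e then n χ' ψ' * γ ψ' * (Ω χ ψ' - W χ) else 0 := by
      rw [hT1, hΓ', Finset.mul_sum, ← Finset.sum_sub_distrib]
      refine Finset.sum_congr rfl fun ψ' _ => ?_
      split_ifs
      · ring
      · ring
    rw [this]
    apply memLocalIdeal_sum hM
    intro ψ' _
    split_ifs with hψ'
    · exact memLocalIdeal_mul_left hM (memLocalRing_mul hM (hnR χ' ψ') (hγR ψ' hψ'))
        (hB2 χ hχ ψ' hψ')
    · exact memLocalIdeal_zero hM
  -- Step 3
  have hT3 : MemLocalIdeal M (Γ' * W₀ - γ ψ₀ * W χ') := by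
    have h1 : Γ' * W₀ - ∑ ψ' : IrrCharacter H, n χ' ψ' * P ψ₀ ψ' =
        ∑ ψ' : IrrCharacter H, if ψ' ∈ e then
          n χ' ψ' * γ ψ' * (W₀ - omega (regConj p (ψ₀ : H → ℂ)) (ψ' : H → ℂ)) else 0 := by
      rw [hΓ', Finset.sum_mul, ← Finset.sum_sub_distrib]
      refine Finset.sum_congr rfl fun ψ' _ => ?_
      by_cases hψ' : ψ' ∈ e
      · rw [if_pos hψ', if_pos hψ', hB4 ψ']
        ring
      · rw [if_neg hψ', if_neg hψ', hPzero ψ₀ ψ' (Or.inl ⟨hψ₀e, hψ'⟩)]
        ring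
    have h2 : MemLocalIdeal M (Γ' * W₀ - ∑ ψ' : IrrCharacter H, n χ' ψ' * P ψ₀ ψ') := by
      rw [h1]
      apply memLocalIdeal_sum hM
      intro ψ' _
      split_ifs with hψ'
      · apply memLocalIdeal_mul_left hM (memLocalRing_mul hM (hnR χ' ψ') (hγR ψ' hψ'))
        have := memLocalIdeal_neg (hB4' ψ' hψ')
        rwa [neg_sub] at this
      · exact memLocalIdeal_zero hM
    have h3 : MemLocalIdeal M (γ ψ₀ * Ω χ' ψ₀ - γ ψ₀ * W χ') := by
      rw [← mul_sub]
      exact memLocalIdeal_mul_left hM (hγR ψ₀ hψ₀e) (hB2 χ' hχ' ψ₀ hψ₀e)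
    rw [hB1' χ'] at h2
    have := memLocalIdeal_add hM h2 h3
    rwa [sub_add_sub_cancel] at this
  -- conclusion
  intro hmem
  have hmemT : MemLocalIdeal M T := hmem
  have h1 : MemLocalIdeal M (W χ * Γ') := by
    have := memLocalIdeal_sub hM hmemT hT2
    rwa [sub_sub_cancel] at this
  have h2 : MemLocalIdeal M Γ' := by
    rcases memLocalIdeal_of_mul_memLocalIdeal hM (hWR χ) hΓ'R h1 with h | h
    · exact absurd h (hB3 χ hχ h0)
    · exact h
  have h3 : MemLocalIdeal M (Γ' * W₀) := memLocalIdeal_mul_right hM h2 hW₀R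
  have h4 : MemLocalIdeal M (γ ψ₀ * W χ') := by
    have := memLocalIdeal_sub hM h3 hT3
    rwa [sub_sub_cancel] at this
  rcases memLocalIdeal_of_mul_memLocalIdeal hM (hγR ψ₀ hψ₀e) (hWR χ') h4 with h | h
  · exact hγ₀ h
  · exact hB3 χ' hχ' h0' h

end Unit

end Cfsg.Agent.Lib.Helper82
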