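import Mathlib
import Cfsg.Prelude.Def_Blocks
import Cfsg.Prelude.Def_BlockRank
import Cfsg.Agent.Lib.Helper82.ContribMajor
import Cfsg.Agent.Lib.Helper82.ContribUnit
import Cfsg.Agent.Lib.Helper21.ContribRow
import Cfsg.Agent.Lib.Helper21.PGroupBlock

set_option autoImplicit false
set_option linter.style.haveILetI false
set_option linter.unusedSectionVars false

/-!
# The contributions of the subsections `(y ^ k, b)` as integer combinations of roots of unity
-/

namespace Cfsg.Agent.Lib.Helper82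

open Cfsg
open scoped ComplexConjugate
open Cfsg.Agent.Lib.Helper21 Cfsg.Agent.Lib.Helper83

section RegInt

universe u
variable {H : Type u} [Group H] [Fintype H] [Fintype (IrrCharacter H)]

/-- The integer `p ^ d ⟨ψ°, ψ'⟩` (for `d` at least the defect of the block of `ψ`). -/
noncomputable def regInt (p : ℕ) [Fact p.Prime] (d : ℕ) (ψ ψ' : IrrCharacter H) : ℤ :=
  (p : ℤ) ^ (d - rowExp p ψ) * rowInt p ψ ψ'

theorem rowFun_eq_smul (p : ℕ) [Fact p.Prime] (ψ : IrrCharacter H) :
    rowFun p ψ = ((p ^ rowExp p ψ : ℕ) : ℂ) • pRegularPart p (ψ : H → ℂ) := by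
  classical
  funext x
  rw [Pi.smul_apply, smul_eq_mul, pRegularPart_apply]
  unfold rowFun
  split_ifs
  · rw [mul_zero]
  · rfl

theorem regInt_cast (p : ℕ) [Fact p.Prime] (d : ℕ) (ψ ψ' : IrrCharacter H)
    (h : rowExp p ψ ≤ d) :
    ((regInt p d ψ ψ' : ℤ) : ℂ) =
      ((p ^ d : ℕ) : ℂ) * classInner (pRegularPart p (ψ : H → ℂ)) (ψ' : H → ℂ) := by
  unfold regInt
  rw [Int.cast_mul, ← rowInt_spec, rowFun_eq_smul, classInner_smul_left, ← mul_assoc]
  congr 1
  push_cast
  rw [← pow_add, Nat.sub_add_cancel h]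

theorem rowExp_le_blockDefect (p : ℕ) [Fact p.Prime] {e : Set (IrrCharacter H)}
    {ψ : IrrCharacter H} (hψ : ψ ∈ e) : rowExp p ψ ≤ blockDefect p e := by
  unfold rowExp blockDefect
  have : sInf ((fun χ : IrrCharacter H => (charDegree (χ : H → ℂ)).factorization p) '' e) ≤
      (charDegree (ψ : H → ℂ)).factorization p := Nat.sInf_le ⟨ψ, hψ, rfl⟩
  omega

theorem regInt_symm (p : ℕ) [Fact p.Prime] (d : ℕ) (ψ ψ' : IrrCharacter H)
    (h : rowExp p ψ ≤ d) (h' : rowExp p ψ' ≤ d) : regInt p d ψ ψ' = regInt p d ψ' ψ := by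
  have h1 := regInt_cast p d ψ ψ' h
  have h2 := regInt_cast p d ψ' ψ h'
  have h3 : ((regInt p d ψ ψ' : ℤ) : ℂ) = ((regInt p d ψ' ψ : ℤ) : ℂ) := by
    have h4 : conj (((regInt p d ψ' ψ : ℤ) : ℂ)) = ((regInt p d ψ' ψ : ℤ) : ℂ) :=
      map_intCast (starRingEnd ℂ) _
    rw [← h4, h2, map_mul, Complex.conj_natCast, classInner_conj_symm,
      ← classInner_pRegularPart_comm, h1]
  exact_mod_cast h3

end RegInt

section RootsOfUnity

variable {p : ℕ} [Fact p.Prime] {M : Ideal AlgInt}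

/-- An integer combination of `p`-power roots of unity whose coefficient sum is prime to `p` does
not vanish. -/
theorem sum_mul_pow_ne_zero_of_not_dvd (hMp : IsPModular p M) {ι : Type*} [Fintype ι]
    (c : ι → ℤ) (μ : ι → ℂ) (n : ℕ) (hμ : ∀ i, μ i ^ (p ^ n) = 1)
    (hc : ¬ (p : ℤ) ∣ ∑ i, c i) (k : ℕ) : ∑ i, (c i : ℂ) * μ i ^ k ≠ 0 := by
  have hM : M.IsPrime := hMp.2.1.isPrime
  have hp : p.Prime := Fact.out
  intro h0
  apply hc
  rw [← memLocalIdeal_intCast_iff hMp]
  have hdiff : MemLocalIdeal M (∑ i, (c i : ℂ) * (μ i ^ k - 1)) := by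
    apply memLocalIdeal_sum hM
    intro i _
    apply memLocalIdeal_mul_left hM (memLocalRing_intCast hM (c i))
    have hpow : (μ i ^ k) ^ (p ^ n) = 1 := by
      rw [← pow_mul, mul_comm, pow_mul, hμ i, one_pow]
    have hint : IsIntegral ℤ (μ i ^ k) := by
      apply IsIntegral.of_pow (pow_pos hp.pos n)
      rw [hpow]
      exact isIntegral_one
    exact memLocalIdeal_sub_one_of_pow_eq_one hMp hint n hpow
  have heq : ((∑ i, c i : ℤ) : ℂ) = - ∑ i, (c i : ℂ) * (μ i ^ k - 1) := by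
    have : ∑ i, (c i : ℂ) * (μ i ^ k - 1) = ∑ i, (c i : ℂ) * μ i ^ k - ∑ i, (c i : ℂ) := by
      rw [← Finset.sum_sub_distrib]
      refine Finset.sum_congr rfl fun i _ => ?_
      ring
    rw [this, h0]
    push_cast
    ring
  rw [heq]
  exact memLocalIdeal_neg hdiff

end RootsOfUnity

section Coefficients

universe u
variable {G : Type u} [Group G] [Fintype G]

local notation "C[" g "]" => Subgroup.centralizer (singleton g)

/-- The value at `y` of the central character of `ψ ∈ Irr(C_G(y))`. -/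
noncomputable def cenOmega (y : G) (ψ : IrrCharacter C[y]) : ℂ :=
  (ψ : C[y] → ℂ) (centElt y) / (ψ : C[y] → ℂ) 1

theorem cenOmega_pow_orderOf (y : G) (ψ : IrrCharacter C[y]) :
    cenOmega y ψ ^ orderOf y = 1 := by
  haveI : Fintype C[y] := Fintype.ofFinite _
  unfold cenOmega
  rw [irr_central_pow ψ (centElt_mem_center y)]
  have h1 : (centElt y) ^ orderOf y = 1 := by
    apply Subtype.ext
    rw [Subgroup.coe_pow, coe_centElt, pow_orderOf_eq_one]
    rfl
  rw [h1]
  exact div_self (IsIrrCharacter.apply_one_ne_zero ψ.2)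

/-- The roots of unity attached to the pairs of irreducible characters of `C_G(y)`. -/
noncomputable def cenMu (y : G) (i : IrrCharacter C[y] × IrrCharacter C[y]) : ℂ :=
  cenOmega y i.1 * conj (cenOmega y i.2)

theorem cenMu_pow_orderOf (y : G) (i : IrrCharacter C[y] × IrrCharacter C[y]) :
    cenMu y i ^ orderOf y = 1 := by
  unfold cenMu
  rw [mul_pow, ← map_pow, cenOmega_pow_orderOf, cenOmega_pow_orderOf, map_one, mul_one]

theorem cenMu_swap (y : G) (i : IrrCharacter C[y] × IrrCharacter C[y]) :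
    cenMu y i.swap = conj (cenMu y i) := by
  unfold cenMu
  rw [map_mul, Complex.conj_conj, Prod.fst_swap, Prod.snd_swap, mul_comm]

theorem cenMu_diag (y : G) (ψ : IrrCharacter C[y]) : cenMu y (ψ, ψ) = 1 := by
  unfold cenMu
  simp only
  rw [Complex.mul_conj, Complex.normSq_eq_norm_sq]
  have h := cenOmega_pow_orderOf y ψ
  have h2 : ‖cenOmega y ψ‖ = 1 :=
    Complex.norm_eq_one_of_pow_eq_one h (orderOf_pos y).ne'
  rw [h2]
  norm_num

variable (p : ℕ) [Fact p.Prime]

/-- The integer coefficients of the contributions of the subsections `(y ^ k, b)`. -/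
noncomputable def contribCoeff (y : G) [Fintype C[y]] [Fintype (IrrCharacter C[y])]
    (b : Set (IrrCharacter C[y])) [DecidablePred (· ∈ b)] (χ χ' : IrrCharacter G)
    (i : IrrCharacter C[y] × IrrCharacter C[y]) : ℤ :=
  if i.1 ∈ b ∧ i.2 ∈ b then
    (irrMult (fun h : C[y] => (χ : G → ℂ) h) i.1 : ℤ) *
      (irrMult (fun h : C[y] => (χ' : G → ℂ) h) i.2 : ℤ) * regInt p (blockDefect p b) i.1 i.2
  else 0

theorem contribCoeff_cast (y : G) [Fintype C[y]] [Fintype (IrrCharacter C[y])]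
    (b : Set (IrrCharacter C[y])) [DecidablePred (· ∈ b)] (χ χ' : IrrCharacter G)
    (i : IrrCharacter C[y] × IrrCharacter C[y]) :
    ((contribCoeff p y b χ χ' i : ℤ) : ℂ) =
      if i.1 ∈ b ∧ i.2 ∈ b then
        classInner (fun h : C[y] => (χ : G → ℂ) h) (i.1 : C[y] → ℂ) *
          classInner (fun h : C[y] => (χ' : G → ℂ) h) (i.2 : C[y] → ℂ) *
          (((p ^ blockDefect p b : ℕ) : ℂ) *
            classInner (pRegularPart p (i.1 : C[y] → ℂ)) (i.2 : C[y] → ℂ))
      else 0 := by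
  unfold contribCoeff
  split_ifs with h
  · rw [Int.cast_mul, Int.cast_mul, Int.cast_natCast, Int.cast_natCast,
      irrMult_cast (isCharacter_restrict C[y] (IrrCharacter_isCharacter χ)),
      irrMult_cast (isCharacter_restrict C[y] (IrrCharacter_isCharacter χ')),
      regInt_cast p _ _ _ (rowExp_le_blockDefect p h.1)]
  · rw [Int.cast_zero]

theorem contribCoeff_swap (y : G) [Fintype C[y]] [Fintype (IrrCharacter C[y])]
    (b : Set (IrrCharacter C[y])) [DecidablePred (· ∈ b)] (χ : IrrCharacter G)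
    (i : IrrCharacter C[y] × IrrCharacter C[y]) :
    contribCoeff p y b χ χ i.swap = contribCoeff p y b χ χ i := by
  unfold contribCoeff
  rw [Prod.fst_swap, Prod.snd_swap]
  by_cases h : i.1 ∈ b ∧ i.2 ∈ b
  · rw [if_pos h, if_pos ⟨h.2, h.1⟩, regInt_symm p _ _ _ (rowExp_le_blockDefect p h.2)
      (rowExp_le_blockDefect p h.1)]
    ring
  · rw [if_neg h, if_neg (fun h' => h ⟨h'.2, h'.1⟩)]

/-- **The contributions of `(y ^ k, b)` as integer combinations of roots of unity.** -/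
theorem contrib_pow_eq_sum_coeff (y : G) [Fintype C[y]] [Fintype (IrrCharacter C[y])]
    (b : Set (IrrCharacter C[y])) [DecidablePred (· ∈ b)] (χ χ' : IrrCharacter G) (k : ℕ) :
    ((p ^ blockDefect p b : ℕ) : ℂ) * contrib p b (y ^ k) (χ : G → ℂ) (χ' : G → ℂ) =
      ∑ i : IrrCharacter C[y] × IrrCharacter C[y],
        ((contribCoeff p y b χ χ' i : ℤ) : ℂ) * cenMu y i ^ k := by
  rw [contrib_pow_eq, Fintype.sum_prod_type, Finset.mul_sum]
  refine Finset.sum_congr rfl fun ψ _ => ?_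
  rw [Finset.mul_sum]
  refine Finset.sum_congr rfl fun ψ' _ => ?_
  rw [contribCoeff_cast]
  simp only
  by_cases h : ψ ∈ b ∧ ψ' ∈ b
  · rw [if_pos h, if_pos h]
    obtain ⟨n, hn⟩ := classInner_char_nat
      (isCharacter_restrict C[y] (IrrCharacter_isCharacter χ')) (IrrCharacter_isCharacter ψ')
    rw [hn, Complex.conj_natCast]
    unfold cenMu cenOmega
    ring
  · rw [if_neg h, if_neg h, mul_zero, zero_mul]

/-- **The coefficient sums of height zero characters are prime to `p`.** -/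
theorem not_dvd_sum_contribCoeff {M : Ideal AlgInt} (hMp : IsPModular p M) (y : G)
    [Fintype C[y]] [Fintype (IrrCharacter C[y])]
    (b : Set (IrrCharacter C[y])) [DecidablePred (· ∈ b)] (B : Set (IrrCharacter G))
    (hind : IsInducedBlock M C[y] b B) (χ χ' : IrrCharacter G) (hχ : χ ∈ B) (hχ' : χ' ∈ B)
    (h0 : blockHeight p B (χ : G → ℂ) = 0) (h0' : blockHeight p B (χ' : G → ℂ) = 0) :
    ¬ (p : ℤ) ∣ ∑ i : IrrCharacter C[y] × IrrCharacter C[y], contribCoeff p y b χ χ' i := by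
  have hM : M.IsPrime := hMp.2.1.isPrime
  obtain ⟨ψ₁, hb⟩ := hind.1
  obtain ⟨ψ₀, hψ₀b, hψ₀0⟩ := exists_height_zero (p := p) hM ψ₁
  rw [← hb] at hψ₀b hψ₀0
  have he : b = blockOf M (ψ₀ : C[y] → ℂ) := IsPBlock.eq_blockOf hM hind.1 hψ₀b
  have hmin : ∀ ψ ∈ b, (charDegree (ψ₀ : C[y] → ℂ)).factorization p ≤
      (charDegree (ψ : C[y] → ℂ)).factorization p := by
    intro ψ hψ
    unfold blockHeight at hψ₀0
    have hle := Nat.sub_eq_zero_iff_le.1 hψ₀0
    exact le_trans hle (Nat.sInf_le ⟨ψ, hψ, rfl⟩)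
  have hunit := not_memLocalIdeal_sum_mult hMp C[y] b ψ₀ he hmin B hind χ χ' hχ hχ' h0 h0'
  rw [← memLocalIdeal_intCast_iff hMp]
  intro hmem
  apply hunit
  rw [Int.cast_sum, Fintype.sum_prod_type] at hmem
  convert hmem using 4 with ψ _ ψ' _
  rw [contribCoeff_cast]

end Coefficients

end Cfsg.Agent.Lib.Helper82
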