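import Mathlib
import Cfsg.Agent.Lib.Helper98.Ti8

/-!
# K-OsEl-O (keystone 597216, architect helper8), core: `exists_fixed_ts_invol_of`

Involutory isometry `y` of a symmetric space of dimension `2d+1` with `dim ker (y+1)` even: an invariant
totally singular `m`-space exists if `m < d` or `ker (y+1)` has a totally singular subspace of half
its dimension.  The facts of LEAVES B, C of the pack enter here as hypotheses
(`OsElO.lean` feeds them).
-/

set_option autoImplicit false
set_option linter.unusedSectionVars false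
set_option linter.unusedVariables false
set_option linter.style.haveILetI false

namespace Cfsg.Agent.Lib.Helper82.OsEl

open Module Cfsg.Agent.Lib.Helper98.Elus Cfsg.Agent.Lib.Helper98.Sy

universe u
variable {F : Type u} [Field F] {V : Type u} [AddCommGroup V] [Module F V]

theorem V1_two_eq (y : V →ₗ[F] V) : V1 2 y = LinearMap.ker (y + 1) := by
  ext v
  rw [mem_V1, gsum_apply, Finset.sum_range_succ, Finset.sum_range_one, pow_zero, pow_one,
    Module.End.one_apply, LinearMap.mem_ker, LinearMap.add_apply, Module.End.one_apply, add_comm]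

theorem inv_of_le_V1_two (y : V →ₗ[F] V) (Z : Submodule F V) (hZ : Z ≤ V1 2 y) : Inv y Z := by
  intro v hv
  have h1 := (mem_V1 2 y v).mp (hZ hv)
  rw [gsum_apply, Finset.sum_range_succ, Finset.sum_range_one, pow_zero, pow_one,
    Module.End.one_apply] at h1
  have h2 : y v = - v := by
    rw [eq_neg_iff_add_eq_zero, add_comm]
    exact h1
  rw [h2]
  exact Submodule.neg_mem _ hv

/-- **K-OsEl-O**, with the facts of LEAVES B, C as hypotheses. -/
theorem exists_fixed_ts_invol_of [FiniteDimensional F V] {B : LinearMap.BilinForm F V}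
    (y : V →ₗ[F] V)
    (hB_sup : ∀ L W : Submodule F V, Ort B L L → Ort B W W → Ort B L W → Ort B (L ⊔ W) (L ⊔ W))
    (hB_ort : Ort B (V0 y) (V1 2 y))
    (hB_nd : NonDeg B (V0 y) ∧ NonDeg B (V1 2 y))
    (hC : ∀ (s : ℕ) (U : Submodule F V), NonDeg B U → 2 * s + 1 ≤ finrank F U →
      ∃ Z : Submodule F V, Z ≤ U ∧ Ort B Z Z ∧ finrank F Z = s)
    (h2 : (2 : F) ≠ 0) (hy : y ^ 2 = 1) (d m : ℕ) (hd : finrank F V = 2 * d + 1) (hmd : m ≤ d)
    (heven : Even (finrank F (LinearMap.ker (y + 1))))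
    (hcase : m < d ∨ ∃ X : Submodule F V, X ≤ LinearMap.ker (y + 1) ∧ Ort B X X ∧
      2 * finrank F X = finrank F (LinearMap.ker (y + 1))) :
    ∃ W : Submodule F V, Inv y W ∧ Ort B W W ∧ finrank F W = m := by
  have hrF : ((2 : ℕ) : F) ≠ 0 := by
    rw [Nat.cast_ofNat]
    exact h2
  obtain ⟨hnd0, hnd1⟩ := hB_nd
  have hsum := finrank_V0_add_V1 2 hrF y hy
  rw [hd] at hsum
  rw [← V1_two_eq] at heven hcase
  obtain ⟨a, ha⟩ := heven
  have ha_le : a ≤ d := by omega
  set zp := min m (d - a) with hzp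
  have hzp_le : zp ≤ m := min_le_left m (d - a)
  have hzp_le' : zp ≤ d - a := min_le_right m (d - a)
  obtain ⟨Z0, hZ0V, hZ0, hZ0d⟩ := hC zp (V0 y) hnd0 (by omega)
  have hZ1 : ∃ Z1 : Submodule F V, Z1 ≤ V1 2 y ∧ Ort B Z1 Z1 ∧ finrank F Z1 = m - zp := by
    by_cases hzero : m - zp = 0
    · refine ⟨⊥, bot_le, ?_, by rw [finrank_bot, hzero]⟩
      intro u hu v _
      rw [Submodule.mem_bot] at hu
      subst hu
      simp
    · rcases hcase with hlt | ⟨X, hXV, hX, hXd⟩
      · apply hC (m - zp) (V1 2 y) hnd1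
        rcases le_total m (d - a) with h | h
        · rw [hzp, min_eq_left h] at hzero
          omega
        · rw [hzp, min_eq_right h] at hzero ⊢
          omega
      · obtain ⟨Z, hZX, hZd⟩ := Cfsg.Agent.Lib.Helper98.Ti.exists_sub_finrank X (m - zp) (by
          rcases le_total m (d - a) with h | h
          · rw [hzp, min_eq_left h] at hzero
            omega
          · rw [hzp, min_eq_right h]
            omega)
        exact ⟨Z, hZX.trans hXV, fun u hu v hv => hX u (hZX hu) v (hZX hv), hZd⟩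
  obtain ⟨Z1, hZ1V, hZ1, hZ1d⟩ := hZ1
  refine ⟨Z0 ⊔ Z1, (Cfsg.Agent.Lib.Helper98.Ti.inv_of_le_V0 y Z0 hZ0V).sup
    (inv_of_le_V1_two y Z1 hZ1V), hB_sup Z0 Z1 hZ0 hZ1
      (fun u hu c hc => hB_ort u (hZ0V hu) c (hZ1V hc)), ?_⟩
  have hinf : Z0 ⊓ Z1 = ⊥ := by
    rw [eq_bot_iff, ← V0_inf_V1 2 hrF y]
    exact inf_le_inf hZ0V hZ1V
  have h := Submodule.finrank_sup_add_finrank_inf_eq Z0 Z1
  rw [hinf, finrank_bot, hZ0d, hZ1d, add_zero] at h
  omega

end Cfsg.Agent.Lib.Helper82.OsEl
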