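import Mathlib
import Cfsg.Prelude.Def_Blocks
import Cfsg.Agent.Lib.Helper82.DefectRank

set_option autoImplicit false
set_option linter.style.haveILetI false
set_option linter.unusedSectionVars false

namespace Cfsg.Agent.Lib.Helper82

open Cfsg
open scoped ComplexConjugate

section FullPartVanish

universe u
variable {G : Type u} [Group G] [Fintype G]

/-- An irreducible character whose degree is divisible by the full power of the prime `r` dividing
`|G|` vanishes on `r`-singular elements. -/
theorem eq_zero_of_full_part (χ : IrrCharacter G) {r : ℕ} (hr : r.Prime)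
    (h : r ^ (Nat.card G).factorization r ∣ charDegree (χ : G → ℂ)) (y : G)
    (hy : r ∣ orderOf y) : (χ : G → ℂ) y = 0 := by
  obtain ⟨M, hM⟩ := exists_isPModular r hr
  have hdpos := IsIrrCharacter.charDegree_pos χ.2
  have h1 := (hr.pow_dvd_iff_le_factorization hdpos.ne').1 h
  have h2 := (factorization_le_iff_not_dvd hr χ).1 h1
  have h3 := blockOf_eq_singleton_of_not_dvd hM χ h2
  exact eq_zero_of_blockOf_eq_singleton hM χ h3 y hy

/-- Squaring permutes the elements of odd order, so sums over them are invariant. -/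
theorem sum_odd_order_sq (f : G → ℂ) [DecidablePred fun g : G => Odd (orderOf g)] :
    ∑ g : G, (if Odd (orderOf g) then f (g * g) else 0) =
      ∑ g : G, (if Odd (orderOf g) then f g else 0) := by
  classical
  rw [← Finset.sum_filter, ← Finset.sum_filter]
  have hsq : ∀ g : G, Odd (orderOf g) → orderOf (g * g) = orderOf g := by
    intro g hg
    rw [← pow_two, orderOf_pow' g two_ne_zero]
    have hnot : ¬ 2 ∣ orderOf g := fun h2 =>
      (Nat.not_even_iff_odd.2 hg) (even_iff_two_dvd.2 h2)
    have : Nat.gcd (orderOf g) 2 = 1 :=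
      Nat.Coprime.symm ((Nat.Prime.coprime_iff_not_dvd Nat.prime_two).2 hnot)
    rw [this, Nat.div_one]
  refine Finset.sum_nbij' (fun g => g * g) (fun h => h ^ ((orderOf h + 1) / 2)) ?_ ?_ ?_ ?_ ?_
  · intro g hg
    rw [Finset.mem_filter] at hg ⊢
    exact ⟨Finset.mem_univ _, by rw [hsq g hg.2]; exact hg.2⟩
  · intro h hh
    rw [Finset.mem_filter] at hh ⊢
    refine ⟨Finset.mem_univ _, ?_⟩
    have hdvd : orderOf (h ^ ((orderOf h + 1) / 2)) ∣ orderOf h := orderOf_pow_dvd _
    exact hh.2.of_dvd_nat hdvd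
  · intro g hg
    rw [Finset.mem_filter] at hg
    obtain ⟨m, hm⟩ := hg.2
    show (g * g) ^ ((orderOf (g * g) + 1) / 2) = g
    rw [hsq g hg.2, ← pow_two, ← pow_mul, hm]
    have : 2 * ((2 * m + 1 + 1) / 2) = (2 * m + 1) + 1 := by omega
    rw [this, pow_succ, ← hm, pow_orderOf_eq_one, one_mul]
  · intro h hh
    rw [Finset.mem_filter] at hh
    obtain ⟨m, hm⟩ := hh.2
    show h ^ ((orderOf h + 1) / 2) * h ^ ((orderOf h + 1) / 2) = h
    rw [← pow_add, hm]
    have : (2 * m + 1 + 1) / 2 + (2 * m + 1 + 1) / 2 = (2 * m + 1) + 1 := by omega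
    rw [this, pow_succ, ← hm, pow_orderOf_eq_one, one_mul]
  · intro g _
    rfl

end FullPartVanish

end Cfsg.Agent.Lib.Helper82
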