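import Cfsg.Agent.Lib.Helper37.G2InvDefs

/-!
# K-G2I-I2 (keystone 217706, architect helper37, S2177): `inv67`

An involution `u = x6(a6) x7(a7) x8(a8) z` of `U ≤ G₂(q)`, `q` even, has `a6 * a7 = 0`:
collecting modulo the abelian normal subgroup `Z = X9 X10 X11` gives `u² = x8(a6 a7) z'`.
-/

set_option autoImplicit false
set_option linter.unusedSectionVars false
set_option linter.unusedVariables false
set_option linter.style.haveILetI false

namespace Cfsg.Agent.Lib.Helper82.G2Inv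

open Cfsg.Agent.Lib.Helper37.G2Inv

variable {F : Type*} [Field F] [CharP F 2] {G : Type*} [Group G] (D : UData F G)

/-- `z` is multiplicative -/
theorem z_mul' (α β γ α' β' γ' : F) :
    D.z α β γ * D.z α' β' γ' = D.z (α + α') (β + β') (γ + γ') := by
  unfold UData.z
  have h1 : D.x 11 γ * D.x 9 α' = D.x 9 α' * D.x 11 γ := (D.c911 α' γ).symm
  have h2 : D.x 10 β * D.x 9 α' = D.x 9 α' * D.x 10 β := (D.c910 α' β).symm
  have h3 : D.x 11 γ * D.x 10 β' = D.x 10 β' * D.x 11 γ := (D.c1011 β' γ).symm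
  calc D.x 9 α * (D.x 10 β * D.x 11 γ) * (D.x 9 α' * (D.x 10 β' * D.x 11 γ'))
      = D.x 9 α * (D.x 10 β * ((D.x 11 γ * D.x 9 α') * (D.x 10 β' * D.x 11 γ'))) := by
        simp only [mul_assoc]
    _ = D.x 9 α * (D.x 10 β * ((D.x 9 α' * D.x 11 γ) * (D.x 10 β' * D.x 11 γ'))) := by rw [h1]
    _ = D.x 9 α * ((D.x 10 β * D.x 9 α') * ((D.x 11 γ * D.x 10 β') * D.x 11 γ')) := by
        simp only [mul_assoc]
    _ = D.x 9 α * ((D.x 9 α' * D.x 10 β) * ((D.x 10 β' * D.x 11 γ) * D.x 11 γ')) := by rw [h2, h3]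
    _ = (D.x 9 α * D.x 9 α') * ((D.x 10 β * D.x 10 β') * (D.x 11 γ * D.x 11 γ')) := by
        simp only [mul_assoc]
    _ = _ := by rw [D.add, D.add, D.add]

theorem z_zero : D.z 0 0 0 = 1 := by
  unfold UData.z
  rw [D.x_zero, D.x_zero, D.x_zero, mul_one, mul_one]

theorem pass6 (c α β γ : F) : D.z α β γ * D.x 6 c = D.x 6 c * D.z α β (c * β + γ) := by
  unfold UData.z
  have h1 : D.x 11 γ * D.x 6 c = D.x 6 c * D.x 11 γ := (D.c611 c γ).symm
  have h2 : D.x 10 β * D.x 6 c = D.x 6 c * D.x 10 β * D.x 11 (c * β) := D.r610 c β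
  have h3 : D.x 9 α * D.x 6 c = D.x 6 c * D.x 9 α := (D.c69 c α).symm
  calc D.x 9 α * (D.x 10 β * D.x 11 γ) * D.x 6 c
      = D.x 9 α * (D.x 10 β * (D.x 11 γ * D.x 6 c)) := by simp only [mul_assoc]
    _ = D.x 9 α * (D.x 10 β * (D.x 6 c * D.x 11 γ)) := by rw [h1]
    _ = D.x 9 α * ((D.x 10 β * D.x 6 c) * D.x 11 γ) := by simp only [mul_assoc]
    _ = D.x 9 α * ((D.x 6 c * D.x 10 β * D.x 11 (c * β)) * D.x 11 γ) := by rw [h2]
    _ = (D.x 9 α * D.x 6 c) * (D.x 10 β * (D.x 11 (c * β) * D.x 11 γ)) := by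
        simp only [mul_assoc]
    _ = (D.x 6 c * D.x 9 α) * (D.x 10 β * D.x 11 (c * β + γ)) := by rw [h3, D.add]
    _ = _ := by simp only [mul_assoc]

theorem pass7 (c α β γ : F) : D.z α β γ * D.x 7 c = D.x 7 c * D.z α (c * α + β) γ := by
  unfold UData.z
  have h1 : D.x 11 γ * D.x 7 c = D.x 7 c * D.x 11 γ := (D.c711 c γ).symm
  have h2 : D.x 10 β * D.x 7 c = D.x 7 c * D.x 10 β := (D.c710 c β).symm
  have h3 : D.x 9 α * D.x 7 c = D.x 7 c * D.x 9 α * D.x 10 (c * α) := D.r79 c α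
  calc D.x 9 α * (D.x 10 β * D.x 11 γ) * D.x 7 c
      = D.x 9 α * (D.x 10 β * (D.x 11 γ * D.x 7 c)) := by simp only [mul_assoc]
    _ = D.x 9 α * (D.x 10 β * (D.x 7 c * D.x 11 γ)) := by rw [h1]
    _ = D.x 9 α * ((D.x 10 β * D.x 7 c) * D.x 11 γ) := by simp only [mul_assoc]
    _ = D.x 9 α * ((D.x 7 c * D.x 10 β) * D.x 11 γ) := by rw [h2]
    _ = (D.x 9 α * D.x 7 c) * (D.x 10 β * D.x 11 γ) := by simp only [mul_assoc]
    _ = (D.x 7 c * D.x 9 α * D.x 10 (c * α)) * (D.x 10 β * D.x 11 γ) := by rw [h3]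
    _ = D.x 7 c * (D.x 9 α * ((D.x 10 (c * α) * D.x 10 β) * D.x 11 γ)) := by
        simp only [mul_assoc]
    _ = _ := by rw [D.add]

theorem pass8 (c α β γ : F) : D.z α β γ * D.x 8 c = D.x 8 c * D.z α β (c * α + γ) := by
  unfold UData.z
  have h1 : D.x 11 γ * D.x 8 c = D.x 8 c * D.x 11 γ := (D.c811 c γ).symm
  have h2 : D.x 10 β * D.x 8 c = D.x 8 c * D.x 10 β := (D.c810 c β).symm
  have h3 : D.x 9 α * D.x 8 c = D.x 8 c * D.x 9 α * D.x 11 (c * α) := D.r89 c α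
  have h4 : D.x 11 (c * α) * D.x 10 β = D.x 10 β * D.x 11 (c * α) := (D.c1011 β (c * α)).symm
  calc D.x 9 α * (D.x 10 β * D.x 11 γ) * D.x 8 c
      = D.x 9 α * (D.x 10 β * (D.x 11 γ * D.x 8 c)) := by simp only [mul_assoc]
    _ = D.x 9 α * (D.x 10 β * (D.x 8 c * D.x 11 γ)) := by rw [h1]
    _ = D.x 9 α * ((D.x 10 β * D.x 8 c) * D.x 11 γ) := by simp only [mul_assoc]
    _ = D.x 9 α * ((D.x 8 c * D.x 10 β) * D.x 11 γ) := by rw [h2]
    _ = (D.x 9 α * D.x 8 c) * (D.x 10 β * D.x 11 γ) := by simp only [mul_assoc]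
    _ = (D.x 8 c * D.x 9 α * D.x 11 (c * α)) * (D.x 10 β * D.x 11 γ) := by rw [h3]
    _ = D.x 8 c * (D.x 9 α * ((D.x 11 (c * α) * D.x 10 β) * D.x 11 γ)) := by
        simp only [mul_assoc]
    _ = D.x 8 c * (D.x 9 α * ((D.x 10 β * D.x 11 (c * α)) * D.x 11 γ)) := by rw [h4]
    _ = D.x 8 c * (D.x 9 α * (D.x 10 β * (D.x 11 (c * α) * D.x 11 γ))) := by
        simp only [mul_assoc]
    _ = _ := by rw [D.add]

/-- congruence modulo `Z` (on the right) -/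
def Rel (g h : G) : Prop := ∃ α β γ : F, g = h * D.z α β γ

theorem rel_of_eq {g h : G} (e : g = h) : Rel D g h :=
  ⟨0, 0, 0, by rw [z_zero, mul_one, e]⟩

theorem Rel.trans {g h k : G} (h1 : Rel D g h) (h2 : Rel D h k) : Rel D g k := by
  obtain ⟨α, β, γ, e1⟩ := h1
  obtain ⟨α', β', γ', e2⟩ := h2
  exact ⟨α' + α, β' + β, γ' + γ, by rw [e1, e2, mul_assoc, z_mul']⟩

theorem Rel.mulZ {g h : G} (h1 : Rel D g h) (α β γ : F) : Rel D (g * D.z α β γ) h := by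
  obtain ⟨α', β', γ', e1⟩ := h1
  exact ⟨α' + α, β' + β, γ' + γ, by rw [e1, mul_assoc, z_mul']⟩

theorem Rel.mul6 {g h : G} (h1 : Rel D g h) (c : F) : Rel D (g * D.x 6 c) (h * D.x 6 c) := by
  obtain ⟨α, β, γ, e1⟩ := h1
  exact ⟨α, β, c * β + γ, by rw [e1, mul_assoc, pass6, ← mul_assoc]⟩

theorem Rel.mul7 {g h : G} (h1 : Rel D g h) (c : F) : Rel D (g * D.x 7 c) (h * D.x 7 c) := by
  obtain ⟨α, β, γ, e1⟩ := h1
  exact ⟨α, c * α + β, γ, by rw [e1, mul_assoc, pass7, ← mul_assoc]⟩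

theorem Rel.mul8 {g h : G} (h1 : Rel D g h) (c : F) : Rel D (g * D.x 8 c) (h * D.x 8 c) := by
  obtain ⟨α, β, γ, e1⟩ := h1
  exact ⟨α, β, c * α + γ, by rw [e1, mul_assoc, pass8, ← mul_assoc]⟩

/-- `u² ≡ x8(a6 a7)` modulo `Z` -/
theorem sq_rel (a b c α β γ : F) :
    Rel D (D.prod a b c α β γ * D.prod a b c α β γ) (D.x 8 (a * b)) := by
  have hu : D.prod a b c α β γ = D.x 6 a * D.x 7 b * D.x 8 c * D.z α β γ := by
    rw [UData.prod_eq]
    simp only [mul_assoc]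
  -- step 1
  have s1 : Rel D (D.prod a b c α β γ) (D.x 6 a * D.x 7 b * D.x 8 c) := ⟨α, β, γ, hu⟩
  -- step 2: append `x6 a`
  have m1 : D.x 6 a * D.x 7 b * D.x 8 c * D.x 6 a =
      D.x 7 b * D.x 8 (a * b) * D.z (a * b ^ 2) (a * b ^ 3) 0 * D.x 8 c := by
    have h68 : D.x 8 c * D.x 6 a = D.x 6 a * D.x 8 c := (D.c68 a c).symm
    have h67 := D.r67 a b
    have hz : D.z (a * b ^ 2) (a * b ^ 3) 0 = D.x 9 (a * b ^ 2) * D.x 10 (a * b ^ 3) := by
      unfold UData.z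
      rw [D.x_zero, mul_one]
    calc D.x 6 a * D.x 7 b * D.x 8 c * D.x 6 a
        = D.x 6 a * D.x 7 b * (D.x 8 c * D.x 6 a) := by simp only [mul_assoc]
      _ = D.x 6 a * D.x 7 b * (D.x 6 a * D.x 8 c) := by rw [h68]
      _ = D.x 6 a * (D.x 7 b * D.x 6 a) * D.x 8 c := by simp only [mul_assoc]
      _ = D.x 6 a * (D.x 6 a * D.x 7 b *
            (D.x 8 (a * b) * (D.x 9 (a * b ^ 2) * D.x 10 (a * b ^ 3)))) * D.x 8 c := by rw [h67]
      _ = (D.x 6 a * D.x 6 a) * (D.x 7 b *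
            (D.x 8 (a * b) * (D.x 9 (a * b ^ 2) * D.x 10 (a * b ^ 3)))) * D.x 8 c := by
          simp only [mul_assoc]
      _ = D.x 7 b * (D.x 8 (a * b) * (D.x 9 (a * b ^ 2) * D.x 10 (a * b ^ 3))) * D.x 8 c := by
          rw [D.x_sq, one_mul]
      _ = _ := by rw [hz]; simp only [mul_assoc]
  have s2 : Rel D (D.prod a b c α β γ * D.x 6 a) (D.x 7 b * D.x 8 (a * b + c)) := by
    have h1 := s1.mul6 D a
    rw [m1] at h1
    have h2 : Rel D (D.x 7 b * D.x 8 (a * b) * D.z (a * b ^ 2) (a * b ^ 3) 0 * D.x 8 c)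
        (D.x 7 b * D.x 8 (a * b) * D.x 8 c) :=
      ((rel_of_eq D rfl).mulZ D _ _ _).mul8 D c
    have h3 : D.x 7 b * D.x 8 (a * b) * D.x 8 c = D.x 7 b * D.x 8 (a * b + c) := by
      rw [mul_assoc, D.add]
    rw [h3] at h2
    exact h1.trans D h2
  -- step 3: append `x7 b`
  have m2 : D.x 7 b * D.x 8 (a * b + c) * D.x 7 b =
      D.x 8 (a * b + c) * D.z 0 (b ^ 2 * (a * b + c)) (b * (a * b + c) ^ 2) := by
    have h78 := D.r78 b (a * b + c)
    have hz : D.z 0 (b ^ 2 * (a * b + c)) (b * (a * b + c) ^ 2) =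
        D.x 10 (b ^ 2 * (a * b + c)) * D.x 11 (b * (a * b + c) ^ 2) := by
      unfold UData.z
      rw [D.x_zero, one_mul]
    calc D.x 7 b * D.x 8 (a * b + c) * D.x 7 b
        = D.x 7 b * (D.x 8 (a * b + c) * D.x 7 b) := by simp only [mul_assoc]
      _ = D.x 7 b * (D.x 7 b * D.x 8 (a * b + c) *
            (D.x 10 (b ^ 2 * (a * b + c)) * D.x 11 (b * (a * b + c) ^ 2))) := by rw [h78]
      _ = (D.x 7 b * D.x 7 b) * (D.x 8 (a * b + c) *
            (D.x 10 (b ^ 2 * (a * b + c)) * D.x 11 (b * (a * b + c) ^ 2))) := by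
          simp only [mul_assoc]
      _ = _ := by rw [D.x_sq, one_mul, hz]
  have s3 : Rel D (D.prod a b c α β γ * D.x 6 a * D.x 7 b) (D.x 8 (a * b + c)) := by
    have h1 := s2.mul7 D b
    rw [m2] at h1
    exact h1.trans D ((rel_of_eq D rfl).mulZ D _ _ _)
  -- step 4: append `x8 c`
  have s4 : Rel D (D.prod a b c α β γ * D.x 6 a * D.x 7 b * D.x 8 c) (D.x 8 (a * b)) := by
    have h1 := s3.mul8 D c
    have h2 : D.x 8 (a * b + c) * D.x 8 c = D.x 8 (a * b) := by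
      rw [D.add, add_assoc, CharTwo.add_self_eq_zero, add_zero]
    rw [h2] at h1
    exact h1
  -- step 5: append `z`
  have s5 := s4.mulZ D α β γ
  have e : D.prod a b c α β γ * D.prod a b c α β γ =
      D.prod a b c α β γ * D.x 6 a * D.x 7 b * D.x 8 c * D.z α β γ := by
    have e0 : D.prod a b c α β γ * D.x 6 a * D.x 7 b * D.x 8 c * D.z α β γ =
        D.prod a b c α β γ * (D.x 6 a * D.x 7 b * D.x 8 c * D.z α β γ) := by
      simp only [mul_assoc]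
    rw [e0, ← hu]
  rw [e]
  exact s5

theorem inv67 (a6 a7 a8 a9 a10 a11 : F)
    (h : D.prod a6 a7 a8 a9 a10 a11 * D.prod a6 a7 a8 a9 a10 a11 = 1) : a6 * a7 = 0 := by
  obtain ⟨α, β, γ, e⟩ := sq_rel D a6 a7 a8 a9 a10 a11
  rw [h] at e
  have e2 : D.x 6 0 * (D.x 7 0 * (D.x 8 0 * (D.x 9 0 * (D.x 10 0 * D.x 11 0)))) =
      D.x 6 0 * (D.x 7 0 * (D.x 8 (a6 * a7) * (D.x 9 α * (D.x 10 β * D.x 11 γ)))) := by
    have h1 : D.x 6 0 * (D.x 7 0 * (D.x 8 0 * (D.x 9 0 * (D.x 10 0 * D.x 11 0)))) = 1 := by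
      simp only [D.x_zero, mul_one]
    rw [h1, e]
    unfold UData.z
    rw [D.x_zero, D.x_zero, one_mul, one_mul]
  exact (D.inj _ _ _ _ _ _ _ _ _ _ _ _ e2).2.2.1.symm

end Cfsg.Agent.Lib.Helper82.G2Inv
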