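import Cfsg.Agent.Lib.Helper38.OhP.Defs
import Cfsg.Agent.Lib.Helper98.Os3
import Cfsg.Agent.Lib.Helper98.Sy4

/-!
# K-OhP-FC2 (keystone 597411, architect helper38), core: `fixed_of_good_of`

Sufficiency: `Good i c T k m j` gives a fixed plus type nondegenerate `m`-space.  The facts of LEAVES A, S1, S2, W1 of
the pack enter as hypotheses (`OhPFC2.lean` feeds them).
-/

set_option autoImplicit false
set_option linter.unusedSectionVars false
set_option linter.unusedVariables false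
set_option linter.style.haveILetI false

namespace Cfsg.Agent.Lib.Helper82.OhP

open Module Cfsg.Agent.Lib.Helper98.Elus Cfsg.Agent.Lib.Helper98.Sy Cfsg.Agent.Lib.Helper38.OhP

universe u
variable {F : Type u} [Field F] {V : Type u} [AddCommGroup V] [Module F V]

/-- **K-OhP-FC2** with the facts of LEAVES A, S1, S2, W1 as hypotheses. -/
theorem fixed_of_good_of [FiniteDimensional F V] (Q : QuadraticForm F V)
    (hV : NonDeg (pB Q) ⊤) (hVp : PlusQ Q ⊤)
    (r : ℕ) (hrF : (r : F) ≠ 0) (y : V →ₗ[F] V)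
    (hy : y ^ r = 1) (hiso : QIso Q y)
    (i c : ℕ) (hc : c = cOf i) (hcpos : 0 < c)
    (hLA : ∀ W1 W2 : Submodule F V, NonDeg (pB Q) W1 → NonDeg (pB Q) W2 → Ort (pB Q) W1 W2 →
      Even (finrank F W1) → Even (finrank F W2) →
      (PlusQ Q (W1 ⊔ W2) ↔ (PlusQ Q W1 ↔ PlusQ Q W2)))
    (hS1 : ∀ U : Submodule F V, U ≤ V1 r y → Inv y U → NonDeg (pB Q) U →
      c ∣ finrank F U ∧ (PlusQ Q U ↔ tPlus i (finrank F U / c)))
    (hS2 : ∀ U : Submodule F V, U ≤ V1 r y → Inv y U → NonDeg (pB Q) U → ∀ b : ℕ,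
      c * b ≤ finrank F U →
      ∃ W : Submodule F V, W ≤ U ∧ Inv y W ∧ NonDeg (pB Q) W ∧ finrank F W = c * b)
    (hW1 : ∀ C : Submodule F V, NonDeg (pB Q) C → Even (finrank F C) → ∀ e : ℕ, Even e → 2 ≤ e →
      e + 2 ≤ finrank F C → ∀ t : Prop,
      ∃ W : Submodule F V, W ≤ C ∧ NonDeg (pB Q) W ∧ finrank F W = e ∧ (PlusQ Q W ↔ t))
    (T k : ℕ) (hT : finrank F (V1 r y) = T * c) (hk : finrank F (V0 y) = k)
    (m : ℕ) (hme : Even m) (j : ℕ) (hjT : j ≤ T) (hjm : j * c ≤ m) (hg : Good i c T k m j) :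
    ∃ W : Submodule F V, Inv y W ∧ NonDeg (pB Q) W ∧ finrank F W = m ∧ PlusQ Q W := by
  have hR : (pB Q).IsRefl := Cfsg.Agent.Lib.Helper98.Os.isRefl_of_symm (pB_symm Q)
  have hort : Ort (pB Q) (V0 y) (V1 r y) := ort_V0_V1 r hrF y hy hiso.iso
  have hparts := Cfsg.Agent.Lib.Helper98.Oh.nonDeg_inf_parts_refl hR r hrF y hy hiso.iso ⊤ hV
    (fun _ _ => Submodule.mem_top)
  rw [top_inf_eq, top_inf_eq] at hparts
  obtain ⟨hnd0, hnd1⟩ := hparts
  have hsum := finrank_V0_add_V1 r hrF y hy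
  have hsup := V0_sup_V1 r hrF y hy
  have hce : Even c := by rw [hc]; exact cOf_even i
  -- parities
  have hVe : Even (finrank F V) := by
    obtain ⟨U, _, _, hUd⟩ := hVp
    rw [finrank_top] at hUd
    exact ⟨finrank F U, by omega⟩
  have hke : Even k := by
    have h1 : Even (T * c) := hce.mul_left T
    rw [hT, hk] at hsum
    have h2 : k = finrank F V - T * c := by omega
    rw [h2]
    exact hVe.tsub h1
  have hjce : Even (j * c) := hce.mul_left j
  have he0e : Even (m - j * c) := hme.tsub hjce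
  -- the part in `V1`
  obtain ⟨W1, hW1V, hW1inv, hW1nd, hW1d⟩ := hS2 (V1 r y) le_rfl (inv_V1 r y) hnd1 j (by
    rw [hT, mul_comm]
    exact Nat.mul_le_mul_right c hjT)
  have hW1t : PlusQ Q W1 ↔ tPlus i j := by
    have h1 := (hS1 W1 hW1V hW1inv hW1nd).2
    rw [hW1d, Nat.mul_div_cancel_left j hcpos] at h1
    exact h1
  have hW1e : Even (finrank F W1) := by
    rw [hW1d, mul_comm]
    exact hjce
  -- the type of `V0`
  have hV0t : PlusQ Q (V0 y) ↔ tPlus i T := by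
    have h1 := hLA (V0 y) (V1 r y) hnd0 hnd1 hort (by rw [hk]; exact hke)
      (by rw [hT]; exact hce.mul_left T)
    rw [hsup] at h1
    have h2 := (hS1 (V1 r y) le_rfl (inv_V1 r y) hnd1).2
    rw [hT, Nat.mul_div_cancel T hcpos] at h2
    exact (h1.mp hVp).trans h2
  -- assembling
  have key : ∀ W0 : Submodule F V, W0 ≤ V0 y → NonDeg (pB Q) W0 → finrank F W0 = m - j * c →
      (PlusQ Q W0 ↔ PlusQ Q W1) →
      ∃ W : Submodule F V, Inv y W ∧ NonDeg (pB Q) W ∧ finrank F W = m ∧ PlusQ Q W := by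
    intro W0 hW0V hW0nd hW0d hW0t
    have hort01 : Ort (pB Q) W0 W1 := fun u hu v hv => hort u (hW0V hu) v (hW1V hv)
    have hW0inv : Inv y W0 := by
      intro v hv
      rw [(mem_V0 y v).mp (hW0V hv)]
      exact hv
    refine ⟨W0 ⊔ W1, hW0inv.sup hW1inv,
      (Cfsg.Agent.Lib.Helper98.Os.nonDeg_sup hR W0 W1 hW0nd hW1nd hort01).1, ?_, ?_⟩
    · rw [Cfsg.Agent.Lib.Helper98.Os.finrank_sup_of_ort hR W0 W1 hW0nd hW1nd hort01, hW0d, hW1d,
        mul_comm c j]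
      omega
    · exact (hLA W0 W1 hW0nd hW1nd hort01 (by rw [hW0d]; exact he0e) hW1e).mpr hW0t
  rcases hg with ⟨h0, ht⟩ | ⟨h0, hlt⟩ | ⟨h0, hk0, ht⟩
  · -- `W0 = ⊥`
    refine key ⊥ bot_le Cfsg.Agent.Lib.Helper98.Os.nonDeg_bot (by rw [finrank_bot, h0]) ?_
    exact ⟨fun _ => hW1t.mpr ht, fun _ => plusQ_bot Q⟩
  · -- `0 < e0 < k`: LEAF W1 inside `V0`
    obtain ⟨W0, hW0V, hW0nd, hW0d, hW0t⟩ := hW1 (V0 y) hnd0 (by rw [hk]; exact hke) (m - j * c) he0e
      (by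
        obtain ⟨a, ha⟩ := he0e
        omega)
      (by
        rw [hk]
        obtain ⟨a, ha⟩ := he0e
        obtain ⟨b, hb⟩ := hke
        omega) (PlusQ Q W1)
    exact key W0 hW0V hW0nd hW0d hW0t
  · -- `e0 = k`: `W0 = V0`
    refine key (V0 y) le_rfl hnd0 (by rw [hk, h0]) ?_
    exact hV0t.trans (ht.symm.trans hW1t.symm)

end Cfsg.Agent.Lib.Helper82.OhP
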