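import Cfsg.Agent.Lib.Helper38.OhP.Defs
import Cfsg.Agent.Lib.Helper16.OhPW2
import Cfsg.Agent.Lib.Helper82.OsElO0

/-!
# K-OhP-I1 (keystone 597424, architect helper38): `exists_fixed_invol_q`

An isometric involution (`2 ≠ 0`) fixes a plus type nondegenerate `m`-space, `m` even, `2 m < dim V`: take it inside the
bigger eigenspace (LEAF W2 = `Helper16.OhP.exists_plus_sub`).
-/

set_option autoImplicit false
set_option linter.unusedSectionVars false
set_option linter.unusedVariables false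
set_option linter.style.haveILetI false

namespace Cfsg.Agent.Lib.Helper82.OhP

open Module Cfsg.Agent.Lib.Helper98.Elus Cfsg.Agent.Lib.Helper98.Sy Cfsg.Agent.Lib.Helper38.OhP

universe u
variable {F : Type u} [Field F] {V : Type u} [AddCommGroup V] [Module F V]

/-- **LEAF I1 (597424)** -/
theorem exists_fixed_invol_q [Fintype F] (h2 : (2 : F) ≠ 0) [FiniteDimensional F V]
    (Q : QuadraticForm F V) (hV : NonDeg (pB Q) ⊤) (g : V →ₗ[F] V) (hg : g * g = 1)
    (hiso : QIso Q g) (m : ℕ) (hme : Even m) (hlt : 2 * m < finrank F V) :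
    ∃ W : Submodule F V, Inv g W ∧ NonDeg (pB Q) W ∧ finrank F W = m ∧ PlusQ Q W := by
  have hrF : ((2 : ℕ) : F) ≠ 0 := by
    rw [Nat.cast_ofNat]
    exact h2
  have hg2 : g ^ 2 = 1 := by rw [pow_two]; exact hg
  have hR : (pB Q).IsRefl := Cfsg.Agent.Lib.Helper98.Os.isRefl_of_symm (pB_symm Q)
  have hparts := Cfsg.Agent.Lib.Helper98.Oh.nonDeg_inf_parts_refl hR 2 hrF g hg2 hiso.iso ⊤ hV
    (fun _ _ => Submodule.mem_top)
  rw [top_inf_eq, top_inf_eq] at hparts
  obtain ⟨hnd0, hnd1⟩ := hparts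
  have hsum := finrank_V0_add_V1 2 hrF g hg2
  by_cases hcase : m < finrank F (V0 g)
  · obtain ⟨W, hWC, hWnd, hWd, hWp⟩ :=
      Cfsg.Agent.Lib.Helper16.OhP.exists_plus_sub Q (V0 g) hnd0 m hme hcase
    refine ⟨W, ?_, hWnd, hWd, hWp⟩
    intro v hv
    rw [(mem_V0 g v).mp (hWC hv)]
    exact hv
  · obtain ⟨W, hWC, hWnd, hWd, hWp⟩ :=
      Cfsg.Agent.Lib.Helper16.OhP.exists_plus_sub Q (V1 2 g) hnd1 m hme (by omega)
    exact ⟨W, Cfsg.Agent.Lib.Helper82.OsEl.inv_of_le_V1_two g W hWC, hWnd, hWd, hWp⟩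

end Cfsg.Agent.Lib.Helper82.OhP
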