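import Mathlib
import Cfsg.Prelude.Def_GeometricClasses
import Cfsg.Agent.S0269
import Cfsg.Agent.S0270

/-!
# K-SpMax-G1: a maximal subgroup `H` of `Sp` satisfies `H ⊔ (scalars ⊓ Sp) ≠ Sp`
-/

set_option autoImplicit false
set_option linter.style.haveILetI false

namespace Cfsg.Agent.Lib.Helper82.SpMax

open Cfsg Cfsg.Geo
open scoped Matrix Kronecker MatrixGroups Pointwise commutatorElement

variable {F : Type*} [Field F] [Fintype F] {m : ℕ}

omit [Fintype F] in
/-- scalar matrices are central in `GL`. -/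
theorem scalars_comm {ι : Type} [Fintype ι] [DecidableEq ι] (g x : GL ι F) (hg : g ∈ scalars ι F) :
    g * x = x * g := by
  obtain ⟨c, hc⟩ := (mem_scalars_iff g).mp hg
  apply Units.ext
  rw [Units.val_mul, Units.val_mul, hc]
  simp

/-- `Sp` (as the subgroup `spGL` of `GL`) is perfect. -/
theorem commutator_spGL (hm : 2 ≤ m) (hex : ¬ (m = 2 ∧ Fintype.card F = 2)) :
    ⁅spGL m F, spGL m F⁆ = spGL m F := by
  have hcard : 2 ≤ Fintype.card F := Fintype.one_lt_card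
  have hperf : commutator (Matrix.symplecticGroup (Fin m) F) = ⊤ := by
    apply Cfsg.Agent.S0269.result
    by_cases h3 : 3 ≤ m
    · exact Or.inl h3
    · right; left
      have hm2 : m = 2 := by omega
      refine ⟨hm2, ?_⟩
      by_contra hc
      exact hex ⟨hm2, by omega⟩
  -- transport along `phi`
  have h1 : commutator ↥(spGL m F) = ⊤ := by
    have := Subgroup.map_commutator (⊤ : Subgroup (Matrix.symplecticGroup (Fin m) F)) ⊤
      (Cfsg.Agent.S0270.phi m (F := F))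
    rw [← commutator_def, hperf, ← MonoidHom.range_eq_map,
      MonoidHom.range_eq_top.mpr (Cfsg.Agent.S0270.phi_surjective m)] at this
    rw [commutator_def]
    exact this.symm
  have h2 := Subgroup.map_commutator (⊤ : Subgroup ↥(spGL m F)) ⊤ (spGL m F).subtype
  rw [← commutator_def, h1, ← MonoidHom.range_eq_map, Subgroup.range_subtype] at h2
  exact h2.symm

theorem commutatorElement_mul_central {Γ : Type*} [Group Γ] (a b z w : Γ)
    (hz : ∀ x, z * x = x * z) (hw : ∀ x, w * x = x * w) : ⁅a * z, b * w⁆ = ⁅a, b⁆ := by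
  rw [commutatorElement_def, commutatorElement_def]
  have s1 : a * z * (b * w) * (a * z)⁻¹ * (b * w)⁻¹ =
      a * (z * (b * w)) * z⁻¹ * a⁻¹ * (b * w)⁻¹ := by group
  rw [s1, hz (b * w)]
  have s2 : a * (b * w * z) * z⁻¹ * a⁻¹ * (b * w)⁻¹ = a * b * (w * a⁻¹) * w⁻¹ * b⁻¹ := by group
  rw [s2, hw a⁻¹]
  group

theorem sup_scalars_ne_of_isMaximalIn (hm : 2 ≤ m) (hex : ¬ (m = 2 ∧ Fintype.card F = 2))
    (H : Subgroup (GL (Fin m ⊕ Fin m) F)) (hH : IsMaximalIn (spGL m F) H) :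
    H ⊔ (scalars (Fin m ⊕ Fin m) F ⊓ spGL m F) ≠ spGL m F := by
  intro hsup
  have hlt : H < spGL m F := hH.1
  apply lt_irrefl H
  refine lt_of_lt_of_le hlt ?_
  rw [← commutator_spGL hm hex, Subgroup.commutator_le]
  haveI hZn : (scalars (Fin m ⊕ Fin m) F ⊓ spGL m F).Normal := ⟨fun n hn g => by
    rw [← scalars_comm n g hn.1, mul_inv_cancel_right]
    exact hn⟩
  -- every element of `Sp = H ⊔ Z` is `h * z`
  have hdec : ∀ g ∈ spGL m F, ∃ h ∈ H, ∃ z ∈ scalars (Fin m ⊕ Fin m) F, g = h * z := by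
    intro g hg
    rw [← hsup] at hg
    have hg' : g ∈ ((H ⊔ (scalars (Fin m ⊕ Fin m) F ⊓ spGL m F) : Subgroup _) : Set _) := hg
    rw [Subgroup.mul_normal] at hg'
    obtain ⟨h, hh, z, hz, rfl⟩ := Set.mem_mul.mp hg'
    exact ⟨h, hh, z, hz.1, rfl⟩
  intro g₁ hg₁ g₂ hg₂
  obtain ⟨h₁, hh₁, z₁, hz₁, rfl⟩ := hdec g₁ hg₁
  obtain ⟨h₂, hh₂, z₂, hz₂, rfl⟩ := hdec g₂ hg₂
  rw [commutatorElement_mul_central h₁ h₂ z₁ z₂ (fun x => scalars_comm z₁ x hz₁)
    (fun x => scalars_comm z₂ x hz₂), commutatorElement_def]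
  exact H.mul_mem (H.mul_mem (H.mul_mem hh₁ hh₂) (H.inv_mem hh₁)) (H.inv_mem hh₂)

end Cfsg.Agent.Lib.Helper82.SpMax
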