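import Mathlib
import Cfsg.Prelude.Def_GeometricClasses

/-!
# K-SpAsch-Eh : a group of pure tensors of solvable factors cannot be perfect modulo scalars
-/

set_option autoImplicit false
set_option linter.style.haveILetI false

namespace Cfsg.Agent.Lib.Helper82.SpAsch

open Cfsg Cfsg.Geo
open scoped Matrix MatrixGroups

variable {F : Type*} [Field F]

/-- The tensor product of `t` matrices of size `m`, as a monoid homomorphism. -/
noncomputable def pureHom (m t : ℕ) :
    (Fin t → Matrix (Fin m) (Fin m) F) →* Matrix (Fin t → Fin m) (Fin t → Fin m) F where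
  toFun gs := Matrix.of fun x y => ∏ i, gs i (x i) (y i)
  map_one' := by
    ext x y
    simp only [Matrix.of_apply, Pi.one_apply, Matrix.one_apply]
    rw [Finset.prod_ite_zero]
    simp [funext_iff]
  map_mul' a b := by
    ext x y
    simp only [Matrix.of_apply, Pi.mul_apply, Matrix.mul_apply]
    rw [Finset.prod_univ_sum]
    simp [Finset.prod_mul_distrib, Fintype.piFinset_univ]

theorem pureHom_apply (m t : ℕ) (gs : Fin t → Matrix (Fin m) (Fin m) F) (x y : Fin t → Fin m) :
    pureHom m t gs x y = ∏ i, gs i (x i) (y i) := rfl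

/-- The tensor product of `t` invertible matrices, as a group homomorphism. -/
noncomputable def pureGL (m t : ℕ) : (Fin t → GL (Fin m) F) →* GL (Fin t → Fin m) F :=
  (Units.map (pureHom (F := F) m t)).comp
    (MulEquiv.piUnits (M := fun _ : Fin t => Matrix (Fin m) (Fin m) F)).symm.toMonoidHom

theorem pureGL_apply (m t : ℕ) (gs : Fin t → GL (Fin m) F) (x y : Fin t → Fin m) :
    (pureGL m t gs : Matrix (Fin t → Fin m) (Fin t → Fin m) F) x y =
      ∏ i, (gs i : Matrix (Fin m) (Fin m) F) (x i) (y i) := rfl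

theorem isPureTensor_iff_mem_range (m t : ℕ) (w : GL (Fin t → Fin m) F) :
    IsPureTensor m t w ↔ w ∈ (pureGL (F := F) m t).range := by
  constructor
  · rintro ⟨gs, hgs⟩
    refine ⟨gs, ?_⟩
    apply Units.ext
    ext x y
    rw [pureGL_apply, hgs]
  · rintro ⟨gs, rfl⟩
    exact ⟨gs, fun x y => pureGL_apply m t gs x y⟩

/-- A finite power of a solvable group is solvable. -/
theorem isSolvable_pi_const {η : Type*} (G : Type*) [Group G] [hG : Group.IsSolvable G] :
    Group.IsSolvable (η → G) := by
  obtain ⟨k, hk⟩ := hG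
  have key : ∀ j, derivedSeries (η → G) j ≤ Subgroup.pi Set.univ fun _ : η => derivedSeries G j := by
    intro j
    induction j with
    | zero =>
      intro x _ i _
      simp [derivedSeries_zero]
    | succ j ih =>
      rw [derivedSeries_succ]
      refine le_trans (Subgroup.commutator_mono ih ih) ?_
      refine le_trans (Subgroup.commutator_pi_pi_le _ _) ?_
      intro x hx i hi
      have := hx i hi
      rwa [derivedSeries_succ]
  refine ⟨k, ?_⟩
  rw [eq_bot_iff]
  intro x hx
  have := key k hx
  rw [Subgroup.mem_bot]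
  funext i
  have h2 : x i ∈ derivedSeries G k := this i (Set.mem_univ i)
  rw [hk, Subgroup.mem_bot] at h2
  exact h2

/-- A solvable subgroup equal to its own commutator subgroup is trivial. -/
theorem eq_bot_of_commutator_eq_self {G : Type*} [Group G] (H : Subgroup G) [Group.IsSolvable H]
    (h : ⁅H, H⁆ = H) : H = ⊥ := by
  by_contra hne
  haveI : Nontrivial H := (Subgroup.nontrivial_iff_ne_bot H).2 hne
  have hlt := Group.IsSolvable.commutator_lt_top_of_nontrivial H
  have hc : commutator H = ⊤ := by
    apply Subgroup.map_injective H.subtype_injective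
    rw [Subgroup.map_subtype_commutator, h, ← MonoidHom.range_eq_map, Subgroup.range_subtype]
  exact hlt.ne hc

theorem scalars_normal_aux {n : ℕ} : (scalars (Fin n) F).Normal := by
  constructor
  intro s hs g
  rw [mem_scalars_iff] at hs ⊢
  obtain ⟨c, hc⟩ := hs
  refine ⟨c, ?_⟩
  rw [Units.val_mul, Units.val_mul, hc, Matrix.mul_smul, Matrix.mul_one, Matrix.smul_mul,
    ← Units.val_mul, mul_inv_cancel, Units.val_one]

/-- **K-SpAsch-Eh**. -/
theorem not_pure_perfect_two {n : ℕ} (hsol : Group.IsSolvable (GL (Fin 2) F)) (t : ℕ)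
    (e : Fin n ≃ (Fin t → Fin 2))
    (P : GL (Fin n) F) (N : Subgroup (GL (Fin n) F))
    (hpure : ∀ g ∈ N, ∃ w : GL (Fin t → Fin 2) F, IsPureTensor 2 t w ∧ g = P * glReindex e.symm w * P⁻¹)
    (hperf : ⁅N, N⁆ ⊔ scalars (Fin n) F = N) (hNZ : ¬ N ≤ scalars (Fin n) F) : False := by
  classical
  haveI := hsol
  haveI : Group.IsSolvable (Fin t → GL (Fin 2) F) := isSolvable_pi_const _
  -- the big homomorphism
  let Φ : (Fin t → GL (Fin 2) F) →* GL (Fin n) F :=
    ((MulAut.conj P).toMonoidHom.comp (glReindex (F := F) e.symm).toMonoidHom).comp (pureGL 2 t)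
  have hNΦ : N ≤ Φ.range := by
    intro g hg
    obtain ⟨w, hw, rfl⟩ := hpure g hg
    obtain ⟨gs, rfl⟩ := (isPureTensor_iff_mem_range 2 t w).1 hw
    exact ⟨gs, by simp [Φ, MulAut.conj_apply]⟩
  haveI : Group.IsSolvable Φ.range :=
    Group.isSolvable_of_surjective (f := Φ.rangeRestrict) Φ.rangeRestrict_surjective
  haveI : Group.IsSolvable N :=
    Group.isSolvable_of_isSolvable_injective (Subgroup.inclusion_injective hNΦ)
  haveI hZn : (scalars (Fin n) F).Normal := scalars_normal_aux
  let π := QuotientGroup.mk' (scalars (Fin n) F)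
  have hZmap : (scalars (Fin n) F).map π = ⊥ := by
    rw [Subgroup.map_eq_bot_iff, QuotientGroup.ker_mk']
  have h1 : ⁅N.map π, N.map π⁆ = N.map π := by
    conv_rhs => rw [← hperf]
    rw [Subgroup.map_sup, Subgroup.map_commutator, hZmap, sup_bot_eq]
  haveI : Group.IsSolvable (N.map π) :=
    Group.isSolvable_of_surjective (f := π.subgroupMap N) (π.subgroupMap_surjective N)
  have h2 := eq_bot_of_commutator_eq_self (N.map π) h1
  rw [Subgroup.map_eq_bot_iff, QuotientGroup.ker_mk'] at h2
  exact hNZ h2

end Cfsg.Agent.Lib.Helper82.SpAsch
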