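import Mathlib
import Cfsg.Prelude.Def_GeometricClasses
import Cfsg.Agent.Lib.Helper61.AschDefs
import Cfsg.Agent.Lib.Helper43.SpAschDefs
import Cfsg.Agent.Lib.Helper43.SpAschDefs2
import Cfsg.Agent.Lib.Helper23.AschForm
import Cfsg.Agent.Lib.Helper50.TensorAct

/-!
# K-SpAsch-R1 : a quadratic form fixed by an absolutely irreducible group of isometries of `f`
-/

set_option autoImplicit false
set_option linter.style.haveILetI false
set_option linter.unusedSectionVars false

namespace Cfsg.Agent.Lib.Helper82.SpAsch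

open Cfsg Cfsg.Geo Cfsg.Agent.Lib.Helper61.Asch Cfsg.Agent.Lib.Helper43.SpAsch
open scoped Matrix MatrixGroups

variable {F : Type*} [Field F] {n : ℕ}

local notation "V" => (Fin n → F)
local notation "Mat" => Matrix (Fin n) (Fin n) F

theorem bilin_sub_right {f : V → V → F} (hf : IsBilinearForm f) (u a b : V) :
    f u (a - b) = f u a - f u b := by
  have : a - b = a + (-1 : F) • b := by simp [sub_eq_add_neg]
  rw [this, hf.add_right, hf.smul_right]; ring

theorem bilin_zero_right {f : V → V → F} (hf : IsBilinearForm f) (u : V) : f u 0 = 0 := by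
  have := hf.smul_right 0 u 0
  simpa using this

/-- The Gram matrix of a nondegenerate bilinear form is invertible. -/
theorem gram_isUnit {f : V → V → F} (hf : IsBilinearForm f) (hnd : IsNondegenerateForm f) :
    IsUnit (gramMatrix f) := by
  rw [← Matrix.mulVec_injective_iff_isUnit]
  intro v w hvw
  by_contra hne
  have hne' : v - w ≠ 0 := sub_ne_zero.mpr hne
  obtain ⟨⟨x, hx⟩, _⟩ := hnd (v - w) hne'
  apply hx
  rw [Cfsg.Agent.Lib.Helper50.bilin_eq_gram f hf, Matrix.mulVec_sub]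
  have : gramMatrix f *ᵥ v = gramMatrix f *ᵥ w := hvw
  rw [this, sub_self, dotProduct_zero]

/-- Representation of a bilinear form through a nondegenerate one. -/
theorem exists_repr_matrix {f b : V → V → F} (hf : IsBilinearForm f) (hnd : IsNondegenerateForm f)
    (hb : IsBilinearForm b) : ∃ M : Mat, ∀ u v, b u v = f u (M *ᵥ v) := by
  obtain ⟨Φu, hΦ⟩ := gram_isUnit hf hnd
  refine ⟨(Φu⁻¹ : Matˣ).1 * gramMatrix b, fun u v => ?_⟩
  rw [Cfsg.Agent.Lib.Helper50.bilin_eq_gram b hb, Cfsg.Agent.Lib.Helper50.bilin_eq_gram f hf,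
    Matrix.mulVec_mulVec, ← Matrix.mul_assoc, ← hΦ, ← Units.val_mul, mul_inv_cancel, Units.val_one,
    Matrix.one_mul]

/-- Schur: an `X`-invariant bilinear form is a multiple of the `X`-invariant nondegenerate form `f`. -/
theorem exists_scalar_of_fixes {f b : V → V → F} (hf : IsBilinearForm f) (hnd : IsNondegenerateForm f)
    (hb : IsBilinearForm b) (X : Subgroup (GL (Fin n) F)) (hX : spanAlg X = ⊤)
    (hXf : ∀ x ∈ X, ∀ u v, f ((x : Mat) *ᵥ u) ((x : Mat) *ᵥ v) = f u v)
    (hXb : ∀ x ∈ X, ∀ u v, b ((x : Mat) *ᵥ u) ((x : Mat) *ᵥ v) = b u v) :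
    ∃ c : F, ∀ u v, b u v = c * f u v := by
  obtain ⟨M, hM⟩ := exists_repr_matrix hf hnd hb
  have hcomm : ∀ x ∈ X, M * ((x : GL (Fin n) F) : Mat) = ((x : GL (Fin n) F) : Mat) * M := by
    intro x hx
    have key : ∀ v : V, M *ᵥ ((x : Mat) *ᵥ v) = (x : Mat) *ᵥ (M *ᵥ v) := by
      intro v
      by_contra hne
      have hne' : M *ᵥ ((x : Mat) *ᵥ v) - (x : Mat) *ᵥ (M *ᵥ v) ≠ 0 := sub_ne_zero.mpr hne
      obtain ⟨⟨u, hu⟩, _⟩ := hnd _ hne'
      apply hu
      rw [bilin_sub_right hf, ← hM]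
      have hxx : (x : Mat) *ᵥ (((x⁻¹ : GL (Fin n) F) : Mat) *ᵥ u) = u := by
        rw [Matrix.mulVec_mulVec, ← Units.val_mul, mul_inv_cancel, Units.val_one, Matrix.one_mulVec]
      have h1 : b u ((x : Mat) *ᵥ v) = b (((x⁻¹ : GL (Fin n) F) : Mat) *ᵥ u) v := by
        conv_lhs => rw [← hxx]
        exact hXb x hx _ _
      have h2 : f u ((x : Mat) *ᵥ (M *ᵥ v)) = f (((x⁻¹ : GL (Fin n) F) : Mat) *ᵥ u) (M *ᵥ v) := by
        conv_lhs => rw [← hxx]
        exact hXf x hx _ _
      rw [h1, h2, hM, sub_self]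
    apply Matrix.mulVec_injective
    funext v
    rw [← Matrix.mulVec_mulVec, ← Matrix.mulVec_mulVec]
    exact key v
  obtain ⟨c, hc⟩ := Cfsg.Agent.Lib.Helper23.Asch.scalar_of_commute X hX M hcomm
  refine ⟨c, fun u v => ?_⟩
  rw [hM, hc, Matrix.smul_mulVec, Matrix.one_mulVec, hf.smul_right]

theorem two_ne_zero_of_odd_card [Fintype F] (h : Odd (Fintype.card F)) : (2 : F) ≠ 0 := by
  intro h2
  have hc : ringChar F = 2 := CharP.ringChar_of_prime_eq_zero Nat.prime_two (by exact_mod_cast h2)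
  have := FiniteField.even_card_of_char_two hc
  rw [Nat.odd_iff] at h
  omega

theorem ringChar_two_of_not_odd_card [Fintype F] (h : ¬ Odd (Fintype.card F)) : ringChar F = 2 := by
  rw [FiniteField.even_card_iff_char_two]
  rw [Nat.odd_iff] at h
  omega

/-- **K-SpAsch-R1**. -/
theorem quadFor_of_fixes_quad [Fintype F] {f : V → V → F} (hf : IsSymplecticForm f) (hn : 2 ≤ n)
    (K X : Subgroup (GL (Fin n) F)) (hKΔ : K ≤ similarityGroup f) (hX : spanAlg X = ⊤) (hKX : NormBy K X)
    (hXf : X ≤ isoGL f) (Q : V → F) (hQ : IsNondegenerateQuadraticForm Q)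
    (hfix : FixesQuadForm (matrixSet X) Q) :
    ¬ Odd (Fintype.card F) ∧ QuadFor f K := by
  classical
  have hfixQ : ∀ x ∈ X, ∀ v : V, Q ((x : Mat) *ᵥ v) = Q v := fun x hx v => hfix _ ⟨x, hx, rfl⟩ v
  have hXf' : ∀ x ∈ X, ∀ u v, f ((x : Mat) *ᵥ u) ((x : Mat) *ᵥ v) = f u v := fun x hx => hXf hx
  have hXb : ∀ x ∈ X, ∀ u v, QuadraticMap.polar Q ((x : Mat) *ᵥ u) ((x : Mat) *ᵥ v) =
      QuadraticMap.polar Q u v := by
    intro x hx u v
    simp only [QuadraticMap.polar]
    rw [← Matrix.mulVec_add, hfixQ x hx, hfixQ x hx, hfixQ x hx]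
  obtain ⟨lam, hlam⟩ := exists_scalar_of_fixes hf.bilinear hf.nondegenerate hQ.polar_bilinear X hX hXf' hXb
  -- a nonzero vector
  let i₀ : Fin n := ⟨0, by omega⟩
  let i₁ : Fin n := ⟨1, by omega⟩
  have hi01 : i₀ ≠ i₁ := by simp [i₀, i₁, Fin.ext_iff]
  let e₀ : V := Pi.single i₀ 1
  let e₁ : V := Pi.single i₁ 1
  have he₀ : e₀ ≠ 0 := by
    intro h
    have := congrFun h i₀
    simp [e₀] at this
  have hlam0 : lam ≠ 0 := by
    rintro rfl
    obtain ⟨⟨x, hx⟩, _⟩ := hQ.nondegenerate e₀ he₀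
    apply hx
    rw [hlam, zero_mul]
  have hodd : ¬ Odd (Fintype.card F) := by
    intro hodd
    have h2 := two_ne_zero_of_odd_card hodd
    obtain ⟨⟨x, hx⟩, _⟩ := hQ.nondegenerate e₀ he₀
    apply hx
    have h1 : QuadraticMap.polar Q x e₀ = - QuadraticMap.polar Q x e₀ := by
      calc QuadraticMap.polar Q x e₀ = lam * f x e₀ := hlam _ _
        _ = - (lam * f e₀ x) := by rw [hf.skew, mul_neg]
        _ = - QuadraticMap.polar Q e₀ x := by rw [← hlam]
        _ = - QuadraticMap.polar Q x e₀ := by rw [QuadraticMap.polar_comm]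
    have h3 : (2 : F) * QuadraticMap.polar Q x e₀ = 0 := by
      rw [two_mul]
      nth_rewrite 1 [h1]
      exact neg_add_cancel _
    rcases mul_eq_zero.mp h3 with h | h
    · exact absurd h h2
    · exact h
  refine ⟨hodd, ?_⟩
  have hchar : ringChar F = 2 := ringChar_two_of_not_odd_card hodd
  have h2F : (2 : F) = 0 := by
    have := CharP.cast_eq_zero F (ringChar F)
    rw [hchar] at this
    exact_mod_cast this
  -- the rescaled quadratic form
  let Q' : V → F := fun v => lam⁻¹ * Q v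
  have hpol : QuadraticMap.polar Q' = f := by
    funext u v
    have h1 : QuadraticMap.polar Q' u v = lam⁻¹ * QuadraticMap.polar Q u v := by
      simp only [QuadraticMap.polar, Q']
      ring
    rw [h1, hlam, ← mul_assoc, inv_mul_cancel₀ hlam0, one_mul]
  have hpol' : ∀ u v, Q' (u + v) = Q' u + Q' v + f u v := by
    intro u v
    have := congrFun (congrFun hpol u) v
    simp only [QuadraticMap.polar] at this
    rw [← this]; ring
  have hQ'smul : ∀ (c : F) (v : V), Q' (c • v) = c ^ 2 * Q' v := by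
    intro c v
    simp only [Q']
    rw [hQ.smul]; ring
  have hQ' : IsNondegenerateQuadraticForm Q' := by
    refine ⟨hQ'smul, ?_, ?_⟩
    · rw [hpol]; exact hf.bilinear
    · rw [hpol]; exact hf.nondegenerate
  have hQ'0 : Q' 0 = 0 := by
    have := hQ'smul 0 0
    simpa using this
  have hfixQ' : ∀ x ∈ X, ∀ v : V, Q' ((x : Mat) *ᵥ v) = Q' v := by
    intro x hx v
    simp only [Q']
    rw [hfixQ x hx]
  refine ⟨Q', hQ', fun u v => congrFun (congrFun hpol u) v, ?_⟩
  intro k hk
  obtain ⟨c, hc⟩ := hKΔ hk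
  refine ⟨c, ?_⟩
  -- the defect
  let s : V → F := fun v => Q' ((k : Mat) *ᵥ v) - (c : F) * Q' v
  have hs_add : ∀ u v, s (u + v) = s u + s v := by
    intro u v
    simp only [s]
    rw [Matrix.mulVec_add, hpol', hpol', hc]; ring
  have hs_smul : ∀ (a : F) (v : V), s (a • v) = a ^ 2 * s v := by
    intro a v
    simp only [s]
    rw [Matrix.mulVec_smul, hQ'smul, hQ'smul]; ring
  have hs_zero : s 0 = 0 := by
    simp only [s]
    rw [Matrix.mulVec_zero, hQ'0]; ring
  have hs_inv : ∀ x ∈ X, ∀ v : V, s ((x : Mat) *ᵥ v) = s v := by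
    intro x hx v
    simp only [s]
    rw [hfixQ' x hx]
    have hkx : k * x * k⁻¹ ∈ X := hKX k hk x hx
    have h1 : (k : Mat) *ᵥ ((x : Mat) *ᵥ v) = ((k * x * k⁻¹ : GL (Fin n) F) : Mat) *ᵥ ((k : Mat) *ᵥ v) := by
      rw [Matrix.mulVec_mulVec, Matrix.mulVec_mulVec, ← Units.val_mul, ← Units.val_mul]
      congr 2
      group
    rw [h1, hfixQ' _ hkx]
  let W : Submodule F V :=
    { carrier := {v | s v = 0}
      add_mem' := by
        intro u v hu hv
        show s (u + v) = 0
        rw [hs_add, show s u = 0 from hu, show s v = 0 from hv, add_zero]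
      zero_mem' := hs_zero
      smul_mem' := by
        intro a v hv
        show s (a • v) = 0
        rw [hs_smul, show s v = 0 from hv, mul_zero] }
  have hW : ∀ x ∈ X, ∀ v ∈ W, ((x : GL (Fin n) F) : Mat) *ᵥ v ∈ W := by
    intro x hx v hv
    show s _ = 0
    rw [hs_inv x hx]
    exact hv
  rcases Cfsg.Agent.Lib.Helper23.Asch.irreducible_of_span X hX W hW with hbot | htop
  · exfalso
    have hα : s e₀ ≠ 0 := by
      intro h
      have : e₀ ∈ W := h
      rw [hbot, Submodule.mem_bot] at this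
      exact he₀ this
    obtain ⟨a, ha⟩ := FiniteField.isSquare_of_char_two hchar (s e₁ / s e₀)
    have hmem : a • e₀ + e₁ ∈ W := by
      show s (a • e₀ + e₁) = 0
      rw [hs_add, hs_smul, pow_two, ← ha, div_mul_cancel₀ _ hα, ← two_mul, h2F, zero_mul]
    rw [hbot, Submodule.mem_bot] at hmem
    have := congrFun hmem i₁
    simp [e₀, e₁, hi01.symm] at this
  · intro v
    have : v ∈ W := by rw [htop]; exact Submodule.mem_top
    have hv : s v = 0 := this
    simp only [s] at hv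
    exact sub_eq_zero.mp hv

end Cfsg.Agent.Lib.Helper82.SpAsch
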