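import Mathlib

/-!
# K-PrnA-ALT (keystone 222211, architect helper44, S2222): `alt_sylow_normalizer`

Sylow 2-subgroups of `A_n` (`n ≥ 6`) are self-normalising, given that Sylow 2-subgroups of `S_n` are
self-normalising and the two facts on transpositions in 2-subgroups of `S_n`.
-/

set_option autoImplicit false
set_option linter.unusedSectionVars false
set_option linter.unusedVariables false
set_option linter.style.haveILetI false

namespace Cfsg.Agent.Lib.Helper82.PrnA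

open Equiv Equiv.Perm

variable {n : ℕ}

/-- the image in `Perm (Fin n)` of a Sylow 2-subgroup of the alternating group -/
def altImg (T : Sylow 2 (alternatingGroup (Fin n))) : Subgroup (Perm (Fin n)) :=
  (T : Subgroup (alternatingGroup (Fin n))).map (alternatingGroup (Fin n)).subtype

theorem mem_altImg_coe (T : Sylow 2 (alternatingGroup (Fin n))) (t : alternatingGroup (Fin n)) :
    (t : Perm (Fin n)) ∈ altImg T ↔ t ∈ (T : Subgroup (alternatingGroup (Fin n))) := by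
  unfold altImg
  exact Subgroup.mem_map_iff_mem (Subgroup.subtype_injective _)

theorem altImg_le_alt (T : Sylow 2 (alternatingGroup (Fin n))) :
    altImg T ≤ alternatingGroup (Fin n) := by
  unfold altImg
  rintro x ⟨t, -, rfl⟩
  exact t.2

/-- Lemma A -/
theorem inf_alt_eq (T : Sylow 2 (alternatingGroup (Fin n))) (P : Sylow 2 (Perm (Fin n)))
    (hTP : altImg T ≤ P) :
    (P : Subgroup (Perm (Fin n))) ⊓ alternatingGroup (Fin n) = altImg T := by
  have hQ : IsPGroup 2 (((P : Subgroup (Perm (Fin n))) ⊓ alternatingGroup (Fin n)).subgroupOf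
      (alternatingGroup (Fin n))) := (P.isPGroup'.to_inf_left).comap_subtype
  have hTQ : (T : Subgroup (alternatingGroup (Fin n))) ≤
      ((P : Subgroup (Perm (Fin n))) ⊓ alternatingGroup (Fin n)).subgroupOf
        (alternatingGroup (Fin n)) := by
    intro t ht
    rw [Subgroup.mem_subgroupOf]
    exact ⟨hTP ((mem_altImg_coe T t).mpr ht), t.2⟩
  have h1 := T.is_maximal' hQ hTQ
  have h2 := Subgroup.map_subgroupOf_eq_of_le
    (inf_le_right : (P : Subgroup (Perm (Fin n))) ⊓ alternatingGroup (Fin n) ≤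
      alternatingGroup (Fin n))
  rw [← h2, h1]
  rfl

/-- Lemma B -/
theorem mem_normalizer_of_mem (T : Sylow 2 (alternatingGroup (Fin n))) (P : Sylow 2 (Perm (Fin n)))
    (hTP : altImg T ≤ P) (x : Perm (Fin n)) (hx : x ∈ (P : Subgroup (Perm (Fin n)))) :
    x ∈ Subgroup.normalizer ((altImg T : Subgroup (Perm (Fin n))) : Set (Perm (Fin n))) := by
  rw [← inf_alt_eq T P hTP, Subgroup.mem_normalizer_iff]
  have hA : (alternatingGroup (Fin n)).Normal := alternatingGroup.normal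
  intro h
  rw [Subgroup.mem_inf, Subgroup.mem_inf]
  constructor
  · rintro ⟨h1, h2⟩
    exact ⟨mul_mem (mul_mem hx h1) (inv_mem hx), hA.conj_mem _ h2 x⟩
  · rintro ⟨h1, h2⟩
    refine ⟨?_, ?_⟩
    · have h3 : x⁻¹ * (x * h * x⁻¹) * x ∈ (P : Subgroup (Perm (Fin n))) :=
        mul_mem (mul_mem (inv_mem hx) h1) hx
      have h4 : x⁻¹ * (x * h * x⁻¹) * x = h := by group
      rwa [h4] at h3
    · have h3 := hA.conj_mem _ h2 x⁻¹
      have h4 : x⁻¹ * (x * h * x⁻¹) * x⁻¹⁻¹ = h := by group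
      rwa [h4] at h3

/-- Lemma C -/
theorem mem_of_invol_normalizer (T : Sylow 2 (alternatingGroup (Fin n))) (x : Perm (Fin n))
    (hxA : x ∈ alternatingGroup (Fin n))
    (hxN : x ∈ Subgroup.normalizer ((altImg T : Subgroup (Perm (Fin n))) : Set (Perm (Fin n))))
    (hxx : x * x = 1) : x ∈ altImg T := by
  set x' : alternatingGroup (Fin n) := ⟨x, hxA⟩ with hx'
  have hx'N : x' ∈ Subgroup.normalizer
      (((T : Subgroup (alternatingGroup (Fin n)))) : Set (alternatingGroup (Fin n))) := by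
    rw [Subgroup.mem_normalizer_iff]
    intro h
    rw [← mem_altImg_coe T h, ← mem_altImg_coe T (x' * h * x'⁻¹)]
    exact (Subgroup.mem_normalizer_iff.mp hxN) (h : Perm (Fin n))
  have hp : IsPGroup 2 (Subgroup.zpowers x') := by
    rintro ⟨g, hg⟩
    obtain ⟨k, rfl⟩ := Subgroup.mem_zpowers_iff.mp hg
    refine ⟨1, Subtype.ext ?_⟩
    have hx'2 : x' ^ 2 = 1 := by
      apply Subtype.ext
      rw [pow_two]
      exact hxx
    simp only [pow_one, Subgroup.coe_pow, Subgroup.coe_one]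
    rw [← zpow_natCast, ← zpow_mul, mul_comm, zpow_mul, zpow_natCast, hx'2, one_zpow]
  have h1 := hp.inf_normalizer_sylow T
  have h2 : x' ∈ Subgroup.zpowers x' ⊓ Subgroup.normalizer
      (((T : Subgroup (alternatingGroup (Fin n)))) : Set (alternatingGroup (Fin n))) :=
    ⟨Subgroup.mem_zpowers x', hx'N⟩
  have h3 : x' ∈ Subgroup.zpowers x' ⊓ (T : Subgroup (alternatingGroup (Fin n))) := by
    rw [← h1]
    exact h2
  exact (mem_altImg_coe T x').mpr h3.2

/-- Lemma D: a Sylow 2-subgroup of `S_n`, `n ≥ 6`, contains a transposition -/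
theorem exists_swap_mem (hn : 6 ≤ n)
    (hSW2 : ∀ P : Sylow 2 (Perm (Fin n)),
      ∃ f : Fin (Fintype.card (Fin n) / 2) → Fin n × Fin n, (∀ i, (f i).1 ≠ (f i).2) ∧
      (∀ i, swap (f i).1 (f i).2 ∈ (P : Subgroup (Perm (Fin n)))) ∧
      ∀ i j, i ≠ j → (f i).1 ≠ (f j).1 ∧ (f i).1 ≠ (f j).2 ∧ (f i).2 ≠ (f j).1 ∧ (f i).2 ≠ (f j).2)
    (P : Sylow 2 (Perm (Fin n))) :
    ∃ a b : Fin n, a ≠ b ∧ swap a b ∈ (P : Subgroup (Perm (Fin n))) := by
  obtain ⟨f, hf1, hf2, -⟩ := hSW2 P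
  have h0 : 0 < Fintype.card (Fin n) / 2 := by
    rw [Fintype.card_fin]
    omega
  exact ⟨(f ⟨0, h0⟩).1, (f ⟨0, h0⟩).2, hf1 _, hf2 _⟩

theorem pigeon_aux {A0 A1 A2 C0 C1 C2 : Prop} (k0 : A0 ∨ C0) (k1 : A1 ∨ C1) (k2 : A2 ∨ C2)
    (a01 : A0 → A1 → False) (a02 : A0 → A2 → False) (a12 : A1 → A2 → False)
    (c01 : C0 → C1 → False) (c02 : C0 → C2 → False) (c12 : C1 → C2 → False) : False := by
  rcases k0 with k0 | k0 <;> rcases k1 with k1 | k1 <;> rcases k2 with k2 | k2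
  · exact a01 k0 k1
  · exact a01 k0 k1
  · exact a02 k0 k2
  · exact c12 k1 k2
  · exact a12 k1 k2
  · exact c02 k0 k2
  · exact c01 k0 k1
  · exact c01 k0 k1

/-- Lemma E: a transposition of `P` avoiding three given points -/
theorem exists_swap_avoid (hn : 6 ≤ n)
    (hSW1 : ∀ Q : Subgroup (Perm (Fin n)), IsPGroup 2 Q → ∀ a b c d : Fin n, a ≠ b → c ≠ d →
      swap a b ∈ Q → swap c d ∈ Q → swap a b = swap c d ∨ (a ≠ c ∧ a ≠ d ∧ b ≠ c ∧ b ≠ d))
    (hSW2 : ∀ P : Sylow 2 (Perm (Fin n)),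
      ∃ f : Fin (Fintype.card (Fin n) / 2) → Fin n × Fin n, (∀ i, (f i).1 ≠ (f i).2) ∧
      (∀ i, swap (f i).1 (f i).2 ∈ (P : Subgroup (Perm (Fin n)))) ∧
      ∀ i j, i ≠ j → (f i).1 ≠ (f j).1 ∧ (f i).1 ≠ (f j).2 ∧ (f i).2 ≠ (f j).1 ∧ (f i).2 ≠ (f j).2)
    (P : Sylow 2 (Perm (Fin n))) (a b c : Fin n) (hab : a ≠ b)
    (hτ : swap a b ∈ (P : Subgroup (Perm (Fin n)))) :
    ∃ x y : Fin n, x ≠ y ∧ swap x y ∈ (P : Subgroup (Perm (Fin n))) ∧
      x ≠ a ∧ x ≠ b ∧ x ≠ c ∧ y ≠ a ∧ y ≠ b ∧ y ≠ c := by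
  obtain ⟨f, hf1, hf2, hf3⟩ := hSW2 P
  have hcard : 3 ≤ Fintype.card (Fin n) / 2 := by
    rw [Fintype.card_fin]
    omega
  -- a point lies in at most one pair
  have hpt : ∀ (z : Fin n) (i j : Fin (Fintype.card (Fin n) / 2)), i ≠ j →
      (z = (f i).1 ∨ z = (f i).2) → (z = (f j).1 ∨ z = (f j).2) → False := by
    intro z i j hij h1 h2
    obtain ⟨d1, d2, d3, d4⟩ := hf3 i j hij
    rcases h1 with h1 | h1 <;> rcases h2 with h2 | h2
    · exact d1 (h1.symm.trans h2)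
    · exact d2 (h1.symm.trans h2)
    · exact d3 (h1.symm.trans h2)
    · exact d4 (h1.symm.trans h2)
  have key : ∀ i : Fin (Fintype.card (Fin n) / 2),
      ((f i).1 ≠ a ∧ (f i).1 ≠ b ∧ (f i).1 ≠ c ∧ (f i).2 ≠ a ∧ (f i).2 ≠ b ∧ (f i).2 ≠ c) ∨
      (a = (f i).1 ∨ a = (f i).2) ∨ (c = (f i).1 ∨ c = (f i).2) := by
    intro i
    rcases hSW1 P P.isPGroup' a b (f i).1 (f i).2 hab (hf1 i) hτ (hf2 i) with h | ⟨h1, h2, h3, h4⟩
    · right; left
      by_contra hcon
      rw [not_or] at hcon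
      have h5 : swap a b a = swap (f i).1 (f i).2 a := by rw [h]
      rw [swap_apply_left, swap_apply_of_ne_of_ne hcon.1 hcon.2] at h5
      exact hab h5.symm
    · by_cases hc1 : c = (f i).1
      · right; right; left; exact hc1
      · by_cases hc2 : c = (f i).2
        · right; right; right; exact hc2
        · left
          exact ⟨fun h => h1 h.symm, fun h => h3 h.symm, fun h => hc1 h.symm,
            fun h => h2 h.symm, fun h => h4 h.symm, fun h => hc2 h.symm⟩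
  set i0 : Fin (Fintype.card (Fin n) / 2) := ⟨0, by omega⟩ with hi0
  set i1 : Fin (Fintype.card (Fin n) / 2) := ⟨1, by omega⟩ with hi1
  set i2 : Fin (Fintype.card (Fin n) / 2) := ⟨2, by omega⟩ with hi2
  have h01 : i0 ≠ i1 := by
    intro h
    have := congrArg Fin.val h
    simp [hi0, hi1] at this
  have h02 : i0 ≠ i2 := by
    intro h
    have := congrArg Fin.val h
    simp [hi0, hi2] at this
  have h12 : i1 ≠ i2 := by
    intro h
    have := congrArg Fin.val h
    simp [hi1, hi2] at this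
  rcases key i0 with g | k0
  · exact ⟨(f i0).1, (f i0).2, hf1 _, hf2 _, g⟩
  rcases key i1 with g | k1
  · exact ⟨(f i1).1, (f i1).2, hf1 _, hf2 _, g⟩
  rcases key i2 with g | k2
  · exact ⟨(f i2).1, (f i2).2, hf1 _, hf2 _, g⟩
  exact (pigeon_aux k0 k1 k2 (hpt a i0 i1 h01) (hpt a i0 i2 h02) (hpt a i1 i2 h12)
    (hpt c i0 i1 h01) (hpt c i0 i2 h02) (hpt c i1 i2 h12)).elim

/-- a product of two transpositions is even -/
theorem swap_mul_swap_mem_alt {a b c d : Fin n} (hab : a ≠ b) (hcd : c ≠ d) :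
    swap a b * swap c d ∈ alternatingGroup (Fin n) := by
  rw [mem_alternatingGroup, map_mul, sign_swap hab, sign_swap hcd]
  rfl

/-- Lemma F: overlapping transpositions in two Sylow overgroups of `T` are impossible -/
theorem overlap_false (hn : 6 ≤ n)
    (hSW1 : ∀ Q : Subgroup (Perm (Fin n)), IsPGroup 2 Q → ∀ a b c d : Fin n, a ≠ b → c ≠ d →
      swap a b ∈ Q → swap c d ∈ Q → swap a b = swap c d ∨ (a ≠ c ∧ a ≠ d ∧ b ≠ c ∧ b ≠ d))
    (hSW2 : ∀ P : Sylow 2 (Perm (Fin n)),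
      ∃ f : Fin (Fintype.card (Fin n) / 2) → Fin n × Fin n, (∀ i, (f i).1 ≠ (f i).2) ∧
      (∀ i, swap (f i).1 (f i).2 ∈ (P : Subgroup (Perm (Fin n)))) ∧
      ∀ i j, i ≠ j → (f i).1 ≠ (f j).1 ∧ (f i).1 ≠ (f j).2 ∧ (f i).2 ≠ (f j).1 ∧ (f i).2 ≠ (f j).2)
    (T : Sylow 2 (alternatingGroup (Fin n))) (P P' : Sylow 2 (Perm (Fin n)))
    (hTP : altImg T ≤ P) (hTP' : altImg T ≤ P') (a b c : Fin n)
    (hab : a ≠ b) (hac : a ≠ c) (hbc : b ≠ c)
    (hτ : swap a b ∈ (P : Subgroup (Perm (Fin n))))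
    (hσ : swap a c ∈ (P' : Subgroup (Perm (Fin n)))) : False := by
  obtain ⟨x, y, hxy, hτ'', hxa, hxb, hxc, hya, hyb, hyc⟩ :=
    exists_swap_avoid hn hSW1 hSW2 P a b c hab hτ
  -- `τ τ''` is even, in `P`, hence in `T' ≤ P'`
  have h1 : swap a b * swap x y ∈ altImg T := by
    rw [← inf_alt_eq T P hTP]
    exact ⟨mul_mem hτ hτ'', swap_mul_swap_mem_alt hab hxy⟩
  have h2 : swap a c * (swap a b * swap x y) ∈ (P' : Subgroup (Perm (Fin n))) :=
    mul_mem hσ (hTP' h1)
  have h3 := mul_mem h2 h2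
  -- commutation
  have c1 : Commute (swap x y) (swap a b) := by
    apply Equiv.Perm.Disjoint.commute
    apply Equiv.Perm.disjoint_swap_swap
    simp [hxy, hxa, hxb, hya, hyb, hab]
  have c2 : Commute (swap x y) (swap a c) := by
    apply Equiv.Perm.Disjoint.commute
    apply Equiv.Perm.disjoint_swap_swap
    simp [hxy, hxa, hxc, hya, hyc, hac]
  have h4 : swap a c * (swap a b * swap x y) * (swap a c * (swap a b * swap x y)) =
      (swap a c * swap a b) * (swap a c * swap a b) := by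
    have e1 : swap a c * (swap a b * swap x y) = swap x y * (swap a c * swap a b) := by
      rw [← mul_assoc, ← mul_assoc, c2.eq, mul_assoc, mul_assoc, c1.eq]
    calc swap a c * (swap a b * swap x y) * (swap a c * (swap a b * swap x y))
        = swap a c * swap a b * swap x y * (swap x y * (swap a c * swap a b)) := by
          conv_rhs => rw [← e1, mul_assoc (swap a c) (swap a b) (swap x y)]
      _ = swap a c * swap a b * (swap x y * swap x y) * (swap a c * swap a b) := by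
          simp only [mul_assoc]
      _ = _ := by rw [swap_mul_self, mul_one]
  rw [h4] at h3
  have h5 : (swap a c * swap a b * (swap a c * swap a b)).IsThreeCycle :=
    (isThreeCycle_swap_mul_swap_same hac hab hbc.symm).isThreeCycle_sq
  have h6 := h5.orderOf
  obtain ⟨k, hk⟩ := P'.isPGroup' ⟨_, h3⟩
  have h7 : (swap a c * swap a b * (swap a c * swap a b)) ^ 2 ^ k = 1 := by
    have := congrArg Subtype.val hk
    simpa using this
  have h8 := orderOf_dvd_of_pow_eq_one h7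
  rw [h6] at h8
  have h9 := Nat.Prime.dvd_of_dvd_pow Nat.prime_three h8
  omega

/-- Lemma G: a transposition of `P` lies in `P'` as soon as `P'` contains a transposition -/
theorem swap_mem_other (hn : 6 ≤ n)
    (hSW1 : ∀ Q : Subgroup (Perm (Fin n)), IsPGroup 2 Q → ∀ a b c d : Fin n, a ≠ b → c ≠ d →
      swap a b ∈ Q → swap c d ∈ Q → swap a b = swap c d ∨ (a ≠ c ∧ a ≠ d ∧ b ≠ c ∧ b ≠ d))
    (hSW2 : ∀ P : Sylow 2 (Perm (Fin n)),
      ∃ f : Fin (Fintype.card (Fin n) / 2) → Fin n × Fin n, (∀ i, (f i).1 ≠ (f i).2) ∧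
      (∀ i, swap (f i).1 (f i).2 ∈ (P : Subgroup (Perm (Fin n)))) ∧
      ∀ i j, i ≠ j → (f i).1 ≠ (f j).1 ∧ (f i).1 ≠ (f j).2 ∧ (f i).2 ≠ (f j).1 ∧ (f i).2 ≠ (f j).2)
    (T : Sylow 2 (alternatingGroup (Fin n))) (P P' : Sylow 2 (Perm (Fin n)))
    (hTP : altImg T ≤ P) (hTP' : altImg T ≤ P') (a b c d : Fin n)
    (hab : a ≠ b) (hcd : c ≠ d)
    (hτ : swap a b ∈ (P : Subgroup (Perm (Fin n))))
    (hσ : swap c d ∈ (P' : Subgroup (Perm (Fin n)))) :
    swap a b ∈ (P' : Subgroup (Perm (Fin n))) := by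
  by_cases hac : a = c
  · subst hac
    by_cases hbd : b = d
    · subst hbd
      exact hσ
    · exact (overlap_false hn hSW1 hSW2 T P P' hTP hTP' a b d hab hcd hbd hτ hσ).elim
  by_cases had : a = d
  · subst had
    rw [swap_comm] at hσ
    by_cases hbc : b = c
    · subst hbc
      exact hσ
    · exact (overlap_false hn hSW1 hSW2 T P P' hTP hTP' a b c hab hcd.symm hbc hτ hσ).elim
  by_cases hbc : b = c
  · subst hbc
    rw [swap_comm] at hτ
    exact (overlap_false hn hSW1 hSW2 T P P' hTP hTP' b a d hab.symm hcd had hτ hσ).elim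
  by_cases hbd : b = d
  · subst hbd
    rw [swap_comm] at hτ hσ
    exact (overlap_false hn hSW1 hSW2 T P P' hTP hTP' b a c hab.symm hcd.symm hac hτ hσ).elim
  -- disjoint case
  have c1 : Commute (swap a b) (swap c d) := by
    apply Equiv.Perm.Disjoint.commute
    apply Equiv.Perm.disjoint_swap_swap
    simp [hab, hac, had, hbc, hbd, hcd]
  have hsq : swap a b * swap c d * (swap a b * swap c d) = 1 := by
    calc swap a b * swap c d * (swap a b * swap c d)
        = swap a b * (swap c d * swap a b) * swap c d := by simp only [mul_assoc]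
      _ = swap a b * (swap a b * swap c d) * swap c d := by rw [c1.eq]
      _ = (swap a b * swap a b) * (swap c d * swap c d) := by simp only [mul_assoc]
      _ = 1 := by rw [swap_mul_self, swap_mul_self, mul_one]
  have hN : swap a b * swap c d ∈ Subgroup.normalizer
      ((altImg T : Subgroup (Perm (Fin n))) : Set (Perm (Fin n))) :=
    mul_mem (mem_normalizer_of_mem T P hTP _ hτ) (mem_normalizer_of_mem T P' hTP' _ hσ)
  have hmem := mem_of_invol_normalizer T _ (swap_mul_swap_mem_alt hab hcd) hN hsq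
  have h1 := mul_mem (hTP' hmem) hσ
  rwa [mul_assoc, swap_mul_self, mul_one] at h1

/-- Lemma H: the Sylow 2-subgroup of `S_n` over `T` is unique -/
theorem sylow_over_unique (hn : 6 ≤ n)
    (hSW1 : ∀ Q : Subgroup (Perm (Fin n)), IsPGroup 2 Q → ∀ a b c d : Fin n, a ≠ b → c ≠ d →
      swap a b ∈ Q → swap c d ∈ Q → swap a b = swap c d ∨ (a ≠ c ∧ a ≠ d ∧ b ≠ c ∧ b ≠ d))
    (hSW2 : ∀ P : Sylow 2 (Perm (Fin n)),
      ∃ f : Fin (Fintype.card (Fin n) / 2) → Fin n × Fin n, (∀ i, (f i).1 ≠ (f i).2) ∧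
      (∀ i, swap (f i).1 (f i).2 ∈ (P : Subgroup (Perm (Fin n)))) ∧
      ∀ i j, i ≠ j → (f i).1 ≠ (f j).1 ∧ (f i).1 ≠ (f j).2 ∧ (f i).2 ≠ (f j).1 ∧ (f i).2 ≠ (f j).2)
    (T : Sylow 2 (alternatingGroup (Fin n))) (P P' : Sylow 2 (Perm (Fin n)))
    (hTP : altImg T ≤ P) (hTP' : altImg T ≤ P') : P' = P := by
  obtain ⟨a, b, hab, hτ⟩ := exists_swap_mem hn hSW2 P
  obtain ⟨c, d, hcd, hσ⟩ := exists_swap_mem hn hSW2 P'
  have hτ' := swap_mem_other hn hSW1 hSW2 T P P' hTP hTP' a b c d hab hcd hτ hσ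
  have hle : (P : Subgroup (Perm (Fin n))) ≤ P' := by
    intro p hp
    rcases Int.units_eq_one_or (sign p) with hs | hs
    · apply hTP'
      rw [← inf_alt_eq T P hTP]
      exact ⟨hp, mem_alternatingGroup.mpr hs⟩
    · have h1 : p * swap a b ∈ altImg T := by
        rw [← inf_alt_eq T P hTP]
        have h0 : p * swap a b ∈ alternatingGroup (Fin n) := by
          rw [mem_alternatingGroup, map_mul, sign_swap hab, hs]
          rfl
        exact ⟨mul_mem hp hτ, h0⟩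
      have h2 := mul_mem (hTP' h1) hτ'
      rwa [mul_assoc, swap_mul_self, mul_one] at h2
  exact Sylow.ext (P.is_maximal' P'.isPGroup' hle)

/-- **K-PrnA-ALT** (keystone 222211): Sylow 2-subgroups of `A_n`, `n ≥ 6`, are self-normalising. -/
theorem alt_sylow_normalizer (n : ℕ) (hn : 6 ≤ n)
    (hNS : ∀ P : Sylow 2 (Perm (Fin n)),
      Subgroup.normalizer ((P : Subgroup (Perm (Fin n))) : Set (Perm (Fin n))) = P)
    (hSW1 : ∀ Q : Subgroup (Perm (Fin n)), IsPGroup 2 Q → ∀ a b c d : Fin n, a ≠ b → c ≠ d →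
      swap a b ∈ Q → swap c d ∈ Q → swap a b = swap c d ∨ (a ≠ c ∧ a ≠ d ∧ b ≠ c ∧ b ≠ d))
    (hSW2 : ∀ P : Sylow 2 (Perm (Fin n)),
      ∃ f : Fin (Fintype.card (Fin n) / 2) → Fin n × Fin n, (∀ i, (f i).1 ≠ (f i).2) ∧
      (∀ i, swap (f i).1 (f i).2 ∈ (P : Subgroup (Perm (Fin n)))) ∧
      ∀ i j, i ≠ j → (f i).1 ≠ (f j).1 ∧ (f i).1 ≠ (f j).2 ∧ (f i).2 ≠ (f j).1 ∧ (f i).2 ≠ (f j).2)
    (T : Sylow 2 (alternatingGroup (Fin n))) :
    Subgroup.normalizer ((T : Subgroup (alternatingGroup (Fin n))) : Set (alternatingGroup (Fin n))) = T := by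
  apply le_antisymm _ Subgroup.le_normalizer
  intro g hg
  have hT'p : IsPGroup 2 (altImg T) := T.isPGroup'.map _
  obtain ⟨P, hTP⟩ := hT'p.exists_le_sylow
  -- `T' ≤ g • P`
  have hTgP : altImg T ≤ (((g : Perm (Fin n)) • P : Sylow 2 (Perm (Fin n))) :
      Subgroup (Perm (Fin n))) := by
    rintro t ht
    obtain ⟨t0, ht0, rfl⟩ := ht
    rw [Sylow.coe_subgroup_smul, Subgroup.mem_pointwise_smul_iff_inv_smul_mem]
    have hginv : g⁻¹ ∈ Subgroup.normalizer
        ((T : Subgroup (alternatingGroup (Fin n))) : Set (alternatingGroup (Fin n))) := inv_mem hg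
    have h1 : g⁻¹ * t0 * g⁻¹⁻¹ ∈ (T : Subgroup (alternatingGroup (Fin n))) :=
      (Subgroup.mem_normalizer_iff.mp hginv t0).mp ht0
    have h2 := hTP ((mem_altImg_coe T _).mpr h1)
    have h3 : (MulAut.conj (g : Perm (Fin n)))⁻¹ • ((alternatingGroup (Fin n)).subtype t0) =
        ((g⁻¹ * t0 * g⁻¹⁻¹ : alternatingGroup (Fin n)) : Perm (Fin n)) := by
      rw [← map_inv, MulAut.smul_def, MulAut.conj_apply]
      simp
    rw [h3]
    exact h2
  have huniq := sylow_over_unique hn hSW1 hSW2 T P _ hTP hTgP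
  have hgN0 : (g : Perm (Fin n)) ∈ Subgroup.normalizer
      ((P : Subgroup (Perm (Fin n))) : Set (Perm (Fin n))) :=
    Sylow.smul_eq_iff_mem_normalizer.mp huniq
  have hgN : (g : Perm (Fin n)) ∈ (P : Subgroup (Perm (Fin n))) := by
    rw [← hNS P]
    exact hgN0
  have hgT' : (g : Perm (Fin n)) ∈ altImg T := by
    rw [← inf_alt_eq T P hTP]
    exact ⟨hgN, g.2⟩
  exact (mem_altImg_coe T g).mp hgT'

end Cfsg.Agent.Lib.Helper82.PrnA
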