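import Mathlib
import Cfsg.Agent.Lib.Helper46.UTiB1
import Cfsg.Agent.Lib.Helper49.UPairArith
import Cfsg.Agent.Lib.Helper98.Ti8
import Cfsg.Agent.Lib.Helper82.OsElO0

/-!
# K-UTi-T2 (keystone 595336, architect helper46), core: `exists_fixed_ti_two_of`

An isometry `X` of determinant one of a nondegenerate hermitian space of dimension `n` whose
square is a scalar fixes a totally isotropic `m`-space when `2 m < n` or
`v_2(q+1) ≤ v_2(n)`.  The existence of totally isotropic subspaces of all admissible
dimensions (leaf B3 of the pack) enters here as a hypothesis.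
-/

set_option autoImplicit false
set_option linter.unusedSectionVars false
set_option linter.unusedVariables false
set_option linter.style.haveILetI false

namespace Cfsg.Agent.Lib.Helper82.UTi

open Module Cfsg.Agent.Lib.Helper98.Elus Cfsg.Agent.Lib.Helper46.UTi

universe u

section det
variable {F : Type*} [Field F]

theorem det_invol {V : Type*} [AddCommGroup V] [Module F V] [FiniteDimensional F V]
    (f : V →ₗ[F] V) (Vp Vm : Submodule F V) (hc : IsCompl Vp Vm)
    (hp : ∀ v ∈ Vp, f v = v) (hm : ∀ v ∈ Vm, f v = -v) :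
    LinearMap.det f = (-1) ^ (Module.finrank F Vm) := by
  classical
  let bp := Module.finBasis F Vp
  let bm := Module.finBasis F Vm
  let b := (bp.prod bm).map (Submodule.prodEquivOfIsCompl Vp Vm hc)
  have hbl : ∀ i, b (Sum.inl i) = (bp i : V) := by
    intro i
    simp [b, Module.Basis.map_apply, Module.Basis.prod_apply, Submodule.coe_prodEquivOfIsCompl']
  have hbr : ∀ j, b (Sum.inr j) = (bm j : V) := by
    intro j
    simp [b, Module.Basis.map_apply, Module.Basis.prod_apply, Submodule.coe_prodEquivOfIsCompl']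
  have hmat : LinearMap.toMatrix b b f =
      Matrix.diagonal (Sum.elim (fun _ => (1 : F)) (fun _ => (-1 : F))) := by
    ext i j
    rw [LinearMap.toMatrix_apply, Matrix.diagonal_apply]
    rcases j with j | j
    · rw [hbl, hp _ (bp j).2, ← hbl, Module.Basis.repr_self, Finsupp.single_apply]
      by_cases h : i = Sum.inl j
      · subst h; simp
      · rw [if_neg h, if_neg (Ne.symm h)]
    · rw [hbr, hm _ (bm j).2, ← hbr, map_neg, Module.Basis.repr_self, Finsupp.neg_apply,
        Finsupp.single_apply]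
      by_cases h : i = Sum.inr j
      · subst h; simp
      · rw [if_neg h, if_neg (Ne.symm h), neg_zero]
  rw [← LinearMap.det_toMatrix b, hmat, Matrix.det_diagonal, Fintype.prod_sum_type]
  simp

end det

variable {F : Type u} [Field F] [Fintype F] {V : Type u} [AddCommGroup V] [Module F V]
  [FiniteDimensional F V] {q : ℕ} {H : V → V → F}

theorem apply_of_mem_V1_two (y : V →ₗ[F] V) (v : V) (hv : v ∈ V1 2 y) : y v = - v := by
  have h1 := (mem_V1 2 y v).mp hv
  rw [gsum_apply, Finset.sum_range_succ, Finset.sum_range_one, pow_zero, pow_one,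
    Module.End.one_apply] at h1
  rw [eq_neg_iff_add_eq_zero, add_comm]
  exact h1

/-- a totally isotropic subspace of a nondegenerate space has at most half the dimension -/
theorem two_mul_finrank_le_top (hF : Fintype.card F = q ^ 2) (hH : IsHerm q H)
    (hV : NonDeg H ⊤) (Z : Submodule F V) (hZ : Ort H Z Z) :
    2 * finrank F Z ≤ finrank F V := by
  have h1 := finrank_orth_inf hF hH Z ⊤ le_top hV
  rw [finrank_top] at h1
  have h2 : Z ≤ orth hH Z ⊓ ⊤ := by
    rw [inf_top_eq]
    exact (ort_iff_le_orth hH Z Z).mp hZ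
  have h3 := Submodule.finrank_mono h2
  omega

/-- **K-UTi-T2**, abstract, with the fact of leaf B3 (`exists_ti`) as a hypothesis. -/
theorem exists_fixed_ti_two_of (hF : Fintype.card F = q ^ 2) (hqodd : Odd q) (hH : IsHerm q H)
    (hV : NonDeg H ⊤)
    (hti : ∀ (s : ℕ) (U : Submodule F V), NonDeg H U → 2 * s ≤ finrank F U →
      ∃ Z : Submodule F V, Z ≤ U ∧ Ort H Z Z ∧ finrank F Z = s)
    (n m : ℕ) (hn : finrank F V = n) (hn0 : n ≠ 0) (hmn : 2 * m ≤ n)
    (hcond : 2 * m < n ∨ padicValNat 2 (q + 1) ≤ padicValNat 2 n)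
    (X : V →ₗ[F] V) (hiso : Iso H X) (hdet : LinearMap.det X = 1) (z : F)
    (hz1 : z ^ (q + 1) = 1) (hX : X ^ 2 = z • (1 : V →ₗ[F] V)) :
    ∃ W : Submodule F V, Inv X W ∧ Ort H W W ∧ finrank F W = m := by
  have h2F : (2 : F) ≠ 0 := Cfsg.Agent.Lib.Helper49.two_ne_zero_of_odd_q hF hqodd
  have hrF : ((2 : ℕ) : F) ≠ 0 := by
    rw [Nat.cast_ofNat]
    exact h2F
  obtain ⟨w, hw2, hw⟩ := Cfsg.Agent.Lib.Helper49.exists_sqrt_of_normOne hF hqodd z hz1
  have hz0 : z ≠ 0 := by
    rintro rfl
    rw [zero_pow (by omega)] at hz1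
    exact zero_ne_one hz1
  have hw0 : w ≠ 0 := by
    rintro rfl
    rw [zero_pow (by omega)] at hw2
    exact hz0 hw2.symm
  set t : V →ₗ[F] V := w⁻¹ • X with ht
  have ht2 : t ^ 2 = 1 := by
    rw [ht, smul_pow, hX, smul_smul, ← hw2, inv_pow, inv_mul_cancel₀ (pow_ne_zero 2 hw0),
      one_smul]
  have hXt : X = w • t := by
    rw [ht, smul_smul, mul_inv_cancel₀ hw0, one_smul]
  have hsum := finrank_V0_add_V1 2 hrF t ht2
  rw [hn] at hsum
  have hX0 : ∀ v ∈ V0 t, X v = w • v := by
    intro v hv
    rw [hXt, LinearMap.smul_apply, (mem_V0 t v).mp hv]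
  have hX1 : ∀ v ∈ V1 2 t, X v = - (w • v) := by
    intro v hv
    rw [hXt, LinearMap.smul_apply, apply_of_mem_V1_two t v hv, smul_neg]
  have hInv0 : ∀ Z : Submodule F V, Z ≤ V0 t → Inv X Z := by
    intro Z hZ v hv
    rw [hX0 v (hZ hv)]
    exact Z.smul_mem w hv
  have hInv1 : ∀ Z : Submodule F V, Z ≤ V1 2 t → Inv X Z := by
    intro Z hZ v hv
    rw [hX1 v (hZ hv)]
    exact Z.neg_mem (Z.smul_mem w hv)
  have htH : ∀ u v, H (t u) (t v) = (w ^ (q + 1))⁻¹ * H u v := by
    intro u v
    rw [ht, LinearMap.smul_apply, LinearMap.smul_apply, hH.smul_left, hH.smul_right, hiso,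
      ← mul_assoc, ← pow_succ', inv_pow]
  rcases hw with hw | hw
  · -- `t` is an isometry
    have hisot : Iso H t := by
      intro u v
      rw [htH, hw, inv_one, one_mul]
    have hort : Ort H (V0 t) (V1 2 t) := by
      intro u hu v hv
      have h1 := hisot u v
      rw [(mem_V0 t u).mp hu, apply_of_mem_V1_two t v hv, hH.neg_right hF] at h1
      have h3 : (2 : F) * H u v = 0 := by
        rw [two_mul]
        nth_rewrite 1 [← h1]
        exact neg_add_cancel _
      exact (mul_eq_zero.mp h3).resolve_left h2F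
    have hsup := V0_sup_V1 2 hrF t ht2
    have hinf := V0_inf_V1 2 hrF t
    have hnd0 : NonDeg H (V0 t) := by
      intro u hu huv
      apply hV u Submodule.mem_top
      intro v _
      have hv : v ∈ V0 t ⊔ V1 2 t := by rw [hsup]; exact Submodule.mem_top
      obtain ⟨v0, hv0, v1, hv1, rfl⟩ := Submodule.mem_sup.mp hv
      rw [hH.add_right hF, huv v0 hv0, hort u hu v1 hv1, add_zero]
    have hnd1 : NonDeg H (V1 2 t) := by
      intro u hu huv
      apply hV u Submodule.mem_top
      intro v _
      have hv : v ∈ V0 t ⊔ V1 2 t := by rw [hsup]; exact Submodule.mem_top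
      obtain ⟨v0, hv0, v1, hv1, rfl⟩ := Submodule.mem_sup.mp hv
      rw [hH.add_right hF, huv v1 hv1,
        (Ort.symm hF hH hort) u hu v0 hv0, add_zero]
    set a := finrank F (V0 t) with ha
    set b := finrank F (V1 2 t) with hb
    by_cases hcase : m ≤ a / 2 + b / 2
    · set zp := min m (a / 2) with hzp
      have hzp_le : zp ≤ m := min_le_left m (a / 2)
      have hzp_le' : zp ≤ a / 2 := min_le_right m (a / 2)
      obtain ⟨Z0, hZ0V, hZ0, hZ0d⟩ := hti zp (V0 t) hnd0 (by omega)
      obtain ⟨Z1, hZ1V, hZ1, hZ1d⟩ := hti (m - zp) (V1 2 t) hnd1 (by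
        rcases le_total m (a / 2) with h | h
        · rw [hzp, min_eq_left h]
          omega
        · rw [hzp, min_eq_right h]
          omega)
      have hZ01 : Ort H Z0 Z1 := fun u hu c hc => hort u (hZ0V hu) c (hZ1V hc)
      refine ⟨Z0 ⊔ Z1, ?_, ?_, ?_⟩
      · intro v hv
        obtain ⟨v0, hv0, v1, hv1, rfl⟩ := Submodule.mem_sup.mp hv
        rw [map_add]
        exact Submodule.add_mem _ (Submodule.mem_sup_left (hInv0 Z0 hZ0V v0 hv0))
          (Submodule.mem_sup_right (hInv1 Z1 hZ1V v1 hv1))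
      · intro u hu v hv
        obtain ⟨u0, hu0, u1, hu1, rfl⟩ := Submodule.mem_sup.mp hu
        obtain ⟨v0, hv0, v1, hv1, rfl⟩ := Submodule.mem_sup.mp hv
        rw [hH.add_left, hH.add_right hF, hH.add_right hF, hZ0 u0 hu0 v0 hv0,
          hZ01 u0 hu0 v1 hv1, (Ort.symm hF hH hZ01) u1 hu1 v0 hv0, hZ1 u1 hu1 v1 hv1]
        simp
      · have hinf' : Z0 ⊓ Z1 = ⊥ := by
          rw [eq_bot_iff, ← hinf]
          exact inf_le_inf hZ0V hZ1V
        have h := Submodule.finrank_sup_add_finrank_inf_eq Z0 Z1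
        rw [hinf', finrank_bot, hZ0d, hZ1d, add_zero] at h
        omega
    · exfalso
      have hbodd : Odd b := by
        rw [Nat.odd_iff]
        omega
      have hnm : 2 * m = n := by omega
      have hv2 : padicValNat 2 (q + 1) ≤ padicValNat 2 n := by
        rcases hcond with h | h
        · omega
        · exact h
      have hc : IsCompl (V0 t) (V1 2 t) :=
        ⟨disjoint_iff.mpr hinf, codisjoint_iff.mpr hsup⟩
      have hdett : LinearMap.det t = (-1) ^ b :=
        det_invol t (V0 t) (V1 2 t) hc (fun v hv => (mem_V0 t v).mp hv)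
          (fun v hv => apply_of_mem_V1_two t v hv)
      rw [hXt, LinearMap.det_smul, hdett, hn, hbodd.neg_one_pow, mul_neg, mul_one] at hdet
      have hwn : w ^ n = -1 := by
        rw [← hdet, neg_neg]
      exact Cfsg.Agent.Lib.Helper49.normOne_pow_ne_neg_one hF hqodd n hn0 hv2 w hw hwn
  · -- `t` negates the form: both eigenspaces are totally isotropic
    have htH' : ∀ u v, H (t u) (t v) = - H u v := by
      intro u v
      rw [htH, hw, inv_neg, inv_one, neg_one_mul]
    have hzero : ∀ c : F, c = - c → c = 0 := by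
      intro c hc
      have h3 : (2 : F) * c = 0 := by
        rw [two_mul]
        nth_rewrite 1 [hc]
        exact neg_add_cancel _
      exact (mul_eq_zero.mp h3).resolve_left h2F
    have hti0 : Ort H (V0 t) (V0 t) := by
      intro u hu v hv
      have h1 := htH' u v
      rw [(mem_V0 t u).mp hu, (mem_V0 t v).mp hv] at h1
      exact hzero _ h1
    have hti1 : Ort H (V1 2 t) (V1 2 t) := by
      intro u hu v hv
      have h1 := htH' u v
      rw [apply_of_mem_V1_two t u hu, apply_of_mem_V1_two t v hv, hH.neg_left,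
        hH.neg_right hF, neg_neg] at h1
      exact hzero _ h1
    have h0 := two_mul_finrank_le_top hF hH hV (V0 t) hti0
    have h1 := two_mul_finrank_le_top hF hH hV (V1 2 t) hti1
    rw [hn] at h0 h1
    obtain ⟨Z, hZV, hZd⟩ := Cfsg.Agent.Lib.Helper98.Ti.exists_sub_finrank (V0 t) m (by omega)
    exact ⟨Z, hInv0 Z hZV, fun u hu v hv => hti0 u (hZV hu) v (hZV hv), hZd⟩

end Cfsg.Agent.Lib.Helper82.UTi
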