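import Mathlib
import Cfsg.Agent.Lib.Helper82.UTiT2a

/-!
# K-UTi-T2 (keystone 595336, architect helper46): concrete form, `exists_ti` as a hypothesis
-/

set_option autoImplicit false
set_option linter.unusedSectionVars false
set_option linter.unusedVariables false
set_option linter.style.haveILetI false

namespace Cfsg.Agent.Lib.Helper82.UTi

open Module Cfsg.Agent.Lib.Helper98.Elus Cfsg.Agent.Lib.Helper46.UTi

universe u

variable {F : Type u} [Field F] [Fintype F] {p : ℕ} [Fact p.Prime] [CharP F p] {q : ℕ}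

theorem odd_q_of_char_ne_two (hq : Fintype.card F = q ^ 2) (hp2 : p ≠ 2) : Odd q := by
  rw [← Nat.not_even_iff_odd]
  intro he
  have h1 : Fintype.card F % 2 = 0 := by
    rw [hq]
    exact Nat.even_iff.mp (he.pow_of_ne_zero two_ne_zero)
  have h2 : ringChar F = 2 := FiniteField.even_card_iff_char_two.mpr h1
  exact hp2 ((ringChar.eq F p).symm.trans h2)

theorem fixesTI_two_of (hq : Fintype.card F = q ^ 2) (hp2 : p ≠ 2) (n m : ℕ) (hn : 3 ≤ n)
    (hm : 1 ≤ m) (hmn : 2 * m ≤ n)
    (hti : ∀ (s : ℕ) (U : Submodule F (Fin n → F)), NonDeg (Cfsg.hermForm n F q) U →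
      2 * s ≤ finrank F U →
      ∃ Z : Submodule F (Fin n → F), Z ≤ U ∧ Ort (Cfsg.hermForm n F q) Z Z ∧ finrank F Z = s)
    (hcond : 2 * m < n ∨ padicValNat 2 (q + 1) ≤ padicValNat 2 n)
    (x : Matrix.SpecialLinearGroup (Fin n) F) (hx : x ∈ Cfsg.SU n F q) (z : F)
    (hz : ((x ^ 2 : Matrix.SpecialLinearGroup (Fin n) F) : Matrix (Fin n) (Fin n) F) =
      z • (1 : Matrix (Fin n) (Fin n) F)) :
    FixesTI n m q (x : Matrix (Fin n) (Fin n) F) := by
  classical
  have hqodd : Odd q := odd_q_of_char_ne_two (p := p) hq hp2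
  have hH := isHerm_hermForm hq n
  have hV := nonDeg_hermForm hq n
  set A : Matrix (Fin n) (Fin n) F := (x : Matrix (Fin n) (Fin n) F) with hA
  have hpres : ∀ u v, Cfsg.hermForm n F q (A.mulVec u) (A.mulVec v) = Cfsg.hermForm n F q u v := by
    intro u v
    exact hx u v
  have hiso : Iso (Cfsg.hermForm n F q) (Matrix.toLin' A) := iso_toLin' n A hpres
  have hdet : LinearMap.det (Matrix.toLin' A) = 1 := by
    rw [LinearMap.det_toLin']
    exact x.det_coe
  have hX : (Matrix.toLin' A) ^ 2 = z • (1 : (Fin n → F) →ₗ[F] (Fin n → F)) := by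
    rw [Matrix.SpecialLinearGroup.coe_pow] at hz
    rw [pow_two, Module.End.mul_eq_comp, ← Matrix.toLin'_mul, ← pow_two, hz, map_smul,
      Matrix.toLin'_one]
    rfl
  have hz1 : z ^ (q + 1) = 1 := by
    have h2 := iso_pow (Matrix.toLin' A) hiso 2 (Pi.single ⟨0, by omega⟩ 1)
      (Pi.single ⟨0, by omega⟩ 1)
    rw [hX, LinearMap.smul_apply, Module.End.one_apply, hH.smul_left, hH.smul_right] at h2
    have h1 : Cfsg.hermForm n F q (Pi.single (⟨0, by omega⟩ : Fin n) (1 : F))
        (Pi.single (⟨0, by omega⟩ : Fin n) (1 : F)) = 1 := by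
      unfold Cfsg.hermForm
      rw [Finset.sum_eq_single (⟨0, by omega⟩ : Fin n)]
      · simp
      · intro j _ hj
        rw [Pi.single_eq_of_ne hj, zero_mul]
      · intro h
        exact absurd (Finset.mem_univ _) h
    rw [h1, mul_one, ← pow_succ'] at h2
    exact h2
  obtain ⟨W, hWinv, hWti, hWd⟩ := exists_fixed_ti_two_of hq hqodd hH hV hti n m
    (by rw [Module.finrank_fin_fun]) (by omega) hmn hcond (Matrix.toLin' A) hiso hdet z hz1 hX
  refine ⟨W, hWd, hWti, ?_⟩
  rintro _ ⟨v, hv, rfl⟩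
  exact hWinv v hv

end Cfsg.Agent.Lib.Helper82.UTi
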