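import Mathlib
import Cfsg.Agent.Lib.Helper82.UTiT2b
import Cfsg.Agent.Lib.Helper63.UTiB3

/-!
# K-UTi-T2 (keystone 595336, architect helper46): `fixesTI_two`, exact signature of the spec
-/

set_option autoImplicit false
set_option linter.unusedSectionVars false
set_option linter.unusedVariables false
set_option linter.style.haveILetI false

namespace Cfsg.Agent.Lib.Helper82.UTi

open Module Cfsg.Agent.Lib.Helper98.Elus Cfsg.Agent.Lib.Helper46.UTi

universe u

variable {F : Type u} [Field F] [Fintype F] {p : ℕ} [Fact p.Prime] [CharP F p] {q : ℕ}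

/-- **K-UTi-T2 (595336)** `r = 2`, existence. -/
theorem fixesTI_two (hq : Fintype.card F = q ^ 2) (hp2 : p ≠ 2) (n m : ℕ) (hn : 3 ≤ n)
    (hm : 1 ≤ m) (hmn : 2 * m ≤ n)
    (hcond : 2 * m < n ∨ padicValNat 2 (q + 1) ≤ padicValNat 2 n)
    (x : Matrix.SpecialLinearGroup (Fin n) F) (hx : x ∈ Cfsg.SU n F q) (z : F)
    (hz : ((x ^ 2 : Matrix.SpecialLinearGroup (Fin n) F) : Matrix (Fin n) (Fin n) F) =
      z • (1 : Matrix (Fin n) (Fin n) F)) :
    FixesTI n m q (x : Matrix (Fin n) (Fin n) F) :=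
  fixesTI_two_of (p := p) hq hp2 n m hn hm hmn
    (Cfsg.Agent.Lib.Helper63.UTi.exists_ti hq (isHerm_hermForm hq n)) hcond x hx z hz

end Cfsg.Agent.Lib.Helper82.UTi
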