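import Mathlib

/-!
# K-StO-O12 (keystone 254727, architect helper48, S2547): `p`-elements lie in a normal subgroup of
index 4 (`p` odd); `H ⊔ T = ⊤`.
-/

set_option autoImplicit false
set_option linter.unusedSectionVars false
set_option linter.unusedVariables false
set_option linter.style.haveILetI false

namespace Cfsg.Agent.Lib.Helper82.StO

theorem mem_of_pow_prime_pow_eq_one {G : Type*} [Group G] (H : Subgroup G) [H.Normal]
    (hidx : H.index = 4) (p : ℕ) (hp : p.Prime) (hp2 : p ≠ 2) (g : G) (k : ℕ)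
    (hg : g ^ (p ^ k) = 1) : g ∈ H := by
  have hcard : Nat.card (G ⧸ H) = 4 := by
    rw [← Subgroup.index_eq_card]
    exact hidx
  have hfin : Finite (G ⧸ H) := Nat.finite_of_card_ne_zero (by rw [hcard]; norm_num)
  have h1 : ((g : G ⧸ H)) ^ (p ^ k) = 1 := by
    rw [← QuotientGroup.mk_pow, hg]
    rfl
  have h2 : ((g : G ⧸ H)) ^ 4 = 1 := by
    rw [← hcard]
    exact pow_card_eq_one'
  have h3 : ((g : G ⧸ H)) ^ Nat.gcd (p ^ k) 4 = 1 := pow_gcd_eq_one.mpr ⟨h1, h2⟩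
  have hcop : Nat.gcd (p ^ k) 4 = 1 := by
    have h4 : Nat.Coprime p 2 := (Nat.coprime_primes hp Nat.prime_two).mpr hp2
    have h5 : Nat.Coprime (p ^ k) (2 ^ 2) := Nat.Coprime.pow k 2 h4
    exact h5
  rw [hcop, pow_one] at h3
  exact (QuotientGroup.eq_one_iff g).mp h3

theorem sup_eq_top_of_index_four {G : Type*} [Group G] (H T B Bm : Subgroup G) [H.Normal]
    (hidx : H.index = 4) (p : ℕ) (hp : p.Prime) (hp2 : p ≠ 2)
    (hB : ∀ b ∈ B, ∃ d ∈ T, ∃ k : ℕ, (b * d⁻¹) ^ (p ^ k) = 1)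
    (hBm : ∀ b ∈ Bm, ∃ d ∈ T, ∃ k : ℕ, (b * d⁻¹) ^ (p ^ k) = 1)
    (hgen : B ⊔ Bm = ⊤) : H ⊔ T = ⊤ := by
  have key : ∀ X : Subgroup G, (∀ b ∈ X, ∃ d ∈ T, ∃ k : ℕ, (b * d⁻¹) ^ (p ^ k) = 1) →
      X ≤ H ⊔ T := by
    intro X hX b hb
    obtain ⟨d, hd, k, hk⟩ := hX b hb
    have h1 : b * d⁻¹ ∈ H := mem_of_pow_prime_pow_eq_one H hidx p hp hp2 _ k hk
    have h2 : b = (b * d⁻¹) * d := by group
    rw [h2]
    exact mul_mem (Subgroup.mem_sup_left h1) (Subgroup.mem_sup_right hd)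
  rw [eq_top_iff, ← hgen]
  exact sup_le (key B hB) (key Bm hBm)

end Cfsg.Agent.Lib.Helper82.StO
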