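import Mathlib
import Cfsg.Prelude.Def_Classical
import Cfsg.Prelude.Def_GeometricClasses

/-!
# K-SLO-11 (keystone 598111, architect helper49): `special_pow_eq_one`

`n = r` an odd prime with `(q - 1)_r = r`: if `x ∈ SL_r(q)` and `x ^ r = z` is scalar then `z = 1`.
-/

set_option autoImplicit false
set_option linter.unusedSectionVars false
set_option linter.unusedVariables false
set_option linter.style.haveILetI false

namespace Cfsg.Agent.Lib.Helper82.SLO

open Matrix Polynomial

variable {F : Type*} [Field F] [Fintype F]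

/-- in a finite field with `v_r(q - 1) = 1`, an element `z ≠ 1` with `z ^ r = 1` is not an
`r`-th power -/
theorem not_pow_of_padicVal_one (r : ℕ) [Fact r.Prime]
    (hv : padicValNat r (Fintype.card F - 1) = 1) {z : F} (hzr : z ^ r = 1) (hz1 : z ≠ 1)
    (b : F) : b ^ r ≠ z := by
  intro hb
  have hr : r.Prime := Fact.out
  have hb0 : b ≠ 0 := by
    rintro rfl
    rw [zero_pow hr.ne_zero] at hb
    rw [← hb, zero_pow hr.ne_zero] at hzr
    exact zero_ne_one hzr
  have h1 : b ^ (r ^ 2) = 1 := by rw [pow_two, pow_mul, hb, hzr]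
  have h2 : orderOf b ∣ r ^ 2 := orderOf_dvd_of_pow_eq_one h1
  obtain ⟨m, hm, hom⟩ := (Nat.dvd_prime_pow hr).mp h2
  have hm2 : m = 2 := by
    by_contra hne
    have hm1 : m ≤ 1 := by omega
    have : orderOf b ∣ r := by
      rw [hom]
      calc r ^ m ∣ r ^ 1 := pow_dvd_pow r hm1
        _ = r := pow_one r
    have hbr : b ^ r = 1 := orderOf_dvd_iff_pow_eq_one.mp this
    exact hz1 (hb ▸ hbr)
  have h3 : orderOf b ∣ Fintype.card F - 1 :=
    orderOf_dvd_of_pow_eq_one (FiniteField.pow_card_sub_one_eq_one b hb0)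
  rw [hom, hm2] at h3
  rcases (padicValNat_dvd_iff 2 (Fintype.card F - 1)).mp h3 with h | h
  · rw [h] at hv
    simp at hv
  · omega

/-- **K-SLO-11** -/
theorem special_pow_eq_one (r : ℕ) [Fact r.Prime] (hr2 : r ≠ 2)
    (hv : padicValNat r (Fintype.card F - 1) = 1) (x : GL (Fin r) F)
    (hx : x ∈ Cfsg.Geo.specialLinear (Fin r) F) (z : F)
    (hz : ((x ^ r : GL (Fin r) F) : Matrix (Fin r) (Fin r) F) =
      z • (1 : Matrix (Fin r) (Fin r) F)) : z = 1 := by
  classical
  have hr : r.Prime := Fact.out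
  haveI : NeZero r := ⟨hr.ne_zero⟩
  have hrodd : Odd r := hr.odd_of_ne_two hr2
  set X : Matrix (Fin r) (Fin r) F := (x : Matrix (Fin r) (Fin r) F) with hX
  have hXr : X ^ r = z • (1 : Matrix (Fin r) (Fin r) F) := by
    rw [← hz, Units.val_pow_eq_pow_val]
  have hdet : X.det = 1 := by
    have h1 : Matrix.GeneralLinearGroup.det x = 1 := hx
    have h2 := congrArg Units.val h1
    simpa using h2
  have hzr : z ^ r = 1 := by
    have h1 := congrArg Matrix.det hXr
    rw [Matrix.det_pow, hdet, one_pow, Matrix.det_smul, Matrix.det_one, mul_one,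
      Fintype.card_fin] at h1
    exact h1.symm
  by_contra hz1
  have hirr : Irreducible (Polynomial.X ^ r - Polynomial.C z : F[X]) :=
    X_pow_sub_C_irreducible_of_prime hr (not_pow_of_padicVal_one r hv hzr hz1)
  have hmonic : (Polynomial.X ^ r - Polynomial.C z : F[X]).Monic :=
    Polynomial.monic_X_pow_sub_C z hr.ne_zero
  have haeval : Polynomial.aeval X (Polynomial.X ^ r - Polynomial.C z : F[X]) = 0 := by
    rw [map_sub, map_pow, Polynomial.aeval_X, Polynomial.aeval_C, hXr,
      Algebra.algebraMap_eq_smul_one, sub_self]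
  have hmin : (Polynomial.X ^ r - Polynomial.C z : F[X]) = minpoly F X :=
    minpoly.eq_of_irreducible_of_monic hirr haeval hmonic
  have hdvd : (Polynomial.X ^ r - Polynomial.C z : F[X]) ∣ X.charpoly := by
    rw [hmin]; exact Matrix.minpoly_dvd_charpoly X
  have hdeg : X.charpoly.natDegree ≤ (Polynomial.X ^ r - Polynomial.C z : F[X]).natDegree := by
    rw [Matrix.charpoly_natDegree_eq_dim, Fintype.card_fin, Polynomial.natDegree_X_pow_sub_C]
  have hchar : X.charpoly = Polynomial.X ^ r - Polynomial.C z :=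
    Polynomial.eq_of_monic_of_dvd_of_natDegree_le hmonic (Matrix.charpoly_monic X) hdvd hdeg
  have hdet2 := Matrix.det_eq_sign_charpoly_coeff X
  rw [hchar, Fintype.card_fin, hrodd.neg_one_pow, Polynomial.coeff_sub, Polynomial.coeff_X_pow,
    Polynomial.coeff_C_zero, if_neg (Ne.symm hr.ne_zero), hdet] at hdet2
  apply hz1
  have : (1 : F) = z := by rw [hdet2]; ring
  exact this.symm

end Cfsg.Agent.Lib.Helper82.SLO
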