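import Mathlib

/-!
# K-SUB-2 (keystone 596502, architect helper49): the rank of a matrix does not change under a
field extension.
-/

set_option autoImplicit false
set_option linter.unusedSectionVars false
set_option linter.unusedVariables false
set_option linter.style.haveILetI false

namespace Cfsg.Agent.Lib.Helper82.SUB

open Matrix

/-- The rank of a square matrix over a field does not change under a field extension. -/
theorem rank_map_field_sq {K L : Type*} [Field K] [Field L] (f : K →+* L) {n : Type*} [Fintype n]
    [DecidableEq n] (A : Matrix n n K) : (A.map f).rank = A.rank := by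
  classical
  obtain ⟨L₁, L₂, D, hA⟩ := Matrix.Pivot.exists_list_transvec_mul_diagonal_mul_list_transvec A
  set P := (L₁.map Matrix.TransvectionStruct.toMatrix).prod with hP
  set Q := (L₂.map Matrix.TransvectionStruct.toMatrix).prod with hQ
  have hPdet : P.det = 1 := Matrix.TransvectionStruct.det_toMatrix_prod L₁
  have hQdet : Q.det = 1 := Matrix.TransvectionStruct.det_toMatrix_prod L₂
  have h1 : A.rank = (Matrix.diagonal D).rank := by
    rw [hA, Matrix.rank_mul_eq_left_of_isUnit_det Q _ (by rw [hQdet]; exact isUnit_one),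
      Matrix.rank_mul_eq_right_of_isUnit_det P _ (by rw [hPdet]; exact isUnit_one)]
  have hmap : A.map f = P.map f * Matrix.diagonal (fun i => f (D i)) * Q.map f := by
    rw [hA, Matrix.map_mul, Matrix.map_mul, Matrix.diagonal_map (map_zero f)]
  have hPdet' : (P.map f).det = 1 := by
    have := RingHom.map_det f P
    rw [RingHom.mapMatrix_apply] at this
    rw [← this, hPdet, map_one]
  have hQdet' : (Q.map f).det = 1 := by
    have := RingHom.map_det f Q
    rw [RingHom.mapMatrix_apply] at this
    rw [← this, hQdet, map_one]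
  have h2 : (A.map f).rank = (Matrix.diagonal (fun i => f (D i))).rank := by
    rw [hmap, Matrix.rank_mul_eq_left_of_isUnit_det (Q.map f) _ (by rw [hQdet']; exact isUnit_one),
      Matrix.rank_mul_eq_right_of_isUnit_det (P.map f) _ (by rw [hPdet']; exact isUnit_one)]
  rw [h1, h2, Matrix.rank_diagonal, Matrix.rank_diagonal]
  refine Fintype.card_congr (Equiv.subtypeEquivRight fun i => ?_)
  exact map_ne_zero f

/-- padding a rectangular matrix to a square one does not change the rank -/
theorem rank_pad {K : Type*} [Field K] {m n : ℕ} (N : Matrix (Fin m) (Fin n) K) :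
    (Matrix.fromBlocks (0 : Matrix (Fin m) (Fin m) K) N (0 : Matrix (Fin n) (Fin m) K)
      (0 : Matrix (Fin n) (Fin n) K)).rank = N.rank := by
  apply le_antisymm
  · have h : Matrix.fromBlocks (0 : Matrix (Fin m) (Fin m) K) N (0 : Matrix (Fin n) (Fin m) K)
        (0 : Matrix (Fin n) (Fin n) K) =
        (Matrix.fromRows (1 : Matrix (Fin m) (Fin m) K) (0 : Matrix (Fin n) (Fin m) K) * N) *
          Matrix.fromCols (0 : Matrix (Fin n) (Fin m) K) (1 : Matrix (Fin n) (Fin n) K) := by
      rw [Matrix.fromRows_mul, Matrix.fromRows_mul_fromCols]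
      simp
    rw [h]
    exact (Matrix.rank_mul_le_left _ _).trans (Matrix.rank_mul_le_right _ _)
  · have h : N = Matrix.fromCols (1 : Matrix (Fin m) (Fin m) K) (0 : Matrix (Fin m) (Fin n) K) *
        Matrix.fromBlocks (0 : Matrix (Fin m) (Fin m) K) N (0 : Matrix (Fin n) (Fin m) K)
          (0 : Matrix (Fin n) (Fin n) K) *
        Matrix.fromRows (0 : Matrix (Fin m) (Fin n) K) (1 : Matrix (Fin n) (Fin n) K) := by
      rw [← Matrix.fromRows_fromCols_eq_fromBlocks, Matrix.fromCols_mul_fromRows,
        Matrix.one_mul, Matrix.zero_mul, add_zero, Matrix.fromCols_mul_fromRows,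
        Matrix.zero_mul, Matrix.mul_one, zero_add]
    conv_lhs => rw [h]
    exact (Matrix.rank_mul_le_left _ _).trans (Matrix.rank_mul_le_right _ _)

/-- **K-SUB-2** -/
theorem rank_map_field {K L : Type*} [Field K] [Field L] (j : K →+* L) {m n : ℕ}
    (N : Matrix (Fin m) (Fin n) K) : (N.map j).rank = N.rank := by
  rw [← rank_pad N, ← rank_pad (N.map j), ← rank_map_field_sq j]
  congr 1
  rw [Matrix.fromBlocks_map]
  simp

end Cfsg.Agent.Lib.Helper82.SUB
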