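import Cfsg.Agent.Lib.Helper50.SpinorCrit
import Cfsg.Agent.Lib.Helper50.StdForms
import Cfsg.Agent.Lib.Helper50.GeoBridge
import Cfsg.Agent.Lib.Helper50.PlusForm
import Cfsg.Agent.Lib.Helper63.OhA
import Cfsg.Agent.Lib.Helper13.OPb15
import Cfsg.Agent.Lib.Helper98.Os1

set_option autoImplicit false
set_option linter.unusedSimpArgs false
set_option linter.unusedSectionVars false
set_option linter.unusedVariables false
set_option linter.style.haveILetI false

/-!
# K-OTs-TC1 (keystone 597334, sub-architect helper50, S5973): the bad involution of `Ω⁺_(2d)(q)`, `q ≡ 3 mod 4`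

`x = r_u r_v` (`u = e₀ + f₀`, `v = e₁ + f₁`) lies in `Ω (quadFormPlus d F)`, is an involution, is not scalar and fixes no
totally singular `(d-1)`-space.
-/

namespace Cfsg.Agent.Lib.Helper82.OTs

open Module Cfsg.Agent.Lib.Helper19 Cfsg.Agent.Lib.Helper50 Cfsg.Agent.Lib.Helper98.Sy
  Cfsg.Agent.Lib.Helper98.Oh

universe u
variable {F : Type u} [Field F]

section generic

variable {ι : Type} [Fintype ι] [DecidableEq ι]

/-- `r_u r_v` on a vector, for orthogonal `u, v` with `Q u = Q v = 1` -/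
theorem refl_pair_apply' (Q : QuadraticForm F (ι → F)) (u v : ι → F) (hu : Q u = 1) (hv : Q v = 1)
    (huv : QuadraticMap.polar (⇑Q) u v = 0) (w : ι → F) :
    reflLin Q u (reflLin Q v w) =
      w - QuadraticMap.polar (⇑Q) u w • u - QuadraticMap.polar (⇑Q) v w • v := by
  rw [reflLin_apply Q v, reflLin_apply Q u, hu, hv, inv_one, one_mul, one_mul,
    QuadraticMap.polar_sub_right, QuadraticMap.polar_smul_right, huv, smul_eq_mul, mul_zero,
    sub_zero]
  abel

/-- the quadratic form on the plane spanned by `u, v` -/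
theorem map_pair' (Q : QuadraticForm F (ι → F)) (u v : ι → F) (hu : Q u = 1) (hv : Q v = 1)
    (huv : QuadraticMap.polar (⇑Q) u v = 0) (a b : F) :
    Q (a • u + b • v) = a * a + b * b := by
  have h1 : Q (a • u + b • v) = Q (a • u) + Q (b • v) + QuadraticMap.polar (⇑Q) (a • u) (b • v) := by
    simp only [QuadraticMap.polar]; ring
  rw [h1, QuadraticMap.map_smul, QuadraticMap.map_smul, QuadraticMap.polar_smul_left,
    QuadraticMap.polar_smul_right, huv, hu, hv]
  simp

theorem sq_add_sq_eq_zero' (hm1 : ¬ IsSquare (-1 : F)) (a b : F) (h : a * a + b * b = 0) :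
    a = 0 ∧ b = 0 := by
  by_cases hb : b = 0
  · rw [hb, mul_zero, add_zero] at h
    exact ⟨mul_self_eq_zero.mp h, hb⟩
  · exfalso
    apply hm1
    refine ⟨a / b, ?_⟩
    field_simp
    linear_combination -h

end generic

/-- the bad involution, plus type -/
theorem exists_bad_involution_plus [Fintype F] (hq3 : Fintype.card F % 4 = 3) (d : ℕ) (hd : 2 ≤ d) :
    ∃ x : Matrix.GeneralLinearGroup (Fin d ⊕ Fin d) F, x ∈ Cfsg.Geo.omegaGL (Cfsg.quadFormPlus d F) ∧
      (x : Matrix (Fin d ⊕ Fin d) (Fin d ⊕ Fin d) F) * (x : Matrix (Fin d ⊕ Fin d) (Fin d ⊕ Fin d) F) = 1 ∧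
      (∀ z : F, (x : Matrix (Fin d ⊕ Fin d) (Fin d ⊕ Fin d) F) ≠ z • (1 : Matrix (Fin d ⊕ Fin d) (Fin d ⊕ Fin d) F)) ∧
      ∀ W : Submodule F (Fin d ⊕ Fin d → F), finrank F W = d - 1 →
        (∀ w ∈ W, Cfsg.quadFormPlus d F w = 0) →
        ¬ W.map (Matrix.toLin' (x : Matrix (Fin d ⊕ Fin d) (Fin d ⊕ Fin d) F)) ≤ W := by
  classical
  have hqodd : Odd (Fintype.card F) := by
    rw [Nat.odd_iff]; omega
  have h2 : (2 : F) ≠ 0 := two_ne_zero_of_odd_card rfl hqodd
  have hm1 : ¬ IsSquare (-1 : F) := by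
    rw [FiniteField.isSquare_neg_one_iff]
    omega
  obtain ⟨Q, hQdef⟩ : ∃ Q : QuadraticForm F (Fin d ⊕ Fin d → F), Q = QPlus d F := ⟨_, rfl⟩
  have hcoe : ⇑Q = Cfsg.quadFormPlus d F := by rw [hQdef]; rfl
  have hQnd : (QuadraticMap.polarBilin Q).Nondegenerate := by
    rw [hQdef]
    exact QPlus_nondegenerate
  have hQapp : ∀ x : Fin d ⊕ Fin d → F, Q x = ∑ i : Fin d, x (Sum.inl i) * x (Sum.inr i) := by
    intro x
    rw [hQdef]
    rfl
  have hpolar : ∀ a b : Fin d ⊕ Fin d → F, QuadraticMap.polar (⇑Q) a b =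
      ∑ i : Fin d, (a (Sum.inl i) * b (Sum.inr i) + a (Sum.inr i) * b (Sum.inl i)) := by
    intro a b
    rw [hQdef]
    exact polar_QPlus a b
  -- the two vectors
  have i0 : Fin d := ⟨0, by omega⟩
  have i1' : ∃ i1 : Fin d, i1 ≠ i0 := by
    by_cases h : i0 = ⟨0, by omega⟩
    · exact ⟨⟨1, by omega⟩, by rw [h]; intro h'; simp [Fin.ext_iff] at h'⟩
    · exact ⟨⟨0, by omega⟩, fun h' => h h'.symm⟩
  obtain ⟨i1, h10⟩ := i1'
  obtain ⟨u, hudef⟩ : ∃ u : Fin d ⊕ Fin d → F,
      u = Pi.single (Sum.inl i0) 1 + Pi.single (Sum.inr i0) 1 := ⟨_, rfl⟩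
  obtain ⟨v, hvdef⟩ : ∃ v : Fin d ⊕ Fin d → F,
      v = Pi.single (Sum.inl i1) 1 + Pi.single (Sum.inr i1) 1 := ⟨_, rfl⟩
  obtain ⟨w0, hw0def⟩ : ∃ w0 : Fin d ⊕ Fin d → F,
      w0 = Pi.single (Sum.inl i0) 1 - Pi.single (Sum.inr i0) 1 := ⟨_, rfl⟩
  have hu_inl : ∀ i, u (Sum.inl i) = if i = i0 then 1 else 0 := by
    intro i; rw [hudef]; simp [Pi.single_apply]
  have hu_inr : ∀ i, u (Sum.inr i) = if i = i0 then 1 else 0 := by
    intro i; rw [hudef]; simp [Pi.single_apply]
  have hv_inl : ∀ i, v (Sum.inl i) = if i = i1 then 1 else 0 := by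
    intro i; rw [hvdef]; simp [Pi.single_apply]
  have hv_inr : ∀ i, v (Sum.inr i) = if i = i1 then 1 else 0 := by
    intro i; rw [hvdef]; simp [Pi.single_apply]
  have hw0_inl : ∀ i, w0 (Sum.inl i) = if i = i0 then 1 else 0 := by
    intro i; rw [hw0def]; simp [Pi.single_apply]
  have hw0_inr : ∀ i, w0 (Sum.inr i) = if i = i0 then -1 else 0 := by
    intro i; rw [hw0def]; simp only [Pi.sub_apply, Pi.single_apply]
    split_ifs <;> simp_all
  have hQu : Q u = 1 := by
    rw [hQapp]
    simp [hu_inl, hu_inr]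
  have hQv : Q v = 1 := by
    rw [hQapp]
    simp [hv_inl, hv_inr]
  have huv : QuadraticMap.polar (⇑Q) u v = 0 := by
    rw [hpolar]
    apply Finset.sum_eq_zero
    intro i _
    rw [hu_inl, hu_inr, hv_inl, hv_inr]
    by_cases h : i = i0
    · subst h
      simp [Ne.symm h10]
    · simp [h]
  have hvu : QuadraticMap.polar (⇑Q) v u = 0 := by rw [QuadraticMap.polar_comm]; exact huv
  have huw0 : QuadraticMap.polar (⇑Q) u w0 = 0 := by
    rw [hpolar]
    apply Finset.sum_eq_zero
    intro i _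
    rw [hu_inl, hu_inr, hw0_inl, hw0_inr]
    by_cases h : i = i0
    · simp [h]
    · simp [h]
  have hvw0 : QuadraticMap.polar (⇑Q) v w0 = 0 := by
    rw [hpolar]
    apply Finset.sum_eq_zero
    intro i _
    rw [hv_inl, hv_inr, hw0_inl, hw0_inr]
    by_cases h : i = i0
    · subst h
      simp [Ne.symm h10]
    · simp [h]
  have hw0ne : w0 ≠ 0 := by
    intro h
    have h1 := hw0_inl i0
    rw [h, if_pos rfl] at h1
    exact zero_ne_one h1
  have hu0 : Q u ≠ 0 := by rw [hQu]; exact one_ne_zero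
  have hv0 : Q v ≠ 0 := by rw [hQv]; exact one_ne_zero
  have hpuu : QuadraticMap.polar (⇑Q) u u = 2 := by
    rw [QuadraticMap.polar_self, hQu]; simp
  have hpvv : QuadraticMap.polar (⇑Q) v v = 2 := by
    rw [QuadraticMap.polar_self, hQv]; simp
  have hune : u ≠ 0 := by
    intro h
    rw [h, QuadraticMap.map_zero] at hQu
    exact zero_ne_one hQu
  -- the element
  have hmem : reflO Q u * reflO Q v ∈ commutator ↥(Cfsg.isometryGroup F (⇑Q)) :=
    reflO_mul_mem_commutator h2 Q u v hu0 hv0 ⟨1, by rw [hQu, hQv]⟩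
  obtain ⟨g, hgdef⟩ : ∃ g : ↥(Cfsg.isometryGroup F (⇑Q)), g = reflO Q u * reflO Q v := ⟨_, rfl⟩
  have hgval : ((g : Matrix.GeneralLinearGroup (Fin d ⊕ Fin d) F) :
      Matrix (Fin d ⊕ Fin d) (Fin d ⊕ Fin d) F) =
      Cfsg.reflectionMatrix (⇑Q) u * Cfsg.reflectionMatrix (⇑Q) v := by
    rw [hgdef, Subgroup.coe_mul, Units.val_mul, reflO_val Q u hu0, reflO_val Q v hv0]
  have hgapply : ∀ w, Matrix.toLin' ((g : Matrix.GeneralLinearGroup (Fin d ⊕ Fin d) F) :
      Matrix (Fin d ⊕ Fin d) (Fin d ⊕ Fin d) F) w =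
      w - QuadraticMap.polar (⇑Q) u w • u - QuadraticMap.polar (⇑Q) v w • v := by
    intro w
    rw [hgval, Matrix.toLin'_mul, LinearMap.comp_apply, toLin'_reflectionMatrix,
      toLin'_reflectionMatrix]
    exact refl_pair_apply' Q u v hQu hQv huv w
  have hgΩ : (g : Matrix.GeneralLinearGroup (Fin d ⊕ Fin d) F) ∈
      Cfsg.Geo.omegaGL (Cfsg.quadFormPlus d F) := by
    rw [← hcoe]
    apply coe_mem_omegaGL
    rw [hgdef]
    exact hmem
  refine ⟨(g : Matrix.GeneralLinearGroup (Fin d ⊕ Fin d) F), hgΩ, ?_, ?_, ?_⟩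
  · -- involution
    apply Matrix.toLin'.injective
    rw [Matrix.toLin'_mul, Matrix.toLin'_one]
    apply LinearMap.ext
    intro w
    have h1 := hgapply w
    have h3 := hgapply (w - QuadraticMap.polar (⇑Q) u w • u - QuadraticMap.polar (⇑Q) v w • v)
    rw [LinearMap.comp_apply, LinearMap.id_apply, h1, h3]
    simp only [QuadraticMap.polar_sub_right, QuadraticMap.polar_smul_right, hpuu, hpvv, huv, hvu,
      smul_eq_mul, mul_zero, sub_zero]
    have e1 : QuadraticMap.polar (⇑Q) u w - QuadraticMap.polar (⇑Q) u w * 2 =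
        - QuadraticMap.polar (⇑Q) u w := by ring
    have e2 : QuadraticMap.polar (⇑Q) v w - QuadraticMap.polar (⇑Q) v w * 2 =
        - QuadraticMap.polar (⇑Q) v w := by ring
    rw [e1, e2, neg_smul, neg_smul]
    abel
  · -- not scalar
    intro z hz
    have h1 := hgapply u
    have h3 := hgapply w0
    rw [hz, map_smul, Matrix.toLin'_one, LinearMap.smul_apply, LinearMap.id_apply] at h1 h3
    rw [hpuu, hvu, zero_smul, sub_zero] at h1
    rw [huw0, hvw0, zero_smul, zero_smul, sub_zero, sub_zero] at h3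
    -- `z • w0 = w0`, so `z = 1`
    have hz1 : z = 1 := by
      have h4 : (z - 1) • w0 = 0 := by rw [sub_smul, one_smul, h3, sub_self]
      rcases smul_eq_zero.mp h4 with h | h
      · exact sub_eq_zero.mp h
      · exact absurd h hw0ne
    rw [hz1, one_smul] at h1
    have h5 : (2 : F) • u = 0 := by
      have h4 : u - (u - (2 : F) • u) = 0 := by rw [← h1, sub_self]
      rwa [sub_sub_cancel] at h4
    rcases smul_eq_zero.mp h5 with h | h
    · exact h2 h
    · exact hune h
  · -- no invariant totally singular `(d-1)`-space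
    intro W hWd hWts hWinv
    have hWQ : ∀ w ∈ W, Q w = 0 := by
      intro w hw; rw [hcoe]; exact hWts w hw
    -- `W` is orthogonal to `u` and `v`
    have hperp : ∀ w ∈ W, QuadraticMap.polar (⇑Q) u w = 0 ∧ QuadraticMap.polar (⇑Q) v w = 0 := by
      intro w hw
      have h1 : Matrix.toLin' ((g : Matrix.GeneralLinearGroup (Fin d ⊕ Fin d) F) :
          Matrix (Fin d ⊕ Fin d) (Fin d ⊕ Fin d) F) w ∈ W :=
        hWinv (Submodule.mem_map_of_mem hw)
      have h3 : QuadraticMap.polar (⇑Q) u w • u + QuadraticMap.polar (⇑Q) v w • v ∈ W := by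
        have h4 := W.sub_mem hw h1
        rw [hgapply w] at h4
        have e : w - (w - QuadraticMap.polar (⇑Q) u w • u - QuadraticMap.polar (⇑Q) v w • v) =
            QuadraticMap.polar (⇑Q) u w • u + QuadraticMap.polar (⇑Q) v w • v := by abel
        rwa [e] at h4
      have h5 := hWQ _ h3
      rw [map_pair' Q u v hQu hQv huv] at h5
      exact sq_add_sq_eq_zero' hm1 _ _ h5
    -- the plane
    obtain ⟨B, hBdef⟩ : ∃ B : LinearMap.BilinForm F (Fin d ⊕ Fin d → F),
        B = QuadraticMap.polarBilin Q := ⟨_, rfl⟩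
    have hBapp : ∀ a b, B a b = QuadraticMap.polar (⇑Q) a b := by
      intro a b; rw [hBdef]; rfl
    have hS : ∀ a b, B a b = B b a := by
      intro a b
      rw [hBapp, hBapp, QuadraticMap.polar_comm]
    have hR : B.IsRefl := Cfsg.Agent.Lib.Helper98.Os.isRefl_of_symm hS
    have hV : NonDeg B ⊤ := by
      rw [hBdef]
      exact Cfsg.Agent.Lib.Helper13.OPb.nonDeg_top_of_nondegenerate Q hQnd
    obtain ⟨P, hPdef⟩ : ∃ P : Submodule F (Fin d ⊕ Fin d → F),
        P = Submodule.span F {u, v} := ⟨_, rfl⟩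
    have hPmem : ∀ z ∈ P, ∃ a b : F, z = a • u + b • v := by
      intro z hz
      rw [hPdef, Submodule.mem_span_pair] at hz
      obtain ⟨a, b, rfl⟩ := hz
      exact ⟨a, b, rfl⟩
    have huP : u ∈ P := by
      rw [hPdef]; exact Submodule.subset_span (by simp)
    have hvP : v ∈ P := by
      rw [hPdef]; exact Submodule.subset_span (by simp)
    have hli : LinearIndependent F ![u, v] := by
      rw [LinearIndependent.pair_iff]
      intro a b hab
      have h5 := map_pair' Q u v hQu hQv huv a b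
      rw [hab, QuadraticMap.map_zero] at h5
      exact sq_add_sq_eq_zero' hm1 a b h5.symm
    have hPd : finrank F P = 2 := by
      rw [hPdef]
      have : ({u, v} : Set (Fin d ⊕ Fin d → F)) = Set.range ![u, v] := by
        ext z; simp [eq_comm, or_comm]
      rw [this, finrank_span_eq_card hli, Fintype.card_fin]
    have hPnd : NonDeg B P := by
      intro z hz hzP
      obtain ⟨a, b, rfl⟩ := hPmem z hz
      have ha := hzP u huP
      have hb := hzP v hvP
      rw [hBapp, QuadraticMap.polar_add_left, QuadraticMap.polar_smul_left,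
        QuadraticMap.polar_smul_left, hpuu, hvu, smul_eq_mul, smul_eq_mul, mul_zero,
        add_zero] at ha
      rw [hBapp, QuadraticMap.polar_add_left, QuadraticMap.polar_smul_left,
        QuadraticMap.polar_smul_left, hpvv, huv, smul_eq_mul, smul_eq_mul, mul_zero,
        zero_add] at hb
      have ha0 : a = 0 := (mul_eq_zero.mp ha).resolve_right h2
      have hb0 : b = 0 := (mul_eq_zero.mp hb).resolve_right h2
      rw [ha0, hb0, zero_smul, zero_smul, add_zero]
    obtain ⟨hsup, hinf, hUnd, hUd⟩ := Cfsg.Agent.Lib.Helper98.Os.compl_props hR P ⊤ hPnd le_top hV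
    set U : Submodule F (Fin d ⊕ Fin d → F) := B.orthogonal P ⊓ ⊤ with hUdef
    have hdimV : finrank F (⊤ : Submodule F (Fin d ⊕ Fin d → F)) = 2 * d := by
      rw [finrank_top, Module.finrank_fintype_fun_eq_card]
      simp only [Fintype.card_sum, Fintype.card_fin]
      ring
    rw [hPd, hdimV] at hUd
    have hUdim : finrank F U = 2 * d - 2 := by omega
    have hPU : Ort B P U := by
      intro z hz w hw
      have h1 := (Submodule.mem_inf.mp hw).1
      rw [LinearMap.BilinForm.mem_orthogonal_iff] at h1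
      exact h1 z hz
    have hWU : W ≤ U := by
      intro w hw
      refine Submodule.mem_inf.mpr ⟨?_, Submodule.mem_top⟩
      rw [LinearMap.BilinForm.mem_orthogonal_iff]
      intro z hz
      obtain ⟨a, b, rfl⟩ := hPmem z hz
      obtain ⟨h1, h2'⟩ := hperp w hw
      show B (a • u + b • v) w = 0
      rw [hBapp, QuadraticMap.polar_add_left, QuadraticMap.polar_smul_left,
        QuadraticMap.polar_smul_left, h1, h2', smul_zero, smul_zero, add_zero]
    have hBself : ∀ w, B w w = 2 * Q w := by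
      intro w
      rw [hBapp, QuadraticMap.polar_self]
      simp
    have hplusU : Plus B U := by
      refine ⟨W, hWU, fun w hw => by rw [hBself, hWQ w hw, mul_zero], ?_⟩
      rw [hWd, hUdim]
      omega
    have hplusV : Plus B ⊤ := by
      obtain ⟨X, hX, hXd⟩ := Cfsg.Agent.Lib.Helper13.OPb.exists_ts_QPlus (F := F) d
      refine ⟨X, le_top, fun x hx => ?_, by rw [hXd, hdimV]⟩
      rw [hBdef, hQdef]
      exact hX x hx
    have hiff := Cfsg.Agent.Lib.Helper63.Oh.plus_sup_iff h2 B hS P U hPnd hUnd hPU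
      (by rw [hPd]; exact even_two) (by rw [hUdim]; exact ⟨d - 1, by omega⟩)
    rw [hsup] at hiff
    obtain ⟨Z, hZP, hZ, hZd⟩ := (hiff.mp hplusV).mpr hplusU
    rw [hPd] at hZd
    have hZne : Z ≠ ⊥ := by
      intro h
      rw [h, finrank_bot] at hZd
      omega
    obtain ⟨z, hzZ, hz0⟩ := (Submodule.ne_bot_iff Z).mp hZne
    obtain ⟨a, b, rfl⟩ := hPmem z (hZP hzZ)
    have h5 := hZ _ hzZ
    rw [hBself, map_pair' Q u v hQu hQv huv] at h5
    have h6 := (mul_eq_zero.mp h5).resolve_left h2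
    obtain ⟨ha, hb⟩ := sq_add_sq_eq_zero' hm1 a b h6
    apply hz0
    rw [ha, hb, zero_smul, zero_smul, add_zero]

end Cfsg.Agent.Lib.Helper82.OTs
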