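import Mathlib
import Cfsg.Agent.Lib.Helper82.OsElO0
import Cfsg.Agent.Lib.Helper05.OsElB
import Cfsg.Agent.Lib.Helper14.OsElC

/-!
# K-OsEl-O (keystone 597216, architect helper8): `exists_fixed_ts_invol`, exact spec signature.
-/

set_option autoImplicit false
set_option linter.unusedSectionVars false
set_option linter.unusedVariables false
set_option linter.style.haveILetI false

namespace Cfsg.Agent.Lib.Helper82.OsEl

open Module Cfsg.Agent.Lib.Helper98.Elus Cfsg.Agent.Lib.Helper98.Sy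

universe u
variable {F : Type u} [Field F] {V : Type u} [AddCommGroup V] [Module F V]

/-- **K-OsEl-O** -/
theorem exists_fixed_ts_invol [Fintype F] [FiniteDimensional F V] {B : LinearMap.BilinForm F V}
    (hS : ∀ x y, B x y = B y x) (h2 : (2 : F) ≠ 0) (hV : NonDeg B ⊤) (y : V →ₗ[F] V)
    (hy : y ^ 2 = 1) (hiso : Iso B y) (d m : ℕ) (hd : finrank F V = 2 * d + 1) (hmd : m ≤ d)
    (heven : Even (finrank F (LinearMap.ker (y + 1))))
    (hcase : m < d ∨ ∃ X : Submodule F V, X ≤ LinearMap.ker (y + 1) ∧ Ort B X X ∧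
      2 * finrank F X = finrank F (LinearMap.ker (y + 1))) :
    ∃ W : Submodule F V, Inv y W ∧ Ort B W W ∧ finrank F W = m := by
  have hR : B.IsRefl := fun u v h => by rw [hS]; exact h
  have hrF : ((2 : ℕ) : F) ≠ 0 := by
    rw [Nat.cast_ofNat]
    exact h2
  have hnd := Cfsg.Agent.Lib.Helper05.OsEl.nonDeg_inf_parts hR 2 hrF y hy hiso ⊤ hV
    (fun _ _ => Submodule.mem_top)
  rw [top_inf_eq, top_inf_eq] at hnd
  exact exists_fixed_ts_invol_of y
    (fun L W hL hW hLW => Cfsg.Agent.Lib.Helper05.OsEl.ort_sup_self hR L W hL hW hLW)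
    (Cfsg.Agent.Lib.Helper05.OsEl.ort_V0_V1 2 hrF y hy hiso) hnd
    (Cfsg.Agent.Lib.Helper14.OsEl.exists_ts_symm hS h2) h2 hy d m hd hmd heven hcase

end Cfsg.Agent.Lib.Helper82.OsEl
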