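import Mathlib

/-!
# K-PG2-PGL22 (keystone 345205, architect helper59, S3452): `spectrum_pgl2_two`

For `|F| = 2` the spectrum of `PGL₂(F)` is `{1, 2, 3}`: the centre of `GL₂(F)` is trivial, the group has order
`6` and is not cyclic.
-/

set_option autoImplicit false
set_option linter.unusedSectionVars false
set_option linter.unusedVariables false
set_option linter.style.haveILetI false

namespace Cfsg.Agent.Lib.Helper82.PG2

open Matrix

/-- `PGL₂(F)` as in the statement S3452 -/
abbrev PGL2 (F : Type*) [Field F] : Type _ :=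
  Matrix.GeneralLinearGroup (Fin 2) F ⧸ Subgroup.center (Matrix.GeneralLinearGroup (Fin 2) F)

theorem center_GL2_eq_bot {F : Type*} [Field F] [Fintype F] (hF : Fintype.card F = 2) :
    Subgroup.center (GL (Fin 2) F) = ⊥ := by
  classical
  rw [eq_bot_iff]
  intro g hg
  rw [Matrix.GeneralLinearGroup.mem_center_iff_val_mem_range_scalar] at hg
  obtain ⟨a, ha⟩ := hg
  have ha0 : a ≠ 0 := by
    rintro rfl
    rw [map_zero] at ha
    exact g.ne_zero ha.symm
  have hsub : Subsingleton Fˣ := by
    rw [← Fintype.card_le_one_iff_subsingleton, Fintype.card_units, hF]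
  have ha1 : a = 1 := by
    have := Subsingleton.elim (Units.mk0 a ha0) 1
    exact congrArg Units.val this
  rw [Subgroup.mem_bot]
  apply Units.ext
  rw [← ha, ha1, map_one]
  rfl

theorem card_GL2_two {F : Type*} [Field F] [Fintype F] (hF : Fintype.card F = 2) :
    Nat.card (GL (Fin 2) F) = 6 := by
  rw [Matrix.card_GL_field (𝔽 := F) 2, hF, Fin.prod_univ_two]
  norm_num

theorem range_orderOf_GL2_two {F : Type*} [Field F] [Fintype F] (hF : Fintype.card F = 2) :
    Set.range (orderOf : GL (Fin 2) F → ℕ) = {1, 2, 3} := by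
  classical
  have hcard := card_GL2_two hF
  have hZ := center_GL2_eq_bot hF
  haveI : Finite (GL (Fin 2) F) := Nat.finite_of_card_ne_zero (by rw [hcard]; norm_num)
  ext n
  simp only [Set.mem_range, Set.mem_insert_iff, Set.mem_singleton_iff]
  constructor
  · rintro ⟨g, rfl⟩
    have hdvd : orderOf g ∣ 6 := hcard ▸ orderOf_dvd_natCard g
    have hne6 : orderOf g ≠ 6 := by
      intro h6
      haveI : IsCyclic (GL (Fin 2) F) := isCyclic_of_orderOf_eq_card g (by rw [h6, hcard])
      letI : CommGroup (GL (Fin 2) F) := IsCyclic.commGroup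
      have htop : Subgroup.center (GL (Fin 2) F) = ⊤ := by
        rw [eq_top_iff]
        intro x _
        rw [Subgroup.mem_center_iff]
        intro y
        exact mul_comm y x
      rw [hZ] at htop
      have h1 : Nat.card (GL (Fin 2) F) = 1 := by
        rw [← Subgroup.card_top (G := GL (Fin 2) F), ← htop, Subgroup.card_bot]
      rw [hcard] at h1
      norm_num at h1
    have hle : orderOf g ≤ 6 := Nat.le_of_dvd (by norm_num) hdvd
    have hpos : 0 < orderOf g := Nat.pos_of_dvd_of_pos hdvd (by norm_num)
    interval_cases h : orderOf g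
    · left; rfl
    · right; left; rfl
    · right; right; rfl
    · norm_num at hdvd
    · norm_num at hdvd
    · exact absurd rfl hne6
  · rintro (rfl | rfl | rfl)
    · exact ⟨1, orderOf_one⟩
    · haveI : Fact (Nat.Prime 2) := ⟨Nat.prime_two⟩
      exact exists_prime_orderOf_dvd_card' 2 (by rw [hcard]; norm_num)
    · haveI : Fact (Nat.Prime 3) := ⟨Nat.prime_three⟩
      exact exists_prime_orderOf_dvd_card' 3 (by rw [hcard]; norm_num)

theorem spectrum_pgl2_two {F : Type*} [Field F] [Fintype F] (hF : Fintype.card F = 2) :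
    Set.range (orderOf : PGL2 F → ℕ) = {1, 2, 3} := by
  classical
  have hZ := center_GL2_eq_bot hF
  have hinj : Function.Injective (QuotientGroup.mk' (Subgroup.center (GL (Fin 2) F))) := by
    rw [← MonoidHom.ker_eq_bot_iff, QuotientGroup.ker_mk', hZ]
  rw [← range_orderOf_GL2_two hF]
  ext n
  simp only [Set.mem_range]
  constructor
  · rintro ⟨x, rfl⟩
    obtain ⟨g, rfl⟩ := QuotientGroup.mk'_surjective (Subgroup.center (GL (Fin 2) F)) x
    exact ⟨g, (orderOf_injective _ hinj g).symm⟩
  · rintro ⟨g, rfl⟩
    exact ⟨QuotientGroup.mk' (Subgroup.center (GL (Fin 2) F)) g, orderOf_injective _ hinj g⟩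

end Cfsg.Agent.Lib.Helper82.PG2
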