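import Mathlib
import Cfsg.Prelude.Def_GeometricClasses

/-!
# K-SU5X-B : elements of order 11 in a subgroup of `GL_5(4)` generate conjugate subgroups
-/

set_option autoImplicit false
set_option linter.style.haveILetI false

namespace Cfsg.Agent.Lib.Helper82.SU5X

open Cfsg Cfsg.Geo
open scoped Matrix MatrixGroups

/-- two elements of prime order `p` of a finite group whose order is not divisible by `p^2` generate
conjugate subgroups. -/
theorem exists_conj_eq_pow_of_prime_order {G : Type*} [Group G] [Finite G] (p : ℕ) [hp : Fact p.Prime]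
    (hG : ¬ p ^ 2 ∣ Nat.card G) (a b : G) (ha : orderOf a = p) (hb : orderOf b = p) :
    ∃ g : G, ∃ j : ℕ, g * a * g⁻¹ = b ^ j := by
  classical
  have hpG : p ∣ Nat.card G := ha ▸ orderOf_dvd_natCard a
  have hfac : (Nat.card G).factorization p = 1 := by
    have hne : Nat.card G ≠ 0 := Nat.card_pos.ne'
    have h1 : 1 ≤ (Nat.card G).factorization p :=
      (hp.out.dvd_iff_one_le_factorization hne).1 hpG
    have h2 : ¬ 2 ≤ (Nat.card G).factorization p := by
      intro h
      exact hG ((hp.out.pow_dvd_iff_le_factorization hne).2 h)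
    omega
  -- the cyclic subgroups are Sylow
  have key : ∀ x : G, orderOf x = p → ∃ P : Sylow p G, (P : Subgroup G) = Subgroup.zpowers x := by
    intro x hx
    have hpg : IsPGroup p (Subgroup.zpowers x) := by
      apply IsPGroup.of_card (n := 1)
      rw [Nat.card_zpowers, hx, pow_one]
    obtain ⟨P, hP⟩ := hpg.exists_le_sylow
    refine ⟨P, ?_⟩
    have hcard : Nat.card (P : Subgroup G) = p := by
      rw [P.card_eq_multiplicity, hfac, pow_one]
    symm
    apply Subgroup.eq_of_le_of_card_ge hP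
    rw [hcard, Nat.card_zpowers, hx]
  obtain ⟨P, hP⟩ := key a ha
  obtain ⟨Q, hQ⟩ := key b hb
  obtain ⟨g, hg⟩ := MulAction.exists_smul_eq G P Q
  have hmem : g * a * g⁻¹ ∈ (Q : Subgroup G) := by
    rw [← hg, Sylow.coe_subgroup_smul]
    have : g * a * g⁻¹ = MulAut.conj g • a := by simp [MulAut.smul_def]
    rw [this, Subgroup.smul_mem_pointwise_smul_iff, hP]
    exact Subgroup.mem_zpowers a
  rw [hQ, ← (isOfFinOrder_of_finite b).mem_powers_iff_mem_zpowers, Submonoid.mem_powers_iff] at hmem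
  obtain ⟨j, hj⟩ := hmem
  exact ⟨g, j, hj.symm⟩

variable {F : Type*} [Field F] [Fintype F]

theorem not_sq_eleven_dvd_card_GL (hF : Fintype.card F = 2 ^ 2) :
    ¬ 11 ^ 2 ∣ Nat.card (GL (Fin 5) F) := by
  rw [Matrix.card_GL_field, hF]
  simp only [Fin.prod_univ_five]
  decide

/-- **K-SU5X-B**. -/
theorem exists_conj_eq_pow_of_order_eleven (hF : Fintype.card F = 2 ^ 2) (S : Subgroup (GL (Fin 5) F))
    (a b : GL (Fin 5) F) (ha : a ∈ S) (hb : b ∈ S) (ha11 : a ^ 11 = 1) (ha1 : a ≠ 1) (hb11 : b ^ 11 = 1)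
    (hb1 : b ≠ 1) :
    ∃ g ∈ S, ∃ j : ℕ, g * a * g⁻¹ = b ^ j := by
  classical
  haveI : Fact (Nat.Prime 11) := ⟨by norm_num⟩
  have hS : ¬ 11 ^ 2 ∣ Nat.card S := by
    intro h
    exact not_sq_eleven_dvd_card_GL hF (h.trans (Subgroup.card_subgroup_dvd_card S))
  have hoa : orderOf (⟨a, ha⟩ : S) = 11 := by
    apply orderOf_eq_prime
    · exact Subtype.ext (by simpa using ha11)
    · intro h
      exact ha1 (by simpa using congrArg Subtype.val h)
  have hob : orderOf (⟨b, hb⟩ : S) = 11 := by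
    apply orderOf_eq_prime
    · exact Subtype.ext (by simpa using hb11)
    · intro h
      exact hb1 (by simpa using congrArg Subtype.val h)
  obtain ⟨g, j, hgj⟩ := exists_conj_eq_pow_of_prime_order 11 hS (⟨a, ha⟩ : S) ⟨b, hb⟩ hoa hob
  refine ⟨g.1, g.2, j, ?_⟩
  have := congrArg Subtype.val hgj
  simpa using this

end Cfsg.Agent.Lib.Helper82.SU5X
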