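import Mathlib
import Cfsg.Agent.Lib.Helper69.StNDefs

/-!
# K-StN-F1 (keystone 240116, architect helper69, S2401): `gen_simple`

The root elements `X i j t` are generated by the simple ones: `X i l t = [X i j t, X j l 1]`.
-/

set_option autoImplicit false
set_option linter.unusedSectionVars false
set_option linter.unusedVariables false
set_option linter.style.haveILetI false

namespace Cfsg.Agent.Lib.Helper82.StN

open Cfsg.Agent.Lib.Helper69.StN Matrix

variable {n : ℕ} {K : Type*} [Field K] {S : Type*} [Group S] {X : Fin n → Fin n → K → S}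

theorem mem_simple_closure (hX : IsSt X) :
    ∀ (d : ℕ) (i j : Fin n) (t : K),
      (j.val = i.val + d + 1 → X i j t ∈ Subgroup.closure
        {g | ∃ (a b : Fin n) (t : K), b.val = a.val + 1 ∧ (g = X a b t ∨ g = X b a t)}) ∧
      (i.val = j.val + d + 1 → X i j t ∈ Subgroup.closure
        {g | ∃ (a b : Fin n) (t : K), b.val = a.val + 1 ∧ (g = X a b t ∨ g = X b a t)}) := by
  intro d
  induction d with
  | zero =>
    intro i j t
    constructor
    · intro h
      exact Subgroup.subset_closure ⟨i, j, t, by omega, Or.inl rfl⟩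
    · intro h
      exact Subgroup.subset_closure ⟨j, i, t, by omega, Or.inr rfl⟩
  | succ d ih =>
    intro i j t
    constructor
    · intro h
      have hk : i.val + 1 < n := by have := j.isLt; omega
      set k : Fin n := ⟨i.val + 1, hk⟩ with hkdef
      have hkv : k.val = i.val + 1 := rfl
      have hik : i ≠ k := fun e => by have := congrArg Fin.val e; omega
      have hkj : k ≠ j := fun e => by have := congrArg Fin.val e; omega
      have hij : i ≠ j := fun e => by have := congrArg Fin.val e; omega
      have h1 : X i k t ∈ Subgroup.closure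
          {g | ∃ (a b : Fin n) (t : K), b.val = a.val + 1 ∧ (g = X a b t ∨ g = X b a t)} :=
        Subgroup.subset_closure ⟨i, k, t, hkv, Or.inl rfl⟩
      have h2 := (ih k j 1).1 (by omega)
      have h3 := hX.comm3 i k j hik hkj hij t 1
      rw [mul_one] at h3
      rw [← h3]
      exact mul_mem (mul_mem (mul_mem h1 h2) (inv_mem h1)) (inv_mem h2)
    · intro h
      have hk : j.val + 1 < n := by have := i.isLt; omega
      set k : Fin n := ⟨j.val + 1, hk⟩ with hkdef
      have hkv : k.val = j.val + 1 := rfl
      have hik : i ≠ k := fun e => by have := congrArg Fin.val e; omega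
      have hkj : k ≠ j := fun e => by have := congrArg Fin.val e; omega
      have hij : i ≠ j := fun e => by have := congrArg Fin.val e; omega
      have h1 := (ih i k t).2 (by omega)
      have h2 : X k j 1 ∈ Subgroup.closure
          {g | ∃ (a b : Fin n) (t : K), b.val = a.val + 1 ∧ (g = X a b t ∨ g = X b a t)} :=
        Subgroup.subset_closure ⟨j, k, 1, hkv, Or.inr rfl⟩
      have h3 := hX.comm3 i k j hik hkj hij t 1
      rw [mul_one] at h3
      rw [← h3]
      exact mul_mem (mul_mem (mul_mem h1 h2) (inv_mem h1)) (inv_mem h2)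

theorem gen_simple (hX : IsSt X)
    (hgen : Subgroup.closure {g | ∃ i j, ∃ t : K, i ≠ j ∧ g = X i j t} = ⊤) :
    Subgroup.closure {g | ∃ (a b : Fin n) (t : K), b.val = a.val + 1 ∧ (g = X a b t ∨ g = X b a t)} = ⊤ := by
  rw [eq_top_iff, ← hgen, Subgroup.closure_le]
  rintro g ⟨i, j, t, hij, rfl⟩
  rcases lt_or_gt_of_ne (fun e => hij (Fin.ext e) : i.val ≠ j.val) with h | h
  · exact (mem_simple_closure hX (j.val - i.val - 1) i j t).1 (by omega)
  · exact (mem_simple_closure hX (i.val - j.val - 1) i j t).2 (by omega)

end Cfsg.Agent.Lib.Helper82.StN
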