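import Cfsg.Agent.Lib.Helper73.UNdDefs
import Cfsg.Agent.Lib.Helper65.UNdBA1
import Cfsg.Agent.Lib.Helper79.UNdBA3
import Cfsg.Agent.Lib.Helper51.UTiB5
import Cfsg.Agent.Lib.Helper98.Sy2

/-!
# K-UNd-XA (keystone 595430, architect helper73): `exists_fixed_typeII`

`y ^ r = z`, `z` not an `r`-th power: an isometry `y` fixes a nondegenerate `m`-space for every
`m ≤ dim V` divisible by `r`.
-/

set_option autoImplicit false
set_option linter.unusedSectionVars false
set_option linter.unusedVariables false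
set_option linter.style.haveILetI false

namespace Cfsg.Agent.Lib.Helper82.UNd

open Module Polynomial Cfsg.Agent.Lib.Helper99.HermONB Cfsg.Agent.Lib.Helper98.Elus
  Cfsg.Agent.Lib.Helper73.UNd

universe u
variable {F : Type u} [Field F] {V : Type u} [AddCommGroup V] [Module F V]
variable {q : ℕ} {h : V → V → F}

theorem inv_inf' (y : V →ₗ[F] V) (A B : Submodule F V) (hA : Inv y A) (hB : Inv y B) :
    Inv y (A ⊓ B) := by
  intro v hv
  exact Submodule.mem_inf.mpr ⟨hA v (Submodule.mem_inf.mp hv).1, hB v (Submodule.mem_inf.mp hv).2⟩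

/-- the induction behind X-A, inside an invariant nondegenerate subspace -/
theorem exists_fixed_typeII_aux [Fintype F] [FiniteDimensional F V] (hF : Fintype.card F = q ^ 2)
    (hh : HForm q h) (r : ℕ) [Fact r.Prime] (z : F) (hz : ∀ d : F, d ^ r ≠ z) (y : V →ₗ[F] V)
    (hy : y ^ r = z • 1) (hiso : Isom h y) :
    ∀ (a : ℕ) (U : Submodule F V), ND h U → Inv y U → r * a ≤ finrank F U →
      ∃ W : Submodule F V, W ≤ U ∧ Inv y W ∧ ND h W ∧ finrank F W = r * a := by
  have hr : r.Prime := Fact.out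
  have hz0 : z ≠ 0 := by
    intro h0
    exact hz 0 (by rw [zero_pow hr.ne_zero, h0])
  have hH : Cfsg.Agent.Lib.Helper46.UTi.IsHerm q h := ⟨hh.add_left, hh.smul_left, hh.conj⟩
  set P : F[X] := X ^ r - C z with hP
  have hPm : P.Monic := monic_X_pow_sub_C z hr.ne_zero
  have hPd : P.natDegree = r := natDegree_X_pow_sub_C
  have hPy : aeval y P = 0 := by
    rw [hP, map_sub, map_pow, aeval_X, aeval_C, hy]
    ext v
    simp [Algebra.algebraMap_eq_smul_one]
  intro a
  induction a with
  | zero =>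
    intro U _ _ _
    refine ⟨⊥, bot_le, ?_, Cfsg.Agent.Lib.Helper65.UNd.nd_bot hh, by simp⟩
    intro v hv
    rw [(Submodule.mem_bot F).mp hv, map_zero]
    exact Submodule.zero_mem _
  | succ a ih =>
    intro U hU hUinv hd
    have hra : r * (a + 1) = r * a + r := by ring
    have hUne : U ≠ ⊥ := by
      intro h0
      rw [h0, finrank_bot] at hd
      have := hr.pos
      omega
    obtain ⟨v, hvU, hvv⟩ := Cfsg.Agent.Lib.Helper51.UTi.exists_nonisotropic hF hH U hU hUne
    have hv0 : v ≠ 0 := by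
      rintro rfl
      exact hvv (hh.zero_left 0)
    set Z : Submodule F V :=
      Submodule.span F (Set.range (fun k : Fin P.natDegree => (y ^ (k : ℕ)) v)) with hZ
    have hZinv : Inv y Z := Cfsg.Agent.Lib.Helper98.Sy.inv_span_of_aeval_eq_zero y P hPm v
      (by rw [hPy, LinearMap.zero_apply])
    have hvZ : v ∈ Z := by
      have h1 : (y ^ ((⟨0, by rw [hPd]; exact hr.pos⟩ : Fin P.natDegree) : ℕ)) v ∈ Z :=
        Submodule.subset_span ⟨⟨0, by rw [hPd]; exact hr.pos⟩, rfl⟩
      simpa using h1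
    have hZU : Z ≤ U := by
      rw [hZ]
      apply Submodule.span_le.mpr
      rintro _ ⟨k, rfl⟩
      exact hUinv.pow_mem _ v hvU
    have hZle : finrank F Z ≤ r := by
      have h1 := finrank_range_le_card (R := F) (fun k : Fin P.natDegree => (y ^ (k : ℕ)) v)
      rw [Fintype.card_fin] at h1
      rw [hZ]
      unfold Set.finrank at h1
      exact le_trans h1 (le_of_eq hPd)
    have hZne : Z ≠ ⊥ := by
      intro h0
      rw [h0, Submodule.mem_bot] at hvZ
      exact hv0 hvZ
    have hZr : finrank F Z = r := by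
      obtain ⟨c, hc⟩ := dvd_finrank_of_not_pow r z hz y hy Z hZinv
      have hpos : 0 < finrank F Z :=
        Nat.pos_of_ne_zero (fun h0 => hZne (Submodule.finrank_eq_zero.mp h0))
      rcases Nat.eq_zero_or_pos c with h0 | h0
      · rw [h0, mul_zero] at hc
        omega
      · have := Nat.le_mul_of_pos_right r h0
        omega
    have hpinv : Inv y (perp hh Z) :=
      Cfsg.Agent.Lib.Helper79.UNd.inv_perp hF hh r hr.pos y z hz0 hy hiso Z hZinv
    -- the radical of `Z` is an invariant proper subspace of `Z`, hence zero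
    have hRad : Z ⊓ perp hh Z = ⊥ := by
      have hRinv : Inv y (Z ⊓ perp hh Z) := inv_inf' y _ _ hZinv hpinv
      obtain ⟨c, hc⟩ := dvd_finrank_of_not_pow r z hz y hy (Z ⊓ perp hh Z) hRinv
      have hle : finrank F ↥(Z ⊓ perp hh Z) ≤ finrank F Z := Submodule.finrank_mono inf_le_left
      have hne : finrank F ↥(Z ⊓ perp hh Z) ≠ finrank F Z := by
        intro heq
        have h1 : Z ⊓ perp hh Z = Z := Submodule.eq_of_le_of_finrank_eq inf_le_left heq
        have h2 : v ∈ perp hh Z := by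
          have : v ∈ Z ⊓ perp hh Z := by rw [h1]; exact hvZ
          exact (Submodule.mem_inf.mp this).2
        exact hvv (h2 v hvZ)
      rcases Nat.eq_zero_or_pos c with h0 | h0
      · rw [h0, mul_zero] at hc
        exact Submodule.finrank_eq_zero.mp hc
      · have := Nat.le_mul_of_pos_right r h0
        omega
    have hZnd : ND h Z := by
      intro u hu huZ
      have h1 : u ∈ Z ⊓ perp hh Z := Submodule.mem_inf.mpr ⟨hu, huZ⟩
      rw [hRad, Submodule.mem_bot] at h1
      exact h1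
    obtain ⟨hsup, hinf, hU'nd, hU'd⟩ :=
      Cfsg.Agent.Lib.Helper65.UNd.compl_props hF hh Z U hZnd hZU hU
    have hU'inv : Inv y (perp hh Z ⊓ U) := inv_inf' y _ _ hpinv hUinv
    obtain ⟨W', hW'U, hW'inv, hW'nd, hW'd⟩ := ih (perp hh Z ⊓ U) hU'nd hU'inv (by omega)
    have hort' : Ort h W' Z := by
      intro w hw u hu
      exact (Submodule.mem_inf.mp (hW'U hw)).1 u hu
    have hort : Ort h Z W' := Cfsg.Agent.Lib.Helper65.UNd.ort_symm hF hh hort'
    refine ⟨Z ⊔ W', sup_le hZU (hW'U.trans inf_le_right), hZinv.sup hW'inv,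
      (Cfsg.Agent.Lib.Helper65.UNd.nd_sup hF hh Z W' hZnd hW'nd hort).1, ?_⟩
    rw [Cfsg.Agent.Lib.Helper65.UNd.finrank_sup_of_ort hF hh Z W' hZnd hW'nd hort, hZr, hW'd]
    ring

/-- **K-UNd-XA (595430)** -/
theorem exists_fixed_typeII [Fintype F] [FiniteDimensional F V] (hF : Fintype.card F = q ^ 2)
    (hh : HForm q h) (r : ℕ) [Fact r.Prime] (z : F) (hz : ∀ d : F, d ^ r ≠ z) (y : V →ₗ[F] V)
    (hy : y ^ r = z • 1) (hiso : Isom h y) (m : ℕ) (hm : m ≤ finrank F V) (hrm : r ∣ m) :
    Fixes h y m := by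
  obtain ⟨a, rfl⟩ := hrm
  obtain ⟨W, _, hWinv, hWnd, hWd⟩ := exists_fixed_typeII_aux hF hh r z hz y hy hiso a ⊤
    (Cfsg.Agent.Lib.Helper65.UNd.nd_top hh) (fun _ _ => Submodule.mem_top)
    (by rw [finrank_top]; exact hm)
  exact ⟨W, hWinv, hWnd, hWd⟩

end Cfsg.Agent.Lib.Helper82.UNd
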