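import Mathlib
import Cfsg.Prelude.Def_Blocks
import Cfsg.Prelude.Def_BlockRank
import Cfsg.Agent.Lib.Helper82.Contrib

set_option autoImplicit false
set_option linter.style.haveILetI false
set_option linter.unusedSectionVars false

/-!
# Row idempotency and trace of the matrix of contributions, for a subgroup equal to `C_G(x)`
-/

namespace Cfsg.Agent.Lib.Helper82

open Cfsg
open scoped ComplexConjugate
open Cfsg.Agent.Lib.Helper21 Cfsg.Agent.Lib.Helper83

section CForm

universe u
variable {G : Type u} [Group G] [Fintype G] {p : ℕ} {M : Ideal AlgInt}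

/-- **Row idempotency** of the matrix of contributions, for any subgroup `C` equal to
`C_G(x)`. -/
theorem sum_contrib_mul_conj' (hMp : IsPModular p M) {x : G}
    (hx : ∃ k : ℕ, orderOf x = p ^ k) (C : Subgroup G) [Fintype C]
    (hC : C = Subgroup.centralizer ({x} : Set G)) [Fintype (IrrCharacter G)]
    (χ₀ : IrrCharacter G) [DecidablePred (· ∈ blockOf M (χ₀ : G → ℂ))]
    (e : Set (IrrCharacter C))
    (hind : IsInducedBlock M C e (blockOf M (χ₀ : G → ℂ))) (χ : IrrCharacter G) :
    ∑ χ' : IrrCharacter G, (if χ' ∈ blockOf M (χ₀ : G → ℂ) then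
        contrib p e x (χ : G → ℂ) (χ' : G → ℂ) *
          conj (contrib p e x (χ : G → ℂ) (χ' : G → ℂ)) else 0) =
      contrib p e x (χ : G → ℂ) (χ : G → ℂ) := by
  classical
  subst hC
  haveI : Fintype (IrrCharacter (Subgroup.centralizer ({x} : Set G))) := Fintype.ofFinite _
  obtain ⟨ψ₀, rfl⟩ := hind.1
  exact sum_contrib_mul_conj hMp hx χ₀ ψ₀ hind χ

/-- **The trace** of the matrix of contributions, for any subgroup `C` equal to `C_G(x)`. -/
theorem sum_contrib_self' (hMp : IsPModular p M) {x : G}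
    (hx : ∃ k : ℕ, orderOf x = p ^ k) (C : Subgroup G) [Fintype C]
    (hC : C = Subgroup.centralizer ({x} : Set G)) [Fintype (IrrCharacter G)]
    (χ₀ : IrrCharacter G) [DecidablePred (· ∈ blockOf M (χ₀ : G → ℂ))]
    (e : Set (IrrCharacter C))
    (hind : IsInducedBlock M C e (blockOf M (χ₀ : G → ℂ))) :
    ∑ χ : IrrCharacter G, (if χ ∈ blockOf M (χ₀ : G → ℂ) then
        contrib p e x (χ : G → ℂ) (χ : G → ℂ) else 0) = (blockRank p e : ℂ) := by
  subst hC
  rw [← sum_classInner_blockPart_secFun hMp hx χ₀ e hind]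
  refine Finset.sum_congr rfl fun χ _ => ?_
  split_ifs
  · exact contrib_self_eq p e x _
  · rfl

end CForm

end Cfsg.Agent.Lib.Helper82
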