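import Mathlib
import Cfsg.Prelude.Def_Blocks
import Cfsg.Prelude.Def_BlockRank
import Cfsg.Agent.Lib.Helper82.Subsection

set_option autoImplicit false
set_option linter.style.haveILetI false
set_option linter.unusedSectionVars false

/-!
# Induction from the section of a `p`-element: inner products
-/

namespace Cfsg.Agent.Lib.Helper82

open Cfsg
open scoped ComplexConjugate

section IndSec

universe u
variable {G : Type u} [Group G] [Fintype G] {p : ℕ}

local notation "C[" g "]" => Subgroup.centralizer (singleton g)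

/-- The class function on `G` induced from the function `x c ↦ φ c` on the section of `x`. -/
noncomputable def indSec (x : G) (φ : C[x] → ℂ) : G → ℂ := indFun C[x] (shiftFun x φ)

theorem indSec_isClassFunction (x : G) (φ : C[x] → ℂ) : IsClassFunction G (indSec x φ) :=
  Cfsg.Agent.Lib.Helper04.indFun_isClassFunction _ _

theorem indSec_apply_mul (hp : p.Prime) {x : G} (hx : ∃ k : ℕ, orderOf x = p ^ k)
    (φ : C[x] → ℂ) (hφ : IsClassFunction C[x] φ)
    (hsupp : ∀ c : C[x], p ∣ orderOf c → φ c = 0) (y : C[x]) (hy : ¬ p ∣ orderOf y) :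
    indSec x φ (x * (y : G)) = φ y :=
  indFun_shiftFun_apply hp hx φ hφ hsupp y hy

theorem indSec_eq_zero {x : G} (hx : ∃ k : ℕ, orderOf x = p ^ k) (φ : C[x] → ℂ)
    (hsupp : ∀ c : C[x], p ∣ orderOf c → φ c = 0) (g : G)
    (hg : ∀ z : G, IsPPart p g z → ¬ IsConj x z) : indSec x φ g = 0 :=
  indFun_shiftFun_eq_zero hx φ hsupp g hg

theorem classInner_indSec {x : G} [Fintype C[x]] (φ : C[x] → ℂ)
    (hsupp : ∀ c : C[x], p ∣ orderOf c → φ c = 0) (χ : G → ℂ) (hχ : IsClassFunction G χ) :
    classInner (indSec x φ) χ = classInner φ (pRegularPart p (secFun x χ)) :=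
  classInner_indFun_shiftFun φ hsupp χ hχ

/-- The section function of an induced function. -/
theorem pRegularPart_secFun_indSec (hp : p.Prime) {x : G} (hx : ∃ k : ℕ, orderOf x = p ^ k)
    (φ : C[x] → ℂ) (hφ : IsClassFunction C[x] φ)
    (hsupp : ∀ c : C[x], p ∣ orderOf c → φ c = 0) :
    pRegularPart p (secFun x (indSec x φ)) = φ := by
  classical
  funext y
  rw [pRegularPart_apply]
  split_ifs with hy
  · exact (hsupp y hy).symm
  · exact indSec_apply_mul hp hx φ hφ hsupp y hy

/-- Induction from the section is an isometry. -/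
theorem classInner_indSec_indSec (hp : p.Prime) {x : G} (hx : ∃ k : ℕ, orderOf x = p ^ k)
    [Fintype C[x]] (φ φ' : C[x] → ℂ) (hφ' : IsClassFunction C[x] φ')
    (hsupp : ∀ c : C[x], p ∣ orderOf c → φ c = 0)
    (hsupp' : ∀ c : C[x], p ∣ orderOf c → φ' c = 0) :
    classInner (indSec x φ) (indSec x φ') = classInner φ φ' := by
  rw [classInner_indSec φ hsupp _ (indSec_isClassFunction x φ'),
    pRegularPart_secFun_indSec hp hx φ' hφ' hsupp']

/-- Functions induced from the sections of non-conjugate `p`-elements are orthogonal. -/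
theorem classInner_indSec_indSec_of_not_isConj (hp : p.Prime) {x x' : G}
    (hx : ∃ k : ℕ, orderOf x = p ^ k) (hx' : ∃ k : ℕ, orderOf x' = p ^ k)
    [Fintype C[x]] (φ : C[x] → ℂ) (φ' : C[x'] → ℂ)
    (hsupp : ∀ c : C[x], p ∣ orderOf c → φ c = 0)
    (hsupp' : ∀ c : C[x'], p ∣ orderOf c → φ' c = 0) (hne : ¬ IsConj x' x) :
    classInner (indSec x φ) (indSec x' φ') = 0 := by
  classical
  rw [classInner_indSec φ hsupp _ (indSec_isClassFunction x' φ')]
  have h0 : pRegularPart p (secFun x (indSec x' φ')) = 0 := by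
    funext y
    rw [pRegularPart_apply]
    split_ifs with hy
    · rfl
    · show indSec x' φ' (x * (y : G)) = 0
      apply indSec_eq_zero hx' φ' hsupp'
      intro z hz
      have hyG : ¬ p ∣ orderOf (y : G) := by rwa [Subgroup.orderOf_coe]
      have h1 : IsPPart p (x * (y : G)) x := isPPart_mul hx hyG (mem_centralizer_comm y).symm
      rw [isPPart_unique hp hz h1]
      exact hne
  rw [h0]
  unfold classInner
  simp

end IndSec

end Cfsg.Agent.Lib.Helper82
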