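import Mathlib
import Cfsg.Prelude.Def_Blocks
import Cfsg.Prelude.Def_BlockRank
import Cfsg.Agent.Lib.Helper82.SecInd
import Cfsg.Agent.Lib.Helper82.Contrib
import Cfsg.Agent.Lib.Helper81.BPTransport

set_option autoImplicit false
set_option linter.style.haveILetI false
set_option linter.unusedSectionVars false

/-!
# The subsection parts `χ^{(x,e)}` of the irreducible characters as class functions on `G`
-/

namespace Cfsg.Agent.Lib.Helper82

open Cfsg
open scoped ComplexConjugate
open Cfsg.Agent.Lib.Helper21 Cfsg.Agent.Lib.Helper83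
open Cfsg.Agent.Lib.Helper81 (irrComp irrComp_apply)

section CentConj

universe u
variable {G : Type u} [Group G]

local notation "C[" g "]" => Subgroup.centralizer (singleton g)

/-- Conjugation by `g` as an isomorphism `C_G(x) ≃ C_G(g x g⁻¹)`. -/
def centConj (g : G) {x x' : G} (hg : g * x * g⁻¹ = x') : C[x] ≃* C[x'] where
  toFun c := ⟨g * (c : G) * g⁻¹, by
    rw [Subgroup.mem_centralizer_singleton_iff, ← hg]
    have h := Subgroup.mem_centralizer_singleton_iff.1 c.2
    calc g * (c : G) * g⁻¹ * (g * x * g⁻¹) = g * ((c : G) * x) * g⁻¹ := by group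
      _ = g * (x * (c : G)) * g⁻¹ := by rw [h]
      _ = g * x * g⁻¹ * (g * (c : G) * g⁻¹) := by group⟩
  invFun c' := ⟨g⁻¹ * (c' : G) * g, by
    rw [Subgroup.mem_centralizer_singleton_iff]
    have h := Subgroup.mem_centralizer_singleton_iff.1 c'.2
    subst hg
    calc g⁻¹ * (c' : G) * g * x = g⁻¹ * ((c' : G) * (g * x * g⁻¹)) * g := by group
      _ = g⁻¹ * ((g * x * g⁻¹) * (c' : G)) * g := by rw [h]
      _ = x * (g⁻¹ * (c' : G) * g) := by group⟩
  left_inv c := by
    apply Subtype.ext
    show g⁻¹ * (g * (c : G) * g⁻¹) * g = (c : G)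
    group
  right_inv c' := by
    apply Subtype.ext
    show g * (g⁻¹ * (c' : G) * g) * g⁻¹ = (c' : G)
    group
  map_mul' a b := by
    apply Subtype.ext
    show g * ((a : G) * (b : G)) * g⁻¹ = g * (a : G) * g⁻¹ * (g * (b : G) * g⁻¹)
    group

@[simp] theorem coe_centConj (g : G) {x x' : G} (hg : g * x * g⁻¹ = x') (c : C[x]) :
    ((centConj g hg c : C[x']) : G) = g * (c : G) * g⁻¹ := rfl

@[simp] theorem coe_centConj_symm (g : G) {x x' : G} (hg : g * x * g⁻¹ = x') (c' : C[x']) :
    (((centConj g hg).symm c' : C[x]) : G) = g⁻¹ * (c' : G) * g := rfl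

end CentConj

section Conj

universe u
variable {G : Type u} [Group G] [Fintype G] {p : ℕ}

local notation "C[" g "]" => Subgroup.centralizer (singleton g)

/-- The section function at a conjugate `x' = g x g⁻¹` of a function induced from the section of
`x`. -/
theorem pRegularPart_secFun_indSec_conj (hp : p.Prime) {x x' : G}
    (hx : ∃ k : ℕ, orderOf x = p ^ k) (g : G) (hg : g * x * g⁻¹ = x')
    (φ : C[x] → ℂ) (hφ : IsClassFunction C[x] φ)
    (hsupp : ∀ c : C[x], p ∣ orderOf c → φ c = 0) :
    pRegularPart p (secFun x' (indSec x φ)) = fun c' => φ ((centConj g hg).symm c') := by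
  classical
  funext c'
  have hord : orderOf ((centConj g hg).symm c') = orderOf c' :=
    (centConj g hg).symm.orderOf_eq c'
  rw [pRegularPart_apply]
  split_ifs with hc'
  · rw [hsupp _ (by rw [hord]; exact hc')]
  · show indSec x φ (x' * (c' : G)) = _
    have hcf := indSec_isClassFunction x φ
    have h1 : x' * (c' : G) = g * (x * (((centConj g hg).symm c' : C[x]) : G)) * g⁻¹ := by
      rw [coe_centConj_symm]
      subst hg
      group
    rw [h1, hcf]
    exact indSec_apply_mul hp hx φ hφ hsupp _ (by rw [hord]; exact hc')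

/-- Inner products of functions induced from the sections of conjugate elements. -/
theorem classInner_indSec_indSec_conj (hp : p.Prime) {x x' : G}
    (hx : ∃ k : ℕ, orderOf x = p ^ k) (g : G) (hg : g * x * g⁻¹ = x') [Fintype C[x']]
    (φ : C[x] → ℂ) (hφ : IsClassFunction C[x] φ)
    (hsupp : ∀ c : C[x], p ∣ orderOf c → φ c = 0) (φ' : C[x'] → ℂ)
    (hsupp' : ∀ c : C[x'], p ∣ orderOf c → φ' c = 0) :
    classInner (indSec x' φ') (indSec x φ) =
      classInner φ' (fun c' => φ ((centConj g hg).symm c')) := by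
  rw [classInner_indSec φ' hsupp' _ (indSec_isClassFunction x φ),
    pRegularPart_secFun_indSec_conj hp hx g hg φ hφ hsupp]

end Conj

section Theta

universe u
variable {G : Type u} [Group G] [Fintype G] {p : ℕ} {M : Ideal AlgInt}

local notation "C[" g "]" => Subgroup.centralizer (singleton g)

theorem contribFun_isClassFunction (p : ℕ) {C : Subgroup G} [Fintype C]
    (e : Set (IrrCharacter C)) (x : G) (χ : G → ℂ) : IsClassFunction C (contribFun p e x χ) :=
  pRegularPart_isClassFunction (blockPart_isClassFunction' e _)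

theorem contribFun_eq_zero (p : ℕ) {C : Subgroup G} (e : Set (IrrCharacter C)) (x : G)
    (χ : G → ℂ) (c : C) (hc : p ∣ orderOf c) : contribFun p e x χ c = 0 := by
  classical
  unfold contribFun
  rw [pRegularPart_apply, if_pos hc]

/-- The `(x, e)`-part of `χ` as a class function on `G`. -/
noncomputable def thetaFun (p : ℕ) (x : G) (e : Set (IrrCharacter C[x])) (χ : G → ℂ) : G → ℂ :=
  indSec x (contribFun p e x χ)

theorem thetaFun_isClassFunction (p : ℕ) (x : G) (e : Set (IrrCharacter C[x])) (χ : G → ℂ) :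
    IsClassFunction G (thetaFun p x e χ) := indSec_isClassFunction _ _

/-- The norms of the subsection parts are the diagonal contributions. -/
theorem classInner_thetaFun_thetaFun (hp : p.Prime) {x : G} (hx : ∃ k : ℕ, orderOf x = p ^ k)
    [Fintype C[x]] (e : Set (IrrCharacter C[x])) (χ χ' : G → ℂ) :
    classInner (thetaFun p x e χ) (thetaFun p x e χ') = contrib p e x χ χ' := by
  unfold thetaFun
  rw [classInner_indSec_indSec hp hx _ _ (contribFun_isClassFunction p e x χ')
    (contribFun_eq_zero p e x χ) (contribFun_eq_zero p e x χ')]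
  rfl

/-- The inner products of the subsection parts with the irreducible characters are the
contributions. -/
theorem classInner_thetaFun_irr (hMp : IsPModular p M) {x : G} [Fintype C[x]]
    (ψ₀ : IrrCharacter C[x]) (χ χ' : IrrCharacter G) :
    classInner (thetaFun p x (blockOf M (ψ₀ : C[x] → ℂ)) (χ : G → ℂ)) (χ' : G → ℂ) =
      contrib p (blockOf M (ψ₀ : C[x] → ℂ)) x (χ : G → ℂ) (χ' : G → ℂ) := by
  classical
  haveI : Fintype (IrrCharacter C[x]) := Fintype.ofFinite _
  unfold thetaFun
  rw [classInner_indSec _ (contribFun_eq_zero p _ x _) _ (isClassFunction_irr χ'),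
    contrib_eq_sum hMp ψ₀ χ χ', contribFun_eq_sum hMp ψ₀ χ, classInner_sum_left]
  refine Finset.sum_congr rfl fun ψ _ => ?_
  rw [classInner_smul_left]
  split_ifs
  · rw [classInner_conj_symm]
    rfl
  · rw [zero_mul]

/-- **Orthogonality of the parts of non-conjugate subsections.** -/
theorem classInner_thetaFun_thetaFun_eq_zero (hMp : IsPModular p M) {x x' : G}
    (hx : ∃ k : ℕ, orderOf x = p ^ k) (hx' : ∃ k : ℕ, orderOf x' = p ^ k)
    (ψ₀ : IrrCharacter C[x]) (ψ₀' : IrrCharacter C[x']) (χ χ' : IrrCharacter G)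
    (hno : ∀ g : G, g * x * g⁻¹ = x' → ∀ ψ ∈ blockOf M (ψ₀ : C[x] → ℂ),
      ∀ ψ' ∈ blockOf M (ψ₀' : C[x'] → ℂ),
      ¬ ∀ (c : C[x]) (c' : C[x']), (c' : G) = g * (c : G) * g⁻¹ →
        (ψ' : C[x'] → ℂ) c' = (ψ : C[x] → ℂ) c) :
    classInner (thetaFun p x' (blockOf M (ψ₀' : C[x'] → ℂ)) (χ' : G → ℂ))
      (thetaFun p x (blockOf M (ψ₀ : C[x] → ℂ)) (χ : G → ℂ)) = 0 := by
  classical
  have hp : p.Prime := hMp.1
  haveI : Fintype C[x] := Fintype.ofFinite _
  haveI : Fintype C[x'] := Fintype.ofFinite _
  haveI : Fintype (IrrCharacter C[x]) := Fintype.ofFinite _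
  haveI : Fintype (IrrCharacter C[x']) := Fintype.ofFinite _
  unfold thetaFun
  by_cases hconj : IsConj x x'
  · obtain ⟨g, hg⟩ := isConj_iff.1 hconj
    rw [classInner_indSec_indSec_conj hp hx g hg _ (contribFun_isClassFunction p _ x _)
      (contribFun_eq_zero p _ x _) _ (contribFun_eq_zero p _ x' _),
      contribFun_eq_sum hMp ψ₀' χ', contribFun_eq_sum hMp ψ₀ χ]
    have hfun : (fun c' : C[x'] => (∑ ψ : IrrCharacter C[x],
        (if ψ ∈ blockOf M (ψ₀ : C[x] → ℂ) then
          classInner (secLin p x (χ : G → ℂ)) (ψ : C[x] → ℂ) else 0) • (ψ : C[x] → ℂ))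
          ((centConj g hg).symm c')) =
        ∑ ψ : IrrCharacter C[x], (if ψ ∈ blockOf M (ψ₀ : C[x] → ℂ) then
          classInner (secLin p x (χ : G → ℂ)) (ψ : C[x] → ℂ) else 0) •
          (irrComp (centConj g hg).symm ψ : C[x'] → ℂ) := by
      funext c'
      simp only [Finset.sum_apply, Pi.smul_apply, irrComp_apply]
    rw [hfun, classInner_sum_left]
    refine Finset.sum_eq_zero fun ψ' _ => ?_
    rw [classInner_smul_left, classInner_sum_right]
    by_cases hψ' : ψ' ∈ blockOf M (ψ₀' : C[x'] → ℂ)
    · rw [if_pos hψ', Finset.sum_eq_zero, mul_zero]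
      intro ψ _
      rw [classInner_smul_right]
      by_cases hψ : ψ ∈ blockOf M (ψ₀ : C[x] → ℂ)
      · have hne : ψ' ≠ irrComp (centConj g hg).symm ψ := by
          intro heq
          apply hno g hg ψ hψ ψ' hψ'
          intro c c' hcc'
          rw [heq, irrComp_apply]
          have hcc : (centConj g hg).symm c' = c := by
            apply Subtype.ext
            rw [coe_centConj_symm, hcc']
            group
          rw [hcc]
        rw [irr_orthonormal, if_neg hne, mul_zero]
      · rw [if_neg hψ, map_zero, zero_mul]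
    · rw [if_neg hψ', zero_mul]
  · exact classInner_indSec_indSec_of_not_isConj hp hx' hx _ _ (contribFun_eq_zero p _ x' _)
      (contribFun_eq_zero p _ x _) hconj

end Theta

end Cfsg.Agent.Lib.Helper82
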