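import Mathlib
import Cfsg.Prelude.Def_Blocks
import Cfsg.Prelude.Def_BlockRank
import Cfsg.Agent.Lib.Helper82.SecTheta
import Cfsg.Agent.Lib.Helper82.ContribInt
import Cfsg.Agent.Lib.Helper82.MajorSubsection
import Cfsg.Agent.Lib.Helper21.OsimaApps
import Cfsg.Agent.Lib.Helper21.NilpBridge
import Cfsg.Agent.Lib.Helper21.RegularPart
import Cfsg.Agent.Lib.Helper79.DefectSep

set_option autoImplicit false
set_option linter.style.haveILetI false
set_option linter.unusedSectionVars false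

/-!
# Major subsections: the diagonal contributions are non-zero and `p`-integral up to the height
-/

namespace Cfsg.Agent.Lib.Helper82

open Cfsg
open scoped ComplexConjugate
open Cfsg.Agent.Lib.Helper21 Cfsg.Agent.Lib.Helper83

section Roots

variable {p : ℕ} [Fact p.Prime] {M : Ideal AlgInt}

/-- An integer combination of `p`-power roots of unity whose coefficient sum is prime to `p` is a
unit of the local ring. -/
theorem not_memLocalIdeal_sum_mul_pow (hMp : IsPModular p M) {ι : Type*} [Fintype ι]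
    (c : ι → ℤ) (μ : ι → ℂ) (n : ℕ) (hμ : ∀ i, μ i ^ (p ^ n) = 1)
    (hc : ¬ (p : ℤ) ∣ ∑ i, c i) (k : ℕ) : ¬ MemLocalIdeal M (∑ i, (c i : ℂ) * μ i ^ k) := by
  have hM : M.IsPrime := hMp.2.1.isPrime
  have hp : p.Prime := Fact.out
  intro h0
  apply hc
  rw [← memLocalIdeal_intCast_iff hMp]
  have hdiff : MemLocalIdeal M (∑ i, (c i : ℂ) * (μ i ^ k - 1)) := by
    apply memLocalIdeal_sum hM
    intro i _
    apply memLocalIdeal_mul_left hM (memLocalRing_intCast hM (c i))
    have hpow : (μ i ^ k) ^ (p ^ n) = 1 := by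
      rw [← pow_mul, mul_comm, pow_mul, hμ i, one_pow]
    have hint : IsIntegral ℤ (μ i ^ k) := by
      apply IsIntegral.of_pow (pow_pos hp.pos n)
      rw [hpow]
      exact isIntegral_one
    exact memLocalIdeal_sub_one_of_pow_eq_one hMp hint n hpow
  have heq : ((∑ i, c i : ℤ) : ℂ) =
      ∑ i, (c i : ℂ) * μ i ^ k - ∑ i, (c i : ℂ) * (μ i ^ k - 1) := by
    rw [← Finset.sum_sub_distrib]
    push_cast
    refine Finset.sum_congr rfl fun i _ => ?_
    ring
  rw [heq]
  exact memLocalIdeal_sub hM h0 hdiff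

/-- A rational integer whose quotient by `p ^ k` is a local integer is divisible by `p ^ k`. -/
theorem pow_dvd_of_memLocalRing_div (hMp : IsPModular p M) :
    ∀ (k : ℕ) (n : ℤ), MemLocalRing M ((n : ℂ) / ((p ^ k : ℕ) : ℂ)) → ((p : ℤ) ^ k) ∣ n := by
  have hM : M.IsPrime := hMp.2.1.isPrime
  have hp : p.Prime := Fact.out
  have hpc : (p : ℂ) ≠ 0 := Nat.cast_ne_zero.2 hp.ne_zero
  intro k
  induction k with
  | zero => intro n _; simp
  | succ k ih =>
    intro n hn
    have hpI : MemLocalIdeal M ((p : ℕ) : ℂ) := (memLocalIdeal_natCast_iff hMp p).2 dvd_rfl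
    have h1 : MemLocalIdeal M (n : ℂ) := by
      have h2 : (n : ℂ) = ((n : ℂ) / ((p ^ (k + 1) : ℕ) : ℂ) * ((p ^ k : ℕ) : ℂ)) * ((p : ℕ) : ℂ) := by
        push_cast
        field_simp
        ring
      rw [h2]
      exact memLocalIdeal_mul_left hM
        (memLocalRing_mul hM hn (memLocalRing_natCast hM _)) hpI
    obtain ⟨n', rfl⟩ := (memLocalIdeal_intCast_iff hMp n).1 h1
    have h3 : MemLocalRing M ((n' : ℂ) / ((p ^ k : ℕ) : ℂ)) := by
      convert hn using 1
      push_cast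
      field_simp
      ring
    obtain ⟨m, rfl⟩ := ih n' h3
    exact ⟨m, by ring⟩

end Roots

section Unit

universe u
variable {G : Type u} [Group G] [Fintype G] {p : ℕ} [Fact p.Prime] {M : Ideal AlgInt}

local notation "C[" g "]" => Subgroup.centralizer (singleton g)

/-- The subsection parts of the irreducible characters take their values in the local ring. -/
theorem thetaFun_memLocalRing (hMp : IsPModular p M) {x : G} (hx : ∃ k : ℕ, orderOf x = p ^ k)
    (e : Set (IrrCharacter C[x])) (χ : IrrCharacter G) (g : G) :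
    MemLocalRing M (thetaFun p x e (χ : G → ℂ) g) := by
  classical
  have hp : p.Prime := hMp.1
  have hM : M.IsPrime := hMp.2.1.isPrime
  haveI : Fintype C[x] := Fintype.ofFinite _
  haveI : Fintype (IrrCharacter C[x]) := Fintype.ofFinite _
  obtain ⟨z, hz⟩ := exists_isPPart hp g (orderOf_pos g)
  by_cases hc : IsConj x z
  · obtain ⟨t, ht⟩ := isConj_iff.1 hc
    obtain ⟨y, hzy, hcomm, -, hy⟩ := hz
    have hy'mem : t⁻¹ * y * t ∈ C[x] := by
      rw [Subgroup.mem_centralizer_singleton_iff]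
      have h1 : z * y = y * z := hcomm.eq
      rw [← ht] at h1
      calc t⁻¹ * y * t * x = t⁻¹ * (y * (t * x * t⁻¹)) * t := by group
        _ = t⁻¹ * ((t * x * t⁻¹) * y) * t := by rw [h1]
        _ = x * (t⁻¹ * y * t) := by group
    set y' : C[x] := ⟨t⁻¹ * y * t, hy'mem⟩ with hy'def
    have hy'ord : ¬ p ∣ orderOf y' := by
      rw [← Subgroup.orderOf_coe]
      show ¬ p ∣ orderOf (t⁻¹ * y * t)
      have h2 := orderOf_conj' t⁻¹ y
      rw [inv_inv] at h2
      rw [h2]
      exact hy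
    have hg : g = t * (x * (y' : G)) * t⁻¹ := by
      show g = t * (x * (t⁻¹ * y * t)) * t⁻¹
      rw [← hzy, ← ht]
      group
    rw [hg, thetaFun_isClassFunction p x e _ _ _]
    unfold thetaFun
    rw [indSec_apply_mul hp hx _ (contribFun_isClassFunction p e x _)
      (contribFun_eq_zero p e x _) y' hy'ord]
    unfold contribFun
    rw [pRegularPart_of_regular _ hy'ord, blockPart_eq_sum_smul, Finset.sum_apply]
    refine memLocalRing_sum hM _ _ fun ψ _ => ?_
    rw [Pi.smul_apply, smul_eq_mul]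
    apply memLocalRing_mul hM
    · split_ifs
      · exact classInner_secFun_memLocalRing hM χ ψ
      · exact memLocalRing_zero hM
    · exact memLocalRing_of_isIntegral hM
        (IsCharacter.isIntegral (IrrCharacter_isCharacter ψ) y')
  · unfold thetaFun
    rw [indSec_eq_zero hx _ (contribFun_eq_zero p e x _) g]
    · exact memLocalRing_zero hM
    · intro z' hz'
      rw [isPPart_unique hp hz' hz]
      exact hc

/-- The central character value at the inverted subsection part. -/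
theorem omega_thetaFun_inv (hMp : IsPModular p M) {x : G} [Fintype C[x]]
    (ψ₀ : IrrCharacter C[x]) (χ χ' : IrrCharacter G) :
    omega (fun g => thetaFun p x (blockOf M (ψ₀ : C[x] → ℂ)) (χ : G → ℂ) g⁻¹) (χ' : G → ℂ) =
      (Nat.card G : ℂ) * contrib p (blockOf M (ψ₀ : C[x] → ℂ)) x (χ : G → ℂ) (χ' : G → ℂ) /
        (χ' : G → ℂ) 1 := by
  unfold omega
  congr 1
  rw [← classInner_thetaFun_irr hMp ψ₀ χ χ', classInner_def, ← mul_assoc, mul_inv_cancel₀,
    one_mul, ← Equiv.sum_comp (Equiv.inv G)]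
  · refine Finset.sum_congr rfl fun g _ => ?_
    rw [Equiv.inv_apply]
    simp only [inv_inv]
    rw [char_inv (IrrCharacter_isCharacter χ')]
  · exact_mod_cast (Nat.card_pos (α := G)).ne'

theorem thetaFun_inv_isClassFunction (x : G) (e : Set (IrrCharacter C[x])) (χ : G → ℂ) :
    IsClassFunction G (fun g => thetaFun p x e χ g⁻¹) := by
  intro g t
  show thetaFun p x e χ (t * g * t⁻¹)⁻¹ = thetaFun p x e χ g⁻¹
  have h : (t * g * t⁻¹)⁻¹ = t * g⁻¹ * t⁻¹ := by group
  rw [h, thetaFun_isClassFunction p x e χ]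

/-- `|G| m(χ, χ') / χ'(1)` is a local integer. -/
theorem memLocalRing_card_mul_contrib_div (hMp : IsPModular p M) {x : G}
    (hx : ∃ k : ℕ, orderOf x = p ^ k) [Fintype C[x]] (ψ₀ : IrrCharacter C[x])
    (χ χ' : IrrCharacter G) :
    MemLocalRing M ((Nat.card G : ℂ) *
      contrib p (blockOf M (ψ₀ : C[x] → ℂ)) x (χ : G → ℂ) (χ' : G → ℂ) / (χ' : G → ℂ) 1) := by
  haveI : Fintype (IrrCharacter G) := Fintype.ofFinite _
  rw [← omega_thetaFun_inv hMp ψ₀ χ χ']
  exact memLocalRing_omega hMp.2.1.isPrime (thetaFun_inv_isClassFunction x _ _)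
    (fun g => thetaFun_memLocalRing hMp hx _ χ g⁻¹) χ'

/-- The numbers `|G| m(χ, χ') / χ'(1)` are constant modulo the local ideal on the blocks. -/
theorem memLocalIdeal_card_mul_contrib_div_sub (hMp : IsPModular p M) {x : G}
    (hx : ∃ k : ℕ, orderOf x = p ^ k) [Fintype C[x]] (ψ₀ : IrrCharacter C[x])
    (χ χ' χ'' : IrrCharacter G) (h : SameBlock M (χ' : G → ℂ) (χ'' : G → ℂ)) :
    MemLocalIdeal M ((Nat.card G : ℂ) *
        contrib p (blockOf M (ψ₀ : C[x] → ℂ)) x (χ : G → ℂ) (χ' : G → ℂ) / (χ' : G → ℂ) 1 -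
      (Nat.card G : ℂ) *
        contrib p (blockOf M (ψ₀ : C[x] → ℂ)) x (χ : G → ℂ) (χ'' : G → ℂ) / (χ'' : G → ℂ) 1) := by
  haveI : Fintype (IrrCharacter G) := Fintype.ofFinite _
  rw [← omega_thetaFun_inv hMp ψ₀ χ χ', ← omega_thetaFun_inv hMp ψ₀ χ χ'']
  exact omega_sub_memLocalIdeal hMp.2.1.isPrime (thetaFun_inv_isClassFunction x _ _)
    (fun g => thetaFun_memLocalRing hMp hx _ χ g⁻¹) h

/-- The `p`-part of the degree of a member of a block. -/
theorem factorization_charDegree_add_blockDefect (hM : M.IsPrime) {B : Set (IrrCharacter G)}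
    (hB : IsPBlock M B) {χ : IrrCharacter G} (hχ : χ ∈ B) :
    (charDegree (χ : G → ℂ)).factorization p + blockDefect p B =
      (Nat.card G).factorization p + blockHeight p B (χ : G → ℂ) := by
  have h1 := Cfsg.Agent.Lib.Helper79.sInf_add_blockDefect (p := p) hM hB
  have h2 : sInf ((fun χ : IrrCharacter G => (charDegree (χ : G → ℂ)).factorization p) '' B) ≤
      (charDegree (χ : G → ℂ)).factorization p := Nat.sInf_le ⟨χ, hχ, rfl⟩
  unfold blockHeight
  omega

/-- **(5H), unit part.** For a major subsection `(x, e)` and `χ₁` of height zero, the numbers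
`|G| m(χ₁, χ) / χ(1)`, `χ ∈ B`, are units of the local ring. -/
theorem not_memLocalIdeal_card_mul_contrib_div (hMp : IsPModular p M) {x : G}
    (hx : ∃ k : ℕ, orderOf x = p ^ k) [Fintype C[x]] (ψ₀ : IrrCharacter C[x])
    (χ₀ : IrrCharacter G)
    (hind : IsInducedBlock M C[x] (blockOf M (ψ₀ : C[x] → ℂ)) (blockOf M (χ₀ : G → ℂ)))
    (hdef : blockDefect p (blockOf M (ψ₀ : C[x] → ℂ)) = blockDefect p (blockOf M (χ₀ : G → ℂ)))
    (χ₁ χ : IrrCharacter G) (hχ₁ : χ₁ ∈ blockOf M (χ₀ : G → ℂ))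
    (h0 : blockHeight p (blockOf M (χ₀ : G → ℂ)) (χ₁ : G → ℂ) = 0)
    (hχ : χ ∈ blockOf M (χ₀ : G → ℂ)) :
    ¬ MemLocalIdeal M ((Nat.card G : ℂ) *
      contrib p (blockOf M (ψ₀ : C[x] → ℂ)) x (χ₁ : G → ℂ) (χ : G → ℂ) / (χ : G → ℂ) 1) := by
  classical
  have hp : p.Prime := hMp.1
  have hM : M.IsPrime := hMp.2.1.isPrime
  haveI : Fintype (IrrCharacter C[x]) := Fintype.ofFinite _
  set e := blockOf M (ψ₀ : C[x] → ℂ) with he
  set B := blockOf M (χ₀ : G → ℂ) with hB
  have hBblock : IsPBlock M B := ⟨χ₀, rfl⟩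
  set d := blockDefect p B with hd
  -- the diagonal value at `χ₁`
  have hdiag : ¬ MemLocalIdeal M ((Nat.card G : ℂ) *
      contrib p e x (χ₁ : G → ℂ) (χ₁ : G → ℂ) / (χ₁ : G → ℂ) 1) := by
    obtain ⟨n, hn⟩ := hx
    have hsum := contrib_pow_eq_sum_coeff p x e χ₁ χ₁ 1
    rw [pow_one, hdef] at hsum
    have hnd := not_dvd_sum_contribCoeff p hMp x e B hind χ₁ χ₁ hχ₁ hχ₁ h0 h0
    have hunit := not_memLocalIdeal_sum_mul_pow hMp (contribCoeff p x e χ₁ χ₁) (cenMu x) n
      (fun i => by rw [← hn]; exact cenMu_pow_orderOf x i) hnd 1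
    rw [← hsum] at hunit
    intro hmem
    apply hunit
    have hdeg := factorization_charDegree_add_blockDefect (p := p) hM hBblock hχ₁
    rw [h0, add_zero] at hdeg
    have hdeg0 : charDegree (χ₁ : G → ℂ) ≠ 0 := (IsIrrCharacter.charDegree_pos χ₁.2).ne'
    have hpd : p ^ d ≠ 0 := pow_ne_zero _ hp.ne_zero
    have hfac : (p ^ d * charDegree (χ₁ : G → ℂ)).factorization p =
        (Nat.card G).factorization p := by
      rw [Nat.factorization_mul hpd hdeg0, Nat.factorization_pow]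
      simp only [Finsupp.add_apply, Finsupp.smul_apply, hp.factorization_self, smul_eq_mul,
        mul_one]
      omega
    have hcard : Nat.card G ≠ 0 := Nat.card_pos.ne'
    have hu : MemLocalRing M (((p ^ d * charDegree (χ₁ : G → ℂ) : ℕ) : ℂ) /
        ((Nat.card G : ℕ) : ℂ)) := memLocalRing_natCast_div hMp hcard hfac.ge
    have h1 := memLocalIdeal_mul_left hM hu hmem
    convert h1 using 1
    rw [Nat.cast_mul, IsCharacter.charDegree_cast (IrrCharacter_isCharacter χ₁)]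
    have hc : (Nat.card G : ℂ) ≠ 0 := Nat.cast_ne_zero.2 hcard
    have h1ne : (χ₁ : G → ℂ) 1 ≠ 0 := IsIrrCharacter.apply_one_ne_zero χ₁.2
    field_simp
  -- move along the block
  have hsame : SameBlock M (χ : G → ℂ) (χ₁ : G → ℂ) :=
    sameBlock_trans hM (sameBlock_symm (mem_blockOf_iff.1 hχ)) (mem_blockOf_iff.1 hχ₁)
  have hdiff := memLocalIdeal_card_mul_contrib_div_sub hMp hx ψ₀ χ₁ χ χ₁ hsame
  intro hmem
  apply hdiag
  have := memLocalIdeal_sub hM hmem hdiff
  convert this using 1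
  ring

/-- **(5H), non-vanishing.** The diagonal contributions of a major subsection do not vanish on the
block. -/
theorem contrib_self_ne_zero (hMp : IsPModular p M) {x : G}
    (hx : ∃ k : ℕ, orderOf x = p ^ k) [Fintype C[x]] (ψ₀ : IrrCharacter C[x])
    (χ₀ : IrrCharacter G)
    (hind : IsInducedBlock M C[x] (blockOf M (ψ₀ : C[x] → ℂ)) (blockOf M (χ₀ : G → ℂ)))
    (hdef : blockDefect p (blockOf M (ψ₀ : C[x] → ℂ)) = blockDefect p (blockOf M (χ₀ : G → ℂ)))
    (χ : IrrCharacter G) (hχ : χ ∈ blockOf M (χ₀ : G → ℂ)) :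
    contrib p (blockOf M (ψ₀ : C[x] → ℂ)) x (χ : G → ℂ) (χ : G → ℂ) ≠ 0 := by
  classical
  have hM : M.IsPrime := hMp.2.1.isPrime
  haveI : Fintype (IrrCharacter G) := Fintype.ofFinite _
  haveI : Fintype (IrrCharacter C[x]) := Fintype.ofFinite _
  obtain ⟨χ₁, hχ₁, h0⟩ := exists_height_zero (p := p) hM χ₀
  have hunit := not_memLocalIdeal_card_mul_contrib_div hMp hx ψ₀ χ₀ hind hdef χ₁ χ hχ₁ h0 hχ
  have hne : contrib p (blockOf M (ψ₀ : C[x] → ℂ)) x (χ₁ : G → ℂ) (χ : G → ℂ) ≠ 0 := by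
    intro h
    apply hunit
    rw [h, mul_zero, zero_div]
    exact memLocalIdeal_zero hM
  have hne' : contrib p (blockOf M (ψ₀ : C[x] → ℂ)) x (χ : G → ℂ) (χ₁ : G → ℂ) ≠ 0 := by
    intro h
    apply hne
    unfold contrib at h ⊢
    rw [← classInner_conj_symm, h, map_zero]
  intro hzero
  have hrow := sum_contrib_mul_conj hMp hx χ₀ ψ₀ hind χ
  rw [hzero] at hrow
  have hreal : ∀ χ' : IrrCharacter G, (if χ' ∈ blockOf M (χ₀ : G → ℂ) then
      contrib p (blockOf M (ψ₀ : C[x] → ℂ)) x (χ : G → ℂ) (χ' : G → ℂ) *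
        conj (contrib p (blockOf M (ψ₀ : C[x] → ℂ)) x (χ : G → ℂ) (χ' : G → ℂ)) else 0) =
      (((if χ' ∈ blockOf M (χ₀ : G → ℂ) then Complex.normSq
        (contrib p (blockOf M (ψ₀ : C[x] → ℂ)) x (χ : G → ℂ) (χ' : G → ℂ)) else 0 : ℝ)) : ℂ) := by
    intro χ'
    split_ifs
    · rw [Complex.mul_conj]
    · rw [Complex.ofReal_zero]
  simp_rw [hreal] at hrow
  rw [← Complex.ofReal_sum, Complex.ofReal_eq_zero] at hrow
  have hterm := (Finset.sum_eq_zero_iff_of_nonneg (fun χ' _ => by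
    split_ifs
    · exact Complex.normSq_nonneg _
    · exact le_rfl)).1 hrow χ₁ (Finset.mem_univ _)
  rw [if_pos hχ₁, Complex.normSq_eq_zero] at hterm
  exact hne' hterm

/-- **(5H), integrality.** `p ^ d m(χ, χ) / p ^ h` is a local integer, `h` the height of `χ`. -/
theorem memLocalRing_contrib_self (hMp : IsPModular p M) {x : G}
    (hx : ∃ k : ℕ, orderOf x = p ^ k) [Fintype C[x]] (ψ₀ : IrrCharacter C[x])
    (χ₀ : IrrCharacter G) (χ : IrrCharacter G) (hχ : χ ∈ blockOf M (χ₀ : G → ℂ)) :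
    MemLocalRing M (((p ^ blockDefect p (blockOf M (χ₀ : G → ℂ)) : ℕ) : ℂ) *
      contrib p (blockOf M (ψ₀ : C[x] → ℂ)) x (χ : G → ℂ) (χ : G → ℂ) /
      ((p ^ blockHeight p (blockOf M (χ₀ : G → ℂ)) (χ : G → ℂ) : ℕ) : ℂ)) := by
  classical
  have hp : p.Prime := hMp.1
  have hM : M.IsPrime := hMp.2.1.isPrime
  set B := blockOf M (χ₀ : G → ℂ) with hB
  have hBblock : IsPBlock M B := ⟨χ₀, rfl⟩
  set d := blockDefect p B with hd
  set h := blockHeight p B (χ : G → ℂ) with hh
  have hW := memLocalRing_card_mul_contrib_div hMp hx ψ₀ χ χ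
  have hdeg := factorization_charDegree_add_blockDefect (p := p) hM hBblock hχ
  have hdeg0 : charDegree (χ : G → ℂ) ≠ 0 := (IsIrrCharacter.charDegree_pos χ.2).ne'
  have hcard : Nat.card G ≠ 0 := Nat.card_pos.ne'
  have hpd : p ^ d ≠ 0 := pow_ne_zero _ hp.ne_zero
  have hph : p ^ h ≠ 0 := pow_ne_zero _ hp.ne_zero
  have hfac1 : (charDegree (χ : G → ℂ) * p ^ d).factorization p =
      (charDegree (χ : G → ℂ)).factorization p + d := by
    rw [Nat.factorization_mul hdeg0 hpd, Nat.factorization_pow]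
    simp only [Finsupp.add_apply, Finsupp.smul_apply, hp.factorization_self, smul_eq_mul,
      mul_one]
  have hfac2 : (Nat.card G * p ^ h).factorization p = (Nat.card G).factorization p + h := by
    rw [Nat.factorization_mul hcard hph, Nat.factorization_pow]
    simp only [Finsupp.add_apply, Finsupp.smul_apply, hp.factorization_self, smul_eq_mul,
      mul_one]
  have hv : MemLocalRing M (((charDegree (χ : G → ℂ) * p ^ d : ℕ) : ℂ) /
      ((Nat.card G * p ^ h : ℕ) : ℂ)) := by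
    apply memLocalRing_natCast_div hMp (Nat.mul_ne_zero hcard hph)
    rw [hfac1, hfac2]
    omega
  have := memLocalRing_mul hM hW hv
  convert this using 1
  rw [Nat.cast_mul, Nat.cast_mul, IsCharacter.charDegree_cast (IrrCharacter_isCharacter χ)]
  have hc : (Nat.card G : ℂ) ≠ 0 := Nat.cast_ne_zero.2 hcard
  have h1ne : (χ : G → ℂ) 1 ≠ 0 := IsIrrCharacter.apply_one_ne_zero χ.2
  have hphc : ((p ^ h : ℕ) : ℂ) ≠ 0 := Nat.cast_ne_zero.2 hph
  field_simp

end Unit

section CForm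

universe u
variable {G : Type u} [Group G] [Fintype G] {p : ℕ} [Fact p.Prime] {M : Ideal AlgInt}

/-- `contrib_self_ne_zero` for a subgroup `C` equal to `C_G(x)`. -/
theorem contrib_self_ne_zero' (hMp : IsPModular p M) {x : G}
    (hx : ∃ k : ℕ, orderOf x = p ^ k) (C : Subgroup G) [Fintype C]
    (hC : C = Subgroup.centralizer ({x} : Set G)) (ψ₀ : IrrCharacter C)
    (χ₀ : IrrCharacter G)
    (hind : IsInducedBlock M C (blockOf M (ψ₀ : C → ℂ)) (blockOf M (χ₀ : G → ℂ)))
    (hdef : blockDefect p (blockOf M (ψ₀ : C → ℂ)) = blockDefect p (blockOf M (χ₀ : G → ℂ)))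
    (χ : IrrCharacter G) (hχ : χ ∈ blockOf M (χ₀ : G → ℂ)) :
    contrib p (blockOf M (ψ₀ : C → ℂ)) x (χ : G → ℂ) (χ : G → ℂ) ≠ 0 := by
  subst hC
  exact contrib_self_ne_zero hMp hx ψ₀ χ₀ hind hdef χ hχ

/-- `memLocalRing_contrib_self` for a subgroup `C` equal to `C_G(x)`. -/
theorem memLocalRing_contrib_self' (hMp : IsPModular p M) {x : G}
    (hx : ∃ k : ℕ, orderOf x = p ^ k) (C : Subgroup G) [Fintype C]
    (hC : C = Subgroup.centralizer ({x} : Set G)) (ψ₀ : IrrCharacter C)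
    (χ₀ : IrrCharacter G) (χ : IrrCharacter G) (hχ : χ ∈ blockOf M (χ₀ : G → ℂ)) :
    MemLocalRing M (((p ^ blockDefect p (blockOf M (χ₀ : G → ℂ)) : ℕ) : ℂ) *
      contrib p (blockOf M (ψ₀ : C → ℂ)) x (χ : G → ℂ) (χ : G → ℂ) /
      ((p ^ blockHeight p (blockOf M (χ₀ : G → ℂ)) (χ : G → ℂ) : ℕ) : ℂ)) := by
  subst hC
  exact memLocalRing_contrib_self hMp hx ψ₀ χ₀ χ hχ

end CForm

end Cfsg.Agent.Lib.Helper82
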