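import Mathlib
import Cfsg.Prelude.Def_Blocks
import Cfsg.Agent.Lib.Helper82.SecUnit
import Cfsg.Agent.Lib.Helper17.CycAMGM

set_option autoImplicit false
set_option linter.style.haveILetI false
set_option linter.unusedSectionVars false

/-!
# Cyclotomic AM-GM with a `p`-power divisor
-/

namespace Cfsg.Agent.Lib.Helper82

open Cfsg
open scoped ComplexConjugate

section AMGM

variable {p : ℕ} [Fact p.Prime] {M : Ideal AlgInt}

/-- If all Galois conjugates of an integer combination of `q`-th roots of unity are positive reals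
divisible by `p ^ h` in the local ring, their sum is at least `φ(q) p ^ h`. -/
theorem card_units_mul_pow_le_sum_re (hMp : IsPModular p M) (q : ℕ) [NeZero q] {ι : Type*}
    [Fintype ι] (c : ι → ℤ) (μ : ι → ℂ) (hμ : ∀ i, μ i ^ q = 1) (h : ℕ)
    (hne : ∀ j : (ZMod q)ˣ, ∑ i, (c i : ℂ) * μ i ^ (j : ZMod q).val ≠ 0)
    (hreal : ∀ j : (ZMod q)ˣ, ∃ r : ℝ, 0 ≤ r ∧
      ∑ i, (c i : ℂ) * μ i ^ (j : ZMod q).val = (r : ℂ))
    (hint : ∀ j : (ZMod q)ˣ, MemLocalRing M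
      ((∑ i, (c i : ℂ) * μ i ^ (j : ZMod q).val) / ((p ^ h : ℕ) : ℂ))) :
    (Fintype.card (ZMod q)ˣ : ℝ) * (p : ℝ) ^ h ≤
      ∑ j : (ZMod q)ˣ, (∑ i, (c i : ℂ) * μ i ^ (j : ZMod q).val).re := by
  classical
  have hp : p.Prime := Fact.out
  have hM : M.IsPrime := hMp.2.1.isPrime
  choose r hr0 hr using hreal
  have hre : ∀ j : (ZMod q)ˣ, (∑ i, (c i : ℂ) * μ i ^ (j : ZMod q).val).re = r j := by
    intro j
    rw [hr j, Complex.ofReal_re]
  simp_rw [hre]
  obtain ⟨z, hz⟩ := Cfsg.Agent.Lib.Helper17.CycAMGM.prod_conj_eq_int q c μ hμ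
  set N := Fintype.card (ZMod q)ˣ with hN
  have hNpos : 0 < N := Fintype.card_pos
  have hNr : (0 : ℝ) < (N : ℝ) := by exact_mod_cast hNpos
  -- the product of the `r j`
  have hzr : (z : ℝ) = ∏ j : (ZMod q)ˣ, r j := by
    apply Complex.ofReal_injective
    rw [Complex.ofReal_intCast, ← hz, Complex.ofReal_prod]
    exact Finset.prod_congr rfl fun j _ => hr j
  have hz0 : z ≠ 0 := by
    rintro rfl
    rw [Int.cast_zero, Finset.prod_eq_zero_iff] at hz
    obtain ⟨j, -, hj⟩ := hz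
    exact hne j hj
  have hzpos : 0 < z := by
    have h1 : (0 : ℝ) ≤ (z : ℝ) := by
      rw [hzr]
      exact Finset.prod_nonneg fun j _ => hr0 j
    have h2 : (0 : ℤ) ≤ z := by exact_mod_cast h1
    omega
  -- divisibility
  have hzR : MemLocalRing M ((z : ℂ) / ((p ^ (h * N) : ℕ) : ℂ)) := by
    have h1 : (z : ℂ) / ((p ^ (h * N) : ℕ) : ℂ) =
        ∏ j : (ZMod q)ˣ, (∑ i, (c i : ℂ) * μ i ^ (j : ZMod q).val) / ((p ^ h : ℕ) : ℂ) := by
      rw [Finset.prod_div_distrib, hz, Finset.prod_const, Finset.card_univ, ← hN]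
      push_cast
      rw [← pow_mul]
    rw [h1]
    exact memLocalRing_prod hM _ _ fun j _ => hint j
  have hdvd := pow_dvd_of_memLocalRing_div hMp (h * N) z hzR
  have hle : ((p : ℤ) ^ (h * N)) ≤ z := Int.le_of_dvd hzpos hdvd
  have hleR : ((p : ℝ) ^ h) ^ N ≤ ∏ j : (ZMod q)ˣ, r j := by
    rw [← hzr, ← pow_mul]
    exact_mod_cast hle
  -- AM-GM
  have hamgm := Real.geom_mean_le_arith_mean_weighted (Finset.univ : Finset (ZMod q)ˣ)
    (fun _ => (N : ℝ)⁻¹) r (fun _ _ => (inv_pos.mpr hNr).le)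
    (by rw [Finset.sum_const, Finset.card_univ, nsmul_eq_mul, ← hN]; exact mul_inv_cancel₀ hNr.ne')
    (fun j _ => hr0 j)
  rw [Real.finsetProd_rpow _ _ (fun j _ => hr0 j)] at hamgm
  have hph : (0 : ℝ) ≤ (p : ℝ) ^ h := by positivity
  have h2 : (p : ℝ) ^ h ≤ (∏ j : (ZMod q)ˣ, r j) ^ (N : ℝ)⁻¹ := by
    have h3 := Real.rpow_le_rpow (by positivity) hleR (inv_pos.mpr hNr).le
    rwa [Real.pow_rpow_inv_natCast hph hNpos.ne'] at h3
  have h3 := h2.trans hamgm
  rw [← Finset.mul_sum] at h3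
  have h4 := mul_le_mul_of_nonneg_left h3 hNr.le
  rw [← mul_assoc, mul_inv_cancel₀ hNr.ne', one_mul] at h4
  exact h4

end AMGM

end Cfsg.Agent.Lib.Helper82
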