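import Mathlib
import Cfsg.Prelude.Def_Characters
import Cfsg.Agent.Lib.Helper34.Induction

set_option autoImplicit false
set_option linter.style.haveILetI false
set_option linter.unusedSectionVars false

/-!
# A Bessel type inequality for almost orthogonal families
-/

namespace Cfsg.Agent.Lib.Helper82

open Cfsg
open scoped ComplexConjugate
open Cfsg.Agent.Lib.Helper34

section Bessel

universe u
variable {G : Type u} [Group G] [Fintype G]

/-- The real part of an inner product is at most the mean of the squared norms. -/
theorem re_classInner_le (u v : G → ℂ) :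
    (classInner u v).re ≤ ((classInner u u).re + (classInner v v).re) / 2 := by
  have h0 := classInner_self_re_nonneg (u - v)
  rw [classInner_sub_left, classInner_sub_right, classInner_sub_right] at h0
  have h1 : (classInner v u).re = (classInner u v).re := by
    rw [← classInner_conj_symm u v, Complex.conj_re]
  simp only [Complex.sub_re] at h0
  rw [h1] at h0
  linarith

/-- **Bessel type bound.** Let `(u i)` be a finite family with `⟨u i, χ⟩ = ⟨u i, u i⟩ = c i`,
`⟨χ, χ⟩ = 1`, such that `u i ⊥ u k` unless `R i k`, where `R` is symmetric and every `i` is related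
to at most `e` indices.  Then `∑ c i ≤ e`. -/
theorem sum_le_of_almost_orthogonal {ι : Type*} [Fintype ι] (u : ι → G → ℂ) (χ : G → ℂ)
    (hχ : classInner χ χ = 1) (c : ι → ℝ) (huχ : ∀ i, classInner (u i) χ = (c i : ℂ))
    (huu : ∀ i, classInner (u i) (u i) = (c i : ℂ)) (R : ι → ι → Prop) [DecidableRel R]
    (hsymm : ∀ i k, R i k → R k i) (horth : ∀ i k, ¬ R i k → classInner (u i) (u k) = 0)
    (e : ℕ) (he : 0 < e) (hcard : ∀ i, (Finset.univ.filter (fun k => R i k)).card ≤ e) :
    ∑ i, c i ≤ e := by
  classical
  set S : ℝ := ∑ i, c i with hS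
  have heR : (0 : ℝ) < (e : ℝ) := by exact_mod_cast he
  have hc0 : ∀ i, 0 ≤ c i := by
    intro i
    have := classInner_self_re_nonneg (u i)
    rwa [huu i, Complex.ofReal_re] at this
  -- the total vector
  set Θ : G → ℂ := ∑ i, u i with hΘ
  have hΘχ : classInner Θ χ = (S : ℂ) := by
    rw [hΘ, classInner_sum_left, hS, Complex.ofReal_sum]
    exact Finset.sum_congr rfl fun i _ => huχ i
  have hχΘ : classInner χ Θ = (S : ℂ) := by
    rw [← classInner_conj_symm, hΘχ, Complex.conj_ofReal]
  have hΘΘ : (classInner Θ Θ).re ≤ e * S := by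
    rw [hΘ, classInner_sum_left, Complex.re_sum]
    have h1 : ∀ i, (classInner (u i) (∑ k, u k)).re ≤
        ∑ k, if R i k then (c i + c k) / 2 else 0 := by
      intro i
      rw [classInner_sum_right, Complex.re_sum]
      refine Finset.sum_le_sum fun k _ => ?_
      split_ifs with hR
      · have := re_classInner_le (u i) (u k)
        rwa [huu i, huu k, Complex.ofReal_re, Complex.ofReal_re] at this
      · rw [horth i k hR, Complex.zero_re]
    refine (Finset.sum_le_sum fun i _ => h1 i).trans ?_
    -- symmetrize
    have h2 : ∑ i, ∑ k, (if R i k then (c i + c k) / 2 else 0) =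
        ∑ i, ∑ k, (if R i k then c i else 0) := by
      have h3 : ∑ i, ∑ k, (if R i k then (c i + c k) / 2 else 0) =
          (∑ i, ∑ k, (if R i k then c i else 0)) / 2 +
            (∑ i, ∑ k, (if R i k then c k else 0)) / 2 := by
        rw [← add_div, ← Finset.sum_add_distrib, Finset.sum_div]
        refine Finset.sum_congr rfl fun i _ => ?_
        rw [← Finset.sum_add_distrib, Finset.sum_div]
        refine Finset.sum_congr rfl fun k _ => ?_
        split_ifs
        · rfl
        · simp
      have h4 : ∑ i, ∑ k, (if R i k then c k else 0) = ∑ i, ∑ k, (if R i k then c i else 0) := by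
        rw [Finset.sum_comm]
        refine Finset.sum_congr rfl fun i _ => ?_
        refine Finset.sum_congr rfl fun k _ => ?_
        by_cases hR : R i k
        · rw [if_pos hR, if_pos (hsymm i k hR)]
        · rw [if_neg hR, if_neg (fun h => hR (hsymm k i h))]
      rw [h3, h4]
      ring
    rw [h2, hS, Finset.mul_sum]
    refine Finset.sum_le_sum fun i _ => ?_
    rw [← Finset.sum_filter, Finset.sum_const, nsmul_eq_mul]
    exact mul_le_mul_of_nonneg_right (by exact_mod_cast hcard i) (hc0 i)
  -- the norm of `χ - Θ / e`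
  have h0 := classInner_self_re_nonneg (χ - ((e : ℂ)⁻¹) • Θ)
  rw [classInner_sub_left, classInner_sub_right, classInner_sub_right, classInner_smul_left,
    classInner_smul_left, classInner_smul_right, classInner_smul_right, hχ, hΘχ, hχΘ] at h0
  have hconj : conj ((e : ℂ)⁻¹) = (e : ℂ)⁻¹ := by
    rw [map_inv₀, Complex.conj_natCast]
  rw [hconj] at h0
  have hre1 : ((e : ℂ)⁻¹ * (S : ℂ)).re = S / e := by
    have : (e : ℂ)⁻¹ * (S : ℂ) = ((S / e : ℝ) : ℂ) := by
      push_cast
      ring
    rw [this, Complex.ofReal_re]
  have hre2 : ((e : ℂ)⁻¹ * ((e : ℂ)⁻¹ * classInner Θ Θ)).re =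
      (classInner Θ Θ).re / (e * e) := by
    have : (e : ℂ)⁻¹ * ((e : ℂ)⁻¹ * classInner Θ Θ) =
        (((e : ℝ) * e)⁻¹ : ℝ) * classInner Θ Θ := by
      push_cast
      ring
    rw [this, Complex.re_ofReal_mul]
    ring
  simp only [Complex.sub_re, Complex.one_re] at h0
  rw [hre1, hre2] at h0
  have h5 : (classInner Θ Θ).re / (e * e) ≤ S / e := by
    rw [div_le_div_iff₀ (by positivity) heR]
    nlinarith
  have h6 : S / e ≤ 1 := by linarith
  rwa [div_le_one heR] at h6

end Bessel

end Cfsg.Agent.Lib.Helper82
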