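import Mathlib
import Cfsg.Prelude.Def_Blocks
import Cfsg.Prelude.Def_BlockRank
import Cfsg.Prelude.Def_BlockLocal
import Cfsg.Agent.Lib.Helper82.SecUnit
import Cfsg.Agent.Lib.Helper82.SecAMGM
import Cfsg.Agent.Lib.Helper82.SecBessel
import Cfsg.Agent.Lib.Helper22.DefectConj

set_option autoImplicit false
set_option linter.style.haveILetI false
set_option linter.unusedSectionVars false

/-!
# Heights, the inertial index and the centre of a defect group

The sum over `z ∈ Z(D)` of the contributions of the subsections `(z, b^{C_G(z)})` to `⟨χ, χ⟩` is at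
least `p ^ (c + h - d)` and at most the inertial index.
-/

namespace Cfsg.Agent.Lib.Helper82

open Cfsg
open scoped ComplexConjugate
open Cfsg.Agent.Lib.Helper21 Cfsg.Agent.Lib.Helper83

section Lower

universe u
variable {G : Type u} [Group G] [Fintype G] {p : ℕ} [Fact p.Prime] {M : Ideal AlgInt}

local notation "C[" g "]" => Subgroup.centralizer (singleton g)

/-- The diagonal contributions are non-negative reals. -/
theorem contrib_self_eq_ofReal (p : ℕ) {C : Subgroup G} [Fintype C] (e : Set (IrrCharacter C))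
    (x : G) (χ : G → ℂ) :
    contrib p e x χ χ = (((contrib p e x χ χ).re : ℝ) : ℂ) ∧ 0 ≤ (contrib p e x χ χ).re := by
  unfold contrib
  refine ⟨?_, Cfsg.Agent.Lib.Helper34.classInner_self_re_nonneg _⟩
  apply Complex.ext
  · rw [Complex.ofReal_re]
  · rw [Complex.ofReal_im, Cfsg.Agent.Lib.Helper34.classInner_self_im]

/-- **Lower bound for the Galois orbit of a major subsection.** -/
theorem card_units_mul_pow_le_sum_contrib (hM : IsPModular p M) (y : G) (m : ℕ)
    (hy : y ^ (p ^ m) = 1) [Fintype C[y]] (ψ₀ : IrrCharacter C[y]) (χ₀ : IrrCharacter G)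
    (hind : IsInducedBlock M C[y] (blockOf M (ψ₀ : C[y] → ℂ)) (blockOf M (χ₀ : G → ℂ)))
    (hdef : blockDefect p (blockOf M (ψ₀ : C[y] → ℂ)) = blockDefect p (blockOf M (χ₀ : G → ℂ)))
    (χ : IrrCharacter G) (hχ : χ ∈ blockOf M (χ₀ : G → ℂ)) :
    (Fintype.card (ZMod (p ^ m))ˣ : ℝ) *
        (p : ℝ) ^ blockHeight p (blockOf M (χ₀ : G → ℂ)) (χ : G → ℂ) ≤
      (p : ℝ) ^ blockDefect p (blockOf M (χ₀ : G → ℂ)) *
        ∑ j : (ZMod (p ^ m))ˣ,
          (contrib p (blockOf M (ψ₀ : C[y] → ℂ)) (y ^ (j : ZMod (p ^ m)).val)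
            (χ : G → ℂ) (χ : G → ℂ)).re := by
  classical
  have hp : p.Prime := hM.1
  have hMp : M.IsPrime := hM.2.1.isPrime
  haveI : Fintype (IrrCharacter C[y]) := Fintype.ofFinite _
  haveI : NeZero (p ^ m) := ⟨pow_ne_zero _ hp.ne_zero⟩
  set e := blockOf M (ψ₀ : C[y] → ℂ) with he
  set B := blockOf M (χ₀ : G → ℂ) with hB
  set d := blockDefect p B with hd
  set h := blockHeight p B (χ : G → ℂ) with hh
  have hord : orderOf y ∣ p ^ m := orderOf_dvd_of_pow_eq_one hy
  have hX : ∀ k : ℕ, ((p ^ d : ℕ) : ℂ) * contrib p e (y ^ k) (χ : G → ℂ) (χ : G → ℂ) =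
      ∑ i, ((contribCoeff p y e χ χ i : ℤ) : ℂ) * cenMu y i ^ k := by
    intro k
    rw [← contrib_pow_eq_sum_coeff p y e χ χ k, hdef]
  have hμ : ∀ i, cenMu y i ^ (p ^ m) = 1 := by
    intro i
    obtain ⟨r, hr⟩ := hord
    rw [hr, pow_mul, cenMu_pow_orderOf, one_pow]
  have hcop : ∀ j : (ZMod (p ^ m))ˣ, Nat.Coprime (j : ZMod (p ^ m)).val (orderOf y) := by
    intro j
    exact Nat.Coprime.coprime_dvd_right hord (ZMod.val_coe_unit_coprime j)
  have hCj : ∀ j : (ZMod (p ^ m))ˣ, C[y] = C[y ^ (j : ZMod (p ^ m)).val] := fun j =>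
    (centralizer_pow_eq_of_coprime y _ (hcop j)).symm
  have hxj : ∀ j : (ZMod (p ^ m))ˣ, ∃ k : ℕ, orderOf (y ^ (j : ZMod (p ^ m)).val) = p ^ k := by
    intro j
    have h1 : orderOf (y ^ (j : ZMod (p ^ m)).val) ∣ p ^ m :=
      (orderOf_pow_dvd _).trans hord
    obtain ⟨k, -, hk⟩ := (Nat.dvd_prime_pow hp).1 h1
    exact ⟨k, hk⟩
  have hpd : ((p ^ d : ℕ) : ℂ) ≠ 0 := Nat.cast_ne_zero.2 (pow_ne_zero _ hp.ne_zero)
  have hmain := card_units_mul_pow_le_sum_re hM (p ^ m) (contribCoeff p y e χ χ) (cenMu y) hμ h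
    (fun j => by
      rw [← hX]
      exact mul_ne_zero hpd
        (contrib_self_ne_zero' hM (hxj j) C[y] (hCj j) ψ₀ χ₀ hind hdef χ hχ))
    (fun j => by
      rw [← hX]
      obtain ⟨h1, h2⟩ := contrib_self_eq_ofReal p e (y ^ (j : ZMod (p ^ m)).val) (χ : G → ℂ)
      refine ⟨(p : ℝ) ^ d * (contrib p e (y ^ (j : ZMod (p ^ m)).val) (χ : G → ℂ)
        (χ : G → ℂ)).re, by positivity, ?_⟩
      rw [h1]
      push_cast
      rw [Complex.ofReal_re])
    (fun j => by
      rw [← hX]
      exact memLocalRing_contrib_self' hM (hxj j) C[y] (hCj j) ψ₀ χ₀ χ hχ)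
  refine hmain.trans (le_of_eq ?_)
  rw [Finset.mul_sum]
  refine Finset.sum_congr rfl fun j _ => ?_
  rw [← hX]
  obtain ⟨h1, -⟩ := contrib_self_eq_ofReal p e (y ^ (j : ZMod (p ^ m)).val) (χ : G → ℂ)
  rw [h1]
  have : ((p ^ d : ℕ) : ℂ) = (((p : ℝ) ^ d : ℝ) : ℂ) := by push_cast; rfl
  rw [this, ← Complex.ofReal_mul, Complex.ofReal_re, Complex.ofReal_re]

end Lower

section IndSet

universe u
variable {G : Type u} [Group G] {M : Ideal AlgInt}

/-- The set of the irreducible characters of `K` whose central characters are congruent to the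
central characters induced inside `K` from the members of the block `b` of `H`. -/
def indSet (M : Ideal AlgInt) (K H : Subgroup G) (b : Set (IrrCharacter H)) :
    Set (IrrCharacter K) :=
  {ψ | ∀ ξ ∈ b, ∀ k : K, MemLocalIdeal M
    (inducedCentralCharIn K H (ξ : H → ℂ) (k : G) - centralChar (ψ : K → ℂ) k)}

theorem eq_indSet_of_isInducedBlockIn [Finite G] (hM : M.IsPrime) {K H : Subgroup G}
    {b : Set (IrrCharacter H)} {f : Set (IrrCharacter K)} (h : IsInducedBlockIn M K H b f) :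
    f = indSet M K H b := by
  haveI : Fintype G := Fintype.ofFinite G
  haveI : Fintype K := Fintype.ofFinite K
  haveI : Fintype H := Fintype.ofFinite H
  ext ψ
  constructor
  · intro hψ ξ hξ k
    exact h.2.2 ξ hξ ψ hψ k
  · intro hψ
    obtain ⟨ξ, hξ⟩ := IsPBlock.nonempty hM h.1
    obtain ⟨χ', hχ'⟩ := IsPBlock.nonempty hM h.2.1
    rw [IsPBlock.eq_blockOf hM h.2.1 hχ', mem_blockOf_iff]
    intro k
    have h1 := h.2.2 ξ hξ χ' hχ' k
    have h2 := hψ ξ hξ k
    have := memLocalIdeal_sub hM h2 h1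
    convert this using 1
    ring

end IndSet

section Transport

universe u
variable {G : Type u} [Group G] [Fintype G] {M : Ideal AlgInt}

/-- The contributions only depend on the subgroup. -/
theorem contrib_indSet_congr (p : ℕ) (H : Subgroup G) (b : Set (IrrCharacter H))
    (K K' : Subgroup G) [i : Fintype K] [i' : Fintype K'] (hK : K = K') (x : G) (χ : G → ℂ) :
    contrib p (indSet M K H b) x χ χ = contrib p (indSet M K' H b) x χ χ := by
  subst hK
  obtain rfl : i = i' := Subsingleton.elim _ _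
  rfl

end Transport

section Orbits

universe u
variable {G : Type u} [Group G] [Fintype G]

/-- The number of conjugates of `z` under `T` in a subgroup `Z` is at most `|T : H|` when `H`
centralizes `z`. -/
theorem card_filter_conj_le (T H Z : Subgroup G) [Fintype Z] (z : G)
    (hHz : ∀ h ∈ H, h * z = z * h) [DecidablePred fun z' : Z => ∃ t ∈ T, t * z * t⁻¹ = (z' : G)] :
    (Finset.univ.filter (fun z' : Z => ∃ t ∈ T, t * z * t⁻¹ = (z' : G))).card ≤
      H.relIndex T := by
  classical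
  haveI : Fintype (T ⧸ H.subgroupOf T) := Fintype.ofFinite _
  set g : T ⧸ H.subgroupOf T → G := fun q => ((Quotient.out q : T) : G) * z *
    ((Quotient.out q : T) : G)⁻¹ with hg
  have hsub : (Finset.univ.filter (fun z' : Z => ∃ t ∈ T, t * z * t⁻¹ = (z' : G))).image
      (fun z' : Z => (z' : G)) ⊆ Finset.univ.image g := by
    intro w hw
    rw [Finset.mem_image] at hw ⊢
    obtain ⟨z', hz', rfl⟩ := hw
    rw [Finset.mem_filter] at hz'
    obtain ⟨t, ht, htz⟩ := hz'.2
    refine ⟨QuotientGroup.mk (⟨t, ht⟩ : T), Finset.mem_univ _, ?_⟩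
    obtain ⟨h', hh'⟩ := QuotientGroup.mk_out_eq_mul (H.subgroupOf T) (⟨t, ht⟩ : T)
    rw [hg]
    simp only
    rw [hh']
    have hmem : ((h' : T) : G) ∈ H := Subgroup.mem_subgroupOf.1 h'.2
    have hc := hHz _ hmem
    rw [← htz]
    push_cast
    calc t * ((h' : T) : G) * z * (t * ((h' : T) : G))⁻¹
        = t * (((h' : T) : G) * z) * ((h' : T) : G)⁻¹ * t⁻¹ := by group
      _ = t * (z * ((h' : T) : G)) * ((h' : T) : G)⁻¹ * t⁻¹ := by rw [hc]
      _ = t * z * t⁻¹ := by group
  calc (Finset.univ.filter (fun z' : Z => ∃ t ∈ T, t * z * t⁻¹ = (z' : G))).card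
      = ((Finset.univ.filter (fun z' : Z => ∃ t ∈ T, t * z * t⁻¹ = (z' : G))).image
          (fun z' : Z => (z' : G))).card :=
        (Finset.card_image_of_injective _ Subtype.val_injective).symm
    _ ≤ (Finset.univ.image g).card := Finset.card_le_card hsub
    _ ≤ (Finset.univ : Finset (T ⧸ H.subgroupOf T)).card := Finset.card_image_le
    _ = H.relIndex T := by
        rw [Finset.card_univ, ← Nat.card_eq_fintype_card]
        rfl

end Orbits

end Cfsg.Agent.Lib.Helper82
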