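import Mathlib
import Cfsg.Agent.Lib.Helper15.BG142Defs

/-!
# K-TX-5 (keystone 143005, architect helper15): `T2.dvd_pred`
-/

set_option autoImplicit false
set_option linter.unusedSectionVars false
set_option linter.unusedVariables false
set_option linter.style.haveILetI false

namespace Cfsg.Agent.Lib.Helper82.BG142

open Cfsg Cfsg.Agent.Lib.Helper55 Cfsg.Agent.Lib.Helper31.BG134 Cfsg.Agent.Lib.Helper15.BG139
  Cfsg.Agent.Lib.Helper15.BG142

variable {G : Type*} [Group G] [Finite G]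

/-- PURE counting: a subgroup `T` of prime order `t` of `N_G(A)`, `|A| = p ^ 2`, whose fixed points on
`A` form a subgroup `P` of order `p ≠ t`: `t ∣ p - 1`. -/
theorem dvd_pred_of_fix {A P T : Subgroup G} {p t : ℕ} (hp : p.Prime) (hAc : Nat.card A = p ^ 2)
    (hPc : Nat.card P = p) (hPA : P ≤ A) (hTN : T ≤ Subgroup.normalizer (A : Set G))
    (hfix : A ⊓ Subgroup.centralizer (T : Set G) = P) (hTc : Nat.card T = t) (ht : t.Prime)
    (htp : t ≠ p) : t ∣ p - 1 := by
  haveI : Fact t.Prime := ⟨ht⟩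
  letI act : MulAction ↥T ↥A :=
    { smul := fun x a => ⟨(x : G) * (a : G) * (x : G)⁻¹,
        ((Subgroup.mem_normalizer_iff.mp (hTN x.2)) (a : G)).mp a.2⟩
      one_smul := fun a => by
        apply Subtype.ext
        show ((1 : ↥T) : G) * (a : G) * ((1 : ↥T) : G)⁻¹ = a
        simp
      mul_smul := fun x y a => by
        apply Subtype.ext
        show ((x * y : ↥T) : G) * (a : G) * ((x * y : ↥T) : G)⁻¹ =
          (x : G) * ((y : G) * (a : G) * (y : G)⁻¹) * (x : G)⁻¹
        rw [Subgroup.coe_mul, mul_inv_rev]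
        group }
  have hsmul : ∀ (x : ↥T) (a : ↥A), ((x • a : ↥A) : G) = (x : G) * (a : G) * (x : G)⁻¹ :=
    fun _ _ => rfl
  have key : ∀ a : ↥A, a ∈ MulAction.fixedPoints ↥T ↥A ↔ (a : G) ∈ P := by
    intro a
    rw [← hfix, Subgroup.mem_inf, MulAction.mem_fixedPoints]
    constructor
    · intro h
      refine ⟨a.2, ?_⟩
      rw [Subgroup.mem_centralizer_iff]
      intro x hx
      have h1 := congrArg Subtype.val (h ⟨x, hx⟩)
      rw [hsmul] at h1
      calc x * (a : G) = x * (a : G) * x⁻¹ * x := by group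
        _ = (a : G) * x := by rw [h1]
    · rintro ⟨_, hc⟩ x
      rw [Subgroup.mem_centralizer_iff] at hc
      apply Subtype.ext
      rw [hsmul, hc (x : G) x.2]
      group
  have hset : MulAction.fixedPoints ↥T ↥A = ((P.subgroupOf A : Subgroup ↥A) : Set ↥A) := by
    ext a
    rw [key]
    rfl
  have hcard : Nat.card (MulAction.fixedPoints ↥T ↥A) = p := by
    rw [← hPc, hset]
    exact Nat.card_congr (Subgroup.subgroupOfEquivOfLe hPA).toEquiv
  have hT : IsPGroup t ↥T := IsPGroup.of_card (n := 1) (by rw [hTc, pow_one])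
  have hmod := hT.card_modEq_card_fixedPoints ↥A
  rw [hcard, hAc] at hmod
  have hle : p ≤ p ^ 2 := by
    rw [pow_two]
    exact Nat.le_mul_self p
  have hdvd : t ∣ p ^ 2 - p := (Nat.modEq_iff_dvd' hle).mp hmod.symm
  have heq : p ^ 2 - p = p * (p - 1) := by
    rw [Nat.mul_sub, mul_one, pow_two]
  rw [heq] at hdvd
  rcases (Nat.Prime.dvd_mul ht).mp hdvd with h | h
  · exact absurd ((Nat.prime_dvd_prime_iff_eq ht hp).mp h) htp
  · exact h

/-- **KEYSTONE 143005  K-TX-5** `T2.dvd_pred` -/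
theorem T2.dvd_pred {M P H EH A T : Subgroup G} {p t : ℕ} (w : T2 M P H EH A p) (hp : p.Prime)
    (hPc : Nat.card P = p) (hTC : T ≤ CP M P) (hTc : Nat.card T = t) (ht : t.Prime) (htp : t ≠ p) :
    t ∣ p - 1 := by
  have hTne : T ≠ ⊥ := by
    rintro rfl
    rw [Subgroup.card_bot] at hTc
    exact ht.one_lt.ne' hTc.symm
  exact dvd_pred_of_fix hp w.hAc hPc w.hPA ((hTC.trans (le_sup_left.trans w.hCE)).trans w.hAn)
    (w.hfix T hTC hTne) hTc ht htp

end Cfsg.Agent.Lib.Helper82.BG142
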