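import Mathlib

/-!
# K-1376-H (keystone 137608, S1376), abstract counting lemma

`A` elementary abelian of order `q²`, `t` normalizing `A` with `t ∉ M`, `t ^ q ∈ M`; a "bad" predicate
on `A#` which is invariant under passing to generating powers and such that `t ^ i` conjugating a bad
element to a bad element forces `t ^ i ∈ M`: then any two bad elements generate the same subgroup.
-/

set_option autoImplicit false
set_option linter.unusedSectionVars false
set_option linter.unusedVariables false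
set_option linter.style.haveILetI false

namespace Cfsg.Agent.Lib.Helper82.BG159

variable {G : Type*} [Group G]

/-- from `t ^ d ∈ M`, `t ^ q ∈ M` and `0 < d < q` (`q` prime) get `t ∈ M` -/
theorem mem_of_pow_mem_of_lt (M : Subgroup G) (q : ℕ) (hq : q.Prime) (t : G) (htq : t ^ q ∈ M)
    (d : ℕ) (hd0 : d ≠ 0) (hdq : d < q) (htd : t ^ d ∈ M) : t ∈ M := by
  have hcop : Nat.Coprime d q := by
    rw [Nat.coprime_comm, hq.coprime_iff_not_dvd]
    exact Nat.not_dvd_of_pos_of_lt (Nat.pos_of_ne_zero hd0) hdq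
  have h1 : (1 : ℤ) = d * Nat.gcdA d q + q * Nat.gcdB d q := by
    rw [← Nat.gcd_eq_gcd_ab, hcop.gcd_eq_one]
    simp
  have h2 : t = (t ^ d) ^ (Nat.gcdA d q) * (t ^ q) ^ (Nat.gcdB d q) := by
    rw [← zpow_natCast t d, ← zpow_natCast t q, ← zpow_mul, ← zpow_mul, ← zpow_add, ← h1, zpow_one]
  rw [h2]
  exact mul_mem (zpow_mem htd _) (zpow_mem htq _)

/-- the counting lemma -/
theorem mem_zpowers_of_bad (q : ℕ) (hq : q.Prime) (A : Subgroup G) [Finite A]
    (hAc : Nat.card A = q ^ 2) (hAp : ∀ a ∈ A, a ^ q = 1)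
    (t : G) (hnorm : ∀ i : ℕ, ∀ a ∈ A, t ^ i * a * (t ^ i)⁻¹ ∈ A)
    (M : Subgroup G) (htM : t ∉ M) (htq : t ^ q ∈ M)
    (Bd : G → Prop)
    (hpow : ∀ a ∈ A, Bd a → ∀ k : ℕ, a ^ k ≠ 1 → Bd (a ^ k))
    (hK2 : ∀ a ∈ A, Bd a → ∀ i : ℕ, Bd (t ^ i * a * (t ^ i)⁻¹) → t ^ i ∈ M)
    (a b : G) (ha : a ∈ A) (hb : b ∈ A) (ha1 : a ≠ 1) (hb1 : b ≠ 1) (hBa : Bd a) (hBb : Bd b) :
    b ∈ Subgroup.zpowers a := by
  haveI : Fact q.Prime := ⟨hq⟩
  by_contra hba
  have hoa : orderOf a = q := orderOf_eq_prime (hAp a ha) ha1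
  have hob : orderOf b = q := orderOf_eq_prime (hAp b hb) hb1
  -- the two base points
  let c : Bool → G := fun ε => if ε then a else b
  have hcA : ∀ ε, c ε ∈ A := by
    intro ε
    cases ε
    · exact hb
    · exact ha
  have hcB : ∀ ε, Bd (c ε) := by
    intro ε
    cases ε
    · exact hBb
    · exact hBa
  have hco : ∀ ε, orderOf (c ε) = q := by
    intro ε
    cases ε
    · exact hob
    · exact hoa
  have hpne : ∀ ε (k : Fin (q - 1)), c ε ^ (k.val + 1) ≠ 1 := by
    intro ε k
    apply pow_ne_one_of_lt_orderOf (Nat.succ_ne_zero _)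
    rw [hco ε]
    have := k.isLt
    omega
  -- cross relation is impossible
  have hcross : ∀ (k k' : Fin (q - 1)), a ^ (k.val + 1) = b ^ (k'.val + 1) → False := by
    intro k k' he
    have hcop : Nat.Coprime (k'.val + 1) (orderOf b) := by
      rw [hob, Nat.coprime_comm, hq.coprime_iff_not_dvd]
      apply Nat.not_dvd_of_pos_of_lt (Nat.succ_pos _)
      have := k'.isLt
      omega
    obtain ⟨m, hm⟩ := exists_pow_eq_self_of_coprime hcop
    apply hba
    rw [← hm, ← he, ← pow_mul]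
    exact Subgroup.pow_mem _ (Subgroup.mem_zpowers a) _
  -- the injection
  let f : Option (Bool × Fin (q - 1) × Fin q) → A := fun o =>
    match o with
    | none => 1
    | some (ε, k, i) => ⟨t ^ i.val * c ε ^ (k.val + 1) * (t ^ i.val)⁻¹,
        hnorm i.val _ (A.pow_mem (hcA ε) _)⟩
  -- key: ordered comparison
  have key : ∀ (ε ε' : Bool) (k k' : Fin (q - 1)) (i i' : Fin q), i.val ≤ i'.val →
      t ^ i.val * c ε ^ (k.val + 1) * (t ^ i.val)⁻¹ =
        t ^ i'.val * c ε' ^ (k'.val + 1) * (t ^ i'.val)⁻¹ →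
      (ε, k, i) = (ε', k', i') := by
    intro ε ε' k k' i i' hii he
    obtain ⟨d, hd⟩ := Nat.exists_eq_add_of_le hii
    have he2 : c ε ^ (k.val + 1) = t ^ d * c ε' ^ (k'.val + 1) * (t ^ d)⁻¹ := by
      rw [hd, pow_add t i.val d] at he
      have h3 : t ^ i.val * c ε ^ (k.val + 1) * (t ^ i.val)⁻¹ =
          t ^ i.val * (t ^ d * c ε' ^ (k'.val + 1) * (t ^ d)⁻¹) * (t ^ i.val)⁻¹ := by
        rw [he]
        group
      exact mul_left_cancel (mul_right_cancel h3)
    have hB1 : Bd (c ε ^ (k.val + 1)) := hpow _ (hcA ε) (hcB ε) _ (hpne ε k)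
    have hB2 : Bd (c ε' ^ (k'.val + 1)) := hpow _ (hcA ε') (hcB ε') _ (hpne ε' k')
    have htd : t ^ d ∈ M := by
      apply hK2 _ (A.pow_mem (hcA ε') _) hB2 d
      rw [← he2]
      exact hB1
    have hd0 : d = 0 := by
      by_contra hd0
      have hdq : d < q := by
        have := i'.isLt
        omega
      exact htM (mem_of_pow_mem_of_lt M q hq t htq d hd0 hdq htd)
    subst hd0
    have hi : i = i' := Fin.ext (by omega)
    rw [pow_zero, one_mul, inv_one, mul_one] at he2
    cases ε <;> cases ε'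
    · -- both b
      have h4 : (k.val + 1) % orderOf b = (k'.val + 1) % orderOf b := pow_inj_mod.mp he2
      rw [hob, Nat.mod_eq_of_lt (by have := k.isLt; omega),
        Nat.mod_eq_of_lt (by have := k'.isLt; omega)] at h4
      have hk : k = k' := Fin.ext (by omega)
      rw [hk, hi]
    · exact (hcross k' k he2.symm).elim
    · exact (hcross k k' he2).elim
    · have h4 : (k.val + 1) % orderOf a = (k'.val + 1) % orderOf a := pow_inj_mod.mp he2
      rw [hoa, Nat.mod_eq_of_lt (by have := k.isLt; omega),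
        Nat.mod_eq_of_lt (by have := k'.isLt; omega)] at h4
      have hk : k = k' := Fin.ext (by omega)
      rw [hk, hi]
  have hne1 : ∀ (ε : Bool) (k : Fin (q - 1)) (i : Fin q),
      t ^ i.val * c ε ^ (k.val + 1) * (t ^ i.val)⁻¹ ≠ 1 := by
    intro ε k i he
    apply hpne ε k
    have h5 : c ε ^ (k.val + 1) = (t ^ i.val)⁻¹ * (t ^ i.val * c ε ^ (k.val + 1) * (t ^ i.val)⁻¹) *
        t ^ i.val := by group
    rw [h5, he]
    group
  have hinj : Function.Injective f := by
    intro o o' he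
    rcases o with _ | ⟨ε, k, i⟩ <;> rcases o' with _ | ⟨ε', k', i'⟩
    · rfl
    · exfalso
      have h6 := congrArg Subtype.val he
      exact hne1 ε' k' i' h6.symm
    · exfalso
      have h6 := congrArg Subtype.val he
      exact hne1 ε k i h6
    · have h6 : t ^ i.val * c ε ^ (k.val + 1) * (t ^ i.val)⁻¹ =
          t ^ i'.val * c ε' ^ (k'.val + 1) * (t ^ i'.val)⁻¹ := congrArg Subtype.val he
      rcases le_total i.val i'.val with hii | hii
      · rw [key ε ε' k k' i i' hii h6]
      · rw [key ε' ε k' k i' i hii h6.symm]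
  have hcard := Nat.card_le_card_of_injective f hinj
  have hdom : Nat.card (Option (Bool × Fin (q - 1) × Fin q)) = 2 * ((q - 1) * q) + 1 := by
    rw [Nat.card_eq_fintype_card]
    simp
  rw [hdom, hAc] at hcard
  have hq2 := hq.two_le
  obtain ⟨r, rfl⟩ := Nat.exists_eq_add_of_le hq2
  have e1 : 2 + r - 1 = r + 1 := by omega
  rw [e1] at hcard
  nlinarith

end Cfsg.Agent.Lib.Helper82.BG159
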