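import Mathlib
import Cfsg.Agent.Lib.Helper30.BG159Defs2
import Cfsg.Agent.Lib.Helper30.Generation
import Cfsg.Agent.Lib.Helper31.FittingHall
import Cfsg.Agent.Lib.Helper71.BG11a
import Cfsg.Agent.S1350
import Cfsg.Agent.Lib.Helper82.BG159H0

/-!
# K-1376-H (keystone 137608, architect helper30, S1376): `pgroup_le_of_bad`

A `q`-subgroup `P` of `Ns` containing `A` lies in `M`.
-/

set_option autoImplicit false
set_option linter.unusedSectionVars false
set_option linter.unusedVariables false
set_option linter.style.haveILetI false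

namespace Cfsg.Agent.Lib.Helper82.BG159

open Cfsg Subgroup Cfsg.Agent.Lib.Helper30.BG159

variable {G : Type*} [Group G] [Finite G]

/-- K-1376-H (HARD, the key lemma) -/
theorem pgroup_le_of_bad (hG : IsMinSimpleOddOrder G) {M N Ns K U : Subgroup G} {x : G}
    (h : Cfg M N Ns K U x) (hab : IsMulCommutative ↥(M ⊓ Ns))
    (hcent : ∀ e ∈ M ⊓ Ns, e * x = x * e → e = 1)
    {q : ℕ} {A : Subgroup G} (hB : Bad M Ns q A)
    (P : Subgroup G) (hP : IsPGroup q P) (hAP : A ≤ P) (hPNs : P ≤ Ns) : P ≤ M := by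
  by_contra hPM
  haveI : Fact q.Prime := ⟨hB.hq⟩
  have hq := hB.hq
  have hAM : A ≤ M := hB.hAE.trans inf_le_left
  have hAp : ∀ a ∈ A, a ^ q = 1 := hB.hAel.2
  have hAcomm : ∀ a ∈ A, ∀ b ∈ A, a * b = b * a := by
    intro a ha b hb
    haveI := hB.hAel.1
    have := (IsMulCommutative.is_comm (M := ↥A)).comm ⟨a, ha⟩ ⟨b, hb⟩
    exact congrArg Subtype.val this
  -- `M` is self-normalizing
  have hM1 : M ≠ ⊥ := by
    intro e
    have h1 : A = ⊥ := by rw [eq_bot_iff, ← e]; exact hAM
    have h2 := hB.hAc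
    rw [h1, Subgroup.card_bot] at h2
    have := hq.two_le
    nlinarith
  have hNM : normalizer (M : Set G) = M := by
    haveI : IsSimpleGroup G := hG.2.1
    rcases h.hM.le_iff.mp (Subgroup.le_normalizer (H := M)) with h1 | h1
    · exfalso
      rw [Subgroup.normalizer_eq_top_iff] at h1
      rcases h1.eq_bot_or_eq_top with h3 | h3
      · exact hM1 h3
      · exact h.hM.1 h3
    · exact h1
  -- `D = P ⊓ M`
  have hDE : P ⊓ M ≤ M ⊓ Ns := fun g hg => ⟨hg.2, hPNs hg.1⟩
  have hDlt : (P ⊓ M).subgroupOf P < ⊤ := by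
    rw [lt_top_iff_ne_top, Ne, Subgroup.subgroupOf_eq_top]
    intro hle
    exact hPM (hle.trans inf_le_right)
  haveI : Group.IsNilpotent ↥P := hP.isNilpotent
  have hNC := Group.normalizerCondition_of_isNilpotent (G := ↥P) _ hDlt
  obtain ⟨t', ht'N, ht'D⟩ := SetLike.exists_of_lt hNC
  have ht0P : (t' : G) ∈ P := t'.2
  have ht0M : (t' : G) ∉ M := by
    intro hm
    apply ht'D
    rw [Subgroup.mem_subgroupOf]
    exact ⟨ht0P, hm⟩
  have ht0N : (t' : G) ∈ normalizer ((P ⊓ M : Subgroup G) : Set G) := by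
    rw [Subgroup.mem_normalizer_iff]
    intro g
    have hiff := Subgroup.mem_normalizer_iff.mp ht'N
    constructor
    · intro hg
      have h1 := (hiff ⟨g, hg.1⟩).mp (by rw [Subgroup.mem_subgroupOf]; exact hg)
      rw [Subgroup.mem_subgroupOf] at h1
      exact h1
    · intro hg
      have hgP : g ∈ P := by
        have h2 : g = (t' : G)⁻¹ * ((t' : G) * g * (t' : G)⁻¹) * (t' : G) := by group
        rw [h2]
        exact mul_mem (mul_mem (inv_mem ht0P) hg.1) ht0P
      have h1 := (hiff ⟨g, hgP⟩).mpr (by rw [Subgroup.mem_subgroupOf]; exact hg)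
      rw [Subgroup.mem_subgroupOf] at h1
      exact h1
  -- choose the power `t` of `t₀` with `t ∉ M`, `t ^ q ∈ M`
  obtain ⟨k0, hk0⟩ := hP ⟨(t' : G), ht0P⟩
  have hk0' : (t' : G) ^ (q ^ k0) = 1 := by
    have := congrArg Subtype.val hk0
    simpa using this
  have hex : ∃ n : ℕ, (t' : G) ^ (q ^ n) ∈ M := ⟨k0, by rw [hk0']; exact one_mem _⟩
  classical
  have hn0 : Nat.find hex ≠ 0 := by
    intro e
    have := Nat.find_spec hex
    rw [e, pow_zero, pow_one] at this
    exact ht0M this
  obtain ⟨j, hj⟩ := Nat.exists_eq_succ_of_ne_zero hn0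
  set t : G := (t' : G) ^ (q ^ j) with ht
  have htM : t ∉ M := Nat.find_min hex (by omega : j < Nat.find hex)
  have htq : t ^ q ∈ M := by
    have := Nat.find_spec hex
    rw [hj, Nat.succ_eq_add_one, pow_succ, pow_mul] at this
    exact this
  have htP : t ∈ P := pow_mem ht0P _
  have htN : t ∈ normalizer ((P ⊓ M : Subgroup G) : Set G) := pow_mem ht0N _
  -- conjugation by powers of `t` preserves `A`
  have hnorm : ∀ i : ℕ, ∀ a ∈ A, t ^ i * a * (t ^ i)⁻¹ ∈ A := by
    intro i a ha
    by_cases ha1 : a = 1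
    · rw [ha1, mul_one, mul_inv_cancel]
      exact one_mem _
    have hsN : t ^ i ∈ normalizer ((P ⊓ M : Subgroup G) : Set G) := pow_mem htN _
    have haD : a ∈ P ⊓ M := ⟨hAP ha, hAM ha⟩
    have hcD : t ^ i * a * (t ^ i)⁻¹ ∈ P ⊓ M := (Subgroup.mem_normalizer_iff.mp hsN a).mp haD
    have hc1 : t ^ i * a * (t ^ i)⁻¹ ≠ 1 := by
      intro e
      apply ha1
      have h5 : a = (t ^ i)⁻¹ * (t ^ i * a * (t ^ i)⁻¹) * t ^ i := by group
      rw [h5, e]
      group
    have hcq : (t ^ i * a * (t ^ i)⁻¹) ^ q = 1 := by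
      rw [conj_pow, hAp a ha, mul_one, mul_inv_cancel]
    have hord : orderOf (t ^ i * a * (t ^ i)⁻¹) = q := orderOf_eq_prime hcq hc1
    have hZ : zpowers (t ^ i * a * (t ^ i)⁻¹) ≤ A := by
      apply hB.hAall
      · rw [Subgroup.zpowers_le]
        exact hDE hcD
      · rw [Nat.card_zpowers, hord]
    exact hZ (Subgroup.mem_zpowers _)
  -- the bad predicate
  let Bd : G → Prop := fun b => b ∈ A ∧ b ≠ 1 ∧ sigmaCore M ⊓ centralizer ({b} : Set G) ≠ ⊥
  have hpow : ∀ a ∈ A, Bd a → ∀ k : ℕ, a ^ k ≠ 1 → Bd (a ^ k) := by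
    intro a ha hBa k hk
    refine ⟨A.pow_mem ha k, hk, ?_⟩
    intro e
    apply hBa.2.2
    rw [eq_bot_iff, ← e]
    apply inf_le_inf_left
    intro g hg
    rw [Subgroup.mem_centralizer_iff] at hg ⊢
    intro y hy
    rw [Set.mem_singleton_iff] at hy
    subst hy
    have h1 : a * g = g * a := hg a rfl
    have h2 : Commute a g := h1
    exact (h2.pow_left k).eq
  have hK2 : ∀ a ∈ A, Bd a → ∀ i : ℕ, Bd (t ^ i * a * (t ^ i)⁻¹) → t ^ i ∈ M := by
    intro a ha hBa i hBc
    set s := t ^ i with hs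
    have hu := hB.huniq _ hBc.1 hBc.2.1 hBc.2.2
    have hua := (hB.huniq a ha hBa.2.1 hBa.2.2).1
    have hL : IsCoatom (M.map (MulAut.conj s).toMonoidHom) :=
      ((MulAut.conj s).mapSubgroup.isCoatom_iff M).2 h.hM
    have hle : centralizer ({s * a * s⁻¹} : Set G) ≤ M.map (MulAut.conj s).toMonoidHom := by
      intro g hg
      rw [Subgroup.mem_centralizer_iff] at hg
      have h1 : s * a * s⁻¹ * g = g * (s * a * s⁻¹) := hg _ rfl
      have h2 : s⁻¹ * g * s ∈ centralizer ({a} : Set G) := by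
        rw [Subgroup.mem_centralizer_iff]
        intro y hy
        rw [Set.mem_singleton_iff] at hy
        subst hy
        have h3 : y * (s⁻¹ * g * s) = s⁻¹ * (s * y * s⁻¹ * g) * s := by group
        have h4 : s⁻¹ * g * s * y = s⁻¹ * (g * (s * y * s⁻¹)) * s := by group
        rw [h3, h4, h1]
      refine ⟨s⁻¹ * g * s, hua h2, ?_⟩
      simp only [MulEquiv.coe_toMonoidHom, MulAut.conj_apply]
      group
    have hLM := hu.2 _ hL hle
    have hsN : s ∈ normalizer (M : Set G) := Subgroup.mem_normalizer_iff_map_conj_eq.mpr hLM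
    rw [hNM] at hsN
    exact hsN
  -- a bad element
  obtain ⟨b0, hb0A, hb01, hb0c⟩ := hB.hbad
  have hBb0 : Bd b0 := ⟨hb0A, hb01, hb0c⟩
  haveI : Finite ↥A := inferInstance
  -- coprime generation
  have hpX : ¬ q ∣ Nat.card (sigmaCore M) := by
    intro hdvd
    have hS := (Cfsg.Agent.S1350.result hG M h.hM).1
    have hqs : q ∈ sigma M := hS.2.1 q hq hdvd
    have hnd := hS.2.2 q hq hqs
    apply hnd
    have h1 := Cfsg.Agent.Lib.Helper31.IsComplIn.card_mul h.hE
    have h2 : Nat.card (sigmaCore M) * (sigmaCore M).relIndex M = Nat.card M := by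
      have := Subgroup.relIndex_mul_relIndex (⊥ : Subgroup G) (sigmaCore M) M bot_le hS.1
      rw [Subgroup.relIndex_bot_left, Subgroup.relIndex_bot_left] at this
      exact this
    have h3 : (sigmaCore M).relIndex M = Nat.card ↥(M ⊓ Ns) := by
      have hpos : 0 < Nat.card (sigmaCore M) := Nat.card_pos
      apply Nat.eq_of_mul_eq_mul_left hpos
      rw [h2, ← h1, mul_comm]
    rw [h3]
    have h4 : Nat.card A ∣ Nat.card ↥(M ⊓ Ns) := Subgroup.card_dvd_of_le hB.hAE
    rw [hB.hAc] at h4
    exact dvd_trans (dvd_pow_self q (by norm_num)) h4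
  have hAX : A ≤ normalizer ((sigmaCore M : Subgroup G) : Set G) :=
    hAM.trans (Cfsg.Agent.Lib.Helper71.BG11.le_normalizer_sigmaCore M)
  have hgen := Cfsg.Agent.Lib.Helper30.coprime_generation q A hAcomm hAp
    (le_of_eq hB.hAc.symm) (sigmaCore M) hAX hpX (centralizer ({b0} : Set G)) (by
      intro B hBA hBi
      have hBc : Nat.card B = q := by
        have h1 : Nat.card B * B.relIndex A = Nat.card A := by
          have := Subgroup.relIndex_mul_relIndex (⊥ : Subgroup G) B A bot_le hBA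
          rw [Subgroup.relIndex_bot_left, Subgroup.relIndex_bot_left] at this
          exact this
        rw [hBi, hB.hAc, pow_two] at h1
        exact Nat.eq_of_mul_eq_mul_right hq.pos h1
      have hBne : B ≠ ⊥ := by
        intro e
        rw [e, Subgroup.card_bot] at hBc
        exact hq.one_lt.ne hBc
      obtain ⟨a, haB⟩ := (Subgroup.ne_bot_iff_exists_ne_one.mp hBne)
      have haB' : (a : G) ∈ B := a.2
      have ha1' : (a : G) ≠ 1 := fun e => haB (Subtype.ext e)
      have hle1 : sigmaCore M ⊓ centralizer (B : Set G) ≤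
          sigmaCore M ⊓ centralizer ({(a : G)} : Set G) := by
        apply inf_le_inf_left
        apply Subgroup.centralizer_le
        intro y hy
        rw [Set.mem_singleton_iff] at hy
        rw [hy]
        exact haB'
      by_cases hbd : sigmaCore M ⊓ centralizer ({(a : G)} : Set G) = ⊥
      · rw [hbd] at hle1
        exact hle1.trans bot_le
      · have hBa : Bd (a : G) := ⟨hBA haB', ha1', hbd⟩
        have hmem := mem_zpowers_of_bad q hq A hB.hAc hAp t hnorm M htM htq Bd hpow hK2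
          (a : G) b0 (hBA haB') hb0A ha1' hb01 hBa hBb0
        refine hle1.trans (inf_le_right.trans ?_)
        intro g hg
        rw [Subgroup.mem_centralizer_iff] at hg ⊢
        intro y hy
        rw [Set.mem_singleton_iff] at hy
        subst hy
        obtain ⟨z, hz⟩ := Subgroup.mem_zpowers_iff.mp hmem
        have h1 : (a : G) * g = g * (a : G) := hg _ rfl
        have h2 : Commute (a : G) g := h1
        rw [← hz]
        exact (h2.zpow_left z).eq)
  have hx := hgen h.hxσ
  rw [Subgroup.mem_centralizer_iff] at hx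
  have hx1 : b0 * x = x * b0 := hx b0 rfl
  exact hb01 (hcent b0 (hB.hAE hb0A) hx1)

end Cfsg.Agent.Lib.Helper82.BG159
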