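import Mathlib
import Cfsg.Prelude.Def_Blocks
import Cfsg.Agent.Lib.Helper82.ClassConst

set_option autoImplicit false

namespace Cfsg.Agent.Lib.Helper82

theorem class_product_iff {G : Type*} [Group G] [Fintype G] (hreg : RegularDecomp G) (x y : G) :
    (∀ z : G, IsConj (x * y) z ↔ ∃ a b : G, z = a * x * a⁻¹ * (b * y * b⁻¹)) ↔
      ∀ (a b : G) (χ : Cfsg.IrrCharacter G), (χ : G → ℂ) 1 * (χ : G → ℂ) (a * x * a⁻¹ * (b * y * b⁻¹)) =
        (χ : G → ℂ) x * (χ : G → ℂ) y := by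
  classical
  have hG : (Fintype.card G : ℂ) ≠ 0 := by exact_mod_cast Fintype.card_ne_zero
  constructor
  · intro H a b χ
    have hχ := χ.2
    have hcl := IsCharacter.conj_apply (IsIrrCharacter.isCharacter hχ)
    have hw : IsConj (x * y) (a * x * a⁻¹ * (b * y * b⁻¹)) := (H _).2 ⟨a, b, rfl⟩
    have key : ∀ g : G, (χ : G → ℂ) (x * (g * y * g⁻¹)) =
        (χ : G → ℂ) (a * x * a⁻¹ * (b * y * b⁻¹)) := by
      intro g
      have h1 : IsConj (x * y) (x * (g * y * g⁻¹)) := (H _).2 ⟨1, g, by group⟩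
      obtain ⟨c, hc⟩ := isConj_iff.1 h1
      obtain ⟨d, hd⟩ := isConj_iff.1 hw
      rw [← hc, ← hd, hcl, hcl]
    have h2 := IsIrrCharacter.sum_mul_conj hχ x y
    simp_rw [key] at h2
    rw [Finset.sum_const, Finset.card_univ, nsmul_eq_mul] at h2
    have h3 := IsIrrCharacter.apply_one_ne_zero hχ
    field_simp at h2
    rw [mul_comm]; exact h2
  · intro K z
    constructor
    · intro hz
      obtain ⟨c, hc⟩ := isConj_iff.1 hz
      exact ⟨c, c, by rw [← hc]; group⟩
    · rintro ⟨a, b, rfl⟩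
      obtain ⟨s, hall, h1, h2⟩ := hreg
      refine isConj_of_forall_irr_eq s (RegularDecomp.ite_form h1 h2) _ _ fun χ _ => ?_
      have h3 := IsIrrCharacter.apply_one_ne_zero χ.2
      have h4 := K a b χ
      have h5 := K 1 1 χ
      have h6 : (1 : G) * x * 1⁻¹ * (1 * y * 1⁻¹) = x * y := by group
      rw [h6] at h5
      exact mul_left_cancel₀ h3 (h5.trans h4.symm)

end Cfsg.Agent.Lib.Helper82
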