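import Mathlib
import Cfsg.Agent.Lib.Helper29.K82Arith

set_option autoImplicit false
set_option linter.style.haveILetI false
set_option linter.unusedSectionVars false

/-!
# Abstract arithmetic for the bound on the number of height zero characters in `2`-blocks
-/

namespace Cfsg.Agent.Lib.Helper82

open scoped ComplexConjugate

/-- Parity of the Galois average: for an integer combination `∑ c_i μ_i` with odd coefficient sum,
invariant under an involution `σ` of the index set which conjugates the `μ_i` and whose fixed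
points have `μ_i = 1`, the integer `∑_{μ_i = 1} c_i - ∑_{μ_i = -1} c_i` is odd. -/
theorem odd_sum_filter_sub_sum_filter {ι : Type*} [Fintype ι] [DecidableEq ι] (σ : ι → ι)
    (hσ : ∀ i, σ (σ i) = i) (c : ι → ℤ) (μ : ι → ℂ) (hc : ∀ i, c (σ i) = c i)
    (hμ : ∀ i, μ (σ i) = conj (μ i)) (hfix : ∀ i, σ i = i → μ i = 1)
    [DecidablePred fun i => μ i = 1] [DecidablePred fun i => μ i = -1]
    (hodd : ¬ (2 : ℤ) ∣ ∑ i, c i) :
    Odd ((∑ i ∈ Finset.univ.filter (fun i => μ i = 1), c i) -
      (∑ i ∈ Finset.univ.filter (fun i => μ i = -1), c i)) := by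
  classical
  have hne : (1 : ℂ) ≠ -1 := by norm_num
  set S3 : Finset ι := Finset.univ.filter (fun i => ¬ μ i = 1 ∧ ¬ μ i = -1) with hS3
  -- splitting the sum
  have hsplit : ∑ i, c i = (∑ i ∈ Finset.univ.filter (fun i => μ i = 1), c i) +
      (∑ i ∈ Finset.univ.filter (fun i => μ i = -1), c i) + ∑ i ∈ S3, c i := by
    rw [← Finset.sum_filter_add_sum_filter_not Finset.univ (fun i => μ i = 1) c, add_assoc]
    congr 1
    rw [← Finset.sum_filter_add_sum_filter_not (Finset.univ.filter (fun i => ¬ μ i = 1))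
      (fun i => μ i = -1) c, Finset.filter_filter, Finset.filter_filter]
    congr 1
    apply Finset.sum_congr _ fun _ _ => rfl
    ext i
    simp only [Finset.mem_filter, Finset.mem_univ, true_and]
    constructor
    · intro h; exact h.2
    · intro h
      refine ⟨?_, h⟩
      rw [h]
      exact fun h' => hne h'.symm
  -- the sum over `S3` is even
  have hconj1 : ∀ z : ℂ, conj z = 1 → z = 1 := by
    intro z hz
    have := congrArg conj hz
    rwa [Complex.conj_conj, map_one] at this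
  have hconjm1 : ∀ z : ℂ, conj z = -1 → z = -1 := by
    intro z hz
    have := congrArg conj hz
    rwa [Complex.conj_conj, map_neg, map_one] at this
  have heven : (2 : ℤ) ∣ ∑ i ∈ S3, c i := by
    have h2 : ((2 : ℕ) : ℤ) = 2 := rfl
    rw [← h2, ← ZMod.intCast_zmod_eq_zero_iff_dvd _ 2, Int.cast_sum]
    apply Finset.sum_involution (fun i _ => σ i)
    · intro i _
      rw [hc i]
      exact CharTwo.add_self_eq_zero _
    · intro i hi _ hfixed
      rw [hS3, Finset.mem_filter] at hi
      exact hi.2.1 (hfix i hfixed)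
    · intro i hi
      rw [hS3, Finset.mem_filter] at hi ⊢
      refine ⟨Finset.mem_univ _, ?_, ?_⟩
      · rw [hμ i]
        exact fun h => hi.2.1 (hconj1 _ h)
      · rw [hμ i]
        exact fun h => hi.2.2 (hconjm1 _ h)
    · intro i _
      exact hσ i
  obtain ⟨k, hk⟩ := heven
  have hodd' : Odd (∑ i, c i) := by
    rw [← Int.not_even_iff_odd, even_iff_two_dvd]
    exact hodd
  obtain ⟨m, hm⟩ := hodd'
  refine ⟨m - k - ∑ i ∈ Finset.univ.filter (fun i => μ i = -1), c i, ?_⟩
  rw [hsplit, hk] at hm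
  linarith

/-- The abstract counting argument. -/
theorem card_height_zero_le_core {X J : Type*} [Fintype X] [Fintype J] [Nonempty J]
    (Bm : X → Prop) [DecidablePred Bm] (P : X → Prop) [DecidablePred P]
    (hPB : ∀ χ, P χ → Bm χ) (Q l : ℕ) (hQ : 0 < Q) (T : J → X → X → ℂ) (A : X → ℤ)
    (ha : ∀ j χ, ∑ χ' : X, (if Bm χ' then ((Complex.normSq (T j χ χ') : ℝ) : ℂ) else 0) =
      (Q : ℂ) * T j χ χ)
    (hb : ∀ j, ∑ χ : X, (if Bm χ then T j χ χ else 0) = (Q : ℂ) * (l : ℂ))
    (hc : ∀ χ, ∑ j : J, T j χ χ = (Fintype.card J : ℂ) * (A χ : ℂ))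
    (hd : ∀ χ χ', P χ → P χ' → (Fintype.card J : ℝ) ≤ ∑ j : J, Complex.normSq (T j χ χ'))
    (he : ∀ χ, P χ → Odd (A χ)) :
    (Odd (Nat.sqrt l) → Fintype.card {χ // P χ} ≤ Nat.sqrt l * Q) ∧
    (¬ Odd (Nat.sqrt l) → (Nat.sqrt l + 1) * Fintype.card {χ // P χ} ≤ l * Q) := by
  classical
  set φ : ℝ := (Fintype.card J : ℝ) with hφ
  have hφpos : 0 < φ := by
    rw [hφ]
    exact_mod_cast Fintype.card_pos
  have hQpos : (0 : ℝ) < (Q : ℝ) := by exact_mod_cast hQ
  -- the row sums
  set r : J → X → ℝ := fun j χ => ∑ χ' : X, if Bm χ' then Complex.normSq (T j χ χ') else 0 with hr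
  have hr0 : ∀ j χ, 0 ≤ r j χ := by
    intro j χ
    refine Finset.sum_nonneg fun χ' _ => ?_
    split_ifs
    · exact Complex.normSq_nonneg _
    · exact le_refl _
  have hrT : ∀ j χ, ((r j χ : ℝ) : ℂ) = (Q : ℂ) * T j χ χ := by
    intro j χ
    rw [← ha j χ, hr]
    simp only
    rw [Complex.ofReal_sum]
    refine Finset.sum_congr rfl fun χ' _ => ?_
    split_ifs
    · rfl
    · rw [Complex.ofReal_zero]
  -- `Q φ A χ = ∑ j, r j χ`
  have hA : ∀ χ, (Q : ℝ) * (φ * (A χ : ℝ)) = ∑ j : J, r j χ := by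
    intro χ
    apply Complex.ofReal_injective
    rw [Complex.ofReal_sum, Finset.sum_congr rfl fun j _ => hrT j χ, ← Finset.mul_sum, hc χ, hφ]
    push_cast
    ring
  have hA0 : ∀ χ, 0 ≤ A χ := by
    intro χ
    have h1 : 0 ≤ (Q : ℝ) * (φ * (A χ : ℝ)) := by
      rw [hA χ]
      exact Finset.sum_nonneg fun j _ => hr0 j χ
    have h2 : 0 ≤ φ * (A χ : ℝ) := nonneg_of_mul_nonneg_right h1 hQpos
    have h3 : 0 ≤ (A χ : ℝ) := nonneg_of_mul_nonneg_right h2 hφpos
    exact_mod_cast h3
  -- the lower bound for height zero characters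
  have hlow : ∀ χ, P χ → (Fintype.card {χ // P χ} : ℝ) ≤ (Q : ℝ) * (A χ : ℝ) := by
    intro χ hχ
    have h1 : (Fintype.card {χ // P χ} : ℝ) * φ ≤ ∑ j : J, r j χ := by
      have h2 : ∀ j, ∑ χ' : X, (if P χ' then Complex.normSq (T j χ χ') else 0) ≤ r j χ := by
        intro j
        rw [hr]
        refine Finset.sum_le_sum fun χ' _ => ?_
        by_cases hχ' : P χ'
        · rw [if_pos hχ', if_pos (hPB χ' hχ')]
        · rw [if_neg hχ']
          split_ifs
          · exact Complex.normSq_nonneg _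
          · exact le_refl _
      refine le_trans ?_ (Finset.sum_le_sum fun j _ => h2 j)
      rw [Finset.sum_comm]
      have h3 : ∀ χ' : X, (if P χ' then φ else 0) ≤
          ∑ j : J, (if P χ' then Complex.normSq (T j χ χ') else 0) := by
        intro χ'
        by_cases hχ' : P χ'
        · simp only [if_pos hχ']
          exact hd χ χ' hχ hχ'
        · simp only [if_neg hχ', Finset.sum_const_zero, le_refl]
      refine le_trans (le_of_eq ?_) (Finset.sum_le_sum fun χ' _ => h3 χ')
      rw [← Finset.sum_filter, Finset.sum_const, nsmul_eq_mul, Fintype.card_subtype]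
    rw [← hA χ] at h1
    have h4 : (Fintype.card {χ // P χ} : ℝ) * φ ≤ ((Q : ℝ) * (A χ : ℝ)) * φ := by
      calc (Fintype.card {χ // P χ} : ℝ) * φ ≤ (Q : ℝ) * (φ * (A χ : ℝ)) := h1
        _ = ((Q : ℝ) * (A χ : ℝ)) * φ := by ring
    exact le_of_mul_le_mul_right h4 hφpos
  -- the trace
  have htr : ∑ χ : X, (if Bm χ then A χ else 0) = (Q : ℤ) * (l : ℤ) := by
    have h1 : ∑ χ : X, (if Bm χ then (Fintype.card J : ℂ) * (A χ : ℂ) else 0) =
        (Fintype.card J : ℂ) * ((Q : ℂ) * (l : ℂ)) := by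
      have h2 : ∀ χ : X, (if Bm χ then (Fintype.card J : ℂ) * (A χ : ℂ) else 0) =
          ∑ j : J, if Bm χ then T j χ χ else 0 := by
        intro χ
        split_ifs
        · rw [hc χ]
        · rw [Finset.sum_const_zero]
      rw [Finset.sum_congr rfl fun χ _ => h2 χ, Finset.sum_comm,
        Finset.sum_congr rfl fun j _ => hb j, Finset.sum_const, Finset.card_univ, nsmul_eq_mul]
    have hJ : (Fintype.card J : ℂ) ≠ 0 := Nat.cast_ne_zero.2 Fintype.card_pos.ne'
    have h3 : ((∑ χ : X, (if Bm χ then A χ else 0) : ℤ) : ℂ) = (((Q : ℤ) * (l : ℤ) : ℤ) : ℂ) := by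
      apply mul_left_cancel₀ hJ
      rw [Int.cast_sum, Finset.mul_sum]
      push_cast
      rw [← h1]
      refine Finset.sum_congr rfl fun χ _ => ?_
      split_ifs
      · rfl
      · rw [mul_zero]
    exact_mod_cast h3
  -- application of the arithmetic lemma
  apply Cfsg.Agent.Lib.Helper29.K82.s4541_arith (fun i : {χ // P χ} => (A i.1).toNat) Q l
  · intro i
    have h1 : Odd (((A i.1).toNat : ℕ) : ℤ) := by
      rw [Int.toNat_of_nonneg (hA0 i.1)]
      exact he i.1 i.2
    exact (Int.odd_coe_nat _).1 h1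
  · intro i
    have h1 := hlow i.1 i.2
    have h2 : ((Fintype.card {χ // P χ} : ℕ) : ℤ) ≤ (Q : ℤ) * A i.1 := by exact_mod_cast h1
    have h3 : ((Fintype.card {χ // P χ} : ℕ) : ℤ) ≤ ((Q * (A i.1).toNat : ℕ) : ℤ) := by
      rw [Nat.cast_mul, Int.toNat_of_nonneg (hA0 i.1)]
      exact h2
    exact_mod_cast h3
  · have h1 : ((∑ i : {χ // P χ}, (A i.1).toNat : ℕ) : ℤ) ≤ ((Q * l : ℕ) : ℤ) := by
      rw [Nat.cast_sum, Nat.cast_mul, ← htr]
      have h2 : ∑ i : {χ // P χ}, (((A i.1).toNat : ℕ) : ℤ) =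
          ∑ χ : X, if P χ then A χ else 0 := by
        rw [← Finset.sum_filter]
        rw [Finset.sum_subtype (p := P) (Finset.univ.filter P)
          (fun x => by rw [Finset.mem_filter]; exact ⟨fun h => h.2, fun h => ⟨Finset.mem_univ _, h⟩⟩)
          (fun χ => A χ)]
        refine Finset.sum_congr rfl fun i _ => ?_
        exact Int.toNat_of_nonneg (hA0 i.1)
      rw [h2]
      refine Finset.sum_le_sum fun χ _ => ?_
      by_cases hχ : P χ
      · rw [if_pos hχ, if_pos (hPB χ hχ)]
      · rw [if_neg hχ]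
        split_ifs
        · exact hA0 χ
        · exact le_refl _
    exact_mod_cast h1

end Cfsg.Agent.Lib.Helper82
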