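import Mathlib
import Cfsg.Prelude.Def_Blocks
import Cfsg.Agent.Lib.Helper82.BlockOrth

set_option autoImplicit false
set_option linter.style.haveILetI false
set_option linter.unusedSectionVars false

namespace Cfsg.Agent.Lib.Helper82

open Cfsg
open scoped ComplexConjugate

section DoubleOrth

universe u
variable {G : Type u} [Group G] [Fintype G]

open Cfsg.Agent.Lib.Helper21 Cfsg.Agent.Lib.Helper83

/-- **Double block orthogonality**: if no element of `G` is both `p`-singular and `q`-singular,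
then for a `p`-block `Bp`, a `q`-block `Bq`, a `p`-singular `u` and a `q`-singular `v`,
`∑_{χ ∈ Bp ∩ Bq} χ(u) conj χ(v) = 0`. -/
theorem sum_inter_blocks_eq_zero [Fintype (IrrCharacter G)] {p q : ℕ} {Mp Mq : Ideal AlgInt}
    (hMp : IsPModular p Mp) (hMq : IsPModular q Mq)
    (hno : ∀ w : G, p ∣ orderOf w → ¬ q ∣ orderOf w)
    (χp χq : IrrCharacter G)
    [DecidablePred (· ∈ blockOf Mp (χp : G → ℂ))] [DecidablePred (· ∈ blockOf Mq (χq : G → ℂ))]
    (u v : G) (hu : p ∣ orderOf u) (hv : q ∣ orderOf v) :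
    ∑ χ : IrrCharacter G,
      (if χ ∈ blockOf Mp (χp : G → ℂ) ∧ χ ∈ blockOf Mq (χq : G → ℂ) then
        (χ : G → ℂ) u * conj ((χ : G → ℂ) v) else 0) = 0 := by
  classical
  have hG : (Fintype.card G : ℂ) ≠ 0 := by exact_mod_cast Fintype.card_ne_zero
  set Bp := blockOf Mp (χp : G → ℂ) with hBp
  set Bq := blockOf Mq (χq : G → ℂ) with hBq
  -- the `Bq`-part of the class indicator of `v`
  set f : G → ℂ := fun x => ∑ χ : IrrCharacter G,
    (if χ ∈ Bq then conj ((χ : G → ℂ) v) * (χ : G → ℂ) x else 0) with hf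
  have hf0 : ∀ x : G, ¬ q ∣ orderOf x → f x = 0 := by
    intro x hx
    have h1 := sum_ite_block_eq_zero hMq χq x v hx hv
    rw [← h1]
    simp only [hf]
    refine Finset.sum_congr rfl fun χ _ => ?_
    split_ifs
    · rw [mul_comm]
    · rfl
  have hfχ : ∀ χ : IrrCharacter G, ∑ x : G, f x * conj ((χ : G → ℂ) x) =
      (Fintype.card G : ℂ) * (if χ ∈ Bq then conj ((χ : G → ℂ) v) else 0) := by
    intro χ
    simp only [hf, Finset.sum_mul]
    rw [Finset.sum_comm]
    rw [Finset.sum_eq_single χ]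
    · split_ifs with hχ
      · have : ∀ x : G, conj ((χ : G → ℂ) v) * (χ : G → ℂ) x * conj ((χ : G → ℂ) x) =
            conj ((χ : G → ℂ) v) * ((χ : G → ℂ) x * conj ((χ : G → ℂ) x)) := fun x => by ring
        simp_rw [this]
        rw [← Finset.mul_sum, sum_irr_mul_conj, if_pos rfl, mul_comm]
      · simp
    · intro θ _ hne
      split_ifs with hθ
      · have : ∀ x : G, conj ((θ : G → ℂ) v) * (θ : G → ℂ) x * conj ((χ : G → ℂ) x) =
            conj ((θ : G → ℂ) v) * ((θ : G → ℂ) x * conj ((χ : G → ℂ) x)) := fun x => by ring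
        simp_rw [this]
        rw [← Finset.mul_sum, sum_irr_mul_conj, if_neg hne, mul_zero]
      · simp
    · intro h0
      exact absurd (Finset.mem_univ _) h0
  -- the kernel of `Bp`
  set K : G → ℂ := fun x => ∑ χ : IrrCharacter G,
    (if χ ∈ Bp then (χ : G → ℂ) u * conj ((χ : G → ℂ) x) else 0) with hK
  have hK0 : ∀ x : G, ¬ p ∣ orderOf x → K x = 0 := by
    intro x hx
    have h1 := sum_ite_block_eq_zero hMp χp x u hx hu
    have h3 : K x = conj (∑ χ : IrrCharacter G, if χ ∈ blockOf Mp (χp : G → ℂ) then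
        (χ : G → ℂ) x * conj ((χ : G → ℂ) u) else 0) := by
      rw [map_sum]
      simp only [hK]
      refine Finset.sum_congr rfl fun χ _ => ?_
      split_ifs
      · rw [map_mul, Complex.conj_conj, mul_comm]
      · rw [map_zero]
    rw [h3, h1, map_zero]
  have hprod : ∀ x : G, f x * K x = 0 := by
    intro x
    by_cases hx : p ∣ orderOf x
    · rw [hf0 x (hno x hx), zero_mul]
    · rw [hK0 x hx, mul_zero]
  -- assemble
  have hmain : (Fintype.card G : ℂ) * ∑ χ : IrrCharacter G,
      (if χ ∈ Bp ∧ χ ∈ Bq then (χ : G → ℂ) u * conj ((χ : G → ℂ) v) else 0) =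
      ∑ x : G, f x * K x := by
    simp only [hK, Finset.mul_sum]
    rw [Finset.sum_comm]
    refine Finset.sum_congr rfl fun χ _ => ?_
    by_cases hχp : χ ∈ Bp
    · simp only [hχp, true_and, if_true]
      have : ∀ x : G, f x * ((χ : G → ℂ) u * conj ((χ : G → ℂ) x)) =
          (χ : G → ℂ) u * (f x * conj ((χ : G → ℂ) x)) := fun x => by ring
      simp_rw [this]
      rw [← Finset.mul_sum, hfχ χ]
      split_ifs <;> ring
    · simp [hχp]
  rw [Finset.sum_congr rfl fun x _ => hprod x, Finset.sum_const_zero] at hmain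
  convert (mul_eq_zero.1 hmain).resolve_left hG

end DoubleOrth

end Cfsg.Agent.Lib.Helper82
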