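import Mathlib
import Cfsg.Prelude.Def_HallClasses

/-!
# K-S2536-X3 : `Sym(8)` has a Hall `{2,3}`-subgroup (`S₄ ≀ S₂`, order 1152, index 35)
-/

set_option autoImplicit false
set_option linter.style.haveILetI false

open Cfsg

namespace Cfsg.Agent.Lib.Helper82.HallSym

/-- a subgroup of order 1152 of `Sym(8)`: the image of the regular wreath product `S₄ ≀ C₂`. -/
theorem exists_subgroup_card_1152 :
    ∃ H : Subgroup (Equiv.Perm (Fin 8)), Nat.card H = 1152 := by
  classical
  let D := Equiv.Perm (Fin 4)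
  let Q := Multiplicative (ZMod 2)
  have hQ : Nat.card Q = 2 := by
    show Nat.card (Multiplicative (ZMod 2)) = 2
    rw [Nat.card_eq_fintype_card, Fintype.card_multiplicative, ZMod.card]
  have hD : Nat.card D = 24 := by
    show Nat.card (Equiv.Perm (Fin 4)) = 24
    rw [Nat.card_eq_fintype_card, Fintype.card_perm, Fintype.card_fin]
    rfl
  have hcard : Nat.card (RegularWreathProduct D Q) = 1152 := by
    rw [RegularWreathProduct.card, hD, hQ]; norm_num
  have h8 : Fintype.card (Fin 4 × Q) = Fintype.card (Fin 8) := by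
    rw [Fintype.card_prod, Fintype.card_fin, Fintype.card_fin]
    show 4 * Fintype.card (Multiplicative (ZMod 2)) = 8
    rw [Fintype.card_multiplicative, ZMod.card]
  let e : (Fin 4 × Q) ≃ Fin 8 := Fintype.equivOfCardEq h8
  let f : RegularWreathProduct D Q →* Equiv.Perm (Fin 4 × Q) := RegularWreathProduct.toPerm D Q (Fin 4)
  have hf : Function.Injective f := RegularWreathProduct.toPermInj D Q (Fin 4)
  let g : RegularWreathProduct D Q →* Equiv.Perm (Fin 8) := (Equiv.permCongrHom e).toMonoidHom.comp f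
  have hg : Function.Injective g := (Equiv.permCongrHom e).injective.comp hf
  refine ⟨g.range, ?_⟩
  rw [← hcard]
  exact (Nat.card_congr (MonoidHom.ofInjective hg).toEquiv).symm

/-- **K-S2536-X3**. -/
theorem hall_eight (π : Set ℕ) (h : ∀ r : ℕ, r.Prime → r ≤ 8 → (r ∈ π ↔ (r = 2 ∨ r = 3))) :
    IsEPiGroup π (Equiv.Perm (Fin 8)) := by
  obtain ⟨H, hH⟩ := exists_subgroup_card_1152
  have hG : Nat.card (Equiv.Perm (Fin 8)) = 40320 := by
    rw [Nat.card_eq_fintype_card, Fintype.card_perm, Fintype.card_fin]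
    rfl
  have hidx : H.index = 35 := by
    have := H.card_mul_index
    rw [hH, hG] at this
    omega
  refine ⟨H, ?_, ?_⟩
  · intro p hp hdvd
    rw [hH] at hdvd
    have h1152 : (1152 : ℕ) = 2 ^ 7 * 3 ^ 2 := by norm_num
    rw [h1152] at hdvd
    rcases (Nat.Prime.dvd_mul hp).1 hdvd with h2 | h3
    · have := (Nat.prime_dvd_prime_iff_eq hp Nat.prime_two).1 (hp.dvd_of_dvd_pow h2)
      subst this
      exact (h 2 hp (by norm_num)).2 (Or.inl rfl)
    · have := (Nat.prime_dvd_prime_iff_eq hp Nat.prime_three).1 (hp.dvd_of_dvd_pow h3)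
      subst this
      exact (h 3 hp (by norm_num)).2 (Or.inr rfl)
  · intro p hp hpπ hdvd
    rw [hidx] at hdvd
    have h35 : (35 : ℕ) = 5 * 7 := by norm_num
    rw [h35] at hdvd
    rcases (Nat.Prime.dvd_mul hp).1 hdvd with h5 | h7
    · have := (Nat.prime_dvd_prime_iff_eq hp (by norm_num : Nat.Prime 5)).1 h5
      subst this
      rcases (h 5 hp (by norm_num)).1 hpπ with h' | h' <;> omega
    · have := (Nat.prime_dvd_prime_iff_eq hp (by norm_num : Nat.Prime 7)).1 h7
      subst this
      rcases (h 7 hp (by norm_num)).1 hpπ with h' | h' <;> omega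

end Cfsg.Agent.Lib.Helper82.HallSym
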