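import Mathlib

set_option autoImplicit false
set_option linter.style.haveILetI false
set_option linter.unusedSectionVars false

namespace Cfsg.Agent.Lib.Helper82

section FPF

variable {G : Type*} [Group G]

/-- A fixed-point-free involutory conjugation on a finite subgroup inverts every element, and the
subgroup is abelian. -/
theorem fpf_involution_inverts (S : Subgroup G) [Finite S] (t : G) (ht : t * t = 1)
    (hnorm : ∀ s ∈ S, t * s * t⁻¹ ∈ S) (hfpf : ∀ s ∈ S, t * s * t⁻¹ = s → s = 1) :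
    (∀ s ∈ S, t * s * t⁻¹ = s⁻¹) ∧ ∀ a ∈ S, ∀ b ∈ S, a * b = b * a := by
  have htinv : t⁻¹ = t := inv_eq_of_mul_eq_one_left ht
  let φ : S → S := fun s => ⟨(s : G)⁻¹ * (t * s * t⁻¹), S.mul_mem (S.inv_mem s.2) (hnorm s s.2)⟩
  have hinj : Function.Injective φ := by
    intro a b hab
    have h1 : (a : G)⁻¹ * (t * a * t⁻¹) = (b : G)⁻¹ * (t * b * t⁻¹) := congrArg Subtype.val hab
    have h2 : t * ((b : G) * (a : G)⁻¹) * t⁻¹ = (b : G) * (a : G)⁻¹ := by
      have : (b : G) * ((a : G)⁻¹ * (t * a * t⁻¹)) * (t * a * t⁻¹)⁻¹ =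
          (b : G) * ((b : G)⁻¹ * (t * b * t⁻¹)) * (t * a * t⁻¹)⁻¹ := by rw [h1]
      calc t * ((b : G) * (a : G)⁻¹) * t⁻¹
          = (b : G) * ((b : G)⁻¹ * (t * b * t⁻¹)) * (t * a * t⁻¹)⁻¹ := by group
        _ = (b : G) * ((a : G)⁻¹ * (t * a * t⁻¹)) * (t * a * t⁻¹)⁻¹ := this.symm
        _ = (b : G) * (a : G)⁻¹ := by group
    have h3 := hfpf _ (S.mul_mem b.2 (S.inv_mem a.2)) h2
    have h4 : (b : G) = a := by rwa [mul_inv_eq_one] at h3
    exact Subtype.ext h4.symm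
  have hsurj : Function.Surjective φ := Finite.surjective_of_injective hinj
  have hinvert : ∀ s ∈ S, t * s * t⁻¹ = s⁻¹ := by
    intro s hs
    obtain ⟨r, hr⟩ := hsurj ⟨s, hs⟩
    have hr' : (r : G)⁻¹ * (t * r * t⁻¹) = s := congrArg Subtype.val hr
    rw [← hr']
    have e2 : t⁻¹ * t⁻¹ = 1 := by rw [htinv, ht]
    calc t * ((r : G)⁻¹ * (t * r * t⁻¹)) * t⁻¹
        = t * (r : G)⁻¹ * t * r * (t⁻¹ * t⁻¹) := by group
      _ = t * (r : G)⁻¹ * t * r := by rw [e2, mul_one]
      _ = t * (r : G)⁻¹ * t⁻¹ * r := by rw [htinv]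
      _ = ((r : G)⁻¹ * (t * r * t⁻¹))⁻¹ := by group
  refine ⟨hinvert, ?_⟩
  intro a ha b hb
  have h1 := hinvert (a * b) (S.mul_mem ha hb)
  have h2 : t * (a * b) * t⁻¹ = (t * a * t⁻¹) * (t * b * t⁻¹) := by group
  rw [h2, hinvert a ha, hinvert b hb] at h1
  have h3 := congrArg (fun x => x⁻¹) h1
  simp only [mul_inv_rev, inv_inv] at h3
  exact h3.symm

end FPF

section InvSylow

open scoped Pointwise

variable {G : Type*} [Group G] [Finite G]

/-- Conjugation by an element normalizing `C`, with `t * t = 1`, as an automorphism of `C`. -/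
def conjAut (C : Subgroup G) (t : G) (ht : t * t = 1) (hn : ∀ c ∈ C, t * c * t⁻¹ ∈ C) :
    MulAut C where
  toFun c := ⟨t * c * t⁻¹, hn c c.2⟩
  invFun c := ⟨t * c * t⁻¹, hn c c.2⟩
  left_inv c := by
    apply Subtype.ext
    have htinv : t⁻¹ = t := inv_eq_of_mul_eq_one_left ht
    show t * (t * (c : G) * t⁻¹) * t⁻¹ = c
    calc t * (t * (c : G) * t⁻¹) * t⁻¹ = (t * t) * c * (t⁻¹ * t⁻¹) := by group
      _ = c := by rw [htinv, ht, one_mul, mul_one]
  right_inv c := by
    apply Subtype.ext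
    have htinv : t⁻¹ = t := inv_eq_of_mul_eq_one_left ht
    show t * (t * (c : G) * t⁻¹) * t⁻¹ = c
    calc t * (t * (c : G) * t⁻¹) * t⁻¹ = (t * t) * c * (t⁻¹ * t⁻¹) := by group
      _ = c := by rw [htinv, ht, one_mul, mul_one]
  map_mul' a b := by
    apply Subtype.ext
    show t * ((a : G) * b) * t⁻¹ = (t * a * t⁻¹) * (t * b * t⁻¹)
    group

theorem conjAut_sq (C : Subgroup G) (t : G) (ht : t * t = 1) (hn : ∀ c ∈ C, t * c * t⁻¹ ∈ C) :
    conjAut C t ht hn ^ 2 ^ 1 = 1 := by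
  rw [pow_one, sq]
  ext c
  exact congrArg Subtype.val ((conjAut C t ht hn).left_inv c)

/-- An odd-order subgroup normalized by an involution has an invariant Sylow `p`-subgroup. -/
theorem exists_invariant_sylow (p : ℕ) [Fact p.Prime] (C : Subgroup G) (hodd : Odd (Nat.card C))
    (t : G) (ht : t * t = 1) (hn : ∀ c ∈ C, t * c * t⁻¹ ∈ C) :
    ∃ S : Subgroup G, S ≤ C ∧ IsPGroup p S ∧ Nat.card S = p ^ (Nat.card C).factorization p ∧
      ∀ s ∈ S, t * s * t⁻¹ ∈ S := by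
  classical
  haveI : Fintype (Sylow p C) := Fintype.ofFinite _
  set σ := conjAut C t ht hn with hσ
  have hσ2 : (MulAction.toPerm σ : Equiv.Perm (Sylow p C)) ^ 2 ^ 1 = 1 := by
    have := congrArg (MulAction.toPermHom (MulAut C) (Sylow p C)) (conjAut_sq C t ht hn)
    rw [map_pow, map_one] at this
    exact this
  have hcard : ¬ 2 ∣ Fintype.card (Sylow p C) := by
    obtain ⟨Q⟩ : Nonempty (Sylow p C) := inferInstance
    intro h2
    have h1 : Fintype.card (Sylow p C) ∣ Nat.card C := by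
      rw [← Nat.card_eq_fintype_card]
      exact (Sylow.card_dvd_index Q).trans (Subgroup.index_dvd_card _)
    exact (Nat.not_even_iff_odd.2 hodd) (even_iff_two_dvd.2 (h2.trans h1))
  haveI : Fact (Nat.Prime 2) := ⟨Nat.prime_two⟩
  obtain ⟨Q, hQ⟩ := Equiv.Perm.exists_fixed_point_of_prime hcard hσ2
  have hQ' : σ • Q = Q := hQ
  refine ⟨(Q : Subgroup C).map C.subtype, ?_, ?_, ?_, ?_⟩
  · rintro _ ⟨c, _, rfl⟩
    exact c.2
  · exact Q.2.map _
  · rw [Subgroup.card_map_of_injective C.subtype_injective]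
    exact Sylow.card_eq_multiplicity Q
  · rintro _ ⟨c, hc, rfl⟩
    refine ⟨σ c, ?_, rfl⟩
    have h1 : σ • c ∈ σ • (Q : Subgroup C) := Subgroup.smul_mem_pointwise_smul c σ _ hc
    have h2 : σ • (Q : Subgroup C) = ((σ • Q : Sylow p C) : Subgroup C) := rfl
    rw [h2, hQ'] at h1
    exact h1

end InvSylow

section Main

open scoped Pointwise

variable {G : Type*} [Group G] [Finite G]

/-- If centralizers of non-identity `p`-elements have odd order, an involution normalizing a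
`p`-subgroup inverts it, and the subgroup is abelian. -/
theorem pgroup_inverted_of_odd_centralizers (p : ℕ) [Fact p.Prime]
    (hC : ∀ g : G, g ≠ 1 → (∃ k : ℕ, orderOf g = p ^ k) →
      Odd (Nat.card ↥(Subgroup.centralizer ({g} : Set G))))
    (S : Subgroup G) (hS : IsPGroup p S) (t : G) (ht : t * t = 1) (ht1 : t ≠ 1)
    (hn : ∀ s ∈ S, t * s * t⁻¹ ∈ S) :
    (∀ s ∈ S, t * s * t⁻¹ = s⁻¹) ∧ ∀ a ∈ S, ∀ b ∈ S, a * b = b * a := by
  refine fpf_involution_inverts S t ht hn ?_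
  intro s hs hfix
  by_contra hs1
  obtain ⟨k, hk⟩ := (IsPGroup.iff_orderOf.1 hS) ⟨s, hs⟩
  rw [Subgroup.orderOf_mk] at hk
  have hodd := hC s hs1 ⟨k, hk⟩
  have htc : t ∈ Subgroup.centralizer ({s} : Set G) := by
    rw [Subgroup.mem_centralizer_iff]
    intro w hw
    rw [Set.mem_singleton_iff] at hw
    subst hw
    have : t * w = w * t := by
      calc t * w = (t * w * t⁻¹) * t := by group
        _ = w * t := by rw [hfix]
    exact this.symm
  have hord : orderOf t = 2 := orderOf_eq_prime (by rw [sq]; exact ht) ht1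
  have h2 : 2 ∣ Nat.card (Subgroup.centralizer ({s} : Set G)) := by
    have := orderOf_dvd_natCard (⟨t, htc⟩ : Subgroup.centralizer ({s} : Set G))
    rwa [Subgroup.orderOf_mk, hord] at this
  exact (Nat.not_even_iff_odd.2 hodd) (even_iff_two_dvd.2 h2)

/-- An element inverting `u` normalizes the centralizer of `u`. -/
theorem conj_mem_centralizer_of_inverts {t u : G} (hinv : t * u * t⁻¹ = u⁻¹) :
    ∀ c ∈ Subgroup.centralizer ({u} : Set G), t * c * t⁻¹ ∈ Subgroup.centralizer ({u} : Set G) := by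
  intro c hc
  rw [Subgroup.mem_centralizer_iff] at hc ⊢
  intro w hw
  rw [Set.mem_singleton_iff] at hw
  subst hw
  have hcw := hc w rfl
  have hw' : w = t * w⁻¹ * t⁻¹ := by
    have := congrArg (fun x => x⁻¹) hinv
    simp only [mul_inv_rev, inv_inv] at this
    rw [mul_assoc]; exact this.symm
  have hcw' : w⁻¹ * c = c * w⁻¹ := by
    calc w⁻¹ * c = w⁻¹ * (c * w) * w⁻¹ := by group
      _ = w⁻¹ * (w * c) * w⁻¹ := by rw [hcw]
      _ = c * w⁻¹ := by group
  calc w * (t * c * t⁻¹) = (t * w⁻¹ * t⁻¹) * (t * c * t⁻¹) := by rw [← hw']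
    _ = t * (w⁻¹ * c) * t⁻¹ := by group
    _ = t * (c * w⁻¹) * t⁻¹ := by rw [hcw']
    _ = (t * c * t⁻¹) * (t * w⁻¹ * t⁻¹) := by group
    _ = t * c * t⁻¹ * w := by rw [← hw']

end Main

end Cfsg.Agent.Lib.Helper82
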