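import Cfsg.Agent.Lib.Helper76.J1Tools

/-!
# Keystone K-S4274-17556 (for helper76, S4274)

No nonabelian simple group of order `17556 = 4·3·7·11·19` with `n_19 = 77` under `HMin`.
-/

set_option autoImplicit false
set_option linter.style.haveILetI false

namespace Cfsg.Agent.Lib.Helper82.J1

open Cfsg.Agent.Lib.Helper76.J1 Subgroup

theorem validList_17556_7 : validList 17556 7 = [22, 57, 1254] := by decide +kernel

theorem validList_17556_11 : validList 17556 11 = [133] := by decide +kernel

theorem no_simple_17556 {G : Type*} [Group G] [Finite G] [IsSimpleGroup G]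
    (hcard : Nat.card G = 17556) (h19 : Nat.card (Sylow 19 G) = 77) (hmin : HMin G) : False := by
  haveI : Fact (Nat.Prime 19) := ⟨by norm_num⟩
  haveI : Fact (Nat.Prime 7) := ⟨by norm_num⟩
  haveI : Fact (Nat.Prime 11) := ⟨by norm_num⟩
  -- the prime 19
  obtain ⟨P⟩ : Nonempty (Sylow 19 G) := inferInstance
  have hN19 : Nat.card ↥(normalizer ((P : Subgroup G) : Set G)) = 228 := by
    rw [card_normalizer_eq_div hcard P, h19]
  obtain ⟨e19, c19, he19a, he19b, hC19, hce19⟩ :=
    exists_relIndex (G := G) (n := 17556) (p := 19) hcard (by norm_num) (by norm_num)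
      (by norm_num) P
  rw [h19] at hce19
  have hc19 : 2 ≤ c19 := by
    by_contra h
    rw [not_le] at h
    interval_cases c19
    · simp at hce19
    · have : e19 = 12 := by omega
      subst this
      norm_num at he19a
  have hS19 : ∀ S : Sylow 19 G, Nat.card ↥(S : Subgroup G) = 19 := fun S =>
    card_sylow_eq_prime hcard (by norm_num) (by norm_num) S
  have hC19all : ∀ S : Sylow 19 G,
      Nat.card ↥(centralizer ((S : Subgroup G) : Set G)) = 19 * c19 := fun S => by
    rw [card_centralizer_sylow_eq S P, hC19]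
  -- the prime 11
  have hS11 : ∀ S : Sylow 11 G, Nat.card ↥(S : Subgroup G) = 11 := fun S =>
    card_sylow_eq_prime hcard (by norm_num) (by norm_num) S
  have hn11 : Nat.card (Sylow 11 G) = 133 := by
    have h := card_sylow_mem_validList (G := G) (n := 17556) (p := 11) hcard (by norm_num)
      (by norm_num) (by norm_num) (by norm_num)
    rw [validList_17556_11] at h
    simpa using h
  obtain ⟨T⟩ : Nonempty (Sylow 11 G) := inferInstance
  obtain ⟨e11, c11, he11a, he11b, hC11, hce11⟩ :=
    exists_relIndex (G := G) (n := 17556) (p := 11) hcard (by norm_num) (by norm_num)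
      (by norm_num) T
  rw [hn11] at hce11
  have hc11 : c11 = 6 := by
    have h12 : c11 * e11 = 12 := by
      have : 11 * (c11 * e11) = 11 * 12 := by rw [← mul_assoc]; exact hce11
      exact Nat.eq_of_mul_eq_mul_left (by norm_num) this
    have he_le : e11 ≤ 10 := Nat.le_of_dvd (by norm_num) he11a
    interval_cases e11 <;> omega
  subst hc11
  have hC11all : ∀ S : Sylow 11 G,
      Nat.card ↥(centralizer ((S : Subgroup G) : Set G)) = 11 * 6 := fun S => by
    rw [card_centralizer_sylow_eq S T, hC11]
  -- the prime 7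
  have hS7 : ∀ S : Sylow 7 G, Nat.card ↥(S : Subgroup G) = 7 := fun S =>
    card_sylow_eq_prime hcard (by norm_num) (by norm_num) S
  have h19n7 : 19 ∣ Nat.card (Sylow 7 G) :=
    dvd_card_sylow_of_hmin hmin P (r := 7) (by rw [hcard]; norm_num) (by rw [hN19]; norm_num)
  have hn7mem : Nat.card (Sylow 7 G) ∈ validList 17556 7 :=
    card_sylow_mem_validList (G := G) (n := 17556) (p := 7) hcard (by norm_num)
      (by norm_num) (by norm_num) (by norm_num)
  rw [validList_17556_7] at hn7mem
  obtain ⟨U⟩ : Nonempty (Sylow 7 G) := inferInstance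
  have hn7 : Nat.card (Sylow 7 G) = 1254 := by
    simp only [List.mem_cons, List.not_mem_nil, or_false] at hn7mem
    rcases hn7mem with h | h | h
    · rw [h] at h19n7; norm_num at h19n7
    · exfalso
      have hN7 : Nat.card ↥(normalizer ((U : Subgroup G) : Set G)) = 308 := by
        rw [card_normalizer_eq_div hcard U, h]
      have h11C : 11 ∣ Nat.card ↥(centralizer ((U : Subgroup G) : Set G)) :=
        dvd_card_centralizer_of_dvd_card_normalizer (p := 7) (q := 11) (by norm_num) U (hS7 U)
          (by rw [hN7]; norm_num) (by norm_num)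
      have h7C := cross (p := 7) (q := 11) hS7 hS11 U h11C T
      rw [hC11] at h7C
      norm_num at h7C
    · exact h
  obtain ⟨e7, c7, he7a, he7b, hC7, hce7⟩ :=
    exists_relIndex (G := G) (n := 17556) (p := 7) hcard (by norm_num) (by norm_num)
      (by norm_num) U
  rw [hn7] at hce7
  have hc7 : c7 = 1 := by
    have h2 : c7 * e7 = 2 := by
      have : 7 * (c7 * e7) = 7 * 2 := by rw [← mul_assoc]; exact hce7
      exact Nat.eq_of_mul_eq_mul_left (by norm_num) this
    have he_le : e7 ≤ 6 := Nat.le_of_dvd (by norm_num) he7a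
    interval_cases e7 <;> omega
  subst hc7
  have hC7all : ∀ S : Sylow 7 G,
      Nat.card ↥(centralizer ((S : Subgroup G) : Set G)) = 7 * 1 := fun S => by
    rw [card_centralizer_sylow_eq S U, hC7]
  -- counting
  have hA11 := card_dvd_orderOf_ge (G := G) (p := 11) (c := 6) hS11 hC11all
  have hA7 := card_dvd_orderOf_ge (G := G) (p := 7) (c := 1) hS7 hC7all
  have hA19 := card_dvd_orderOf_ge (G := G) (p := 19) (c := c19) hS19 hC19all
  rw [hn11] at hA11
  rw [hn7] at hA7
  rw [h19] at hA19
  have hAB : ∀ x : G, 11 ∣ orderOf x → ¬ 7 ∣ orderOf x := fun x h11 h7 =>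
    not_dvd_orderOf_of_not_dvd_card_centralizer (p := 7) (q := 11) (by norm_num) hS7 U
      (by rw [hC7]; norm_num) x h7 h11
  have hAC : ∀ x : G, 11 ∣ orderOf x → ¬ 19 ∣ orderOf x := fun x h11 =>
    not_dvd_orderOf_of_not_dvd_card_centralizer (p := 11) (q := 19) (by norm_num) hS11 T
      (by rw [hC11]; norm_num) x h11
  have hBC : ∀ x : G, 7 ∣ orderOf x → ¬ 19 ∣ orderOf x := fun x h7 =>
    not_dvd_orderOf_of_not_dvd_card_centralizer (p := 7) (q := 19) (by norm_num) hS7 U
      (by rw [hC7]; norm_num) x h7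
  have hsum := card_add3_le_of_disjoint (G := G) (fun x => 11 ∣ orderOf x)
    (fun x => 7 ∣ orderOf x) (fun x => 19 ∣ orderOf x) hAB hAC hBC
  rw [hcard] at hsum
  have h3 : 77 * ((19 - 1) * 2) ≤ 77 * ((19 - 1) * c19) :=
    Nat.mul_le_mul_left _ (Nat.mul_le_mul_left _ hc19)
  omega

end Cfsg.Agent.Lib.Helper82.J1
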