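import Mathlib

set_option autoImplicit false
set_option linter.style.haveILetI false

/-!
# Landau's theorem: finitely many finite groups with a given number of conjugacy classes
-/

namespace Cfsg.Agent.Lib.Helper82

/-- Bounding the denominators in a representation of `q` as a sum of `k` unit fractions. -/
theorem egyptian_bound (k : ℕ) : ∀ q : ℚ, 0 < q → ∃ N : ℕ, ∀ n : Fin k → ℕ, (∀ i, 0 < n i) →
    ∑ i, (1 : ℚ) / (n i : ℚ) = q → ∀ i, n i ≤ N := by
  induction k with
  | zero =>
    intro q _
    exact ⟨0, fun n _ _ i => i.elim0⟩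
  | succ k ih =>
    intro q hq
    choose! N' hN' using ih
    set mmax : ℕ := ⌊((k : ℚ) + 1) / q⌋₊ with hmmax
    refine ⟨mmax + ∑ m ∈ Finset.range (mmax + 1), N' (q - 1 / (m : ℚ)), ?_⟩
    intro n hn hsum
    -- some term is at least the average
    have hex : ∃ i₀ ∈ (Finset.univ : Finset (Fin (k + 1))), q / ((k : ℚ) + 1) ≤ 1 / (n i₀ : ℚ) := by
      apply Finset.exists_le_of_sum_le Finset.univ_nonempty
      rw [hsum, Finset.sum_const, Finset.card_univ, Fintype.card_fin, nsmul_eq_mul]
      have : ((k : ℚ) + 1) ≠ 0 := by positivity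
      push_cast
      field_simp
      exact le_refl _
    obtain ⟨i₀, -, hi₀⟩ := hex
    have hn₀pos : (0 : ℚ) < (n i₀ : ℚ) := Nat.cast_pos.2 (hn i₀)
    have hk1 : (0 : ℚ) < (k : ℚ) + 1 := by positivity
    have hn₀le : n i₀ ≤ mmax := by
      apply Nat.le_floor
      rw [le_div_iff₀ hq]
      rw [div_le_div_iff₀ hk1 hn₀pos] at hi₀
      linarith
    have hsplit := Fin.sum_univ_succAbove (fun i => (1 : ℚ) / (n i : ℚ)) i₀
    rw [hsum] at hsplit
    intro i
    rcases eq_or_ne i i₀ with rfl | hne
    · exact le_trans hn₀le (Nat.le_add_right _ _)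
    · obtain ⟨j, rfl⟩ := Fin.exists_succAbove_eq hne
      have hrest : ∑ j : Fin k, (1 : ℚ) / (n (i₀.succAbove j) : ℚ) = q - 1 / (n i₀ : ℚ) := by
        linarith
      have hq' : 0 < q - 1 / (n i₀ : ℚ) := by
        rw [← hrest]
        apply Finset.sum_pos
        · intro j' _
          have : (0 : ℚ) < (n (i₀.succAbove j') : ℚ) := Nat.cast_pos.2 (hn _)
          positivity
        · exact ⟨j, Finset.mem_univ _⟩
      have hb := hN' (q - 1 / (n i₀ : ℚ)) hq' (fun j => n (i₀.succAbove j))
        (fun j => hn _) hrest j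
      refine le_trans hb ?_
      refine le_trans ?_ (Nat.le_add_left _ _)
      exact Finset.single_le_sum (f := fun m : ℕ => N' (q - 1 / (m : ℚ)))
        (fun _ _ => Nat.zero_le _) (Finset.mem_range.2 (Nat.lt_succ_of_le hn₀le))

universe u

/-- **Landau's theorem**: the order of a finite group is bounded in terms of its number of
conjugacy classes. -/
theorem landau (k : ℕ) : ∃ N : ℕ, ∀ (G : Type u) [Group G] [Finite G],
    Nat.card (ConjClasses G) ≤ k → Nat.card G ≤ N := by
  classical
  have hE : ∀ c : ℕ, ∃ N : ℕ, ∀ n : Fin c → ℕ, (∀ i, 0 < n i) →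
      ∑ i, (1 : ℚ) / (n i : ℚ) = 1 → ∀ i, n i ≤ N := fun c => egyptian_bound c 1 one_pos
  choose E hEb using hE
  refine ⟨∑ c ∈ Finset.range (k + 1), E c, ?_⟩
  intro G _ _ hk
  haveI : Fintype G := Fintype.ofFinite G
  haveI : Fintype (ConjClasses G) := Fintype.ofFinite _
  set c := Nat.card (ConjClasses G) with hc
  have hcard : Fintype.card (ConjClasses G) = c := by rw [hc, Nat.card_eq_fintype_card]
  let e : ConjClasses G ≃ Fin c := Fintype.equivFinOfCardEq hcard
  choose rep hrep using (fun C : ConjClasses G => ConjClasses.exists_rep C)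
  -- centralizer orders
  set n : Fin c → ℕ := fun i =>
    Nat.card (Subgroup.centralizer ({rep (e.symm i)} : Set G)) with hn
  have hnpos : ∀ i, 0 < n i := fun i => Nat.card_pos
  have hG0 : (Nat.card G : ℚ) ≠ 0 := Nat.cast_ne_zero.2 Nat.card_pos.ne'
  have hterm : ∀ C : ConjClasses G,
      (1 : ℚ) / (Nat.card (Subgroup.centralizer ({rep C} : Set G)) : ℚ) =
        (C.carrier.ncard : ℚ) / (Nat.card G : ℚ) := by
    intro C
    have h1 : (ConjClasses.mk (rep C)).carrier.ncard =
        (Subgroup.centralizer ({rep C} : Set G)).index := by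
      rw [← ConjAct.orbit_eq_carrier_conjClasses, ← MulAction.index_stabilizer,
        Subgroup.centralizer_eq_comap_stabilizer]
      exact (Subgroup.index_comap_of_surjective _ (ConjAct.toConjAct (G := G)).surjective).symm
    have h2 : ConjClasses.mk (rep C) = C := hrep C
    rw [h2] at h1
    have h3 := (Subgroup.centralizer ({rep C} : Set G)).card_mul_index
    have hc0 : (Nat.card (Subgroup.centralizer ({rep C} : Set G)) : ℚ) ≠ 0 :=
      Nat.cast_ne_zero.2 Nat.card_pos.ne'
    have hi0 : ((Subgroup.centralizer ({rep C} : Set G)).index : ℚ) ≠ 0 :=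
      Nat.cast_ne_zero.2 Subgroup.index_ne_zero_of_finite
    rw [h1, ← h3]
    push_cast
    field_simp
  have hsum : ∑ i, (1 : ℚ) / (n i : ℚ) = 1 := by
    rw [← Equiv.sum_comp e (fun i => (1 : ℚ) / (n i : ℚ))]
    simp only [hn, Equiv.symm_apply_apply]
    rw [Finset.sum_congr rfl fun C _ => hterm C, ← Finset.sum_div, div_eq_one_iff_eq hG0]
    have := Group.sum_card_conj_classes_eq_card G
    rw [finsum_eq_sum_of_fintype] at this
    exact_mod_cast this
  -- the class of the identity
  have hone := hEb c n hnpos hsum (e (ConjClasses.mk 1))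
  have hn1 : n (e (ConjClasses.mk 1)) = Nat.card G := by
    simp only [hn, Equiv.symm_apply_apply]
    have hout : rep (ConjClasses.mk (1 : G)) = 1 := by
      have h' : ConjClasses.mk (rep (ConjClasses.mk (1 : G))) = ConjClasses.mk 1 := hrep _
      rw [ConjClasses.mk_eq_mk_iff_isConj, isConj_one_left] at h'
      exact h'
    rw [hout]
    have htop : Subgroup.centralizer ({(1 : G)} : Set G) = ⊤ := by
      rw [Subgroup.centralizer_eq_top_iff_subset]
      intro x hx
      rw [Set.mem_singleton_iff] at hx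
      rw [hx]
      exact Subgroup.one_mem _
    rw [htop, Subgroup.card_top]
  rw [hn1] at hone
  refine le_trans hone ?_
  exact Finset.single_le_sum (f := fun c => E c) (fun _ _ => Nat.zero_le _)
    (Finset.mem_range.2 (Nat.lt_succ_of_le hk))

end Cfsg.Agent.Lib.Helper82
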