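import Mathlib
import Cfsg.Agent.Lib.Helper22.NseDefs

/-!
# K-NSE-C5b (S3431, keystone 343108): `arith_A5`

The arithmetic of `nse = {1, 15, 20, 24}`: the order is `60`, `s_3 = 20`, `s_5 = 24` and the
spectrum is `{1, 2, 3, 5}`.  Only concrete instances of Frobenius' congruence are used.
-/

set_option autoImplicit false
set_option linter.unusedSectionVars false
set_option linter.unusedVariables false
set_option linter.style.haveILetI false
set_option linter.unusedSimpArgs false
set_option linter.unusedTactic false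
set_option linter.unreachableTactic false

namespace Cfsg.Agent.Lib.Helper82.Nse

open Cfsg.Agent.Lib.Helper22.Nse
open Cfsg.Agent.S3995 (s)

theorem c5b_sum4 (S : ℕ → ℕ) : ∑ d ∈ (4:ℕ).divisors, S d = S 1 + S 2 + S 4 := by
  rw [show (4:ℕ).divisors = {1, 2, 4} from by decide]
  simp [Finset.sum_insert]
  try ring

theorem c5b_sum8 (S : ℕ → ℕ) : ∑ d ∈ (8:ℕ).divisors, S d = S 1 + S 2 + S 4 + S 8 := by
  rw [show (8:ℕ).divisors = {1, 2, 4, 8} from by decide]
  simp [Finset.sum_insert]
  try ring

theorem c5b_sum16 (S : ℕ → ℕ) : ∑ d ∈ (16:ℕ).divisors, S d = S 1 + S 2 + S 4 + S 8 + S 16 := by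
  rw [show (16:ℕ).divisors = {1, 2, 4, 8, 16} from by decide]
  simp [Finset.sum_insert]
  try ring

theorem c5b_sum32 (S : ℕ → ℕ) : ∑ d ∈ (32:ℕ).divisors, S d = S 1 + S 2 + S 4 + S 8 + S 16 + S 32 := by
  rw [show (32:ℕ).divisors = {1, 2, 4, 8, 16, 32} from by decide]
  simp [Finset.sum_insert]
  try ring

theorem c5b_sum9 (S : ℕ → ℕ) : ∑ d ∈ (9:ℕ).divisors, S d = S 1 + S 3 + S 9 := by
  rw [show (9:ℕ).divisors = {1, 3, 9} from by decide]
  simp [Finset.sum_insert]
  try ring

theorem c5b_sum27 (S : ℕ → ℕ) : ∑ d ∈ (27:ℕ).divisors, S d = S 1 + S 3 + S 9 + S 27 := by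
  rw [show (27:ℕ).divisors = {1, 3, 9, 27} from by decide]
  simp [Finset.sum_insert]
  try ring

theorem c5b_sum25 (S : ℕ → ℕ) : ∑ d ∈ (25:ℕ).divisors, S d = S 1 + S 5 + S 25 := by
  rw [show (25:ℕ).divisors = {1, 5, 25} from by decide]
  simp [Finset.sum_insert]
  try ring

theorem c5b_sum50 (S : ℕ → ℕ) : ∑ d ∈ (50:ℕ).divisors, S d = S 1 + S 2 + S 5 + S 10 + S 25 + S 50 := by
  rw [show (50:ℕ).divisors = {1, 2, 5, 10, 25, 50} from by decide]
  simp [Finset.sum_insert]
  try ring

theorem c5b_sum15 (S : ℕ → ℕ) : ∑ d ∈ (15:ℕ).divisors, S d = S 1 + S 3 + S 5 + S 15 := by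
  rw [show (15:ℕ).divisors = {1, 3, 5, 15} from by decide]
  simp [Finset.sum_insert]
  try ring

theorem c5b_sum30 (S : ℕ → ℕ) : ∑ d ∈ (30:ℕ).divisors, S d = S 1 + S 2 + S 3 + S 5 + S 6 + S 10 + S 15 + S 30 := by
  rw [show (30:ℕ).divisors = {1, 2, 3, 5, 6, 10, 15, 30} from by decide]
  simp [Finset.sum_insert]
  try ring

theorem c5b_sum45 (S : ℕ → ℕ) : ∑ d ∈ (45:ℕ).divisors, S d = S 1 + S 3 + S 5 + S 9 + S 15 + S 45 := by
  rw [show (45:ℕ).divisors = {1, 3, 5, 9, 15, 45} from by decide]
  simp [Finset.sum_insert]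
  try ring

theorem c5b_sum60 (S : ℕ → ℕ) : ∑ d ∈ (60:ℕ).divisors, S d = S 1 + S 2 + S 3 + S 4 + S 5 + S 6 + S 10 + S 12 + S 15 + S 20 + S 30 + S 60 := by
  rw [show (60:ℕ).divisors = {1, 2, 3, 4, 5, 6, 10, 12, 15, 20, 30, 60} from by decide]
  simp [Finset.sum_insert]
  try ring

theorem c5b_sum120 (S : ℕ → ℕ) : ∑ d ∈ (120:ℕ).divisors, S d = S 1 + S 2 + S 3 + S 4 + S 5 + S 6 + S 8 + S 10 + S 12 + S 15 + S 20 + S 24 + S 30 + S 40 + S 60 + S 120 := by
  rw [show (120:ℕ).divisors = {1, 2, 3, 4, 5, 6, 8, 10, 12, 15, 20, 24, 30, 40, 60, 120} from by decide]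
  simp [Finset.sum_insert]
  try ring

theorem c5b_sum18 (S : ℕ → ℕ) : ∑ d ∈ (18:ℕ).divisors, S d = S 1 + S 2 + S 3 + S 6 + S 9 + S 18 := by
  rw [show (18:ℕ).divisors = {1, 2, 3, 6, 9, 18} from by decide]
  simp [Finset.sum_insert]
  try ring

theorem c5b_sum36 (S : ℕ → ℕ) : ∑ d ∈ (36:ℕ).divisors, S d = S 1 + S 2 + S 3 + S 4 + S 6 + S 9 + S 12 + S 18 + S 36 := by
  rw [show (36:ℕ).divisors = {1, 2, 3, 4, 6, 9, 12, 18, 36} from by decide]
  simp [Finset.sum_insert]
  try ring

theorem c5b_sum72 (S : ℕ → ℕ) : ∑ d ∈ (72:ℕ).divisors, S d = S 1 + S 2 + S 3 + S 4 + S 6 + S 8 + S 9 + S 12 + S 18 + S 24 + S 36 + S 72 := by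
  rw [show (72:ℕ).divisors = {1, 2, 3, 4, 6, 8, 9, 12, 18, 24, 36, 72} from by decide]
  simp [Finset.sum_insert]
  try ring

theorem c5b_sum144 (S : ℕ → ℕ) : ∑ d ∈ (144:ℕ).divisors, S d = S 1 + S 2 + S 3 + S 4 + S 6 + S 8 + S 9 + S 12 + S 16 + S 18 + S 24 + S 36 + S 48 + S 72 + S 144 := by
  rw [show (144:ℕ).divisors = {1, 2, 3, 4, 6, 8, 9, 12, 16, 18, 24, 36, 48, 72, 144} from by decide]
  simp [Finset.sum_insert]
  try ring

/-- a positive number all of whose prime factors are `2`, `3`, `5` is `2 ^ a * 3 ^ b * 5 ^ c` -/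
theorem c5b_decomp (N : ℕ) (hN : 0 < N)
    (hp : ∀ p, p.Prime → p ∣ N → p = 2 ∨ p = 3 ∨ p = 5) :
    ∃ a b c : ℕ, N = 2 ^ a * 3 ^ b * 5 ^ c := by
  obtain ⟨a, N1, h2, hN1⟩ := Nat.exists_eq_pow_mul_and_not_dvd (Nat.pos_iff_ne_zero.1 hN) 2 (by norm_num)
  have hN1pos : N1 ≠ 0 := by
    rintro rfl
    simp at hN1
    omega
  obtain ⟨b, N2, h3, hN2⟩ := Nat.exists_eq_pow_mul_and_not_dvd hN1pos 3 (by norm_num)
  have hN2pos : N2 ≠ 0 := by
    rintro rfl
    simp at hN2
    exact hN1pos hN2
  obtain ⟨c, N3, h5, hN3⟩ := Nat.exists_eq_pow_mul_and_not_dvd hN2pos 5 (by norm_num)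
  have hN3one : N3 = 1 := by
    by_contra hne
    obtain ⟨p, hpp, hpd⟩ := Nat.exists_prime_and_dvd hne
    have hpN2 : p ∣ N2 := by rw [hN3]; exact Dvd.dvd.mul_left hpd _
    have hpN1 : p ∣ N1 := by rw [hN2]; exact Dvd.dvd.mul_left hpN2 _
    have hpN : p ∣ N := by rw [hN1]; exact Dvd.dvd.mul_left hpN1 _
    rcases hp p hpp hpN with rfl | rfl | rfl
    · exact h2 hpN1
    · exact h3 hpN2
    · exact h5 hpd
  refine ⟨a, b, c, ?_⟩
  rw [hN1, hN2, hN3, hN3one]
  ring

theorem arith_A5 {N : ℕ} {S : ℕ → ℕ} (H : NseHyp N S {1, 15, 20, 24}) (hs : SylowHyp N S) (B : A5Basic N S) :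
    N = 60 ∧ S 3 = 20 ∧ S 5 = 24 ∧ ∀ m, S m ≠ 0 → m ≤ 5 := by
  have hS1 : S 1 = 1 := H.one
  have hS2 : S 2 = 15 := B.two
  have h2N : 2 ∣ N := H.dvd 2 (by rw [hS2]; norm_num)
  have hNpos : 0 < N := H.pos
  -- totients
  have t4 : Nat.totient 4 = 2 := by decide
  have t5 : Nat.totient 5 = 4 := by decide
  have t8 : Nat.totient 8 = 4 := by decide
  have t9 : Nat.totient 9 = 6 := by decide
  have t16 : Nat.totient 16 = 8 := by decide
  have t18 : Nat.totient 18 = 6 := by decide
  have t24 : Nat.totient 24 = 8 := by decide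
  have t27 : Nat.totient 27 = 18 := by decide
  have t32 : Nat.totient 32 = 16 := by decide
  have t36 : Nat.totient 36 = 12 := by decide
  have t72 : Nat.totient 72 = 24 := by decide
  have t3 : Nat.totient 3 = 2 := by decide
  have v : ∀ m, 3 ≤ m → S m = 0 ∨ S m = 20 ∨ S m = 24 := B.val
  have cl : ∀ m d, d ∣ m → S d = 0 → S m = 0 := by
    intro m d hd h0
    by_contra hm
    exact H.closed m d hm hd h0
  have v16 : S 16 = 0 ∨ S 16 = 24 := by
    have := H.phi 16; rw [t16] at this
    rcases v 16 (by norm_num) with h | h | h <;> omega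
  have v32 : S 32 = 0 := by
    have := H.phi 32; rw [t32] at this
    rcases v 32 (by norm_num) with h | h | h <;> omega
  have v18 : S 18 = 0 ∨ S 18 = 24 := by
    have := H.phi 18; rw [t18] at this
    rcases v 18 (by norm_num) with h | h | h <;> omega
  have v24 : S 24 = 0 ∨ S 24 = 24 := by
    have := H.phi 24; rw [t24] at this
    rcases v 24 (by norm_num) with h | h | h <;> omega
  have v27 : S 27 = 0 := by
    have := H.phi 27; rw [t27] at this
    rcases v 27 (by norm_num) with h | h | h <;> omega
  have v36 : S 36 = 0 ∨ S 36 = 24 := by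
    have := H.phi 36; rw [t36] at this
    rcases v 36 (by norm_num) with h | h | h <;> omega
  have v72 : S 72 = 0 ∨ S 72 = 24 := by
    have := H.phi 72; rw [t72] at this
    rcases v 72 (by norm_num) with h | h | h <;> omega
  have v9 : S 9 = 0 ∨ S 9 = 24 := by
    have := H.phi 9; rw [t9] at this
    rcases v 9 (by norm_num) with h | h | h <;> omega
  obtain ⟨a, b, c, hNabc⟩ := c5b_decomp N hNpos B.primes
  -- facts about the 3-part
  have h9 : 9 ∣ N → S 9 = 24 := by
    intro h
    have h1 := H.frob 9 h
    rw [c5b_sum9] at h1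
    have h3 := B.three (dvd_trans (by norm_num) h)
    omega
  have h27 : ¬ 27 ∣ N := by
    intro h
    have h1 := H.frob 27 h
    rw [c5b_sum27] at h1
    have h3 := B.three (dvd_trans (by norm_num) h)
    have h9' := h9 (dvd_trans (by norm_num) h)
    omega
  by_cases h5N : 5 ∣ N
  · -- CASE I
    have hS5 : S 5 = 24 := B.five h5N
    have h25 : ¬ 25 ∣ N := by
      intro h
      have h1 := H.frob 25 h
      rw [c5b_sum25] at h1
      have hS25 : S 25 = 0 := by
        rcases v 25 (by norm_num) with h' | h' | h' <;> omega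
      have h50 : 50 ∣ N := by
        have : Nat.Coprime 2 25 := by norm_num
        exact this.mul_dvd_of_dvd_of_dvd h2N h
      have h2 := H.frob 50 h50
      rw [c5b_sum50] at h2
      have hS50 : S 50 = 0 := cl 50 25 (by norm_num) hS25
      rcases v 10 (by norm_num) with h' | h' | h' <;> omega
    -- Sylow at 5
    have h6N : 6 ∣ N := by
      obtain ⟨n, hn1, hn2, hn3⟩ := hs 5 1 (by norm_num) (by norm_num) (by simpa using h5N)
        (by simpa using h25) (by simp [hS5])
      simp only [pow_one] at hn1
      rw [hS5, t5] at hn1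
      have : n = 6 := by omega
      rw [this] at hn3
      exact hn3
    have h3N : 3 ∣ N := dvd_trans (by norm_num) h6N
    have hS3 : S 3 = 20 := B.three h3N
    have h15N : 15 ∣ N := by
      have : Nat.Coprime 3 5 := by norm_num
      exact this.mul_dvd_of_dvd_of_dvd h3N h5N
    have h30N : 30 ∣ N := by
      have : Nat.Coprime 6 5 := by norm_num
      exact this.mul_dvd_of_dvd_of_dvd h6N h5N
    have hS15 : S 15 = 0 := by
      have h1 := H.frob 15 h15N
      rw [c5b_sum15] at h1
      rcases v 15 (by norm_num) with h' | h' | h' <;> omega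
    have hS30 : S 30 = 0 := cl 30 15 (by norm_num) hS15
    have hS6S10 : S 6 = 0 ∧ S 10 = 0 := by
      have h1 := H.frob 30 h30N
      rw [c5b_sum30] at h1
      rcases v 6 (by norm_num) with h' | h' | h' <;>
        rcases v 10 (by norm_num) with h'' | h'' | h'' <;> omega
    obtain ⟨hS6, hS10⟩ := hS6S10
    have hn9 : ¬ 9 ∣ N := by
      intro h
      have hS9 := h9 h
      have h45 : 45 ∣ N := by
        have : Nat.Coprime 9 5 := by norm_num
        exact this.mul_dvd_of_dvd_of_dvd h h5N
      have h1 := H.frob 45 h45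
      rw [c5b_sum45] at h1
      have hS45 : S 45 = 0 := cl 45 15 (by norm_num) hS15
      omega
    have hS12 : S 12 = 0 := cl 12 6 (by norm_num) hS6
    have hS20 : S 20 = 0 := cl 20 10 (by norm_num) hS10
    have hS60 : S 60 = 0 := cl 60 6 (by norm_num) hS6
    have h4S4 : 4 ∣ N → S 4 = 0 := by
      intro h4
      have h60 : 60 ∣ N := by
        have : Nat.Coprime 4 15 := by norm_num
        exact this.mul_dvd_of_dvd_of_dvd h4 h15N
      have h1 := H.frob 60 h60
      rw [c5b_sum60] at h1
      rcases v 4 (by norm_num) with h' | h' | h' <;> omega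
    have hn8 : ¬ 8 ∣ N := by
      intro h
      have hS4 := h4S4 (dvd_trans (by norm_num) h)
      have h120 : 120 ∣ N := by
        have : Nat.Coprime 8 15 := by norm_num
        exact this.mul_dvd_of_dvd_of_dvd h h15N
      have h1 := H.frob 120 h120
      rw [c5b_sum120] at h1
      have hS8 : S 8 = 0 := cl 8 4 (by norm_num) hS4
      have hS24 : S 24 = 0 := cl 24 6 (by norm_num) hS6
      have hS40 : S 40 = 0 := cl 40 10 (by norm_num) hS10
      have hS120 : S 120 = 0 := cl 120 6 (by norm_num) hS6
      omega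
    -- bound the exponents
    have ha : a ≤ 2 := by
      by_contra hcon
      apply hn8
      rw [hNabc]
      have : (2:ℕ) ^ 3 ∣ 2 ^ a := pow_dvd_pow 2 (by omega)
      exact Dvd.dvd.mul_right (Dvd.dvd.mul_right this _) _
    have hb : b ≤ 1 := by
      by_contra hcon
      apply hn9
      rw [hNabc]
      have : (3:ℕ) ^ 2 ∣ 3 ^ b := pow_dvd_pow 3 (by omega)
      exact Dvd.dvd.mul_right (Dvd.dvd.mul_left this _) _
    have hc : c ≤ 1 := by
      by_contra hcon
      apply h25
      rw [hNabc]
      have : (5:ℕ) ^ 2 ∣ 5 ^ c := pow_dvd_pow 5 (by omega)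
      exact Dvd.dvd.mul_left this _
    have hN3060 : N = 30 ∨ N = 60 := by
      interval_cases a <;> interval_cases b <;> interval_cases c <;> simp at hNabc <;> omega
    rcases hN3060 with hN30 | hN60
    · exfalso
      have h1 := H.total
      rw [hN30, c5b_sum30] at h1
      omega
    · refine ⟨hN60, hS3, hS5, ?_⟩
      have hS4 : S 4 = 0 := h4S4 (by rw [hN60]; norm_num)
      intro m hm
      have hmN := H.dvd m hm
      rw [hN60] at hmN
      have hmle : m ≤ 60 := Nat.le_of_dvd (by norm_num) hmN
      by_contra hgt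
      have h6 : 5 < m := by omega
      have hmem : m ∈ (60:ℕ).divisors := Nat.mem_divisors.2 ⟨hmN, by norm_num⟩
      rw [show (60:ℕ).divisors = {1, 2, 3, 4, 5, 6, 10, 12, 15, 20, 30, 60} from by decide] at hmem
      simp only [Finset.mem_insert, Finset.mem_singleton] at hmem
      rcases hmem with rfl | rfl | rfl | rfl | rfl | rfl | rfl | rfl | rfl | rfl | rfl | rfl
      · omega
      · omega
      · omega
      · omega
      · omega
      · exact hm hS6
      · exact hm hS10
      · exact hm hS12
      · exact hm hS15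
      · exact hm hS20
      · exact hm hS30
      · exact hm hS60
  · -- CASE II : 5 ∤ N
    exfalso
    by_cases h3N : 3 ∣ N
    · have hS3 : S 3 = 20 := B.three h3N
      by_cases h9N : 9 ∣ N
      · -- 9 ‖ N
        have hS9 := h9 h9N
        have h4N : 4 ∣ N := by
          obtain ⟨n, hn1, hn2, hn3⟩ := hs 3 2 (by norm_num) (by norm_num) (by simpa using h9N)
            (by simpa using h27) (by simp [hS9])
          have e9 : (3:ℕ) ^ 2 = 9 := by norm_num
          rw [e9, hS9, t9] at hn1
          have : n = 4 := by omega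
          rw [this] at hn3
          exact hn3
        have h18N : 18 ∣ N := by
          have : Nat.Coprime 2 9 := by norm_num
          exact this.mul_dvd_of_dvd_of_dvd h2N h9N
        have h36N : 36 ∣ N := by
          have : Nat.Coprime 4 9 := by norm_num
          exact this.mul_dvd_of_dvd_of_dvd h4N h9N
        have hS6S18 : S 6 = 24 ∧ S 18 = 24 := by
          have h1 := H.frob 18 h18N
          rw [c5b_sum18] at h1
          rcases v 6 (by norm_num) with h' | h' | h' <;>
            rcases v18 with h'' | h'' <;> omega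
        obtain ⟨hS6, hS18⟩ := hS6S18
        -- N ≥ 108
        have hN108 : 108 ≤ N := by
          have hsub : ({1, 2, 3, 6, 9, 18} : Finset ℕ) ⊆ N.divisors := by
            intro d hd
            simp only [Finset.mem_insert, Finset.mem_singleton] at hd
            rw [Nat.mem_divisors]
            refine ⟨?_, by omega⟩
            rcases hd with rfl | rfl | rfl | rfl | rfl | rfl
            · exact one_dvd _
            · exact h2N
            · exact h3N
            · exact dvd_trans (by norm_num) h18N
            · exact h9N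
            · exact h18N
          have h1 := Finset.sum_le_sum_of_subset (f := S) hsub
          rw [← H.total] at h1
          simp [Finset.sum_insert] at h1
          omega
        -- exponents
        have hc0 : c = 0 := by
          by_contra hcon
          apply h5N
          rw [hNabc]
          exact Dvd.dvd.mul_left (dvd_pow_self 5 hcon) _
        have hb2 : b ≤ 2 := by
          by_contra hcon
          apply h27
          rw [hNabc]
          have : (3:ℕ) ^ 3 ∣ 3 ^ b := pow_dvd_pow 3 (by omega)
          exact Dvd.dvd.mul_right (Dvd.dvd.mul_left this _) _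
        have h16N : 16 ∣ N := by
          by_contra hcon
          have ha : a ≤ 3 := by
            by_contra hcon2
            apply hcon
            rw [hNabc]
            have : (2:ℕ) ^ 4 ∣ 2 ^ a := pow_dvd_pow 2 (by omega)
            exact Dvd.dvd.mul_right (Dvd.dvd.mul_right this _) _
          subst hc0
          interval_cases a <;> interval_cases b <;> simp at hNabc <;> omega
        have h8N : 8 ∣ N := dvd_trans (by norm_num) h16N
        have h72N : 72 ∣ N := by
          have : Nat.Coprime 8 9 := by norm_num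
          exact this.mul_dvd_of_dvd_of_dvd h8N h9N
        have h144N : 144 ∣ N := by
          have : Nat.Coprime 16 9 := by norm_num
          exact this.mul_dvd_of_dvd_of_dvd h16N h9N
        have h36 := H.frob 36 h36N
        rw [c5b_sum36] at h36
        have hcases : (S 4 = 0 ∧ S 12 = 0 ∧ S 36 = 0) ∨ (S 4 = 24 ∧ S 12 = 24 ∧ S 36 = 24) := by
          rcases v 4 (by norm_num) with h' | h' | h' <;>
            rcases v 12 (by norm_num) with h'' | h'' | h'' <;>
              rcases v36 with h''' | h''' <;> omega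
        rcases hcases with ⟨hS4, hS12, hS36⟩ | ⟨hS4, hS12, hS36⟩
        · have h1 := H.frob 144 h144N
          rw [c5b_sum144] at h1
          have hS8 : S 8 = 0 := cl 8 4 (by norm_num) hS4
          have hS16 : S 16 = 0 := cl 16 4 (by norm_num) hS4
          have hS24 : S 24 = 0 := cl 24 4 (by norm_num) hS4
          have hS48 : S 48 = 0 := cl 48 4 (by norm_num) hS4
          have hS72 : S 72 = 0 := cl 72 4 (by norm_num) hS4
          have hS144 : S 144 = 0 := cl 144 4 (by norm_num) hS4
          omega
        · have h8 := H.frob 8 h8N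
          rw [c5b_sum8] at h8
          have h72 := H.frob 72 h72N
          rw [c5b_sum72] at h72
          rcases v 8 (by norm_num) with h' | h' | h' <;>
            rcases v24 with h'' | h'' <;>
              rcases v72 with h''' | h''' <;> omega
      · -- 3 ‖ N : Sylow gives 10 ∣ N
        obtain ⟨n, hn1, hn2, hn3⟩ := hs 3 1 (by norm_num) (by norm_num) (by simpa using h3N)
          (by simpa using h9N) (by simp [hS3])
        simp only [pow_one] at hn1
        rw [hS3, t3] at hn1
        have : n = 10 := by omega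
        rw [this] at hn3
        exact h5N (dvd_trans (by norm_num) hn3)
    · -- N is a power of 2
      have hb0 : b = 0 := by
        by_contra hcon
        apply h3N
        rw [hNabc]
        exact Dvd.dvd.mul_right (Dvd.dvd.mul_left (dvd_pow_self 3 hcon) _) _
      have hc0 : c = 0 := by
        by_contra hcon
        apply h5N
        rw [hNabc]
        exact Dvd.dvd.mul_left (dvd_pow_self 5 hcon) _
      subst hb0 hc0
      have hN2a : N = 2 ^ a := by rw [hNabc]; ring
      obtain ⟨m, hm20⟩ := H.attained 20 (by simp)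
      have hm0 : S m ≠ 0 := by rw [hm20]; norm_num
      have hmN := H.dvd m hm0
      rw [hN2a] at hmN
      obtain ⟨i, hia, rfl⟩ := (Nat.dvd_prime_pow Nat.prime_two).1 hmN
      have hi3 : i ≤ 3 := by
        by_contra hcon
        have h1 := H.phi (2 ^ i)
        rw [hm20] at h1
        obtain ⟨j, rfl⟩ : ∃ j, i = j + 1 := ⟨i - 1, by omega⟩
        rw [Nat.totient_prime_pow_succ Nat.prime_two] at h1
        have h2 : (2:ℕ) ^ 3 ∣ 2 ^ j := pow_dvd_pow 2 (by omega)
        have h3 : (8:ℕ) ∣ 20 := by
          have := dvd_trans (Dvd.dvd.mul_right h2 (2 - 1)) h1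
          simp at this
        omega
      -- the chain of Frobenius congruences
      have hchain : S 4 = 20 → False := by
        intro hS4
        have h4N : 4 ∣ N := H.dvd 4 (by rw [hS4]; norm_num)
        have h8N : 8 ∣ N := by
          by_contra hcon
          obtain ⟨n, hn1, hn2, hn3⟩ := hs 2 2 (by norm_num) (by norm_num) (by simpa using h4N)
            (by simpa using hcon) (by simp [hS4])
          have e4 : (2:ℕ) ^ 2 = 4 := by norm_num
          rw [e4, hS4, t4] at hn1
          omega
        have h8 := H.frob 8 h8N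
        rw [c5b_sum8] at h8
        have hS8 : S 8 = 20 := by
          rcases v 8 (by norm_num) with h' | h' | h' <;> omega
        have h16N : 16 ∣ N := by
          by_contra hcon
          obtain ⟨n, hn1, hn2, hn3⟩ := hs 2 3 (by norm_num) (by norm_num) (by simpa using h8N)
            (by simpa using hcon) (by simp [hS8])
          have e8 : (2:ℕ) ^ 3 = 8 := by norm_num
          rw [e8, hS8, t8] at hn1
          have : n = 5 := by omega
          rw [this] at hn3
          exact h5N hn3
        have h16 := H.frob 16 h16N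
        rw [c5b_sum16] at h16
        have hS16 : S 16 = 24 := by
          rcases v16 with h' | h' <;> omega
        have h32N : 32 ∣ N := by
          by_contra hcon
          obtain ⟨n, hn1, hn2, hn3⟩ := hs 2 4 (by norm_num) (by norm_num) (by simpa using h16N)
            (by simpa using hcon) (by simp [hS16])
          have e16 : (2:ℕ) ^ 4 = 16 := by norm_num
          rw [e16, hS16, t16] at hn1
          have : n = 3 := by omega
          rw [this] at hn3
          exact h3N hn3
        have h32 := H.frob 32 h32N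
        rw [c5b_sum32] at h32
        omega
      interval_cases i
      · simp at hm20; omega
      · simp at hm20; omega
      · exact hchain (by simpa using hm20)
      · have hS8 : S 8 = 20 := by simpa using hm20
        have h8N : 8 ∣ N := H.dvd 8 (by rw [hS8]; norm_num)
        have h8 := H.frob 8 h8N
        rw [c5b_sum8] at h8
        rcases v 4 (by norm_num) with h' | h' | h'
        · exact hm0 (by rw [show (2:ℕ) ^ 3 = 8 from by norm_num]; exact cl 8 4 (by norm_num) h')
        · exact hchain h'
        · omega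

end Cfsg.Agent.Lib.Helper82.Nse
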