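import Mathlib
import Cfsg.Agent.Lib.Helper22.NseDefs
import Cfsg.Agent.Lib.Helper07.Order60

/-!
# K-NSE-D5 (S3431, keystone 343114): `recog_A5`

A group of order `60` with `20` elements of order `3`, `24` of order `5` and no element of order
`> 5` is simple, hence isomorphic to `A_5`.
-/

set_option autoImplicit false
set_option linter.unusedSectionVars false
set_option linter.unusedVariables false
set_option linter.style.haveILetI false

namespace Cfsg.Agent.Lib.Helper82.Nse

open Cfsg.Agent.Lib.Helper22.Nse
open Cfsg.Agent.S3995 (s)

section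
variable {G : Type*} [Group G] [Finite G]

/-- an element whose order is prime to the index of a normal subgroup lies in it -/
theorem d5_mem_of_coprime (K : Subgroup G) [K.Normal] (g : G)
    (h : (orderOf g).Coprime K.index) : g ∈ K := by
  rw [← QuotientGroup.eq_one_iff]
  have h1 : orderOf ((QuotientGroup.mk' K) g) ∣ orderOf g := orderOf_map_dvd (QuotientGroup.mk' K) g
  have h2 : orderOf ((QuotientGroup.mk' K) g) ∣ K.index := by
    rw [Subgroup.index_eq_card]; exact orderOf_dvd_natCard _
  have h3 : orderOf ((QuotientGroup.mk' K) g) ∣ 1 := by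
    have := Nat.dvd_gcd h1 h2
    rwa [Nat.Coprime.gcd_eq_one h] at this
  exact orderOf_eq_one_iff.1 (Nat.dvd_one.1 h3)

/-- the number of elements of order `m`, as an `ncard` -/
theorem d5_s_eq_ncard (m : ℕ) : s G m = {x : G | orderOf x = m}.ncard :=
  Nat.card_coe_set_eq {x : G | orderOf x = m}

theorem d5_card_eq_ncard (K : Subgroup G) : Nat.card K = (K : Set G).ncard :=
  Nat.card_coe_set_eq (K : Set G)

/-- a fixed-point-free conjugation action of an element of order `5` -/
theorem d5_card_mod (K : Subgroup G) [K.Normal] (g : G) (hg : orderOf g = 5)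
    (hfix : ∀ k ∈ K, g * k = k * g → k = 1) : Nat.card K % 5 = 1 := by
  haveI : Fact (Nat.Prime 5) := ⟨by norm_num⟩
  set P : Subgroup (ConjAct G) := Subgroup.zpowers (ConjAct.toConjAct g) with hP
  have hPcard : Nat.card P = 5 ^ 1 := by
    rw [hP, Nat.card_zpowers, pow_one, ← hg]
    exact MulEquiv.orderOf_eq ConjAct.toConjAct g
  have hPp : IsPGroup 5 P := IsPGroup.of_card hPcard
  have h1 := hPp.card_modEq_card_fixedPoints (↥K)
  have h2 : MulAction.fixedPoints (↥P) (↥K) = {1} := by
    ext k
    rw [MulAction.mem_fixedPoints, Set.mem_singleton_iff]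
    constructor
    · intro hk
      have h3 := hk ⟨ConjAct.toConjAct g, Subgroup.mem_zpowers _⟩
      have h4 : g * (k : G) * g⁻¹ = (k : G) := by
        have h3' := congrArg (Subtype.val : ↥K → G) h3
        rw [Subgroup.smul_def] at h3'
        change ((ConjAct.toConjAct g • k : ↥K) : G) = (k : G) at h3'
        rw [ConjAct.Subgroup.val_conj_smul, ConjAct.toConjAct_smul] at h3'
        exact h3'
      have h5 : g * (k : G) = (k : G) * g := by
        calc g * (k : G) = g * (k : G) * g⁻¹ * g := by group
          _ = (k : G) * g := by rw [h4]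
      exact Subtype.ext (hfix k k.2 h5)
    · rintro rfl p
      exact smul_one p
  rw [h2] at h1
  have h3 : Nat.card (↥({1} : Set (↥K))) = 1 := by
    rw [Nat.card_coe_set_eq, Set.ncard_singleton]
  rw [h3] at h1
  exact h1

end

theorem recog_A5 {G : Type*} [Group G] [Finite G] (hN : Nat.card G = 60) (h3 : Cfsg.Agent.S3995.s G 3 = 20)
    (h5 : Cfsg.Agent.S3995.s G 5 = 24) (hsp : ∀ m, Cfsg.Agent.S3995.s G m ≠ 0 → m ≤ 5) :
    Nonempty (G ≃* ↥(alternatingGroup (Fin 5))) := by
  classical
  -- an element of order 5
  obtain ⟨g, hg⟩ : ∃ g : G, orderOf g = 5 := by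
    rw [← Cfsg.Agent.S3995.s_ne_zero_iff, h5]; norm_num
  -- normal subgroups of order prime to 5 have order ≡ 1 mod 5
  have hmod : ∀ K : Subgroup G, K.Normal → ¬ 5 ∣ Nat.card K → Nat.card K % 5 = 1 := by
    intro K hK h5K
    haveI := hK
    apply d5_card_mod K g hg
    intro k hk hcomm
    have hkord : orderOf k ∣ Nat.card K := by
      have := orderOf_dvd_natCard (⟨k, hk⟩ : K)
      rwa [Subgroup.orderOf_mk] at this
    have hcop : (orderOf g).Coprime (orderOf k) := by
      rw [hg]
      apply (Nat.Prime.coprime_iff_not_dvd (by norm_num)).2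
      intro h
      exact h5K (dvd_trans h hkord)
    have hmul : orderOf (g * k) = orderOf g * orderOf k :=
      Commute.orderOf_mul_eq_mul_orderOf_of_coprime hcomm hcop
    have hle : orderOf (g * k) ≤ 5 :=
      hsp _ ((Cfsg.Agent.S3995.s_ne_zero_iff _).2 ⟨g * k, rfl⟩)
    rw [hmul, hg] at hle
    have hpos : 0 < orderOf k := orderOf_pos k
    have h1 : orderOf k = 1 := by omega
    exact orderOf_eq_one_iff.1 h1
  have key : ∀ K : Subgroup G, K.Normal → K = ⊥ ∨ K = ⊤ := by
    intro K hK
    haveI := hK
    by_contra hcon
    rw [not_or] at hcon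
    obtain ⟨hbot, htop⟩ := hcon
    have hki : Nat.card K * K.index = 60 := by rw [← hN]; exact K.card_mul_index
    have hk1 : Nat.card K ≠ 1 := fun h => hbot (Subgroup.card_eq_one.1 h)
    have hi1 : K.index ≠ 1 := fun h => htop (Subgroup.index_eq_one.1 h)
    have hkpos : 0 < Nat.card K := Nat.card_pos
    have hipos : 0 < K.index := Nat.pos_of_ne_zero Subgroup.index_ne_zero_of_finite
    have hone5 : (1 : G) ∉ {x : G | orderOf x = 5} := by
      simp
    have hone3 : (1 : G) ∉ {x : G | orderOf x = 3} := by
      simp
    by_cases h5k : 5 ∣ Nat.card K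
    · -- K contains all elements of order 5
      have h5i : ¬ 5 ∣ K.index := by
        intro h
        obtain ⟨a, ha⟩ := h5k
        obtain ⟨b, hb⟩ := h
        rw [ha, hb] at hki
        have : 25 * (a * b) = 60 := by nlinarith
        omega
      have hsub5 : insert (1 : G) {x : G | orderOf x = 5} ⊆ (K : Set G) := by
        intro x hx
        rcases hx with rfl | hx
        · exact K.one_mem
        · apply d5_mem_of_coprime K x
          rw [Set.mem_ofPred_eq] at hx
          rw [hx]
          exact (Nat.Prime.coprime_iff_not_dvd (by norm_num)).2 h5i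
      have hge25 : 25 ≤ Nat.card K := by
        rw [d5_card_eq_ncard]
        have h1 := Set.ncard_le_ncard hsub5 (Set.toFinite _)
        rw [Set.ncard_insert_of_notMem hone5 (Set.toFinite _), ← d5_s_eq_ncard, h5] at h1
        exact h1
      have hi2 : K.index = 2 := by
        have : K.index ≤ 2 := by
          by_contra h
          have : 3 ≤ K.index := by omega
          nlinarith
        omega
      have hk30 : Nat.card K = 30 := by
        rw [hi2] at hki; omega
      have hdisj : Disjoint {x : G | orderOf x = 5} {x : G | orderOf x = 3} := by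
        rw [Set.disjoint_left]
        intro x hx hx'
        rw [Set.mem_ofPred_eq] at hx hx'
        omega
      have hsub : insert (1 : G) ({x : G | orderOf x = 5} ∪ {x : G | orderOf x = 3}) ⊆ (K : Set G) := by
        intro x hx
        rcases hx with rfl | hx | hx
        · exact K.one_mem
        · exact hsub5 (Or.inr hx)
        · apply d5_mem_of_coprime K x
          rw [Set.mem_ofPred_eq] at hx
          rw [hx, hi2]
          norm_num
      have hone : (1 : G) ∉ ({x : G | orderOf x = 5} ∪ {x : G | orderOf x = 3}) := by
        simp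
      have h1 := Set.ncard_le_ncard hsub (Set.toFinite _)
      rw [Set.ncard_insert_of_notMem hone (Set.toFinite _),
        Set.ncard_union_eq hdisj (Set.toFinite _) (Set.toFinite _), ← d5_s_eq_ncard,
        ← d5_s_eq_ncard, h5, h3, ← d5_card_eq_ncard, hk30] at h1
      omega
    · -- 5 ∤ |K|
      have hm := hmod K hK h5k
      have h5i : 5 ∣ K.index := by
        have h60 : 5 ∣ Nat.card K * K.index := by rw [hki]; norm_num
        rcases (Nat.Prime.dvd_mul (by norm_num)).1 h60 with h | h
        · exact absurd h h5k
        · exact h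
      obtain ⟨j, hj⟩ := h5i
      have hkj : Nat.card K * j = 12 := by
        rw [hj] at hki
        have : 5 * (Nat.card K * j) = 60 := by nlinarith
        omega
      have hk6 : Nat.card K = 6 := by
        have hdvd : Nat.card K ∣ 12 := ⟨j, hkj.symm⟩
        have hle : Nat.card K ≤ 12 := Nat.le_of_dvd (by norm_num) hdvd
        interval_cases hc : Nat.card K <;> simp_all
      -- the Sylow 3-subgroup of K is characteristic in K, hence normal in G, of order 3
      haveI : Fact (Nat.Prime 3) := ⟨by norm_num⟩
      obtain ⟨Q⟩ : Nonempty (Sylow 3 K) := inferInstance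
      have hQcard : Nat.card (Q : Subgroup K) = 3 := by
        rw [Sylow.card_eq_multiplicity, hk6]
        have : (6 : ℕ).factorization 3 = 1 := by
          have h6 : (6 : ℕ) = 2 * 3 := by norm_num
          rw [h6, Nat.factorization_mul (by norm_num) (by norm_num)]
          have h33 : (Nat.factorization 3) 3 = 1 := Nat.Prime.factorization_self (by norm_num)
          have h23 : (Nat.factorization 2) 3 = 0 :=
            Nat.factorization_eq_zero_of_not_dvd (by norm_num)
          simp [h33, h23]
        rw [this, pow_one]
      have hQidx : (Q : Subgroup K).index = 2 := by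
        have := (Q : Subgroup K).card_mul_index
        rw [hQcard, hk6] at this
        omega
      haveI hQn : (Q : Subgroup K).Normal := Subgroup.normal_of_index_eq_two hQidx
      haveI hQc : (Q : Subgroup K).Characteristic := Sylow.characteristic_of_normal Q hQn
      have hQG : ((Q : Subgroup K).map K.subtype).Normal := ConjAct.normal_of_characteristic_of_normal
      have hcard3 : Nat.card ((Q : Subgroup K).map K.subtype) = 3 := by
        rw [Subgroup.card_map_of_injective K.subtype_injective, hQcard]
      have := hmod _ hQG (by rw [hcard3]; norm_num)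
      rw [hcard3] at this
      omega
  haveI : Nontrivial G := by
    rw [← Finite.one_lt_card_iff_nontrivial, hN]; norm_num
  haveI : IsSimpleGroup G := ⟨key⟩
  exact Cfsg.Agent.Lib.Helper07.nonempty_mulEquiv_alternatingGroup_five_of_card_eq_sixty hN

end Cfsg.Agent.Lib.Helper82.Nse
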