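import Mathlib
import Cfsg.Agent.Lib.Helper49.OInvDefs

/-!
# K-OInv-6 : frames spanning a totally isotropic subspace of the hyperbolic quadratic space (char 2)
-/

set_option autoImplicit false
set_option linter.style.haveILetI false
set_option linter.unusedSectionVars false

namespace Cfsg.Agent.Lib.Helper82.OInv

open Matrix Cfsg.Agent.Lib.Helper49.OInv

variable {F : Type*} [Field F]

theorem quadFormPlus_smul (m : ℕ) (c : F) (w : Fin m ⊕ Fin m → F) :
    Cfsg.quadFormPlus m F (c • w) = c ^ 2 * Cfsg.quadFormPlus m F w := by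
  simp only [Cfsg.quadFormPlus, Pi.smul_apply, smul_eq_mul, Finset.mul_sum]
  apply Finset.sum_congr rfl
  intro i _
  ring

/-- a family of vectors of `W`, linearly independent in `W`, of the right cardinality: it is a frame as soon as
the values are right. -/
theorem exists_frame_of_family {m n : ℕ} (W : Submodule F (Fin m ⊕ Fin m → F)) (c : Fin n → F)
    (hW : ∀ a ∈ W, ∀ b ∈ W, QuadraticMap.polar (Cfsg.quadFormPlus m F) a b = 0)
    (hs : Module.finrank F W = n) (v' : Fin n → W) (hli : LinearIndependent F v')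
    (hval : ∀ i, Cfsg.quadFormPlus m F ((v' i : W) : Fin m ⊕ Fin m → F) = c i) :
    ∃ v : QFrame m F c, Submodule.span F (Set.range v.1) = W := by
  refine ⟨⟨fun i => ((v' i : W) : Fin m ⊕ Fin m → F), ?_, hval, ?_⟩, ?_⟩
  · exact hli.map' W.subtype (Submodule.ker_subtype W)
  · intro i j
    exact hW _ (v' i).2 _ (v' j).2
  · have htop : Submodule.span F (Set.range v') = ⊤ :=
      hli.span_eq_top_of_card_eq_finrank' (by rw [Fintype.card_fin, hs])
    have : (fun i => ((v' i : W) : Fin m ⊕ Fin m → F)) = W.subtype ∘ v' := rfl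
    show Submodule.span F (Set.range (fun i => ((v' i : W) : Fin m ⊕ Fin m → F))) = W
    rw [this, Set.range_comp, ← Submodule.map_span, htop, Submodule.map_top, Submodule.range_subtype]


/-- abstract linear algebra: a basis adapted to a functional. -/
theorem exists_adapted_family {W : Type*} [AddCommGroup W] [Module F W] [FiniteDimensional F W]
    (φ : W →ₗ[F] F) (u : W) (hu : φ u = 1) (k : ℕ) (hs : Module.finrank F W = k + 1) :
    ∃ v' : Fin (k + 1) → W, LinearIndependent F v' ∧ (∀ j : Fin k, φ (v' (Fin.castSucc j)) = 0) ∧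
      v' (Fin.last k) = u := by
  have hsurj : LinearMap.range φ = ⊤ := by
    rw [eq_top_iff]
    intro x _
    exact ⟨x • u, by rw [map_smul, hu, smul_eq_mul, mul_one]⟩
  have hker : Module.finrank F (LinearMap.ker φ) = k := by
    have h1 := LinearMap.finrank_range_add_finrank_ker φ
    rw [hsurj, finrank_top, Module.finrank_self, hs] at h1
    omega
  let b := Module.finBasisOfFinrankEq F (LinearMap.ker φ) hker
  refine ⟨Fin.snoc (fun i : Fin k => ((b i : LinearMap.ker φ) : W)) u, ?_, ?_, ?_⟩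
  · rw [linearIndependent_finSnoc]
    refine ⟨b.linearIndependent.map' (LinearMap.ker φ).subtype (Submodule.ker_subtype _), ?_⟩
    intro hmem
    have hle : Submodule.span F (Set.range fun i : Fin k => ((b i : LinearMap.ker φ) : W)) ≤
        LinearMap.ker φ := by
      rw [Submodule.span_le]
      rintro _ ⟨i, rfl⟩
      exact (b i).2
    have := hle hmem
    rw [LinearMap.mem_ker, hu] at this
    exact one_ne_zero this
  · intro j
    rw [Fin.snoc_castSucc]
    exact (b j).2
  · exact Fin.snoc_last _ _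

variable [Fintype F] [CharP F 2]

/-- **K-OInv-6 (a)**. -/
theorem exists_sFrame {m s : ℕ} (W : Submodule F (Fin m ⊕ Fin m → F))
    (hW : ∀ w ∈ W, Cfsg.quadFormPlus m F w = 0) (hs : Module.finrank F W = s) :
    ∃ v : QFrame m F (0 : Fin s → F), Submodule.span F (Set.range v.1) = W := by
  have hpol : ∀ a ∈ W, ∀ b ∈ W, QuadraticMap.polar (Cfsg.quadFormPlus m F) a b = 0 := by
    intro a ha b hb
    simp only [QuadraticMap.polar]
    rw [hW _ (W.add_mem ha hb), hW _ ha, hW _ hb]; ring
  let b := Module.finBasisOfFinrankEq F W hs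
  exact exists_frame_of_family W 0 hpol hs b b.linearIndependent (fun i => hW _ (b i).2)

/-- the square root of `Q` is a linear functional on a totally isotropic subspace. -/
theorem exists_sqrt_functional {m : ℕ} (W : Submodule F (Fin m ⊕ Fin m → F))
    (hW : ∀ a ∈ W, ∀ b ∈ W, QuadraticMap.polar (Cfsg.quadFormPlus m F) a b = 0) :
    ∃ φ : W →ₗ[F] F, ∀ w : W, φ w ^ 2 = Cfsg.quadFormPlus m F (w : Fin m ⊕ Fin m → F) := by
  classical
  haveI : Fact (Nat.Prime 2) := ⟨Nat.prime_two⟩
  have hsq : ∀ x : F, (frobeniusEquiv F 2).symm x ^ 2 = x := fun x => frobeniusEquiv_symm_pow_p F 2 x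
  have hsq' : ∀ x : F, (frobeniusEquiv F 2).symm (x ^ 2) = x := fun x => frobeniusEquiv_symm_pow F 2 x
  have hadd : ∀ a ∈ W, ∀ b ∈ W, Cfsg.quadFormPlus m F (a + b) =
      Cfsg.quadFormPlus m F a + Cfsg.quadFormPlus m F b := by
    intro a ha b hb
    have := hW a ha b hb
    simp only [QuadraticMap.polar] at this
    linear_combination this
  refine ⟨{ toFun := fun w => (frobeniusEquiv F 2).symm (Cfsg.quadFormPlus m F (w : Fin m ⊕ Fin m → F))
            map_add' := ?_
            map_smul' := ?_ }, fun w => hsq _⟩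
  · intro a b
    show (frobeniusEquiv F 2).symm (Cfsg.quadFormPlus m F ((a + b : W) : Fin m ⊕ Fin m → F)) = _
    rw [Submodule.coe_add, hadd _ a.2 _ b.2, map_add]
  · intro c a
    show (frobeniusEquiv F 2).symm (Cfsg.quadFormPlus m F ((c • a : W) : Fin m ⊕ Fin m → F)) = _
    rw [Submodule.coe_smul, quadFormPlus_smul, map_mul, hsq', RingHom.id_apply, smul_eq_mul]

/-- **K-OInv-6 (b)**. -/
theorem exists_mFrame {m k : ℕ} (W : Submodule F (Fin m ⊕ Fin m → F))
    (hW : ∀ a ∈ W, ∀ b ∈ W, QuadraticMap.polar (Cfsg.quadFormPlus m F) a b = 0)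
    (hns : ∃ w ∈ W, Cfsg.quadFormPlus m F w ≠ 0) (hs : Module.finrank F W = k + 1) :
    ∃ v : QFrame m F (mixVal F k), Submodule.span F (Set.range v.1) = W := by
  classical
  obtain ⟨φ, hφ⟩ := exists_sqrt_functional W hW
  obtain ⟨w₀, hw₀W, hw₀⟩ := hns
  have hφ0 : φ ⟨w₀, hw₀W⟩ ≠ 0 := by
    intro h
    apply hw₀
    have := hφ ⟨w₀, hw₀W⟩
    rw [h] at this
    simpa using this.symm
  -- a vector with `φ u = 1`
  obtain ⟨u, hu⟩ : ∃ u : W, φ u = 1 :=
    ⟨(φ ⟨w₀, hw₀W⟩)⁻¹ • ⟨w₀, hw₀W⟩, by rw [map_smul, smul_eq_mul, inv_mul_cancel₀ hφ0]⟩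
  obtain ⟨v', hli, hv0, hvl⟩ := exists_adapted_family φ u hu k hs
  refine exists_frame_of_family W (mixVal F k) hW hs v' hli ?_
  intro i
  refine Fin.lastCases ?_ (fun j => ?_) i
  · rw [hvl, ← hφ, hu]
    simp [mixVal]
  · rw [← hφ, hv0 j]
    have hj : (j : ℕ) ≠ k := j.2.ne
    simp [mixVal, hj]

end Cfsg.Agent.Lib.Helper82.OInv
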