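import Cfsg.Agent.Lib.Helper82.OhPFC2a
import Cfsg.Agent.Lib.Helper28.OhPA
import Cfsg.Agent.Lib.Helper29.OhPS1
import Cfsg.Agent.Lib.Helper04.OhPC1
import Cfsg.Agent.Lib.Helper21.OhPC2
import Cfsg.Agent.Lib.Helper08.OhPS2
import Cfsg.Agent.Lib.Helper86.OhPW1

/-!
# K-OhP-FC2 (keystone 597411, architect helper38): `fixed_of_good`, exact signature of the spec
-/

set_option autoImplicit false
set_option linter.unusedSectionVars false
set_option linter.unusedVariables false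
set_option linter.style.haveILetI false

namespace Cfsg.Agent.Lib.Helper82.OhP

open Module Cfsg.Agent.Lib.Helper98.Elus Cfsg.Agent.Lib.Helper98.Sy Cfsg.Agent.Lib.Helper38.OhP

universe u
variable {F : Type u} [Field F] {V : Type u} [AddCommGroup V] [Module F V]

/-- LEAF S1 of the pack, assembled from `Helper29.OhP.type_of_le_V1_q_of` and LEAVES A, C1, C2. -/
theorem type_of_le_V1_q' [Fintype F] [FiniteDimensional F V] (Q : QuadraticForm F V)
    (hV : NonDeg (pB Q) ⊤) (p f : ℕ) [Fact p.Prime] (hF : Fintype.card F = p ^ f)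
    (r : ℕ) [Fact r.Prime] (hpr : p ≠ r) (hr2 : r ≠ 2) (hrF : (r : F) ≠ 0) (y : V →ₗ[F] V)
    (hy : y ^ r = 1) (hiso : QIso Q y)
    (U : Submodule F V) (hUV1 : U ≤ V1 r y) (hU : Inv y U) (hUnd : NonDeg (pB Q) U) :
    cOf (orderOf ((Fintype.card F : ℕ) : ZMod r)) ∣ finrank F U ∧
      (PlusQ Q U ↔ tPlus (orderOf ((Fintype.card F : ℕ) : ZMod r))
        (finrank F U / cOf (orderOf ((Fintype.card F : ℕ) : ZMod r)))) :=
  Cfsg.Agent.Lib.Helper29.OhP.type_of_le_V1_q_of Q p f hF r hpr y hy hiso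
    (fun W1 W2 h1 h2 hort he1 he2 =>
      Cfsg.Agent.Lib.Helper28.OhP.plusQ_sup_iff Q W1 W2 h1 h2 hort he1 he2)
    (fun U' hU'V1 hU' hU'nd hU'ne =>
      Cfsg.Agent.Lib.Helper04.OhP.exists_min_nonDeg_q Q hV p f hF r hpr hr2 hrF y hy hiso U' hU'V1
        hU' hU'nd hU'ne)
    (fun W hWV1 hW hWnd hWd =>
      Cfsg.Agent.Lib.Helper21.OhP.plusQ_iff_of_min Q hV p f hF r hpr hr2 hrF y hy hiso W hWV1 hW
        hWnd hWd)
    U hUV1 hU hUnd

/-- **LEAF FC2 (597411)** sufficiency -/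
theorem fixed_of_good [Fintype F] [FiniteDimensional F V] (Q : QuadraticForm F V)
    (hV : NonDeg (pB Q) ⊤) (hVp : PlusQ Q ⊤) (p f : ℕ) [Fact p.Prime] (hF : Fintype.card F = p ^ f)
    (r : ℕ) [Fact r.Prime] (hpr : p ≠ r) (hr2 : r ≠ 2) (hrF : (r : F) ≠ 0) (y : V →ₗ[F] V)
    (hy : y ^ r = 1) (hiso : QIso Q y)
    (i c : ℕ) (hi : i = orderOf ((Fintype.card F : ℕ) : ZMod r)) (hc : c = cOf i)
    (T k : ℕ) (hT : finrank F (V1 r y) = T * c) (hk : finrank F (V0 y) = k)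
    (m : ℕ) (hme : Even m) (j : ℕ) (hjT : j ≤ T) (hjm : j * c ≤ m) (hg : Good i c T k m j) :
    ∃ W : Submodule F V, Inv y W ∧ NonDeg (pB Q) W ∧ finrank F W = m ∧ PlusQ Q W := by
  subst hi
  subst hc
  have hcpos : 0 < cOf (orderOf ((Fintype.card F : ℕ) : ZMod r)) :=
    cOf_pos _ (orderOf_card_pos p f hF r hpr)
  exact fixed_of_good_of Q hV hVp r hrF y hy hiso _ _ rfl hcpos
    (fun W1 W2 h1 h2 hort he1 he2 =>
      Cfsg.Agent.Lib.Helper28.OhP.plusQ_sup_iff Q W1 W2 h1 h2 hort he1 he2)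
    (fun U hUV1 hU hUnd =>
      type_of_le_V1_q' Q hV p f hF r hpr hr2 hrF y hy hiso U hUV1 hU hUnd)
    (fun U hUV1 hU hUnd b hb =>
      Cfsg.Agent.Lib.Helper08.OhP.exists_nonDeg_inv_q Q hV p f hF r hpr hr2 hrF y hy hiso U hUV1 hU
        hUnd b hb)
    (fun C hC hCe e he he2 hlt t =>
      Cfsg.Agent.Lib.Helper86.OhP.exists_sub_of_type Q C hC hCe e he he2 hlt t)
    T k hT hk m hme j hjT hjm hg

end Cfsg.Agent.Lib.Helper82.OhP
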