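import Mathlib
import Cfsg.Prelude.Def_Local
import Cfsg.Prelude.Def_LocalEven

/-!
# K-PMinAlt-G4 (keystone 293004; architect helper6)
-/

set_option autoImplicit false
set_option linter.unusedSectionVars false
set_option linter.unusedVariables false
set_option linter.style.haveILetI false

namespace Cfsg.Agent.Lib.Helper82.PMinAlt

/-- **K-PMinAlt-G4.** If a Sylow `p`-subgroup lies in two proper subgroups generating the group,
the group is not `p`-minimal. -/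
theorem not_isPMinimal_of_sup_eq_top {Y : Type*} [Group Y] [Finite Y] (p : ℕ) (S : Sylow p Y)
    (M₁ M₂ : Subgroup Y) (h1 : (S : Subgroup Y) ≤ M₁) (h2 : (S : Subgroup Y) ≤ M₂) (hM₁ : M₁ ≠ ⊤)
    (hM₂ : M₂ ≠ ⊤) (hsup : M₁ ⊔ M₂ = ⊤) : ¬ Cfsg.IsPMinimal p Y := by
  intro hY
  obtain ⟨-, M, ⟨hM, -⟩, huniq⟩ := hY S
  obtain ⟨C₁, hC₁, hMC₁⟩ := (eq_top_or_exists_le_coatom M₁).resolve_left hM₁
  obtain ⟨C₂, hC₂, hMC₂⟩ := (eq_top_or_exists_le_coatom M₂).resolve_left hM₂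
  have e1 : C₁ = M := huniq C₁ ⟨hC₁, h1.trans hMC₁⟩
  have e2 : C₂ = M := huniq C₂ ⟨hC₂, h2.trans hMC₂⟩
  apply hM.1
  rw [eq_top_iff, ← hsup]
  exact sup_le (e1 ▸ hMC₁) (e2 ▸ hMC₂)

end Cfsg.Agent.Lib.Helper82.PMinAlt
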