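import Mathlib
import Cfsg.Prelude.Def_Blocks
import Cfsg.Agent.Lib.Helper01.SZRel
import Cfsg.Agent.Lib.Helper83.Quotient
import Cfsg.Agent.Lib.Helper83.Completeness

set_option autoImplicit false
set_option linter.style.haveILetI false

namespace Cfsg.Agent.Lib.Helper82

open Cfsg
open scoped ComplexConjugate Pointwise

section PRegCoset

variable {N : Type*} [Group N]

/-- an element of a `p`-group whose order divides a number prime to `p` is trivial -/
theorem eq_one_of_mem_pGroup_of_orderOf_dvd {p : ℕ} [hp : Fact p.Prime] {P : Subgroup N}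
    (hP : IsPGroup p P) {y : N} (hy : y ∈ P) {m : ℕ} (hm : ¬ p ∣ m) (hdvd : orderOf y ∣ m) :
    y = 1 := by
  obtain ⟨k, hk⟩ := hP ⟨y, hy⟩
  have hk' : y ^ (p ^ k) = 1 := by
    have := congrArg Subtype.val hk
    simpa using this
  have h1 : orderOf y ∣ p ^ k := orderOf_dvd_of_pow_eq_one hk'
  obtain ⟨j, -, hj⟩ := (Nat.dvd_prime_pow hp.out).1 h1
  rcases Nat.eq_zero_or_pos j with h0 | hpos
  · rw [h0, pow_zero] at hj
    exact orderOf_eq_one_iff.1 hj
  · exfalso
    apply hm
    refine dvd_trans ?_ hdvd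
    rw [hj]
    exact dvd_pow_self p hpos.ne'

/-- a `p`-regular element has the same order modulo a normal `p`-subgroup -/
theorem orderOf_mk_of_pRegular {p : ℕ} [hp : Fact p.Prime] (P : Subgroup N) [P.Normal]
    (hP : IsPGroup p P) {g : N} (hg : ¬ p ∣ orderOf g) :
    orderOf (QuotientGroup.mk' P g) = orderOf g := by
  apply Nat.dvd_antisymm
  · exact orderOf_map_dvd _ g
  · apply orderOf_dvd_of_pow_eq_one
    set k := orderOf (QuotientGroup.mk' P g) with hk
    have h1 : (QuotientGroup.mk' P) (g ^ k) = 1 := by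
      rw [map_pow, hk, pow_orderOf_eq_one]
    have h2 : g ^ k ∈ P := by
      rw [← QuotientGroup.ker_mk' P, MonoidHom.mem_ker]
      exact h1
    exact eq_one_of_mem_pGroup_of_orderOf_dvd hP h2 hg (orderOf_pow_dvd k)

/-- In a finite group with a normal `p`-subgroup `P`, two `p`-regular elements in the same coset of
`P` are conjugate. -/
theorem exists_conj_eq_mul_of_pRegular [Finite N] {p : ℕ} [hp : Fact p.Prime] (P : Subgroup N)
    [hPn : P.Normal] (hP : IsPGroup p P) {n x : N} (hx : x ∈ P) (hn : ¬ p ∣ orderOf n)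
    (hnx : ¬ p ∣ orderOf (n * x)) : ∃ g : N, g * n * g⁻¹ = n * x := by
  set H := Subgroup.zpowers n with hH
  set K := Subgroup.zpowers (n * x) with hK
  set L := P ⊔ H with hL
  set π := QuotientGroup.mk' P with hπ
  have hπx : π x = 1 := (QuotientGroup.eq_one_iff x).2 hx
  have hπnx : π (n * x) = π n := by rw [map_mul, hπx, mul_one]
  have hord : orderOf (n * x) = orderOf n := by
    rw [← orderOf_mk_of_pRegular P hP hnx, ← orderOf_mk_of_pRegular P hP hn, ← hπ, hπnx]
  have hcardH : Nat.card H = orderOf n := Nat.card_zpowers n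
  have hcardK : Nat.card K = orderOf n := by rw [hK, Nat.card_zpowers, hord]
  obtain ⟨a, ha⟩ := IsPGroup.iff_card.1 hP
  have hcop : (Nat.card P).Coprime (Nat.card H) := by
    rw [ha, hcardH]
    exact Nat.Coprime.pow_left a ((Nat.Prime.coprime_iff_not_dvd hp.out).2 hn)
  have hinf : P ⊓ H = ⊥ := disjoint_iff.1 (Subgroup.disjoint_of_coprime_natCard hcop)
  have hcardL : Nat.card L = Nat.card P * Nat.card H := by
    have h1 : (⊥ : Subgroup N).relIndex L = (⊥ : Subgroup N).relIndex P * P.relIndex L :=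
      (Subgroup.relIndex_mul_relIndex ⊥ P L bot_le le_sup_left).symm
    rw [Subgroup.relIndex_bot_left, Subgroup.relIndex_bot_left] at h1
    rw [h1]
    congr 1
    rw [hL, sup_comm, Subgroup.relIndex_sup_right, ← Subgroup.inf_relIndex_right, hinf,
      Subgroup.relIndex_bot_left]
  have hnL : n ∈ L := (le_sup_right : H ≤ L) (Subgroup.mem_zpowers n)
  have hKL : K ≤ L := by
    rw [hK, Subgroup.zpowers_le]
    exact L.mul_mem hnL ((le_sup_left : P ≤ L) hx)
  have hsolv : Group.IsSolvable H := by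
    refine Group.isSolvable_of_comm (fun a b => ?_)
    obtain ⟨i, hi⟩ := Subgroup.mem_zpowers_iff.1 a.2
    obtain ⟨j, hj⟩ := Subgroup.mem_zpowers_iff.1 b.2
    apply Subtype.ext
    show (a : N) * (b : N) = (b : N) * (a : N)
    rw [← hi, ← hj, ← zpow_add, ← zpow_add, add_comm]
  obtain ⟨g, hgL, hgc⟩ := Cfsg.Agent.Lib.Helper01.sz_conj_in L P H K le_sup_left le_sup_right hKL
    (by rw [Subgroup.normalizer_eq_top]; exact le_top) hcardL hcop (by rw [hcardK, hcardH])
    (Or.inr hsolv)
  refine ⟨g, ?_⟩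
  have h1 : g * n * g⁻¹ ∈ K := by
    rw [← hgc]
    exact ⟨n, Subgroup.mem_zpowers n, rfl⟩
  obtain ⟨j, hj⟩ := Subgroup.mem_zpowers_iff.1 h1
  have h2 : π g ∈ Subgroup.zpowers (π n) := by
    have : π g ∈ L.map π := Subgroup.mem_map_of_mem π hgL
    rw [hL, Subgroup.map_sup, hπ, QuotientGroup.map_mk'_self, bot_sup_eq, hH,
      MonoidHom.map_zpowers] at this
    exact this
  obtain ⟨i, hi⟩ := Subgroup.mem_zpowers_iff.1 h2
  have h3 : π (g * n * g⁻¹) = π n := by
    rw [map_mul, map_mul, map_inv, ← hi]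
    have hc : Commute ((π n) ^ i) (π n) := (Commute.refl (π n)).zpow_left i
    rw [hc.eq, mul_inv_cancel_right]
  have h4 : (π n) ^ j = π n := by
    calc (π n) ^ j = π ((n * x) ^ j) := by rw [map_zpow, hπnx]
      _ = π (g * n * g⁻¹) := by rw [hj]
      _ = π n := h3
  have h5 : (π n) ^ (j - 1) = 1 := by
    rw [zpow_sub_one, h4, mul_inv_cancel]
  have h6 : ((orderOf (n * x) : ℕ) : ℤ) ∣ j - 1 := by
    rw [hord, ← orderOf_mk_of_pRegular P hP hn]
    exact orderOf_dvd_iff_zpow_eq_one.2 h5
  have h7 : (n * x) ^ (j - 1) = 1 := orderOf_dvd_iff_zpow_eq_one.1 h6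
  rw [← hj]
  have : (n * x) ^ j = (n * x) ^ (j - 1) * (n * x) := by
    rw [← zpow_add_one, sub_add_cancel]
  rw [this, h7, one_mul]

end PRegCoset

section VanishSingular

universe u
variable {N : Type u} [Group N] [Fintype N]

open Cfsg.Agent.Lib.Helper83

/-- Let `P` be a normal `p`-subgroup of `N`. A class function of `N` that vanishes on the `p`-singular
elements and is orthogonal to every irreducible character having `P` in its kernel is zero. -/
theorem eq_zero_of_vanish_singular_of_orth {p : ℕ} [hp : Fact p.Prime] (P : Subgroup N)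
    [hPn : P.Normal] (hP : IsPGroup p P) {Δ : N → ℂ} (hΔ : IsClassFunction N Δ)
    (hsing : ∀ n : N, p ∣ orderOf n → Δ n = 0)
    (horth : ∀ ψ : IrrCharacter N, (∀ x ∈ P, (ψ : N → ℂ) x = (ψ : N → ℂ) 1) →
      classInner Δ (ψ : N → ℂ) = 0) : Δ = 0 := by
  classical
  haveI : Fintype P := Fintype.ofFinite P
  set θ : N → ℂ := fun n => ∑ x : P, Δ (n * (x : N)) with hθ
  have hθcf : IsClassFunction N θ := by
    intro n h
    simp only [hθ]
    let e : P ≃ P :=
      { toFun := fun y => ⟨h * (y : N) * h⁻¹, hPn.conj_mem y y.2 h⟩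
        invFun := fun y => ⟨h⁻¹ * (y : N) * h, by simpa using hPn.conj_mem y y.2 h⁻¹⟩
        left_inv := fun y => by
          apply Subtype.ext
          show h⁻¹ * (h * (y : N) * h⁻¹) * h = (y : N)
          group
        right_inv := fun y => by
          apply Subtype.ext
          show h * (h⁻¹ * (y : N) * h) * h⁻¹ = (y : N)
          group }
    rw [← Equiv.sum_comp e]
    refine Finset.sum_congr rfl fun y _ => ?_
    show Δ (h * n * h⁻¹ * (h * (y : N) * h⁻¹)) = Δ (n * (y : N))
    have : h * n * h⁻¹ * (h * (y : N) * h⁻¹) = h * (n * (y : N)) * h⁻¹ := by group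
    rw [this, hΔ]
  have hθ0 : θ = 0 := by
    apply eq_zero_of_classInner_irr_eq_zero hθcf
    intro ψ
    rw [classInner_def]
    have hsum : ∑ n : N, θ n * conj ((ψ : N → ℂ) n) =
        ∑ m : N, Δ m * conj (∑ x : P, (ψ : N → ℂ) (m * (x : N))) := by
      have h1 : ∑ n : N, θ n * conj ((ψ : N → ℂ) n) =
          ∑ x : P, ∑ n : N, Δ (n * (x : N)) * conj ((ψ : N → ℂ) n) := by
        simp only [hθ, Finset.sum_mul]
        rw [Finset.sum_comm]
      have h2 : ∀ x : P, ∑ n : N, Δ (n * (x : N)) * conj ((ψ : N → ℂ) n) =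
          ∑ m : N, Δ m * conj ((ψ : N → ℂ) (m * (x : N)⁻¹)) := by
        intro x
        rw [← Equiv.sum_comp (Equiv.mulRight (x : N)⁻¹)]
        refine Finset.sum_congr rfl fun m _ => ?_
        simp only [Equiv.coe_mulRight, inv_mul_cancel_right]
      rw [h1]
      simp only [h2]
      rw [Finset.sum_comm]
      refine Finset.sum_congr rfl fun m _ => ?_
      rw [← Finset.mul_sum, map_sum]
      congr 1
      rw [← Equiv.sum_comp (Equiv.inv P)]
      refine Finset.sum_congr rfl fun x _ => ?_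
      simp only [Equiv.inv_apply, Subgroup.coe_inv, inv_inv]
    rw [hsum]
    by_cases hker : ∀ x ∈ P, (ψ : N → ℂ) x = (ψ : N → ℂ) 1
    · have h3 : ∀ m : N, ∑ x : P, (ψ : N → ℂ) (m * (x : N)) = (Nat.card P : ℂ) * (ψ : N → ℂ) m := by
        intro m
        have : ∀ x : P, (ψ : N → ℂ) (m * (x : N)) = (ψ : N → ℂ) m := fun x =>
          char_mul_of_mem_ker' (IrrCharacter_isCharacter ψ) (hker x x.2) m
        simp only [this, Finset.sum_const, Finset.card_univ, nsmul_eq_mul, Nat.card_eq_fintype_card]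
      have h4 := horth ψ hker
      rw [classInner_def] at h4
      have h5 : ∑ g : N, Δ g * conj ((ψ : N → ℂ) g) = 0 := by
        rcases mul_eq_zero.1 h4 with h' | h'
        · exact absurd (inv_eq_zero.1 h') card_ne_zero_complex
        · exact h'
      simp only [h3, map_mul, Complex.conj_natCast]
      have : ∑ m : N, Δ m * ((Nat.card P : ℂ) * conj ((ψ : N → ℂ) m)) =
          (Nat.card P : ℂ) * ∑ m : N, Δ m * conj ((ψ : N → ℂ) m) := by
        rw [Finset.mul_sum]
        refine Finset.sum_congr rfl fun m _ => ?_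
        ring
      rw [this, h5, mul_zero, mul_zero]
    · obtain ⟨x, hx, hne⟩ : ∃ x ∈ P, (ψ : N → ℂ) x ≠ (ψ : N → ℂ) 1 := by
        by_contra hcon
        apply hker
        intro x hx
        by_contra hne
        exact hcon ⟨x, hx, hne⟩
      have h3 : ∀ m : N, ∑ y : P, (ψ : N → ℂ) (m * (y : N)) = 0 := fun m =>
        irr_sum_coset_eq_zero ψ P ⟨x, hx, hne⟩ m
      simp only [h3, map_zero, mul_zero, Finset.sum_const_zero]
  funext n₀
  show Δ n₀ = 0
  by_cases hs : p ∣ orderOf n₀
  · exact hsing n₀ hs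
  · have h0 : θ n₀ = 0 := by rw [hθ0]; rfl
    have hterm : ∀ x : P, Δ (n₀ * (x : N)) = if p ∣ orderOf (n₀ * (x : N)) then 0 else Δ n₀ := by
      intro x
      split_ifs with h
      · exact hsing _ h
      · obtain ⟨g, hg⟩ := exists_conj_eq_mul_of_pRegular P hP x.2 hs h
        rw [← hg, hΔ]
    simp only [hθ, hterm] at h0
    rw [Finset.sum_ite, Finset.sum_const_zero, zero_add, Finset.sum_const, nsmul_eq_mul] at h0
    rcases mul_eq_zero.1 h0 with h' | h'
    · exfalso
      have hmem : (1 : P) ∈ Finset.univ.filter (fun x : P => ¬ p ∣ orderOf (n₀ * (x : N))) := by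
        rw [Finset.mem_filter]
        refine ⟨Finset.mem_univ _, ?_⟩
        rw [Subgroup.coe_one, mul_one]
        exact hs
      have hpos : 0 < (Finset.univ.filter (fun x : P => ¬ p ∣ orderOf (n₀ * (x : N)))).card :=
        Finset.card_pos.2 ⟨1, hmem⟩
      have : ((Finset.univ.filter (fun x : P => ¬ p ∣ orderOf (n₀ * (x : N)))).card : ℂ) ≠ 0 :=
        Nat.cast_ne_zero.2 hpos.ne'
      exact this h'
    · exact h'

end VanishSingular

end Cfsg.Agent.Lib.Helper82
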