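import Mathlib
import Cfsg.Agent.Lib.Helper49.RSU3Defs

/-!
# K-RSU3-L24 (S2283): `bruhat_big`

If `g ∈ GJ 3 F q` has entry `2 0` nonzero, some upper unitriangular `xM q a c` of the group moves
column `0` of `g` to `(0, 0, *)`.
-/

set_option autoImplicit false
set_option linter.unusedSectionVars false
set_option linter.unusedVariables false
set_option linter.style.haveILetI false

namespace Cfsg.Agent.Lib.Helper82.RSU3

open Matrix Cfsg.Agent.Lib.Helper49.StSU Cfsg.Agent.Lib.Helper49.RSU3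

variable {F : Type*} [Field F] [Fintype F] {q : ℕ}

/-- Frobenius `x ↦ x^q` as a ring hom of order two, when `|F| = q^2`. -/
theorem l24_frob (hF : Fintype.card F = q ^ 2) :
    ∃ φ : F →+* F, (∀ x, φ x = x ^ q) ∧ (∀ x, φ (φ x) = x) := by
  obtain ⟨p, hchar⟩ := CharP.exists F
  have hp : p.Prime := CharP.char_is_prime F p
  have : Fact p.Prime := ⟨hp⟩
  obtain ⟨k, _, hk⟩ := FiniteField.card F p
  have hdvd : q ∣ p ^ (k : ℕ) := by
    rw [← hk, hF]; exact Dvd.intro_left (q ^ 1) (by ring)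
  obtain ⟨j, _, hj⟩ := (Nat.dvd_prime_pow hp).mp hdvd
  have hφ : ∀ x, iterateFrobenius F p j x = x ^ q := by
    intro x
    rw [iterateFrobenius_def, hj]
  refine ⟨iterateFrobenius F p j, hφ, ?_⟩
  intro x
  rw [hφ, hφ, ← pow_mul, ← sq, ← hF, FiniteField.pow_card]

/-- local copy of leaf L04 -/
theorem l24_exists_x (hF : Fintype.card F = q ^ 2) (a b : F) (h : Val q a b) :
    ∃ g : GJ 3 F q, mat g = xM q a b := by
  obtain ⟨φ, hφ, hφφ⟩ := l24_frob hF
  have hdet : (xM q a b).det = 1 := by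
    simp [xM, Matrix.det_fin_three]
  have h' : b + φ b + a * φ a = 0 := by
    rw [hφ, hφ]; exact h
  refine ⟨⟨(⟨xM q a b, hdet⟩ : Matrix.SpecialLinearGroup (Fin 3) F), ?_⟩, rfl⟩
  refine (mem_SUJ_iff _).2 ?_
  intro u v
  show hJ 3 F q (xM q a b *ᵥ u) (xM q a b *ᵥ v) = hJ 3 F q u v
  have e0 : (xM q a b *ᵥ u) 0 = u 0 + a * u 1 + b * u 2 := by
    simp [xM, Matrix.mulVec, dotProduct, Fin.sum_univ_three]
  have e1 : (xM q a b *ᵥ u) 1 = u 1 - φ a * u 2 := by
    simp [xM, Matrix.mulVec, dotProduct, Fin.sum_univ_three, hφ]; ring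
  have e2 : (xM q a b *ᵥ u) 2 = u 2 := by
    simp [xM, Matrix.mulVec, dotProduct, Fin.sum_univ_three]
  have f0 : (xM q a b *ᵥ v) 0 = v 0 + a * v 1 + b * v 2 := by
    simp [xM, Matrix.mulVec, dotProduct, Fin.sum_univ_three]
  have f1 : (xM q a b *ᵥ v) 1 = v 1 - φ a * v 2 := by
    simp [xM, Matrix.mulVec, dotProduct, Fin.sum_univ_three, hφ]; ring
  have f2 : (xM q a b *ᵥ v) 2 = v 2 := by
    simp [xM, Matrix.mulVec, dotProduct, Fin.sum_univ_three]
  have r0 : Fin.rev (0 : Fin 3) = 2 := rfl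
  have r1 : Fin.rev (1 : Fin 3) = 1 := rfl
  have r2 : Fin.rev (2 : Fin 3) = 0 := rfl
  simp only [hJ, Fin.sum_univ_three, r0, r1, r2, e0, e1, e2, f0, f1, f2]
  simp only [← hφ, map_add, map_sub, map_mul, hφφ]
  linear_combination (u 2 * φ (v 2)) * h'

theorem bruhat_big (hq : 3 ≤ q) (hF : Fintype.card F = q ^ 2) (g : GJ 3 F q)
    (h20 : mat g 2 0 ≠ 0) :
    ∃ (X : GJ 3 F q) (a c : F), mat X = xM q a c ∧ mat (X * g) 0 0 = 0 ∧ mat (X * g) 1 0 = 0 := by
  obtain ⟨φ, hφ, hφφ⟩ := l24_frob hF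
  set w0 := mat g 0 0 with hw0
  set w1 := mat g 1 0 with hw1
  set w2 := mat g 2 0 with hw2
  have hφ2 : φ w2 ≠ 0 := (map_ne_zero φ).mpr h20
  -- isotropy of column 0
  have hiso : w0 * φ w2 + w1 * φ w1 + w2 * φ w0 = 0 := by
    have key := hJ_mat g (Pi.single 0 1) (Pi.single 0 1)
    have r0 : Fin.rev (0 : Fin 3) = 2 := rfl
    have r1 : Fin.rev (1 : Fin 3) = 1 := rfl
    have r2 : Fin.rev (2 : Fin 3) = 0 := rfl
    have hq0 : q ≠ 0 := by omega
    have c0 : (mat g *ᵥ Pi.single 0 1) 0 = w0 := by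
      simp [Matrix.mulVec, dotProduct, Fin.sum_univ_three, hw0]
    have c1 : (mat g *ᵥ Pi.single 0 1) 1 = w1 := by
      simp [Matrix.mulVec, dotProduct, Fin.sum_univ_three, hw1]
    have c2 : (mat g *ᵥ Pi.single 0 1) 2 = w2 := by
      simp [Matrix.mulVec, dotProduct, Fin.sum_univ_three, hw2]
    simp only [hJ, Fin.sum_univ_three, r0, r1, r2, c0, c1, c2] at key
    simp only [← hφ] at key
    rw [key]
    simp [hφ, hq0]
  set a : F := φ w1 / φ w2 with ha
  set c : F := -(w0 + a * w1) / w2 with hc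
  have hφa : φ a = w1 / w2 := by
    rw [ha, map_div₀, hφφ, hφφ]
  have hφc : φ c = -(φ w0 + w1 / w2 * φ w1) / φ w2 := by
    rw [hc, map_div₀, map_neg, map_add, map_mul, hφa]
  have hval : Val q a c := by
    unfold Val
    rw [← hφ, ← hφ, hφc, hφa, hc, ha]
    field_simp
    linear_combination (-1 : F) * hiso
  obtain ⟨X, hX⟩ := l24_exists_x hF a c hval
  refine ⟨X, a, c, hX, ?_, ?_⟩
  · rw [mat_mul, hX, Matrix.mul_apply, Fin.sum_univ_three]
    simp only [xM]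
    simp
    rw [← hw0, ← hw1, ← hw2, hc]
    field_simp
    ring
  · rw [mat_mul, hX, Matrix.mul_apply, Fin.sum_univ_three]
    simp only [xM]
    simp
    rw [← hw1, ← hw2, ← hφ, hφa]
    field_simp
    ring

end Cfsg.Agent.Lib.Helper82.RSU3
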