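import Mathlib
import Cfsg.Prelude.Def_Blocks
import Cfsg.Agent.Lib.Helper82.CharBasic
import Cfsg.Agent.Lib.Helper82.CharSchur
import Cfsg.Agent.Lib.Helper83.SecondOrth
import Cfsg.Agent.Lib.Helper83.CharBasic
import Cfsg.Agent.Lib.Helper05.CharDecomp

/-!
# A real element with centralizer of odd order forces a character of even degree

If `u ≠ 1` is conjugate to its inverse and `|C_G(u)|` is odd, then some irreducible character of
`G` has even degree.  The proof reads the two column orthogonality relations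
`∑ χ(1) χ(u) = 0` and `∑ χ(u)² = |C_G(u)|` modulo `2` in the ring of algebraic integers, pairing
each non-real character with its complex conjugate.
-/

set_option autoImplicit false
set_option linter.style.haveILetI false

namespace Cfsg.Agent.Lib.Helper82

open scoped ComplexConjugate

/-- `x` is twice an algebraic integer. -/
def IsTwiceInt (x : ℂ) : Prop := ∃ r : ℂ, IsIntegral ℤ r ∧ x = 2 * r

theorem IsTwiceInt.zero : IsTwiceInt 0 := ⟨0, isIntegral_zero, by ring⟩

theorem IsTwiceInt.add {x y : ℂ} (hx : IsTwiceInt x) (hy : IsTwiceInt y) : IsTwiceInt (x + y) := by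
  obtain ⟨r, hr, rfl⟩ := hx
  obtain ⟨s, hs, rfl⟩ := hy
  exact ⟨r + s, hr.add hs, by ring⟩

theorem IsTwiceInt.neg {x : ℂ} (hx : IsTwiceInt x) : IsTwiceInt (-x) := by
  obtain ⟨r, hr, rfl⟩ := hx
  exact ⟨-r, hr.neg, by ring⟩

theorem IsTwiceInt.sub {x y : ℂ} (hx : IsTwiceInt x) (hy : IsTwiceInt y) : IsTwiceInt (x - y) := by
  rw [sub_eq_add_neg]; exact hx.add hy.neg

theorem IsTwiceInt.mul_left {x : ℂ} (hx : IsTwiceInt x) {a : ℂ} (ha : IsIntegral ℤ a) :
    IsTwiceInt (a * x) := by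
  obtain ⟨r, hr, rfl⟩ := hx
  exact ⟨a * r, ha.mul hr, by ring⟩

theorem IsTwiceInt.two_mul {a : ℂ} (ha : IsIntegral ℤ a) : IsTwiceInt (2 * a) := ⟨a, ha, rfl⟩

theorem IsTwiceInt.sum {ι : Type*} (s : Finset ι) (f : ι → ℂ) (h : ∀ i ∈ s, IsTwiceInt (f i)) :
    IsTwiceInt (∑ i ∈ s, f i) := by
  classical
  induction s using Finset.induction_on with
  | empty => simpa using IsTwiceInt.zero
  | insert a s ha ih =>
    rw [Finset.sum_insert ha]
    exact (h a (Finset.mem_insert_self a s)).add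
      (ih fun i hi => h i (Finset.mem_insert_of_mem hi))

/-- A natural number that is twice an algebraic integer is even. -/
theorem even_of_isTwiceInt_natCast {n : ℕ} (h : IsTwiceInt (n : ℂ)) : Even n := by
  obtain ⟨r, hr, hnr⟩ := h
  have hr' : r = (((n : ℚ) / 2 : ℚ) : ℂ) := by
    push_cast
    rw [hnr]; ring
  rw [hr'] at hr
  obtain ⟨k, hk⟩ := exists_int_of_isIntegral_ratCast hr
  have h2 : (n : ℚ) = 2 * (k : ℚ) := by
    rw [← hk]; ring
  have h3 : (n : ℤ) = 2 * k := by exact_mod_cast h2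
  have h4 : (2 : ℤ) ∣ (n : ℤ) := ⟨k, h3⟩
  have h5 : 2 ∣ n := by exact_mod_cast h4
  exact even_iff_two_dvd.2 h5

/-- A sum over a finite set carrying a fixed-point-free involution that preserves the (integral)
summand is twice an algebraic integer. -/
theorem isTwiceInt_sum_of_involution {α : Type*} [DecidableEq α] (σ : α → α) (f : α → ℂ) :
    ∀ s : Finset α, (∀ x ∈ s, σ x ∈ s) → (∀ x ∈ s, σ (σ x) = x) → (∀ x ∈ s, σ x ≠ x) →
      (∀ x ∈ s, IsIntegral ℤ (f x)) → (∀ x ∈ s, f (σ x) = f x) →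
      IsTwiceInt (∑ x ∈ s, f x) := by
  intro s
  induction s using Finset.strongInduction with
  | H s ih =>
    intro hmem hinv hne hint hf
    rcases s.eq_empty_or_nonempty with rfl | ⟨x, hx⟩
    · simpa using IsTwiceInt.zero
    · set s' := (s.erase x).erase (σ x) with hs'
      have hσx : σ x ∈ s.erase x := Finset.mem_erase.2 ⟨hne x hx, hmem x hx⟩
      have hsub : s' ⊂ s := by
        refine Finset.ssubset_of_subset_of_ssubset (Finset.erase_subset _ _) ?_
        exact Finset.erase_ssubset hx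
      have hs'mem : ∀ y, y ∈ s' ↔ y ≠ σ x ∧ y ≠ x ∧ y ∈ s := by
        intro y
        rw [hs', Finset.mem_erase, Finset.mem_erase]
      have key := ih s' hsub
        (by
          intro y hy
          obtain ⟨h1, h2, h3⟩ := (hs'mem y).1 hy
          refine (hs'mem (σ y)).2 ⟨?_, ?_, hmem y h3⟩
          · intro h
            apply h2
            rw [← hinv y h3, h, hinv x hx]
          · intro h
            apply h1
            rw [← h, hinv y h3])
        (fun y hy => hinv y ((hs'mem y).1 hy).2.2)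
        (fun y hy => hne y ((hs'mem y).1 hy).2.2)
        (fun y hy => hint y ((hs'mem y).1 hy).2.2)
        (fun y hy => hf y ((hs'mem y).1 hy).2.2)
      have hsum : ∑ y ∈ s, f y = f x + (f (σ x) + ∑ y ∈ s', f y) := by
        rw [← Finset.add_sum_erase s f hx, ← Finset.add_sum_erase (s.erase x) f hσx]
      rw [hsum, hf x hx, ← add_assoc]
      refine IsTwiceInt.add ?_ key
      exact ⟨f x, hint x hx, by ring⟩

variable {G : Type*} [Group G] [Finite G]

/-- If `u ≠ 1` is conjugate to its inverse and `C_G(u)` has odd order, then `G` has an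
irreducible character of even degree. -/
theorem exists_even_degree_of_real_of_odd_centralizer (u : G) (hu1 : u ≠ 1)
    (hreal : IsConj u u⁻¹)
    (hodd : Odd (Nat.card ↥(Subgroup.centralizer ({u} : Set G)))) :
    ∃ χ : Cfsg.IrrCharacter G, Even (Cfsg.charDegree (χ : G → ℂ)) := by
  classical
  by_contra hcon
  rw [not_exists] at hcon
  haveI : Fintype G := Fintype.ofFinite G
  haveI : Finite (Cfsg.IrrCharacter G) := Cfsg.Agent.Lib.Helper05.finite_irrCharacter
  haveI : Fintype (Cfsg.IrrCharacter G) := Fintype.ofFinite _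
  -- complex conjugation on irreducible characters
  let c : Cfsg.IrrCharacter G → Cfsg.IrrCharacter G := fun χ =>
    ⟨fun g => conj ((χ : G → ℂ) g), Cfsg.Agent.Lib.Helper05.isIrrCharacter_conj χ.2⟩
  have hcc : ∀ χ, c (c χ) = χ := by
    intro χ
    apply Subtype.ext
    funext g
    simp [c]
  have hcapp : ∀ (χ : Cfsg.IrrCharacter G) (g : G), ((c χ : Cfsg.IrrCharacter G) : G → ℂ) g =
      conj ((χ : G → ℂ) g) := fun χ g => rfl
  have hchar : ∀ χ : Cfsg.IrrCharacter G, Cfsg.IsCharacter G (χ : G → ℂ) :=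
    fun χ => IsIrrCharacter.isCharacter χ.2
  have hint : ∀ (χ : Cfsg.IrrCharacter G) (g : G), IsIntegral ℤ ((χ : G → ℂ) g) :=
    fun χ g => IsCharacter.isIntegral (hchar χ) g
  -- values at `u` are real
  have hur : ∀ χ : Cfsg.IrrCharacter G, conj ((χ : G → ℂ) u) = (χ : G → ℂ) u := by
    intro χ
    rw [← Cfsg.Agent.Lib.Helper83.char_inv (hchar χ) u]
    obtain ⟨a, ha⟩ := isConj_iff.1 hreal
    rw [← ha]
    exact IsCharacter.conj_apply (hchar χ) u a
  have h1r : ∀ χ : Cfsg.IrrCharacter G, conj ((χ : G → ℂ) 1) = (χ : G → ℂ) 1 := by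
    intro χ
    rw [← Cfsg.Agent.Lib.Helper83.char_inv (hchar χ) 1, inv_one]
  -- all degrees are odd
  have hdeg : ∀ χ : Cfsg.IrrCharacter G, ∃ k : ℕ, (χ : G → ℂ) 1 = 2 * (k : ℂ) + 1 := by
    intro χ
    have h := Nat.not_even_iff_odd.1 (hcon χ)
    obtain ⟨k, hk⟩ := h
    refine ⟨k, ?_⟩
    rw [← IsCharacter.charDegree_cast (hchar χ), hk]
    push_cast; ring
  -- the non-real part of a conjugation-invariant sum is even
  have hnonreal : ∀ f : Cfsg.IrrCharacter G → ℂ, (∀ χ, IsIntegral ℤ (f χ)) → (∀ χ, f (c χ) = f χ) →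
      IsTwiceInt (∑ χ ∈ Finset.univ.filter (fun χ => ¬ c χ = χ), f χ) := by
    intro f hfi hfc
    refine isTwiceInt_sum_of_involution c f _ ?_ ?_ ?_ ?_ ?_
    · intro χ hχ
      rw [Finset.mem_filter] at hχ ⊢
      refine ⟨Finset.mem_univ _, ?_⟩
      intro h
      apply hχ.2
      rw [hcc] at h
      exact h.symm
    · intro χ _; exact hcc χ
    · intro χ hχ
      exact (Finset.mem_filter.1 hχ).2
    · intro χ _; exact hfi χ
    · intro χ _; exact hfc χ
  set Re := Finset.univ.filter (fun χ : Cfsg.IrrCharacter G => c χ = χ) with hRe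
  set A : ℂ := ∑ χ ∈ Re, (χ : G → ℂ) u with hA
  have hAint : IsIntegral ℤ A := IsIntegral.sum _ fun χ _ => hint χ u
  -- Step 1: `A` is even
  have step1 : IsTwiceInt A := by
    have h := Cfsg.Agent.Lib.Helper83.second_orthogonality (G := G) 1 u
    have hnc : ¬ IsConj 1 u := by
      intro h'
      exact hu1 (isConj_one_right.1 h')
    rw [if_neg hnc] at h
    have h' : ∑ χ : Cfsg.IrrCharacter G, (χ : G → ℂ) 1 * (χ : G → ℂ) u = 0 := by
      rw [← h]
      refine Finset.sum_congr rfl fun χ _ => ?_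
      rw [hur χ]
    rw [← Finset.sum_filter_add_sum_filter_not Finset.univ (fun χ : Cfsg.IrrCharacter G => c χ = χ)]
      at h'
    have hnr := hnonreal (fun χ => (χ : G → ℂ) 1 * (χ : G → ℂ) u)
      (fun χ => (hint χ 1).mul (hint χ u))
      (fun χ => by
        show ((c χ : Cfsg.IrrCharacter G) : G → ℂ) 1 * ((c χ : Cfsg.IrrCharacter G) : G → ℂ) u = _
        rw [hcapp, hcapp, h1r, hur])
    have hreal_part : IsTwiceInt (∑ χ ∈ Re, (χ : G → ℂ) 1 * (χ : G → ℂ) u) := by
      have : ∑ χ ∈ Re, (χ : G → ℂ) 1 * (χ : G → ℂ) u =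
          - ∑ χ ∈ Finset.univ.filter (fun χ => ¬ c χ = χ), (χ : G → ℂ) 1 * (χ : G → ℂ) u := by
        rw [eq_neg_iff_add_eq_zero]; exact h'
      rw [this]; exact hnr.neg
    choose k hk using hdeg
    have hsplit : ∑ χ ∈ Re, (χ : G → ℂ) 1 * (χ : G → ℂ) u =
        ∑ χ ∈ Re, 2 * ((k χ : ℂ) * (χ : G → ℂ) u) + A := by
      rw [hA, ← Finset.sum_add_distrib]
      refine Finset.sum_congr rfl fun χ _ => ?_
      rw [hk χ]; ring
    have heven : IsTwiceInt (∑ χ ∈ Re, 2 * ((k χ : ℂ) * (χ : G → ℂ) u)) := by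
      refine IsTwiceInt.sum _ _ fun χ _ => IsTwiceInt.two_mul ?_
      have hnat : IsIntegral ℤ ((k χ : ℕ) : ℂ) := by
        have := isIntegral_algebraMap (R := ℤ) (A := ℂ) (x := ((k χ : ℕ) : ℤ))
        simpa using this
      exact hnat.mul (hint χ u)
    have : A = ∑ χ ∈ Re, (χ : G → ℂ) 1 * (χ : G → ℂ) u -
        ∑ χ ∈ Re, 2 * ((k χ : ℂ) * (χ : G → ℂ) u) := by
      rw [hsplit]; ring
    rw [this]
    exact hreal_part.sub heven
  -- Step 2: `|C_G(u)| ≡ A ^ 2` modulo `2`
  have step2 : IsTwiceInt ((Nat.card ↥(Subgroup.centralizer ({u} : Set G)) : ℂ)) := by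
    have h := Cfsg.Agent.Lib.Helper83.second_orthogonality (G := G) u u
    rw [if_pos (IsConj.refl u)] at h
    have h' : ∑ χ : Cfsg.IrrCharacter G, (χ : G → ℂ) u * (χ : G → ℂ) u =
        (Nat.card ↥(Subgroup.centralizer ({u} : Set G)) : ℂ) := by
      rw [← h]
      refine Finset.sum_congr rfl fun χ _ => ?_
      rw [hur χ]
    rw [← Finset.sum_filter_add_sum_filter_not Finset.univ (fun χ : Cfsg.IrrCharacter G => c χ = χ)]
      at h'
    have hnr := hnonreal (fun χ => (χ : G → ℂ) u * (χ : G → ℂ) u)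
      (fun χ => (hint χ u).mul (hint χ u))
      (fun χ => by
        show ((c χ : Cfsg.IrrCharacter G) : G → ℂ) u * ((c χ : Cfsg.IrrCharacter G) : G → ℂ) u = _
        rw [hcapp, hur])
    -- the square of `A`
    have hsq : A * A = ∑ χ ∈ Re, (χ : G → ℂ) u * (χ : G → ℂ) u +
        ∑ x ∈ Re.offDiag, (x.1 : G → ℂ) u * (x.2 : G → ℂ) u := by
      rw [hA, Finset.sum_mul_sum, ← Finset.sum_product', ← Finset.diag_union_offDiag,
        Finset.sum_union (Finset.disjoint_diag_offDiag Re), Finset.sum_diag]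
    have hoff : IsTwiceInt (∑ x ∈ Re.offDiag, (x.1 : G → ℂ) u * (x.2 : G → ℂ) u) := by
      refine isTwiceInt_sum_of_involution Prod.swap
        (fun x : Cfsg.IrrCharacter G × Cfsg.IrrCharacter G => (x.1 : G → ℂ) u * (x.2 : G → ℂ) u)
        _ ?_ ?_ ?_ ?_ ?_
      · rintro ⟨a, b⟩ hab
        rw [Finset.mem_offDiag] at hab ⊢
        exact ⟨hab.2.1, hab.1, fun h => hab.2.2 h.symm⟩
      · rintro ⟨a, b⟩ _; rfl
      · rintro ⟨a, b⟩ hab h
        rw [Finset.mem_offDiag] at hab
        apply hab.2.2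
        have := congrArg Prod.fst h
        exact this.symm
      · rintro ⟨a, b⟩ _
        exact (hint a u).mul (hint b u)
      · rintro ⟨a, b⟩ _
        show (b : G → ℂ) u * (a : G → ℂ) u = (a : G → ℂ) u * (b : G → ℂ) u
        ring
    have hAA : IsTwiceInt (A * A) := step1.mul_left hAint
    have : (Nat.card ↥(Subgroup.centralizer ({u} : Set G)) : ℂ) =
        A * A - ∑ x ∈ Re.offDiag, (x.1 : G → ℂ) u * (x.2 : G → ℂ) u +
          ∑ χ ∈ Finset.univ.filter (fun χ => ¬ c χ = χ), (χ : G → ℂ) u * (χ : G → ℂ) u := by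
      rw [← h', hsq]; ring
    rw [this]
    exact (hAA.sub hoff).add hnr
  exact (Nat.not_even_iff_odd.2 hodd) (even_of_isTwiceInt_natCast step2)

end Cfsg.Agent.Lib.Helper82
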