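import Mathlib
import Cfsg.Prelude.Def_GeometricClasses

/-!
# K-SLT-C (keystone 597910, architect helper69): `(q - 1) |SL_n(q)| = ∏ (q^n - q^j)`
for `Cfsg.Geo.specialLinear = ker det`.
-/

set_option autoImplicit false
set_option linter.unusedSectionVars false
set_option linter.unusedVariables false
set_option linter.style.haveILetI false

namespace Cfsg.Agent.Lib.Helper82.SLT

open Matrix

variable {F : Type*} [Field F]

/-- the determinant `GL_n(F) → Fˣ` is onto for `n ≥ 1` -/
theorem det_surjective (n : ℕ) (hn : 1 ≤ n) :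
    Function.Surjective (Matrix.GeneralLinearGroup.det : GL (Fin n) F →* Fˣ) := by
  intro u
  haveI : NeZero n := ⟨by omega⟩
  have hdet : (Matrix.diagonal fun j : Fin n => if j = 0 then (u : F) else 1).det = u := by
    rw [Matrix.det_diagonal, Finset.prod_ite_eq']
    simp
  have hu : IsUnit (Matrix.diagonal fun j : Fin n => if j = 0 then (u : F) else 1) :=
    (Matrix.isUnit_iff_isUnit_det _).mpr (by rw [hdet]; exact u.isUnit)
  refine ⟨hu.unit, Units.ext ?_⟩
  rw [Matrix.GeneralLinearGroup.val_det_apply, IsUnit.unit_spec, hdet]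

/-- **K-SLT-C** -/
theorem card_specialLinear_mul [Fintype F] (n : ℕ) (hn : 1 ≤ n) :
    (Fintype.card F - 1) * Nat.card (Cfsg.Geo.specialLinear (Fin n) F) =
      ∏ j : Fin n, (Fintype.card F ^ n - Fintype.card F ^ (j : ℕ)) := by
  classical
  rw [← Matrix.card_GL_field]
  have h1 := Subgroup.card_mul_index
    ((Matrix.GeneralLinearGroup.det : GL (Fin n) F →* Fˣ).ker)
  have h2 : (Matrix.GeneralLinearGroup.det : GL (Fin n) F →* Fˣ).ker.index =
      Fintype.card F - 1 := by
    rw [Subgroup.index_ker, MonoidHom.range_eq_top.mpr (det_surjective n hn),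
      Subgroup.card_top, Nat.card_eq_fintype_card, Fintype.card_units]
  rw [h2] at h1
  rw [mul_comm]
  exact h1

end Cfsg.Agent.Lib.Helper82.SLT
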