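import Cfsg.Agent.Lib.Helper24.UCard
import Cfsg.Agent.Lib.Helper38.SQ.Defs

/-!
# K-SQ (S4625), generic Chevalley lemma

For a Chevalley datum `D` with verified `Facts` over a finite field `F` of characteristic 2: if
`|D.group F| = q^(nroots/2) * m` with `m` odd, then `SylSq (D.group F)`:
`U = ⟨x_r(t) : r > 0⟩` is generated by involutions and has order `q^(nroots/2)`.
-/

set_option autoImplicit false
set_option linter.unusedSectionVars false
set_option linter.unusedVariables false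
set_option linter.style.haveILetI false

namespace Cfsg.Agent.Lib.Helper82.SQ

open Cfsg Cfsg.Lie Cfsg.Agent.Lib.Helper24 Cfsg.Agent.Lib.Helper38.SQ

/-- the generic lemma serving G2, F4, E6, E7, E8 (and B2, D4): for an `Env E` use
`sylSq_of_facts E.hF E.hC E.hU E.hNR E.hcomm m hm hcard` -/
theorem sylSq_of_facts {D : ChevalleyDatum} {F : Type*} [Field F] [Fintype F] [CharP F 2]
    (hF : Facts D) (hC : ChainOK D) (hUF : UFacts D) (hNR : negRevOK D = true)
    (hcomm : ∀ r < D.nroots, ∀ s < D.nroots, s ≠ r → s ≠ D.neg r → hF.QF F r s)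
    (m : ℕ) (hm : ¬ 2 ∣ m)
    (hcard : Nat.card ↥(D.group F) = Fintype.card F ^ (D.nroots / 2) * m) :
    SylSq ↥(D.group F) := by
  classical
  obtain ⟨k, -, hk⟩ := FiniteField.card F 2
  set S : Set ↥(D.group F) := {g | ∃ (r : ℕ) (t : F), D.IsPosRoot r ∧
    ((g : GL D.Idx F) : Matrix D.Idx D.Idx F) = D.x F r t} with hS
  set U : Subgroup ↥(D.group F) := Subgroup.closure S with hU
  have hmap : U.map (D.group F).subtype = D.posUnipotent F := by
    rw [hU, MonoidHom.map_closure]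
    unfold ChevalleyDatum.posUnipotent
    congr 1
    ext g
    constructor
    · rintro ⟨g', ⟨r, t, hr, hg⟩, rfl⟩
      exact ⟨r, t, hr, hg⟩
    · rintro ⟨r, t, hr, hg⟩
      refine ⟨⟨g, ?_⟩, ⟨r, t, hr, hg⟩, rfl⟩
      rw [hF.eq_xGL g r t hg]
      exact hF.xGL_mem_group r t
  have hcardU : Nat.card U = Fintype.card F ^ (D.nroots / 2) := by
    rw [← hF.card_posUnipotent hC hUF hNR hcomm, ← hmap]
    exact Nat.card_congr (U.equivMapOfInjective _ (Subgroup.subtype_injective _)).toEquiv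
  have hcardU' : Nat.card U = 2 ^ ((k : ℕ) * (D.nroots / 2)) := by
    rw [hcardU, hk, pow_mul]
  have hp : IsPGroup 2 U := IsPGroup.of_card hcardU'
  have hX : Nat.card ↥(D.group F) = 2 ^ ((k : ℕ) * (D.nroots / 2)) * m := by
    rw [hcard, hk, pow_mul]
  refine ⟨U, hp, not_two_dvd_index_of_card U hp _ m hX hm (le_of_eq hcardU'.symm), ?_⟩
  apply sq_mem_commutator_of_closure U S hU
  rintro s ⟨r, t, hr, hs⟩
  have h1 : (s : GL D.Idx F) = hF.xGL r t := hF.eq_xGL _ r t hs
  have h2 : s ^ 2 = 1 := by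
    apply Subtype.ext
    rw [Subgroup.coe_pow, h1, pow_two, hF.xGL_mul]
    have h3 : t + t = 0 := CharTwo.add_self_eq_zero t
    rw [h3, hF.xGL_zero]
    rfl
  rw [h2]
  exact one_mem _

/-- `q^i - 1` is odd for even `q` -/
theorem not_two_dvd_pow_sub_one (q i : ℕ) (hq : 2 ∣ q) (hq0 : 0 < q) (hi : 0 < i) :
    ¬ 2 ∣ q ^ i - 1 := by
  have h1 : 2 ∣ q ^ i := dvd_pow hq (by omega)
  have h2 : 0 < q ^ i := pow_pos hq0 i
  omega

theorem not_two_dvd_mul {a b : ℕ} (ha : ¬ 2 ∣ a) (hb : ¬ 2 ∣ b) : ¬ 2 ∣ a * b := by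
  intro h
  rcases (Nat.Prime.dvd_mul Nat.prime_two).mp h with h | h
  · exact ha h
  · exact hb h

/-- the order of a finite field of characteristic 2 is even and positive -/
theorem two_dvd_card_field (F : Type*) [Field F] [Fintype F] [CharP F 2] :
    2 ∣ Fintype.card F ∧ 0 < Fintype.card F := by
  obtain ⟨k, -, hk⟩ := FiniteField.card F 2
  rw [hk]
  exact ⟨dvd_pow_self 2 k.ne_zero, by positivity⟩

end Cfsg.Agent.Lib.Helper82.SQ
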