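import Cfsg.Agent.Lib.Helper24.Ord_G2
import Cfsg.Agent.Lib.Helper82.SQChev

/-!
# K-SQ-G2 (keystone 462507, architect helper38, S4625): `sylSq_g2`
-/

set_option autoImplicit false
set_option linter.unusedSectionVars false
set_option linter.unusedVariables false
set_option linter.style.haveILetI false

namespace Cfsg.Agent.Lib.Helper82.SQ

open Cfsg Cfsg.Lie Cfsg.Agent.Lib.Helper24 Cfsg.Agent.Lib.Helper38.SQ

theorem sylSq_g2 (F : Type) [Field F] [Fintype F] [CharP F 2] :
    SylSq (Cfsg.Lie.chevG2.group F) := by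
  obtain ⟨E⟩ := env_of_facts (F := F) chevG2 (by simp) nTabG2 orbTabG2 nfacts_G2 hnfacts_G2 cfacts_G2
  obtain ⟨h2, h0⟩ := two_dvd_card_field F
  have hord := ord_G2 (F := F) (q := Fintype.card F) rfl
  have e : chevG2.nroots / 2 = 6 := by decide
  refine sylSq_of_facts E.hF E.hC E.hU E.hNR E.hcomm
    ((Fintype.card F ^ 2 - 1) * (Fintype.card F ^ 6 - 1))
    (not_two_dvd_mul (not_two_dvd_pow_sub_one _ 2 h2 h0 (by norm_num))
      (not_two_dvd_pow_sub_one _ 6 h2 h0 (by norm_num))) ?_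
  rw [e, hord, mul_assoc]

end Cfsg.Agent.Lib.Helper82.SQ
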