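import Mathlib
import Cfsg.Prelude.Def_GeometricClasses
import Cfsg.Agent.Lib.Helper87.SU3Defs

/-!
# K-SU3-C7 (keystone 577807, architect helper87), part (a): concrete computations over `F9`.

`F9 = QuadraticAlgebra (ZMod 3) (-1) 0`.  All facts are decided in the kernel.
-/

set_option autoImplicit false

namespace Cfsg.Agent.Lib.Helper82.SU3K

open Cfsg Cfsg.Geo Matrix Cfsg.Agent.Lib.Helper87.SU3

instance fact_prime_three9 : Fact (Nat.Prime 3) := ⟨by norm_num⟩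

/-- the concrete field with 9 elements, `t ^ 2 = -1` -/
abbrev F9 := QuadraticAlgebra (ZMod 3) (-1) 0

instance f9_fact : Fact (∀ r : ZMod 3, r ^ 2 ≠ (-1 : ZMod 3) + 0 * r) := ⟨by decide⟩

instance f9_fintype : Fintype F9 :=
  Fintype.ofEquiv (ZMod 3 × ZMod 3) (QuadraticAlgebra.equivProd (-1 : ZMod 3) 0).symm

theorem f9_card : Fintype.card F9 = 9 := by
  rw [Fintype.card_congr (QuadraticAlgebra.equivProd (-1 : ZMod 3) 0), Fintype.card_prod, ZMod.card]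

/-- `InX3` on a triple of coordinates -/
def inX {K : Type*} [Field K] (j a b c : K) : Prop :=
  a ^ 4 + b ^ 4 + c ^ 4 = 1 ∧
    ((a * b * c = 0 ∧ (a ^ 2 + b ^ 2 + c ^ 2 = 1 ∨ a ^ 2 + b ^ 2 + c ^ 2 = j)) ∨
      (a * b * c ≠ 0 ∧ a ^ 2 + b ^ 2 + c ^ 2 = j - 1))

instance {K : Type*} [Field K] [DecidableEq K] (j a b c : K) : Decidable (inX j a b c) := by
  unfold inX; infer_instance

/-- the image of a triple under a matrix, coordinate `i` -/
def img {K : Type*} [Field K] (A : Matrix (Fin 3) (Fin 3) K) (a b c : K) (i : Fin 3) : K :=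
  A i 0 * a + A i 1 * b + A i 2 * c

/-- the invariance of the 42 vectors under a matrix, on triples -/
def InvX {K : Type*} [Field K] (j : K) (A : Matrix (Fin 3) (Fin 3) K) : Prop :=
  ∀ a b c : K, a ^ 4 + b ^ 4 + c ^ 4 = 1 → inX j a b c →
    inX j (img A a b c 0) (img A a b c 1) (img A a b c 2)

/-- the determinant of a `3 × 3` matrix, written out -/
def det3 {K : Type*} [Field K] (A : Matrix (Fin 3) (Fin 3) K) : K :=
  A 0 0 * A 1 1 * A 2 2 - A 0 0 * A 1 2 * A 2 1 - A 0 1 * A 1 0 * A 2 2 + A 0 1 * A 1 2 * A 2 0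
    + A 0 2 * A 1 0 * A 2 1 - A 0 2 * A 1 1 * A 2 0

/-- `A` is unitary for `x ↦ x ^ 3`, of determinant one -/
def IsSU9 {K : Type*} [Field K] (A : Matrix (Fin 3) (Fin 3) K) : Prop :=
  (Aᵀ).map (· ^ 3) * A = 1 ∧ det3 A = 1

instance {K : Type*} [Field K] [DecidableEq K] (A : Matrix (Fin 3) (Fin 3) K) : Decidable (IsSU9 A) := by
  unfold IsSU9; infer_instance

/-- the trace of a `3 × 3` matrix, written out -/
def tr3 {K : Type*} [Field K] (A : Matrix (Fin 3) (Fin 3) K) : K := A 0 0 + A 1 1 + A 2 2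

/-- the `i`-th power, by recursion -/
def mpow {K : Type*} [Field K] (A : Matrix (Fin 3) (Fin 3) K) : ℕ → Matrix (Fin 3) (Fin 3) K
  | 0 => 1
  | (n + 1) => mpow A n * A

/-- the matrix `[e₀ | A e₀ | A² e₀]` -/
def cyc {K : Type*} [Field K] (A : Matrix (Fin 3) (Fin 3) K) : Matrix (Fin 3) (Fin 3) K :=
  Matrix.of fun i k => (mpow A (k : ℕ)) i 0

/-- `α + β A + γ A²` -/
def lin {K : Type*} [Field K] (A : Matrix (Fin 3) (Fin 3) K) (α β γ : K) : Matrix (Fin 3) (Fin 3) K :=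
  α • (1 : Matrix (Fin 3) (Fin 3) K) + β • A + γ • (A * A)

/-- the matrix identities used for `L_2(7)` -/
def MatFacts9 {K : Type*} [Field K] (j : K) : Prop :=
  (w3m j * w3m j = 1 ∧ (mA3 : Matrix (Fin 3) (Fin 3) K) * mA3 * (mA3 * mA3) = 1 ∧
    (mB3 : Matrix (Fin 3) (Fin 3) K) * mB3 * (mB3 * mB3) = 1 ∧
    (d3m : Matrix (Fin 3) (Fin 3) K) * d3m = 1) ∧
  (IsSU9 (w3m j) ∧ IsSU9 (mA3 : Matrix (Fin 3) (Fin 3) K) ∧ IsSU9 (mB3 : Matrix (Fin 3) (Fin 3) K) ∧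
    IsSU9 (d3m : Matrix (Fin 3) (Fin 3) K) ∧ IsSU9 (s3m j)) ∧
  (mpow (x3m j) 7 = 1 ∧ x3m j ≠ 1 ∧ n3m j * x3m j = x3m j * x3m j * n3m j) ∧
  (∀ i : Fin 7, tr3 (mpow (x3m j) (i : ℕ)) = tr3 (x3m j) → (i : ℕ) = 1 ∨ (i : ℕ) = 2 ∨ (i : ℕ) = 4) ∧
  ((d3m * x3m j * d3m) * x3m j ≠ x3m j * (d3m * x3m j * d3m)) ∧
  (inX j 0 1 0 ∧ ¬ inX j 0 (-j) 0) ∧
  det3 (cyc (x3m j)) ≠ 0

instance {K : Type*} [Field K] [DecidableEq K] (j : K) : Decidable (MatFacts9 j) := by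
  unfold MatFacts9; infer_instance

set_option maxRecDepth 100000 in
theorem matFacts_F9 : ∀ j : F9, j ^ 2 = -1 → MatFacts9 j := by
  decide +kernel

set_option maxRecDepth 100000 in
theorem invX_w : ∀ j : F9, j ^ 2 = -1 → ∀ a b c : F9, a ^ 4 + b ^ 4 + c ^ 4 = 1 → inX j a b c →
    inX j (img (w3m j) a b c 0) (img (w3m j) a b c 1) (img (w3m j) a b c 2) := by
  decide +kernel

set_option maxRecDepth 100000 in
theorem invX_A : ∀ j : F9, j ^ 2 = -1 → ∀ a b c : F9, a ^ 4 + b ^ 4 + c ^ 4 = 1 → inX j a b c →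
    inX j (img (mA3 : Matrix (Fin 3) (Fin 3) F9) a b c 0) (img (mA3 : Matrix (Fin 3) (Fin 3) F9) a b c 1)
      (img (mA3 : Matrix (Fin 3) (Fin 3) F9) a b c 2) := by
  decide +kernel

set_option maxRecDepth 100000 in
theorem invX_B : ∀ j : F9, j ^ 2 = -1 → ∀ a b c : F9, a ^ 4 + b ^ 4 + c ^ 4 = 1 → inX j a b c →
    inX j (img (mB3 : Matrix (Fin 3) (Fin 3) F9) a b c 0) (img (mB3 : Matrix (Fin 3) (Fin 3) F9) a b c 1)
      (img (mB3 : Matrix (Fin 3) (Fin 3) F9) a b c 2) := by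
  decide +kernel

set_option maxRecDepth 100000 in
theorem invX_d : ∀ j : F9, j ^ 2 = -1 → ∀ a b c : F9, a ^ 4 + b ^ 4 + c ^ 4 = 1 → inX j a b c →
    inX j (img (d3m : Matrix (Fin 3) (Fin 3) F9) a b c 0) (img (d3m : Matrix (Fin 3) (Fin 3) F9) a b c 1)
      (img (d3m : Matrix (Fin 3) (Fin 3) F9) a b c 2) := by
  decide +kernel

/-- `h` is one of the seven powers of `A` -/
def isPow7 {K : Type*} [Field K] (A h : Matrix (Fin 3) (Fin 3) K) : Prop :=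
  h = mpow A 0 ∨ h = mpow A 1 ∨ h = mpow A 2 ∨ h = mpow A 3 ∨ h = mpow A 4 ∨ h = mpow A 5 ∨
    h = mpow A 6

instance {K : Type*} [Field K] [DecidableEq K] (A h : Matrix (Fin 3) (Fin 3) K) :
    Decidable (isPow7 A h) := by
  unfold isPow7; infer_instance

set_option maxRecDepth 100000 in
theorem cent_F9 : ∀ j : F9, j ^ 2 = -1 → ∀ α β γ : F9, IsSU9 (lin (x3m j) α β γ) →
    isPow7 (x3m j) (lin (x3m j) α β γ) := by
  decide +kernel

end Cfsg.Agent.Lib.Helper82.SU3K
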