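import Mathlib
import Cfsg.Prelude.Def_GeometricClasses
import Cfsg.Agent.Lib.Helper87.SU3Defs
import Cfsg.Agent.Lib.Helper10.SU3KDefs
import Cfsg.Agent.Lib.Helper82.SU3KC7a

/-!
# K-SU3-C7 (keystone 577807, architect helper87): `l27_facts`.

All the `q = 3` data for `L_2(7) < SU_3(3)`: the computations are done over the concrete field `F9`
(`SU3KC7a`) and transported.
-/

set_option autoImplicit false
set_option linter.unusedSectionVars false
set_option linter.unusedVariables false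
set_option linter.style.haveILetI false

namespace Cfsg.Agent.Lib.Helper82.SU3K

open Cfsg Cfsg.Geo Matrix Cfsg.Agent.Lib.Helper87.SU3

section transport

variable {F : Type*} [Field F] {K : Type*} [Field K] (e : F →+* K)

theorem map_w3m (ι : F) : (w3m ι).map e = w3m (e ι) := by
  ext i j
  fin_cases i <;> fin_cases j <;> simp [w3m]

theorem map_mA3 : (mA3 : Matrix (Fin 3) (Fin 3) F).map e = mA3 := by
  ext i j
  fin_cases i <;> fin_cases j <;> simp [mA3]

theorem map_mB3 : (mB3 : Matrix (Fin 3) (Fin 3) F).map e = mB3 := by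
  ext i j
  fin_cases i <;> fin_cases j <;> simp [mB3]

theorem map_d3m : (d3m : Matrix (Fin 3) (Fin 3) F).map e = d3m := by
  ext i j
  fin_cases i <;> fin_cases j <;> simp [d3m]

theorem map_s3m (ι : F) : (s3m ι).map e = s3m (e ι) := by
  ext i j
  fin_cases i <;> fin_cases j <;> simp [s3m]

theorem map_x3m (ι : F) : (x3m ι).map e = x3m (e ι) := by
  unfold x3m
  rw [Matrix.map_mul, map_w3m, map_mA3]

theorem map_n3m (ι : F) : (n3m ι).map e = n3m (e ι) := by
  unfold n3m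
  rw [Matrix.map_mul, map_w3m, map_mB3]

theorem map_injective' {M N : Matrix (Fin 3) (Fin 3) F} (h : M.map e = N.map e) : M = N :=
  Matrix.map_injective e.injective h

theorem map_one' : (1 : Matrix (Fin 3) (Fin 3) F).map e = 1 :=
  Matrix.map_one e (map_zero e) (map_one e)

theorem map_dag3 (A : Matrix (Fin 3) (Fin 3) F) :
    ((Aᵀ).map (· ^ 3)).map e = ((A.map e)ᵀ).map (· ^ 3) := by
  ext i j
  simp [map_pow]

theorem det_eq_det3 (A : Matrix (Fin 3) (Fin 3) F) : A.det = det3 A := by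
  rw [Matrix.det_fin_three]
  unfold det3
  ring

theorem map_det3 (A : Matrix (Fin 3) (Fin 3) F) : e (det3 A) = det3 (A.map e) := by
  unfold det3
  simp [map_sub, map_add, map_mul]

theorem isSU9_of_map (A : Matrix (Fin 3) (Fin 3) F) (h : IsSU9 (A.map e)) : IsSU9 A := by
  obtain ⟨h1, h2⟩ := h
  refine ⟨?_, ?_⟩
  · apply map_injective' e
    rw [Matrix.map_mul, map_dag3, h1, map_one']
  · apply e.injective
    rw [map_det3, h2, map_one]

theorem isSU9_map (A : Matrix (Fin 3) (Fin 3) F) (h : IsSU9 A) : IsSU9 (A.map e) := by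
  obtain ⟨h1, h2⟩ := h
  refine ⟨?_, ?_⟩
  · rw [← map_dag3, ← Matrix.map_mul, h1, map_one']
  · rw [← map_det3, h2, map_one]

theorem mpow_eq_pow (A : Matrix (Fin 3) (Fin 3) F) (n : ℕ) : mpow A n = A ^ n := by
  induction n with
  | zero => rfl
  | succ n ih => rw [pow_succ, ← ih]; rfl

theorem map_mpow (A : Matrix (Fin 3) (Fin 3) F) (n : ℕ) : (mpow A n).map e = mpow (A.map e) n := by
  induction n with
  | zero => exact map_one' e
  | succ n ih =>
    show (mpow A n * A).map e = mpow (A.map e) n * A.map e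
    rw [Matrix.map_mul, ih]

theorem map_lin (A : Matrix (Fin 3) (Fin 3) F) (α β γ : F) :
    (lin A α β γ).map e = lin (A.map e) (e α) (e β) (e γ) := by
  unfold lin
  ext i j
  simp only [Matrix.map_apply, Matrix.add_apply, Matrix.smul_apply, smul_eq_mul, map_add, map_mul,
    Matrix.mul_apply, map_sum, Matrix.one_apply]
  congr 2
  split_ifs <;> simp

theorem tr3_eq_trace (A : Matrix (Fin 3) (Fin 3) F) : A.trace = tr3 A := by
  rw [Matrix.trace_fin_three]; rfl

theorem map_tr3 (A : Matrix (Fin 3) (Fin 3) F) : e (tr3 A) = tr3 (A.map e) := by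
  unfold tr3
  simp [map_add]

theorem inX_map (j a b c : F) : inX (e j) (e a) (e b) (e c) ↔ inX j a b c := by
  have hi : ∀ x y : F, e x = e y ↔ x = y := fun x y => e.injective.eq_iff
  have h1 : e a ^ 4 + e b ^ 4 + e c ^ 4 = e (a ^ 4 + b ^ 4 + c ^ 4) := by simp only [map_add, map_pow]
  have h2 : e a ^ 2 + e b ^ 2 + e c ^ 2 = e (a ^ 2 + b ^ 2 + c ^ 2) := by simp only [map_add, map_pow]
  have h3 : e a * e b * e c = e (a * b * c) := by simp only [map_mul]
  have h4 : e j - 1 = e (j - 1) := by rw [map_sub, map_one]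
  have c1 : (1 : K) = e 1 := (map_one e).symm
  have c0 : (0 : K) = e 0 := (map_zero e).symm
  unfold inX
  rw [h1, h2, h3, h4, c0]
  rw [show e (a ^ 4 + b ^ 4 + c ^ 4) = 1 ↔ e (a ^ 4 + b ^ 4 + c ^ 4) = e 1 by rw [map_one]]
  rw [show e (a ^ 2 + b ^ 2 + c ^ 2) = 1 ↔ e (a ^ 2 + b ^ 2 + c ^ 2) = e 1 by rw [map_one]]
  simp only [hi, ne_eq]

theorem mulVec_eq_img (A : Matrix (Fin 3) (Fin 3) F) (v : Fin 3 → F) (i : Fin 3) :
    (A *ᵥ v) i = img A (v 0) (v 1) (v 2) i := by
  simp [img, Matrix.mulVec, dotProduct, Fin.sum_univ_three]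

theorem map_img (A : Matrix (Fin 3) (Fin 3) F) (a b c : F) (i : Fin 3) :
    e (img A a b c i) = img (A.map e) (e a) (e b) (e c) i := by
  simp [img]

theorem inX3_iff (ι : F) (v : Fin 3 → F) : InX3 ι v ↔ inX ι (v 0) (v 1) (v 2) := Iff.rfl

theorem inX3_mulVec_iff (ι : F) (A : Matrix (Fin 3) (Fin 3) F) (v : Fin 3 → F) :
    InX3 ι (A *ᵥ v) ↔ inX ι (img A (v 0) (v 1) (v 2) 0) (img A (v 0) (v 1) (v 2) 1)
      (img A (v 0) (v 1) (v 2) 2) := by
  rw [inX3_iff, mulVec_eq_img, mulVec_eq_img, mulVec_eq_img]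

theorem inX3_of_invX (ι : F) (A : Matrix (Fin 3) (Fin 3) F) (h : InvX (e ι) (A.map e))
    (v : Fin 3 → F) (hv : InX3 ι v) : InX3 ι (A *ᵥ v) := by
  have hv' : inX ι (v 0) (v 1) (v 2) := hv
  have h1 : inX (e ι) (e (v 0)) (e (v 1)) (e (v 2)) := (inX_map e _ _ _ _).2 hv'
  have h2 := h _ _ _ h1.1 h1
  rw [← map_img, ← map_img, ← map_img] at h2
  have h3 := (inX_map e _ _ _ _).1 h2
  exact (inX3_mulVec_iff ι A v).2 h3

end transport

section cyclic

variable {K : Type*} [Field K]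

theorem lin_commute (x : Matrix (Fin 3) (Fin 3) K) (α β γ : K) :
    lin x α β γ * x = x * lin x α β γ := by
  unfold lin
  simp only [add_mul, mul_add, Matrix.smul_mul, Matrix.mul_smul, Matrix.one_mul, Matrix.mul_one,
    mul_assoc]

theorem commute_mpow (D x : Matrix (Fin 3) (Fin 3) K) (h : D * x = x * D) (k : ℕ) :
    D * mpow x k = mpow x k * D := by
  induction k with
  | zero => show D * 1 = 1 * D; rw [Matrix.mul_one, Matrix.one_mul]
  | succ k ih =>
    show D * (mpow x k * x) = mpow x k * x * D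
    rw [← Matrix.mul_assoc, ih, Matrix.mul_assoc, h, Matrix.mul_assoc]

/-- a matrix commuting with `x`, where `e₀` is a cyclic vector of `x`, is a polynomial in `x` -/
theorem exists_lin_of_commute (x g : Matrix (Fin 3) (Fin 3) K) (hC : det3 (cyc x) ≠ 0)
    (hc : g * x = x * g) : ∃ α β γ : K, g = lin x α β γ := by
  have hCu : IsUnit (cyc x).det := by
    rw [det_eq_det3]; exact isUnit_iff_ne_zero.mpr hC
  set C := cyc x with hCdef
  set c : Fin 3 → K := C⁻¹ *ᵥ (fun i => g i 0) with hc_def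
  have hCc : C *ᵥ c = fun i => g i 0 := by
    rw [hc_def, Matrix.mulVec_mulVec, Matrix.mul_nonsing_inv C hCu, Matrix.one_mulVec]
  refine ⟨c 0, c 1, c 2, ?_⟩
  set h := lin x (c 0) (c 1) (c 2) with hh
  have hcol : ∀ i, h i 0 = g i 0 := by
    intro i
    have := congrFun hCc i
    rw [← this]
    simp only [hh, lin, hCdef, cyc, Matrix.mulVec, dotProduct, Fin.sum_univ_three, Matrix.of_apply,
      Matrix.add_apply, Matrix.smul_apply, smul_eq_mul]
    have e0 : mpow x ((0 : Fin 3) : ℕ) = 1 := rfl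
    have e1 : mpow x ((1 : Fin 3) : ℕ) = x := by show (1 : Matrix (Fin 3) (Fin 3) K) * x = x; rw [Matrix.one_mul]
    have e2 : mpow x ((2 : Fin 3) : ℕ) = x * x := by
      show (1 : Matrix (Fin 3) (Fin 3) K) * x * x = x * x; rw [Matrix.one_mul]
    rw [e0, e1, e2]
    ring
  set D := g - h with hD
  have hDx : D * x = x * D := by
    rw [hD, Matrix.sub_mul, Matrix.mul_sub, hc, hh, lin_commute]
  have hD0 : ∀ i, D i 0 = 0 := by
    intro i
    rw [hD, Matrix.sub_apply, hcol, sub_self]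
  have hDC : D * C = 0 := by
    ext i k
    have h1 : (D * C) i k = (D * mpow x (k : ℕ)) i 0 := by
      simp only [Matrix.mul_apply, hCdef, cyc, Matrix.of_apply]
    rw [h1, commute_mpow D x hDx, Matrix.mul_apply]
    simp only [hD0, mul_zero, Finset.sum_const_zero, Matrix.zero_apply]
  have hDz : D = 0 := by
    have : D = D * C * C⁻¹ := by
      rw [Matrix.mul_assoc, Matrix.mul_nonsing_inv C hCu, Matrix.mul_one]
    rw [this, hDC, Matrix.zero_mul]
  exact sub_eq_zero.mp hDz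

end cyclic

section main

variable {F : Type*} [Field F] [Fintype F]

local notation "M3" => Matrix (Fin 3) (Fin 3) F
local notation "G3" => GL (Fin 3) F

theorem card_eq_sq (hF : Fintype.card F = 9) : Fintype.card F = 3 ^ 2 := by rw [hF]; norm_num

/-- from the matrix facts to membership in `SU3` -/
theorem mem_SU3_of_isSU9 (hF : Fintype.card F = 9) (g : G3) (hsu : IsSU9 (g : M3)) :
    g ∈ SU3 F 3 := by
  refine ⟨?_, ?_⟩
  · exact (Cfsg.Agent.Lib.Helper10.SU3K.mem_GU_iff_dag (card_eq_sq hF) (by norm_num) _).2 hsu.1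
  · show Matrix.GeneralLinearGroup.det _ = 1
    apply Units.ext
    rw [Matrix.GeneralLinearGroup.val_det_apply, det_eq_det3]
    exact hsu.2

theorem isSU9_of_mem_SU3 (hF : Fintype.card F = 9) (g : G3) (hg : g ∈ SU3 F 3) :
    IsSU9 (g : M3) := by
  refine ⟨(Cfsg.Agent.Lib.Helper10.SU3K.mem_GU_iff_dag (card_eq_sq hF) (by norm_num) _).1 hg.1, ?_⟩
  have h1 : Matrix.GeneralLinearGroup.det g = 1 := hg.2
  have h2 := congrArg Units.val h1
  rw [Matrix.GeneralLinearGroup.val_det_apply, Units.val_one] at h2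
  rw [← det_eq_det3]
  exact h2

/-- from the matrix facts to membership -/
theorem exists_mem_of_facts9 (hF : Fintype.card F = 9) (ι : F) (A : M3) (n : ℕ) (hn : 0 < n)
    (hpow : A ^ n = 1) (hsu : IsSU9 A) (hinv : ∀ v, InX3 ι v → InX3 ι (A *ᵥ v)) :
    ∃ g : G3, (g : M3) = A ∧ g ∈ stab (InX3 ι) ⊓ SU3 F 3 := by
  have hdet : A.det = 1 := by rw [det_eq_det3]; exact hsu.2
  have hdet0 : A.det ≠ 0 := by rw [hdet]; exact one_ne_zero
  refine ⟨Matrix.GeneralLinearGroup.mkOfDetNeZero A hdet0, rfl, ?_, ?_⟩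
  · apply mem_stab_of_forall_imp hn
    · apply Units.ext
      rw [Units.val_pow_eq_pow_val]
      exact hpow
    · exact hinv
  · exact mem_SU3_of_isSU9 hF _ hsu

/-- **K-SU3-C7** (577807). -/
theorem l27_facts (hF : Fintype.card F = 9) (ι : F) (hι : ι ^ 2 = -1) :
    (∀ A : M3, (A = w3m ι ∨ A = mA3 ∨ A = mB3 ∨ A = d3m) →
      ∃ g : G3, (g : M3) = A ∧ g ∈ stab (InX3 ι) ⊓ SU3 F 3) ∧
    (∃ s : G3, (s : M3) = s3m ι ∧ s ∈ SU3 F 3 ∧ s ∉ stab (InX3 ι)) ∧
    x3m ι ^ 7 = 1 ∧ x3m ι ≠ 1 ∧ n3m ι * x3m ι = x3m ι ^ 2 * n3m ι ∧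
    (∀ i : ℕ, (x3m ι ^ i).trace = (x3m ι).trace → i % 7 = 1 ∨ i % 7 = 2 ∨ i % 7 = 4) ∧
    (d3m * x3m ι * d3m) * x3m ι ≠ x3m ι * (d3m * x3m ι * d3m) ∧ d3m * d3m = (1 : M3) ∧
    (∀ g : G3, g ∈ SU3 F 3 → (g : M3) * x3m ι = x3m ι * (g : M3) →
      ∃ b : ℕ, (g : M3) = x3m ι ^ b) := by
  classical
  let E : F ≃+* F9 := FiniteField.ringEquivOfCardEq (hF.trans f9_card.symm)
  let e : F →+* F9 := E.toRingHom
  have hι' : (e ι) ^ 2 = -1 := by
    have := congrArg e hι
    simpa only [map_pow, map_neg, map_one] using this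
  obtain ⟨⟨p1, p2, p3, p4⟩, ⟨u1, u2, u3, u4, u5⟩, ⟨x7, xne, nx⟩, htr, hnc, ⟨hin, hout⟩, hcyc⟩ :=
    matFacts_F9 (e ι) hι'
  have hw2 : w3m ι ^ 2 = 1 := by
    apply map_injective' e
    rw [pow_two, Matrix.map_mul, map_w3m, map_one']
    exact p1
  have hA4 : (mA3 : M3) ^ 4 = 1 := by
    apply map_injective' e
    rw [show (4 : ℕ) = 2 + 2 from rfl, pow_add, pow_two, Matrix.map_mul, Matrix.map_mul, map_mA3,
      map_one']
    exact p2
  have hB4 : (mB3 : M3) ^ 4 = 1 := by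
    apply map_injective' e
    rw [show (4 : ℕ) = 2 + 2 from rfl, pow_add, pow_two, Matrix.map_mul, Matrix.map_mul, map_mB3,
      map_one']
    exact p3
  have hdd : (d3m : M3) * d3m = 1 := by
    apply map_injective' e
    rw [Matrix.map_mul, map_d3m, map_one']
    exact p4
  have hd2 : (d3m : M3) ^ 2 = 1 := by rw [pow_two]; exact hdd
  have hsuw : IsSU9 (w3m ι) := isSU9_of_map e _ (by rw [map_w3m]; exact u1)
  have hsuA : IsSU9 (mA3 : M3) := isSU9_of_map e _ (by rw [map_mA3]; exact u2)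
  have hsuB : IsSU9 (mB3 : M3) := isSU9_of_map e _ (by rw [map_mB3]; exact u3)
  have hsud : IsSU9 (d3m : M3) := isSU9_of_map e _ (by rw [map_d3m]; exact u4)
  have hsus : IsSU9 (s3m ι) := isSU9_of_map e _ (by rw [map_s3m]; exact u5)
  have hiw : ∀ v, InX3 ι v → InX3 ι (w3m ι *ᵥ v) :=
    inX3_of_invX e ι _ (by rw [map_w3m]; exact invX_w (e ι) hι')
  have hiA : ∀ v, InX3 ι v → InX3 ι ((mA3 : M3) *ᵥ v) :=
    inX3_of_invX e ι _ (by rw [map_mA3]; exact invX_A (e ι) hι')
  have hiB : ∀ v, InX3 ι v → InX3 ι ((mB3 : M3) *ᵥ v) :=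
    inX3_of_invX e ι _ (by rw [map_mB3]; exact invX_B (e ι) hι')
  have hid : ∀ v, InX3 ι v → InX3 ι ((d3m : M3) *ᵥ v) :=
    inX3_of_invX e ι _ (by rw [map_d3m]; exact invX_d (e ι) hι')
  have hx7 : x3m ι ^ 7 = 1 := by
    apply map_injective' e
    rw [← mpow_eq_pow, map_mpow, map_x3m, map_one']
    exact x7
  refine ⟨?_, ?_, hx7, ?_, ?_, ?_, ?_, hdd, ?_⟩
  · rintro A (rfl | rfl | rfl | rfl)
    · exact exists_mem_of_facts9 hF ι _ 2 (by norm_num) hw2 hsuw hiw
    · exact exists_mem_of_facts9 hF ι _ 4 (by norm_num) hA4 hsuA hiA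
    · exact exists_mem_of_facts9 hF ι _ 4 (by norm_num) hB4 hsuB hiB
    · exact exists_mem_of_facts9 hF ι _ 2 (by norm_num) hd2 hsud hid
  · have hdet : (s3m ι).det = 1 := by rw [det_eq_det3]; exact hsus.2
    have hdet0 : (s3m ι).det ≠ 0 := by rw [hdet]; exact one_ne_zero
    refine ⟨Matrix.GeneralLinearGroup.mkOfDetNeZero (s3m ι) hdet0, rfl,
      mem_SU3_of_isSU9 hF _ hsus, ?_⟩
    intro hs
    have h1 := hs ![0, 1, 0]
    change InX3 ι (s3m ι *ᵥ ![0, 1, 0]) ↔ InX3 ι ![0, 1, 0] at h1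
    rw [inX3_mulVec_iff, inX3_iff] at h1
    have e0 : img (s3m ι) (0 : F) 1 0 0 = 0 := by simp [img, s3m]
    have e1 : img (s3m ι) (0 : F) 1 0 1 = -ι := by simp [img, s3m]
    have e2 : img (s3m ι) (0 : F) 1 0 2 = 0 := by simp [img, s3m]
    simp only [Matrix.cons_val_zero, Matrix.cons_val_one, Matrix.cons_val_two, Matrix.head_cons,
      Matrix.tail_cons] at h1
    rw [e0, e1, e2] at h1
    have hin' : inX ι 0 1 0 := by
      have := inX_map e ι 0 1 0
      rw [map_zero, map_one] at this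
      exact this.1 hin
    have hout' : ¬ inX ι 0 (-ι) 0 := by
      have := inX_map e ι 0 (-ι) 0
      rw [map_zero, map_neg] at this
      exact fun h => hout (this.2 h)
    exact hout' (h1.2 hin')
  · intro h
    apply xne
    rw [← map_x3m, h, map_one']
  · apply map_injective' e
    rw [pow_two]
    simp only [Matrix.map_mul, map_n3m, map_x3m]
    exact nx
  · intro i hi
    have hmod : x3m ι ^ i = x3m ι ^ (i % 7) := by
      conv_lhs => rw [← Nat.div_add_mod i 7, pow_add, pow_mul, hx7, one_pow, one_mul]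
    rw [hmod] at hi
    have h7 : i % 7 < 7 := Nat.mod_lt _ (by norm_num)
    have := htr ⟨i % 7, h7⟩ (by
      have h2 := congrArg e hi
      rw [tr3_eq_trace, tr3_eq_trace, map_tr3, map_tr3, ← mpow_eq_pow, map_mpow, map_x3m] at h2
      exact h2)
    exact this
  · intro h
    apply hnc
    have := congrArg (fun M : M3 => M.map e) h
    simp only [Matrix.map_mul, map_d3m, map_x3m] at this
    exact this
  · intro g hg hc
    have hsu : IsSU9 (g : M3) := isSU9_of_mem_SU3 hF g hg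
    have hsu' : IsSU9 ((g : M3).map e) := isSU9_map e _ hsu
    have hc' : (g : M3).map e * x3m (e ι) = x3m (e ι) * (g : M3).map e := by
      have := congrArg (fun M : M3 => M.map e) hc
      simp only [Matrix.map_mul, map_x3m] at this
      exact this
    obtain ⟨α, β, γ, hlin⟩ := exists_lin_of_commute (x3m (e ι)) ((g : M3).map e) hcyc hc'
    have hp := cent_F9 (e ι) hι' α β γ (hlin ▸ hsu')
    rw [← hlin] at hp
    have key : ∀ b : ℕ, (g : M3).map e = mpow (x3m (e ι)) b → (g : M3) = x3m ι ^ b := by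
      intro b hb
      apply map_injective' e
      rw [← mpow_eq_pow, map_mpow, map_x3m]
      exact hb
    rcases hp with h | h | h | h | h | h | h
    · exact ⟨0, key 0 h⟩
    · exact ⟨1, key 1 h⟩
    · exact ⟨2, key 2 h⟩
    · exact ⟨3, key 3 h⟩
    · exact ⟨4, key 4 h⟩
    · exact ⟨5, key 5 h⟩
    · exact ⟨6, key 6 h⟩

end main

end Cfsg.Agent.Lib.Helper82.SU3K
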