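import Mathlib
import Cfsg.Prelude.Def_Blocks
import Cfsg.Prelude.Def_BlockRank
import Cfsg.Prelude.Def_BlockLocal
import Cfsg.Agent.Lib.Helper82.SecRoot
import Cfsg.Agent.Lib.Helper82.ContribExtra

set_option autoImplicit false
set_option linter.style.haveILetI false
set_option linter.unusedSectionVars false

/-!
# A major subsection bounds the number of characters of a block

If `(y, e)` is a major subsection of the block `B` of defect `d` (that is, `e` is a block of
`C_G(y)` with `e^G = B` and of the same defect as `B`), then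
`∑_{χ ∈ B} p ^ ht χ ≤ l(e) · p ^ d`; in particular `k(B) ≤ l(e) · p ^ d`.
-/

namespace Cfsg.Agent.Lib.Helper82

open Cfsg
open scoped ComplexConjugate
open Cfsg.Agent.Lib.Helper21 Cfsg.Agent.Lib.Helper83

section Count

universe u
variable {G : Type u} [Group G] [Fintype G] {p : ℕ} [Fact p.Prime] {M : Ideal AlgInt}

local notation "C[" g "]" => Subgroup.centralizer (singleton g)

/-- **Brauer.** For a major subsection `(y, e)` of `B`: `∑_{χ ∈ B} p ^ ht χ ≤ p ^ d · l(e)`. -/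
theorem sum_pow_height_le_of_major (hM : IsPModular p M) (y : G) (m : ℕ)
    (hy : y ^ (p ^ m) = 1) [Fintype C[y]] (ψ₀ : IrrCharacter C[y]) (χ₀ : IrrCharacter G)
    [Fintype (IrrCharacter G)] [DecidablePred (· ∈ blockOf M (χ₀ : G → ℂ))]
    (hind : IsInducedBlock M C[y] (blockOf M (ψ₀ : C[y] → ℂ)) (blockOf M (χ₀ : G → ℂ)))
    (hdef : blockDefect p (blockOf M (ψ₀ : C[y] → ℂ)) = blockDefect p (blockOf M (χ₀ : G → ℂ))) :
    ∑ χ : IrrCharacter G, (if χ ∈ blockOf M (χ₀ : G → ℂ) then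
        (p : ℝ) ^ blockHeight p (blockOf M (χ₀ : G → ℂ)) (χ : G → ℂ) else 0) ≤
      (p : ℝ) ^ blockDefect p (blockOf M (χ₀ : G → ℂ)) *
        (blockRank p (blockOf M (ψ₀ : C[y] → ℂ)) : ℝ) := by
  have hp : p.Prime := hM.1
  haveI : NeZero (p ^ m) := ⟨pow_ne_zero _ hp.ne_zero⟩
  set e := blockOf M (ψ₀ : C[y] → ℂ) with he
  set d := blockDefect p (blockOf M (χ₀ : G → ℂ)) with hd
  have hord : orderOf y ∣ p ^ m := orderOf_dvd_of_pow_eq_one hy
  have hcop : ∀ j : (ZMod (p ^ m))ˣ, Nat.Coprime (j : ZMod (p ^ m)).val (orderOf y) := by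
    intro j
    exact Nat.Coprime.coprime_dvd_right hord (ZMod.val_coe_unit_coprime j)
  have hCj : ∀ j : (ZMod (p ^ m))ˣ, C[y] = C[y ^ (j : ZMod (p ^ m)).val] := fun j =>
    (centralizer_pow_eq_of_coprime y _ (hcop j)).symm
  have hxj : ∀ j : (ZMod (p ^ m))ˣ, ∃ k : ℕ, orderOf (y ^ (j : ZMod (p ^ m)).val) = p ^ k := by
    intro j
    have h1 : orderOf (y ^ (j : ZMod (p ^ m)).val) ∣ p ^ m :=
      (orderOf_pow_dvd _).trans hord
    obtain ⟨k, -, hk⟩ := (Nat.dvd_prime_pow hp).1 h1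
    exact ⟨k, hk⟩
  -- the trace of the contribution matrix at each power
  have htr : ∀ j : (ZMod (p ^ m))ˣ,
      ∑ χ : IrrCharacter G, (if χ ∈ blockOf M (χ₀ : G → ℂ) then
        (contrib p e (y ^ (j : ZMod (p ^ m)).val) (χ : G → ℂ) (χ : G → ℂ)).re else 0) =
        (blockRank p e : ℝ) := by
    intro j
    have h1 := sum_contrib_self' hM (hxj j) C[y] (hCj j) χ₀ e hind
    have h2 := congrArg Complex.re h1
    rw [Complex.re_sum, Complex.natCast_re] at h2
    rw [← h2]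
    refine Finset.sum_congr rfl fun χ _ => ?_
    split_ifs <;> simp
  set N := Fintype.card (ZMod (p ^ m))ˣ with hN
  have hNpos : (0 : ℝ) < N := by
    have : 0 < N := Fintype.card_pos
    exact_mod_cast this
  -- sum the lower bounds
  have hsum : (N : ℝ) * ∑ χ : IrrCharacter G, (if χ ∈ blockOf M (χ₀ : G → ℂ) then
        (p : ℝ) ^ blockHeight p (blockOf M (χ₀ : G → ℂ)) (χ : G → ℂ) else 0) ≤
      (p : ℝ) ^ d * ((N : ℝ) * (blockRank p e : ℝ)) := by
    calc (N : ℝ) * ∑ χ : IrrCharacter G, (if χ ∈ blockOf M (χ₀ : G → ℂ) then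
          (p : ℝ) ^ blockHeight p (blockOf M (χ₀ : G → ℂ)) (χ : G → ℂ) else 0)
        = ∑ χ : IrrCharacter G, (if χ ∈ blockOf M (χ₀ : G → ℂ) then
          (N : ℝ) * (p : ℝ) ^ blockHeight p (blockOf M (χ₀ : G → ℂ)) (χ : G → ℂ) else 0) := by
          rw [Finset.mul_sum]
          refine Finset.sum_congr rfl fun χ _ => ?_
          split_ifs <;> simp
      _ ≤ ∑ χ : IrrCharacter G, (if χ ∈ blockOf M (χ₀ : G → ℂ) then
          (p : ℝ) ^ d * ∑ j : (ZMod (p ^ m))ˣ,
            (contrib p e (y ^ (j : ZMod (p ^ m)).val) (χ : G → ℂ) (χ : G → ℂ)).re else 0) := by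
          refine Finset.sum_le_sum fun χ _ => ?_
          split_ifs with hχ
          · exact card_units_mul_pow_le_sum_contrib hM y m hy ψ₀ χ₀ hind hdef χ hχ
          · exact le_refl _
      _ = (p : ℝ) ^ d * ∑ j : (ZMod (p ^ m))ˣ, ∑ χ : IrrCharacter G, (if χ ∈ blockOf M (χ₀ : G → ℂ) then
            (contrib p e (y ^ (j : ZMod (p ^ m)).val) (χ : G → ℂ) (χ : G → ℂ)).re else 0) := by
          rw [Finset.sum_comm, Finset.mul_sum]
          refine Finset.sum_congr rfl fun χ _ => ?_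
          split_ifs with hχ
          · rfl
          · simp
      _ = (p : ℝ) ^ d * ((N : ℝ) * (blockRank p e : ℝ)) := by
          congr 1
          rw [Finset.sum_congr rfl fun j _ => htr j, Finset.sum_const, Finset.card_univ,
            nsmul_eq_mul]
  have h3 : (N : ℝ) * ∑ χ : IrrCharacter G, (if χ ∈ blockOf M (χ₀ : G → ℂ) then
        (p : ℝ) ^ blockHeight p (blockOf M (χ₀ : G → ℂ)) (χ : G → ℂ) else 0) ≤
      (N : ℝ) * ((p : ℝ) ^ d * (blockRank p e : ℝ)) := by
    refine hsum.trans (le_of_eq ?_)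
    ring
  exact le_of_mul_le_mul_left h3 hNpos

/-- **Brauer.** For a major subsection `(y, e)` of `B`: `k(B) ≤ p ^ d · l(e)`. -/
theorem card_block_le_of_major (hM : IsPModular p M) (y : G) (m : ℕ)
    (hy : y ^ (p ^ m) = 1) [Fintype C[y]] (ψ₀ : IrrCharacter C[y]) (χ₀ : IrrCharacter G)
    (hind : IsInducedBlock M C[y] (blockOf M (ψ₀ : C[y] → ℂ)) (blockOf M (χ₀ : G → ℂ)))
    (hdef : blockDefect p (blockOf M (ψ₀ : C[y] → ℂ)) = blockDefect p (blockOf M (χ₀ : G → ℂ))) :
    Nat.card ↥(blockOf M (χ₀ : G → ℂ)) ≤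
      p ^ blockDefect p (blockOf M (χ₀ : G → ℂ)) * blockRank p (blockOf M (ψ₀ : C[y] → ℂ)) := by
  classical
  haveI : Fintype (IrrCharacter G) := Fintype.ofFinite _
  have hp : p.Prime := hM.1
  have h1 := sum_pow_height_le_of_major hM y m hy ψ₀ χ₀ hind hdef
  set B := blockOf M (χ₀ : G → ℂ) with hB
  have h2 : (Nat.card ↥B : ℝ) ≤ ∑ χ : IrrCharacter G, (if χ ∈ B then
        (p : ℝ) ^ blockHeight p B (χ : G → ℂ) else 0) := by
    have hcard : (Nat.card ↥B : ℝ) = ∑ χ : IrrCharacter G, (if χ ∈ B then (1 : ℝ) else 0) := by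
      rw [Finset.sum_ite, Finset.sum_const_zero, add_zero, Finset.sum_const, nsmul_eq_mul,
        mul_one, Nat.card_eq_fintype_card, Fintype.card_subtype]
    rw [hcard]
    refine Finset.sum_le_sum fun χ _ => ?_
    split_ifs
    · exact one_le_pow₀ (by exact_mod_cast hp.one_lt.le)
    · exact le_refl _
  have h3 := h2.trans h1
  exact_mod_cast h3

end Count

end Cfsg.Agent.Lib.Helper82
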