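import Mathlib
import Cfsg.Prelude.Def_Blocks
import Cfsg.Prelude.Def_BlockRank
import Cfsg.Prelude.Def_BlockLocal
import Cfsg.Agent.Lib.Helper82.SecRoot

set_option autoImplicit false
set_option linter.style.haveILetI false
set_option linter.unusedSectionVars false

/-!
# Heights, the inertial index and the centre of a defect group: the main inequality

Modulo the existence and the fusion of the subsections `(z, b^{C_G(z)})`, `z ∈ Z(D)`.
-/

namespace Cfsg.Agent.Lib.Helper82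

open Cfsg
open scoped ComplexConjugate
open Cfsg.Agent.Lib.Helper21 Cfsg.Agent.Lib.Helper83

section Main

universe u
variable {G : Type u} [Group G] [Fintype G] {p : ℕ} [Fact p.Prime] {M : Ideal AlgInt}

local notation "C[" g "]" => Subgroup.centralizer (singleton g)

set_option maxHeartbeats 1600000 in
/-- **Brauer.** `h + c ≤ n + d`, given the existence and the fusion of the subsections
`(z, b^{C_G(z)})`. -/
theorem height_add_center_le (hM : IsPModular p M) (B : Set (IrrCharacter G)) (hB : IsPBlock M B)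
    (D : Subgroup G) (hBD : IsDefectGroup p M B D) (d : ℕ) (hDd : Nat.card D = p ^ d)
    (H : Subgroup G) (hH : H = D ⊔ Subgroup.centralizer (D : Set G)) (b : Set (IrrCharacter H))
    (T : Subgroup G) (e : ℕ) (he : H.relIndex T = e) (n : ℕ)
    (hn : p ^ n ≤ e ∧ e < p ^ (n + 1)) (c : ℕ) (hc : Nat.card (Subgroup.center D) = p ^ c)
    (hex : ∀ z : G, z ∈ D → (∀ y ∈ D, y * z = z * y) →
      ∃ f : Set (IrrCharacter C[z]), IsInducedBlockIn M C[z] H b f ∧
        IsInducedBlock M C[z] f B ∧ blockDefect p f = blockDefect p B)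
    (hfus : ∀ z z' : G, z ∈ D → (∀ y ∈ D, y * z = z * y) → z' ∈ D →
      (∀ y ∈ D, y * z' = z' * y) → ∀ g : G, g * z * g⁻¹ = z' →
      ∀ (f : Set (IrrCharacter C[z])) (f' : Set (IrrCharacter C[z'])),
      IsInducedBlockIn M C[z] H b f → IsInducedBlockIn M C[z'] H b f' →
      ∀ ψ ∈ f, ∀ ψ' ∈ f', (∀ (c : C[z]) (c' : C[z']), (c' : G) = g * (c : G) * g⁻¹ →
        (ψ' : C[z'] → ℂ) c' = (ψ : C[z] → ℂ) c) → ∃ t ∈ T, t * z * t⁻¹ = z') :
    ∀ χ ∈ B, blockHeight p B (χ : G → ℂ) + c ≤ n + d := by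
  classical
  intro χ hχ
  have hp : p.Prime := hM.1
  have hMp : M.IsPrime := hM.2.1.isPrime
  haveI instK : ∀ K : Subgroup G, Fintype K := fun K => Fintype.ofFinite K
  obtain ⟨χ₀, rfl⟩ := hB
  have hBblock : IsPBlock M (blockOf M (χ₀ : G → ℂ)) := ⟨χ₀, rfl⟩
  have hd : d = blockDefect p (blockOf M (χ₀ : G → ℂ)) := by
    have h1 := Cfsg.Agent.Lib.Helper22.IsDefectGroup.card_eq hM hBblock hBD
    rw [hDd] at h1
    exact Nat.pow_right_injective hp.two_le h1
  set h := blockHeight p (blockOf M (χ₀ : G → ℂ)) (χ : G → ℂ) with hh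
  set Z : Subgroup G := (Subgroup.center D).map D.subtype with hZ
  have hmemZ : ∀ x, x ∈ Z → x ∈ D ∧ ∀ y ∈ D, y * x = x * y := by
    rintro _ ⟨w, hw, rfl⟩
    refine ⟨w.2, fun y hy => ?_⟩
    have := Subgroup.mem_center_iff.1 hw ⟨y, hy⟩
    exact congrArg Subtype.val this
  have hcardZ : Nat.card Z = p ^ c := by
    rw [hZ, Subgroup.card_map_of_injective (Subgroup.subtype_injective _), hc]
  have hZD : Z ≤ D := Subgroup.map_subtype_le _
  have hzpow : ∀ z : Z, (z : G) ^ (p ^ d) = 1 := by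
    intro z
    have h1 : (⟨(z : G), hZD z.2⟩ : D) ^ Nat.card D = 1 := pow_card_eq_one'
    rw [hDd] at h1
    have h2 := congrArg Subtype.val h1
    simpa using h2
  have hzord : ∀ z : Z, ∃ k : ℕ, orderOf (z : G) = p ^ k := by
    intro z
    obtain ⟨k, -, hk⟩ := (Nat.dvd_prime_pow hp).1 (orderOf_dvd_of_pow_eq_one (hzpow z))
    exact ⟨k, hk⟩
  -- the blocks
  have hF : ∀ z : Z, IsInducedBlockIn M C[(z : G)] H b (indSet M C[(z : G)] H b) ∧
      IsInducedBlock M C[(z : G)] (indSet M C[(z : G)] H b) (blockOf M (χ₀ : G → ℂ)) ∧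
      blockDefect p (indSet M C[(z : G)] H b) = blockDefect p (blockOf M (χ₀ : G → ℂ)) := by
    intro z
    obtain ⟨hz1, hz2⟩ := hmemZ z z.2
    obtain ⟨f, hf1, hf2, hf3⟩ := hex z hz1 hz2
    have := eq_indSet_of_isInducedBlockIn hMp hf1
    rw [← this]
    exact ⟨hf1, hf2, hf3⟩
  -- the contributions
  set cfun : Z → ℝ :=
    fun z => (contrib p (indSet M C[(z : G)] H b) (z : G) (χ : G → ℂ) (χ : G → ℂ)).re with hcfun
  -- the lower bound
  have hlow : (p : ℝ) ^ c * (p : ℝ) ^ h ≤ (p : ℝ) ^ d * ∑ z : Z, cfun z := by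
    haveI : NeZero (p ^ d) := ⟨pow_ne_zero _ hp.ne_zero⟩
    set N := Fintype.card (ZMod (p ^ d))ˣ with hN
    have hNpos : (0 : ℝ) < (N : ℝ) := by
      have : 0 < N := Fintype.card_pos
      exact_mod_cast this
    have h1 : ∀ z : Z, (N : ℝ) * (p : ℝ) ^ h ≤ (p : ℝ) ^ d * ∑ j : (ZMod (p ^ d))ˣ,
        (contrib p (indSet M C[(z : G)] H b) ((z : G) ^ (j : ZMod (p ^ d)).val)
          (χ : G → ℂ) (χ : G → ℂ)).re := by
      intro z
      obtain ⟨hf1, hf2, hf3⟩ := hF z
      obtain ⟨ψ₀, hψ₀⟩ := hf1.2.1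
      rw [hψ₀] at hf2 hf3 ⊢
      have := card_units_mul_pow_le_sum_contrib hM (z : G) d (hzpow z) ψ₀ χ₀ hf2 hf3 χ hχ
      rw [← hd] at this
      exact this
    have h2 : ∀ j : (ZMod (p ^ d))ˣ, ∑ z : Z,
        (contrib p (indSet M C[(z : G)] H b) ((z : G) ^ (j : ZMod (p ^ d)).val)
          (χ : G → ℂ) (χ : G → ℂ)).re = ∑ z : Z, cfun z := by
      intro j
      have hcop : (Nat.card Z).Coprime (j : ZMod (p ^ d)).val := by
        have h3 : Nat.card Z ∣ p ^ d := hDd ▸ Subgroup.card_dvd_of_le hZD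
        exact (Nat.Coprime.coprime_dvd_right h3 (ZMod.val_coe_unit_coprime j)).symm
      rw [← Equiv.sum_comp (powCoprime hcop) cfun]
      refine Finset.sum_congr rfl fun z _ => ?_
      show _ = (contrib p (indSet M C[((z ^ (j : ZMod (p ^ d)).val : Z) : G)] H b)
        ((z ^ (j : ZMod (p ^ d)).val : Z) : G) (χ : G → ℂ) (χ : G → ℂ)).re
      have hcop' : Nat.Coprime (j : ZMod (p ^ d)).val (orderOf (z : G)) :=
        Nat.Coprime.coprime_dvd_right (orderOf_dvd_of_pow_eq_one (hzpow z))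
          (ZMod.val_coe_unit_coprime j)
      have hK : C[(z : G)] = C[((z ^ (j : ZMod (p ^ d)).val : Z) : G)] := by
        rw [Subgroup.coe_pow]
        exact (centralizer_pow_eq_of_coprime (z : G) _ hcop').symm
      rw [contrib_indSet_congr p H b _ _ hK, Subgroup.coe_pow]
    have h3 : (N : ℝ) * ((p : ℝ) ^ c * (p : ℝ) ^ h) ≤
        (N : ℝ) * ((p : ℝ) ^ d * ∑ z : Z, cfun z) := by
      calc (N : ℝ) * ((p : ℝ) ^ c * (p : ℝ) ^ h)
          = ∑ _z : Z, (N : ℝ) * (p : ℝ) ^ h := by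
            rw [Finset.sum_const, Finset.card_univ, ← Nat.card_eq_fintype_card, hcardZ,
              nsmul_eq_mul]
            push_cast
            ring
        _ ≤ ∑ z : Z, (p : ℝ) ^ d * ∑ j : (ZMod (p ^ d))ˣ,
              (contrib p (indSet M C[(z : G)] H b) ((z : G) ^ (j : ZMod (p ^ d)).val)
                (χ : G → ℂ) (χ : G → ℂ)).re := Finset.sum_le_sum fun z _ => h1 z
        _ = (p : ℝ) ^ d * ∑ j : (ZMod (p ^ d))ˣ, ∑ z : Z,
              (contrib p (indSet M C[(z : G)] H b) ((z : G) ^ (j : ZMod (p ^ d)).val)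
                (χ : G → ℂ) (χ : G → ℂ)).re := by
            rw [← Finset.mul_sum, Finset.sum_comm]
        _ = (p : ℝ) ^ d * ∑ _j : (ZMod (p ^ d))ˣ, ∑ z : Z, cfun z := by
            congr 1
            exact Finset.sum_congr rfl fun j _ => h2 j
        _ = (N : ℝ) * ((p : ℝ) ^ d * ∑ z : Z, cfun z) := by
            rw [Finset.sum_const, Finset.card_univ, nsmul_eq_mul]
            ring
    exact le_of_mul_le_mul_left h3 hNpos
  -- the upper bound
  have hepos : 0 < e := lt_of_lt_of_le (pow_pos hp.pos n) hn.1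
  have hHcent : ∀ z : Z, ∀ x ∈ H, x * (z : G) = (z : G) * x := by
    intro z x hx
    obtain ⟨hz1, hz2⟩ := hmemZ z z.2
    have hle : H ≤ C[(z : G)] := by
      rw [hH]
      refine sup_le ?_ ?_
      · intro y hy
        rw [Subgroup.mem_centralizer_singleton_iff]
        exact hz2 y hy
      · intro y hy
        rw [Subgroup.mem_centralizer_singleton_iff]
        exact (Subgroup.mem_centralizer_iff.1 hy (z : G) hz1).symm
    exact Subgroup.mem_centralizer_singleton_iff.1 (hle hx)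
  have hcre : ∀ z : Z, contrib p (indSet M C[(z : G)] H b) (z : G) (χ : G → ℂ) (χ : G → ℂ) =
      ((cfun z : ℝ) : ℂ) := fun z => (contrib_self_eq_ofReal p _ _ _).1
  have hup : ∑ z : Z, cfun z ≤ e := by
    refine sum_le_of_almost_orthogonal
      (fun z : Z => thetaFun p (z : G) (indSet M C[(z : G)] H b) (χ : G → ℂ)) (χ : G → ℂ)
      (by rw [irr_orthonormal, if_pos rfl]) cfun ?_ ?_
      (fun z z' : Z => ∃ t ∈ T, t * (z : G) * t⁻¹ = (z' : G)) ?_ ?_ e hepos ?_
    · intro z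
      obtain ⟨hf1, -, -⟩ := hF z
      obtain ⟨ψ₀, hψ₀⟩ := hf1.2.1
      rw [← hcre z]
      rw [hψ₀]
      exact classInner_thetaFun_irr hM ψ₀ χ χ
    · intro z
      rw [← hcre z]
      exact classInner_thetaFun_thetaFun hp (hzord z) _ _ _
    · rintro z z' ⟨t, ht, htz⟩
      refine ⟨t⁻¹, Subgroup.inv_mem _ ht, ?_⟩
      rw [← htz]
      group
    · intro z z' hR
      obtain ⟨hf1, -, -⟩ := hF z
      obtain ⟨hf1', -, -⟩ := hF z'
      obtain ⟨ψ₀, hψ₀⟩ := hf1.2.1
      obtain ⟨ψ₀', hψ₀'⟩ := hf1'.2.1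
      rw [hψ₀, hψ₀']
      apply classInner_thetaFun_thetaFun_eq_zero hM (hzord z') (hzord z) ψ₀' ψ₀ χ χ
      intro g hg ψ' hψ' ψ hψ hconj
      apply hR
      obtain ⟨hz1, hz2⟩ := hmemZ z z.2
      obtain ⟨hz1', hz2'⟩ := hmemZ z' z'.2
      rw [← hψ₀'] at hψ'
      rw [← hψ₀] at hψ
      obtain ⟨t, ht, htz⟩ := hfus (z' : G) (z : G) hz1' hz2' hz1 hz2 g hg _ _ hf1' hf1 ψ' hψ'
        ψ hψ hconj
      refine ⟨t⁻¹, Subgroup.inv_mem _ ht, ?_⟩
      rw [← htz]
      group
    · intro z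
      rw [← he]
      convert card_filter_conj_le T H Z (z : G) (hHcent z) using 2
  -- conclusion
  have h5 : (p : ℝ) ^ c * (p : ℝ) ^ h ≤ (p : ℝ) ^ d * (e : ℝ) :=
    hlow.trans (mul_le_mul_of_nonneg_left hup (by positivity))
  have h6 : p ^ (c + h) ≤ p ^ d * e := by
    rw [pow_add]
    exact_mod_cast h5
  have h7 : p ^ (c + h) < p ^ (d + (n + 1)) := by
    rw [pow_add p d]
    exact lt_of_le_of_lt h6 (Nat.mul_lt_mul_of_pos_left hn.2 (pow_pos hp.pos d))
  have h8 := (Nat.pow_lt_pow_iff_right hp.one_lt).1 h7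
  omega

end Main

end Cfsg.Agent.Lib.Helper82
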