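import Mathlib
import Cfsg.Prelude.Def_ClassicalGeometry
import Cfsg.Agent.Lib.Helper48.Sp2GDefs

/-!
# K-Sp2G-F (keystone 241109, architect helper48, S2411): the action on the basis vectors
-/

set_option autoImplicit false
set_option linter.unusedSectionVars false
set_option linter.unusedVariables false
set_option linter.style.haveILetI false

namespace Cfsg.Agent.Lib.Helper82.Sp2G

open Matrix Cfsg.Agent.Lib.Helper48.RSp Cfsg.Agent.Lib.Helper48.Sp2G Cfsg.Agent.Lib.Helper18

theorem wC_mulVec_eI (m : ℕ) (F : Type*) [Field F] (j : Fin (m + 2)) (hj : j.val + 1 < m + 2) :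
    wC m F *ᵥ (eI j : Fin (m + 2) ⊕ Fin (m + 2) → F) = eI ⟨j.val + 1, hj⟩ := by
  unfold eI
  rw [Matrix.mulVec_single_one]
  ext i
  rcases i with i | i
  · simp only [Matrix.col_apply, wC, Matrix.fromBlocks_apply₁₁, Matrix.transpose_apply, Nup,
      Pi.single_apply, Sum.inl.injEq]
    by_cases h : j.val + 1 = i.val
    · rw [if_pos h, if_pos (Fin.ext h.symm)]
    · rw [if_neg h, if_neg (fun e => h (by rw [e]))]
  · simp only [Matrix.col_apply, wC, Matrix.fromBlocks_apply₂₁, Matrix.single_apply,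
      Pi.single_apply, reduceCtorEq, if_false]
    rw [if_neg]
    rintro ⟨-, h2⟩
    have := congrArg Fin.val h2
    simp at this
    omega

theorem wC_mulVec_eI_last (m : ℕ) (F : Type*) [Field F] :
    wC m F *ᵥ (eI (Fin.last (m + 1)) : Fin (m + 2) ⊕ Fin (m + 2) → F) = fI 0 := by
  unfold eI fI
  rw [Matrix.mulVec_single_one]
  ext i
  rcases i with i | i
  · simp only [Matrix.col_apply, wC, Matrix.fromBlocks_apply₁₁, Matrix.transpose_apply, Nup,
      Pi.single_apply, reduceCtorEq, if_false]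
    rw [if_neg]
    intro h
    have := i.isLt
    simp at h
    omega
  · simp only [Matrix.col_apply, wC, Matrix.fromBlocks_apply₂₁, Matrix.single_apply,
      Pi.single_apply, Sum.inr.injEq, and_true]
    by_cases h : (0 : Fin (m + 2)) = i
    · rw [if_pos h, if_pos h.symm]
    · rw [if_neg h, if_neg (fun e => h e.symm)]

theorem wC_mulVec_fI (m : ℕ) (F : Type*) [Field F] (j : Fin (m + 2)) (hj : j.val + 1 < m + 2) :
    wC m F *ᵥ (fI j : Fin (m + 2) ⊕ Fin (m + 2) → F) = fI ⟨j.val + 1, hj⟩ := by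
  unfold fI
  rw [Matrix.mulVec_single_one]
  ext i
  rcases i with i | i
  · simp only [Matrix.col_apply, wC, Matrix.fromBlocks_apply₁₂, Matrix.neg_apply,
      Matrix.single_apply, Pi.single_apply, reduceCtorEq, if_false]
    rw [if_neg, neg_zero]
    rintro ⟨-, h2⟩
    have := congrArg Fin.val h2
    simp at this
    omega
  · simp only [Matrix.col_apply, wC, Matrix.fromBlocks_apply₂₂, Matrix.transpose_apply, Nup,
      Pi.single_apply, Sum.inr.injEq]
    by_cases h : j.val + 1 = i.val
    · rw [if_pos h, if_pos (Fin.ext h.symm)]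
    · rw [if_neg h, if_neg (fun e => h (by rw [e]))]

theorem sx_mulVec_eI_one (m : ℕ) (F : Type*) [Field F] :
    sx m (1 : F) *ᵥ (eI (1 : Fin (m + 2)) : Fin (m + 2) ⊕ Fin (m + 2) → F) = eI 0 + eI 1 := by
  unfold eI
  rw [Matrix.mulVec_single_one]
  ext i
  rcases i with i | i
  · simp only [Matrix.col_apply, sx, Matrix.fromBlocks_apply₁₁, Matrix.add_apply,
      Matrix.one_apply, Matrix.single_apply, Pi.add_apply, Pi.single_apply, Sum.inl.injEq, and_true]
    rw [add_comm]
    congr 1
    by_cases h : (0 : Fin (m + 2)) = i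
    · rw [if_pos h, if_pos h.symm]
    · rw [if_neg h, if_neg (fun e => h e.symm)]
  · simp only [Matrix.col_apply, sx, Matrix.fromBlocks_apply₂₁, Matrix.zero_apply, Pi.add_apply,
      Pi.single_apply, reduceCtorEq, if_false, add_zero]

theorem sO_mulVec_eI_two (m : ℕ) (hm : 1 ≤ m) (F : Type*) [Field F] :
    sO m F *ᵥ (eI (2 : Fin (m + 2)) : Fin (m + 2) ⊕ Fin (m + 2) → F) = eI 1 + eI 2 := by
  have h12 : (1 : Fin (m + 2)) ≠ 2 := by
    intro e
    have h1 := congrArg Fin.val e
    have h2 : ((2 : Fin (m + 2)) : ℕ) = 2 % (m + 2) := rfl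
    have h3 : ((1 : Fin (m + 2)) : ℕ) = 1 % (m + 2) := rfl
    rw [h2, h3, Nat.mod_eq_of_lt (by omega), Nat.mod_eq_of_lt (by omega)] at h1
    omega
  unfold eI
  rw [Matrix.mulVec_single_one]
  ext i
  rcases i with i | i
  · simp only [Matrix.col_apply, sO, M3, Matrix.fromBlocks_apply₁₁, Matrix.add_apply,
      Matrix.sub_apply, Matrix.one_apply, Matrix.single_apply, Pi.add_apply, Pi.single_apply,
      Sum.inl.injEq, and_true, h12, and_false, if_false, sub_zero, add_zero]
    rw [add_comm]
    congr 1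
    by_cases h : (1 : Fin (m + 2)) = i
    · rw [if_pos h, if_pos h.symm]
    · rw [if_neg h, if_neg (fun e => h e.symm)]
  · simp only [Matrix.col_apply, sO, Matrix.fromBlocks_apply₂₁, Matrix.zero_apply, Pi.add_apply,
      Pi.single_apply, reduceCtorEq, if_false, add_zero]

end Cfsg.Agent.Lib.Helper82.Sp2G
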