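import Mathlib
import Cfsg.Agent.Lib.Helper49.SpInvDefs

/-!
# K-SpT-N (keystone 598007, architect helper86): pure arithmetic,
a prime `r ∤ q` dividing `|Sp_2d(q)|` has `(if Even e then e else 2e) ≤ 2d`, `e = ord_r(q)`.
-/

set_option autoImplicit false
set_option linter.unusedSectionVars false
set_option linter.unusedVariables false
set_option linter.style.haveILetI false

namespace Cfsg.Agent.Lib.Helper82.SpT

/-- **K-SpT-N** -/
theorem block_le_of_dvd_spOrd (q d r : ℕ) (hq : 2 ≤ q) [Fact r.Prime] (hrq : ¬ r ∣ q)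
    (h : r ∣ Cfsg.Agent.Lib.Helper49.SpInv.spOrd q d) :
    (if Even (orderOf (q : ZMod r)) then orderOf (q : ZMod r) else 2 * orderOf (q : ZMod r)) ≤
      2 * d := by
  have hr : r.Prime := Fact.out
  unfold Cfsg.Agent.Lib.Helper49.SpInv.spOrd at h
  rcases (Nat.Prime.dvd_mul hr).mp h with h1 | h1
  · exact absurd (hr.dvd_of_dvd_pow h1) hrq
  · obtain ⟨i, hi, hdvd⟩ := (Prime.dvd_finsetProd_iff hr.prime _).mp h1
    rw [Finset.mem_range] at hi
    have hpow : ((q : ZMod r)) ^ (2 * (i + 1)) = 1 := by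
      have h1le : 1 ≤ q ^ (2 * (i + 1)) := Nat.one_le_pow _ _ (by omega)
      have h0 : ((q ^ (2 * (i + 1)) - 1 : ℕ) : ZMod r) = 0 :=
        (ZMod.natCast_eq_zero_iff _ _).mpr hdvd
      rw [Nat.cast_sub h1le, Nat.cast_pow, Nat.cast_one, sub_eq_zero] at h0
      exact h0
    have hdiv : orderOf (q : ZMod r) ∣ 2 * (i + 1) := orderOf_dvd_of_pow_eq_one hpow
    split_ifs with hev
    · exact (Nat.le_of_dvd (by omega) hdiv).trans (by omega)
    · have hodd : Odd (orderOf (q : ZMod r)) := Nat.not_even_iff_odd.mp hev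
      have hcop : Nat.Coprime (orderOf (q : ZMod r)) 2 := hodd.coprime_two_right
      have hdj : orderOf (q : ZMod r) ∣ i + 1 := hcop.dvd_of_dvd_mul_left hdiv
      have := Nat.le_of_dvd (by omega) hdj
      omega

end Cfsg.Agent.Lib.Helper82.SpT
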