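import Cfsg.Agent.Lib.Helper53.StOmDefs
import Cfsg.Agent.Lib.Helper50.MinusTwoB
import Cfsg.Agent.Lib.Helper43.OmegaCount

/-!
# K-StOm-E1 (keystone 254924, architect helper53, S2549): characteristic two, `Ω T = O`

`Ω` has index two in `O⁻_{2m+2}(F)` in ALL cases (reflections generate: `Helper43.reflGenerated_minus`,
which covers `O⁻_4(2)` too), and the standard reflection `wIso` lies in `T` but not in `Ω`.
-/

set_option autoImplicit false
set_option linter.unusedSectionVars false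
set_option linter.unusedVariables false
set_option linter.style.haveILetI false

namespace Cfsg.Agent.Lib.Helper82.StOm

open Cfsg Cfsg.Agent.Lib.Helper53.StOm

universe u

variable {m : ℕ} {F : Type u} [Field F] {a b : F}

/-- the standard reflection (in `z₀`) is block diagonal -/
theorem wIso_mem_T : Cfsg.Agent.Lib.Helper50.wIso m a b ∈ Tsub m F a b := by
  rw [mem_Tsub_iff]
  intro x y hxy
  have hxy' : x ≠ y := fun h => hxy (by rw [h])
  have hmat : mat (Cfsg.Agent.Lib.Helper50.wIso m a b) =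
      Cfsg.reflectionMatrix (Cfsg.quadFormMinus m F a b) (Pi.single (Sum.inr 0) 1) := rfl
  rw [hmat]
  unfold Cfsg.reflectionMatrix
  rw [Matrix.sub_apply, Matrix.one_apply_ne hxy', Matrix.smul_apply, Matrix.vecMulVec_apply,
    zero_sub, neg_eq_zero, smul_eq_mul]
  by_cases hx : x = Sum.inr 0
  · subst hx
    rcases y with y | j
    · have h0 : Cfsg.polarVec (Cfsg.quadFormMinus m F a b) (Pi.single (Sum.inr 0) 1)
          (Sum.inl y) = 0 := by
        unfold Cfsg.polarVec
        rw [Cfsg.Agent.Lib.Helper50.polar_quadFormMinus, Matrix.toBilin'_single]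
        rfl
      rw [h0]
      ring
    · exact absurd rfl hxy
  · rw [Pi.single_eq_of_ne hx]
    ring

theorem omega_sup_T_char_two [Fintype F] [CharP F 2]
    (hab : ∀ z₁ z₂ : F, z₁ ^ 2 + a * z₁ * z₂ + b * z₂ ^ 2 = 0 → z₁ = 0 ∧ z₂ = 0) :
    Cfsg.Omega F (Cfsg.quadFormMinus m F a b) ⊔ Tsub m F a b = ⊤ := by
  have hc : a ≠ 0 := Cfsg.Agent.Lib.Helper43.middle_ne_zero' a b hab
  have hQ := Cfsg.Agent.Lib.Helper43.qfMinus_nondegenerate m F a b hc
  have hgen := Cfsg.Agent.Lib.Helper43.reflGenerated_minus m a b hc hab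
  have hidx : (Cfsg.Omega F (Cfsg.quadFormMinus m F a b)).index = 2 := by
    have h1 := Cfsg.Agent.Lib.Helper43.Omega_eq_ker_dickson
      (Cfsg.Agent.Lib.Helper43.qfMinus m F a b) hQ hgen
    have h2 := Cfsg.Agent.Lib.Helper43.index_ker_dickson
      (Cfsg.Agent.Lib.Helper43.qfMinus m F a b) hQ hgen
    rw [← h1] at h2
    exact h2
  have hw1 : Cfsg.Agent.Lib.Helper50.wIso m a b ∈ Tsub m F a b := wIso_mem_T
  have hw2 := Cfsg.Agent.Lib.Helper50.wIso_not_mem_Omega' m a b hab
  have hle : Cfsg.Omega F (Cfsg.quadFormMinus m F a b) ≤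
      Cfsg.Omega F (Cfsg.quadFormMinus m F a b) ⊔ Tsub m F a b := le_sup_left
  have h3 := Subgroup.relIndex_mul_index hle
  rw [hidx] at h3
  have h4 : (Cfsg.Omega F (Cfsg.quadFormMinus m F a b) ⊔ Tsub m F a b).index ∣ 2 :=
    Dvd.intro_left _ h3
  have h5 : (Cfsg.Omega F (Cfsg.quadFormMinus m F a b) ⊔ Tsub m F a b).index = 1 ∨
      (Cfsg.Omega F (Cfsg.quadFormMinus m F a b) ⊔ Tsub m F a b).index = 2 :=
    (Nat.dvd_prime Nat.prime_two).mp h4
  rcases h5 with h5 | h5
  · exact Subgroup.index_eq_one.mp h5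
  · exfalso
    rw [h5] at h3
    have h6 : (Cfsg.Omega F (Cfsg.quadFormMinus m F a b)).relIndex
        (Cfsg.Omega F (Cfsg.quadFormMinus m F a b) ⊔ Tsub m F a b) = 1 := by omega
    have h7 := Subgroup.relIndex_eq_one.mp h6
    exact hw2 (h7 (Subgroup.mem_sup_right hw1))

end Cfsg.Agent.Lib.Helper82.StOm
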