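import Mathlib
import Cfsg.Agent.Lib.Helper82.InvolutionInvert

set_option autoImplicit false
set_option linter.style.haveILetI false
set_option linter.unusedSectionVars false

namespace Cfsg.Agent.Lib.Helper82

open scoped Pointwise

variable {G : Type*} [Group G] [Finite G]

/-- Maximality of a `p`-subgroup of full `p`-power order inside `C`. -/
theorem eq_of_le_of_isPGroup_of_card (p : ℕ) [Fact p.Prime] {C S R : Subgroup G}
    (hScard : Nat.card S = p ^ (Nat.card C).factorization p) (hSR : S ≤ R) (hRC : R ≤ C)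
    (hR : IsPGroup p R) : R = S := by
  have hp : p.Prime := Fact.out
  obtain ⟨j, hj⟩ := hR.exists_card_eq
  have hdvd : Nat.card R ∣ Nat.card C := Subgroup.card_dvd_of_le hRC
  rw [hj] at hdvd
  have hle : j ≤ (Nat.card C).factorization p :=
    (hp.pow_dvd_iff_le_factorization Nat.card_pos.ne').1 hdvd
  have hcard : Nat.card R ≤ Nat.card S := by
    rw [hj, hScard]; exact Nat.pow_le_pow_right hp.pos hle
  exact (Subgroup.eq_of_le_of_card_ge hSR hcard).symm

theorem isPGroup_zpowers_of_orderOf (p : ℕ) [Fact p.Prime] {u : G} (hu : ∃ k : ℕ, orderOf u = p ^ k) :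
    IsPGroup p (Subgroup.zpowers u) := by
  obtain ⟨k, hk⟩ := hu
  exact IsPGroup.of_card (n := k) (by rw [Nat.card_zpowers, hk])

/-- Main group-theoretic step. -/
theorem sylow_abelian_of_involution_inverts (p : ℕ) [Fact p.Prime]
    (hC : ∀ g : G, g ≠ 1 → (∃ k : ℕ, orderOf g = p ^ k) →
      Odd (Nat.card ↥(Subgroup.centralizer ({g} : Set G))))
    (t u : G) (ht : t * t = 1) (ht1 : t ≠ 1) (hu1 : u ≠ 1) (hu : ∃ k : ℕ, orderOf u = p ^ k)
    (hinv : t * u * t⁻¹ = u⁻¹) :
    ∀ P : Sylow p G, Even (Nat.card ↥(Subgroup.normalizer ((P : Subgroup G) : Set G))) ∧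
      IsMulCommutative ↥(P : Subgroup G) := by
  have hp : p.Prime := Fact.out
  -- Step 1-3: invariant Sylow subgroup S of C = C_G(u)
  set C := Subgroup.centralizer ({u} : Set G) with hCdef
  have hCodd := hC u hu1 hu
  have hnC := conj_mem_centralizer_of_inverts hinv
  obtain ⟨S, hSC, hSp, hScard, hSt⟩ := exists_invariant_sylow p C hCodd t ht hnC
  obtain ⟨hSinv, hSab⟩ := pgroup_inverted_of_odd_centralizers p hC S hSp t ht ht1 hSt
  -- Step 5: u ∈ S
  have huC : u ∈ C := by
    rw [hCdef, Subgroup.mem_centralizer_iff]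
    intro w hw; rw [Set.mem_singleton_iff] at hw; rw [hw]
  have huS : u ∈ S := by
    have hZp := isPGroup_zpowers_of_orderOf p hu
    have hnorm : S ≤ Subgroup.normalizer ((Subgroup.zpowers u : Subgroup G) : Set G) := by
      intro s hs
      have hsu : Commute s u := by
        have := hSC hs
        rw [hCdef, Subgroup.mem_centralizer_iff] at this
        exact (this u rfl).symm
      rw [Subgroup.mem_normalizer_iff]
      intro h
      constructor
      · intro hh
        obtain ⟨k, rfl⟩ := Subgroup.mem_zpowers_iff.1 hh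
        have : s * u ^ k * s⁻¹ = u ^ k := by
          rw [(hsu.zpow_right k).eq, mul_inv_cancel_right]
        rw [this]; exact hh
      · intro hh
        obtain ⟨k, hk⟩ := Subgroup.mem_zpowers_iff.1 hh
        have : h = u ^ k := by
          have h1 : h = s⁻¹ * (s * h * s⁻¹) * s := by group
          rw [h1, ← hk, mul_assoc, ← (hsu.zpow_right k).eq, inv_mul_cancel_left]
        rw [this]; exact Subgroup.zpow_mem_zpowers u k
    have hR : IsPGroup p (S ⊔ Subgroup.zpowers u : Subgroup G) :=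
      IsPGroup.to_sup_of_normal_right' hSp hZp hnorm
    have hRC : S ⊔ Subgroup.zpowers u ≤ C :=
      sup_le hSC (by rw [Subgroup.zpowers_le]; exact huC)
    have := eq_of_le_of_isPGroup_of_card p hScard le_sup_left hRC hR
    rw [← this]
    exact (le_sup_right : Subgroup.zpowers u ≤ _) (Subgroup.mem_zpowers u)
  -- Step 6: a Sylow subgroup P ≥ S and a central element v
  obtain ⟨P, hSP⟩ := hSp.exists_le_sylow
  have huP : u ∈ (P : Subgroup G) := hSP huS
  haveI : Nontrivial (P : Subgroup G) := ⟨⟨⟨u, huP⟩, 1, fun h => hu1 (congrArg Subtype.val h)⟩⟩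
  have hcen := IsPGroup.center_nontrivial P.2
  obtain ⟨v', hv'⟩ := exists_ne (1 : Subgroup.center (P : Subgroup G))
  set v : G := ((v' : (P : Subgroup G)) : G) with hvdef
  have hvP : v ∈ (P : Subgroup G) := (v' : (P : Subgroup G)).2
  have hv1 : v ≠ 1 := by
    intro h
    apply hv'
    apply Subtype.ext
    apply Subtype.ext
    exact h
  have hvcomm : ∀ x ∈ (P : Subgroup G), x * v = v * x := by
    intro x hx
    have := Subgroup.mem_center_iff.1 v'.2 ⟨x, hx⟩
    exact congrArg Subtype.val this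
  -- Step 7: v ∈ S
  have hvC : v ∈ C := by
    rw [hCdef, Subgroup.mem_centralizer_iff]
    intro w hw; rw [Set.mem_singleton_iff] at hw; rw [hw]
    exact hvcomm u huP
  have hvS : v ∈ S := by
    have hR : IsPGroup p (S ⊔ Subgroup.zpowers v : Subgroup G) :=
      P.2.to_le (sup_le hSP (by rw [Subgroup.zpowers_le]; exact hvP))
    have hRC : S ⊔ Subgroup.zpowers v ≤ C :=
      sup_le hSC (by rw [Subgroup.zpowers_le]; exact hvC)
    have := eq_of_le_of_isPGroup_of_card p hScard le_sup_left hRC hR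
    rw [← this]
    exact (le_sup_right : Subgroup.zpowers v ≤ _) (Subgroup.mem_zpowers v)
  have hvinv : t * v * t⁻¹ = v⁻¹ := hSinv v hvS
  have hvord : ∃ k : ℕ, orderOf v = p ^ k := by
    obtain ⟨k, hk⟩ := (IsPGroup.iff_orderOf.1 P.2) ⟨v, hvP⟩
    exact ⟨k, by rw [← hk, Subgroup.orderOf_mk]⟩
  -- Step 8: invariant Sylow subgroup S' of C' = C_G(v) ≥ P
  set C' := Subgroup.centralizer ({v} : Set G) with hC'def
  have hPC' : (P : Subgroup G) ≤ C' := by
    intro x hx
    rw [hC'def, Subgroup.mem_centralizer_iff]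
    intro w hw; rw [Set.mem_singleton_iff] at hw; rw [hw]
    exact (hvcomm x hx).symm
  have hC'odd := hC v hv1 hvord
  have hnC' := conj_mem_centralizer_of_inverts hvinv
  obtain ⟨S', hS'C, hS'p, hS'card, hS't⟩ := exists_invariant_sylow p C' hC'odd t ht hnC'
  have hfac : (Nat.card C').factorization p = (Nat.card G).factorization p := by
    apply le_antisymm
    · exact (Nat.factorization_le_iff_dvd Nat.card_pos.ne' Nat.card_pos.ne').2
        (Subgroup.card_subgroup_dvd_card C') p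
    · have h1 : Nat.card (P : Subgroup G) ∣ Nat.card C' := Subgroup.card_dvd_of_le hPC'
      rw [Sylow.card_eq_multiplicity P] at h1
      exact (hp.pow_dvd_iff_le_factorization Nat.card_pos.ne').1 h1
  rw [hfac] at hS'card
  -- Step 9: transfer to an arbitrary Sylow subgroup
  intro P₀
  obtain ⟨g, hg⟩ := MulAction.exists_smul_eq G (Sylow.ofCard S' hS'card) P₀
  have hmem : ∀ x : G, x ∈ (P₀ : Subgroup G) ↔ g⁻¹ * x * g ∈ S' := by
    intro x
    rw [← hg, Sylow.coe_subgroup_smul, Subgroup.mem_pointwise_smul_iff_inv_smul_mem,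
      Sylow.coe_ofCard]
    simp [MulAut.smul_def]
  set t₀ := g * t * g⁻¹ with ht₀
  have ht₀sq : t₀ * t₀ = 1 := by
    rw [ht₀]
    calc g * t * g⁻¹ * (g * t * g⁻¹) = g * (t * t) * g⁻¹ := by group
      _ = 1 := by rw [ht]; group
  have ht₀1 : t₀ ≠ 1 := by
    intro h
    apply ht1
    have : t = g⁻¹ * t₀ * g := by rw [ht₀]; group
    rw [this, h]; group
  have ht₀n : ∀ s ∈ (P₀ : Subgroup G), t₀ * s * t₀⁻¹ ∈ (P₀ : Subgroup G) := by
    intro s hs
    rw [hmem] at hs ⊢
    have := hS't _ hs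
    have e : g⁻¹ * (t₀ * s * t₀⁻¹) * g = t * (g⁻¹ * s * g) * t⁻¹ := by rw [ht₀]; group
    rw [e]; exact this
  obtain ⟨_, hab⟩ := pgroup_inverted_of_odd_centralizers p hC (P₀ : Subgroup G) P₀.2 t₀ ht₀sq ht₀1 ht₀n
  refine ⟨?_, ⟨⟨fun a b => Subtype.ext (hab a a.2 b b.2)⟩⟩⟩
  have ht₀N : t₀ ∈ Subgroup.normalizer ((P₀ : Subgroup G) : Set G) := by
    rw [Subgroup.mem_normalizer_iff]
    intro h
    refine ⟨ht₀n h, fun hh => ?_⟩
    have := ht₀n _ hh
    have ht₀inv : t₀⁻¹ = t₀ := inv_eq_of_mul_eq_one_left ht₀sq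
    have e : t₀ * (t₀ * h * t₀⁻¹) * t₀⁻¹ = h := by
      calc t₀ * (t₀ * h * t₀⁻¹) * t₀⁻¹ = (t₀ * t₀) * h * (t₀⁻¹ * t₀⁻¹) := by group
        _ = h := by rw [ht₀inv, ht₀sq, one_mul, mul_one]
    rwa [e] at this
  have hord : orderOf t₀ = 2 := orderOf_eq_prime (by rw [sq]; exact ht₀sq) ht₀1
  have h2 : 2 ∣ Nat.card (Subgroup.normalizer ((P₀ : Subgroup G) : Set G)) := by
    have := orderOf_dvd_natCard (⟨t₀, ht₀N⟩ : Subgroup.normalizer ((P₀ : Subgroup G) : Set G))
    rwa [Subgroup.orderOf_mk, hord] at this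
  exact even_iff_two_dvd.2 h2

end Cfsg.Agent.Lib.Helper82
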