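import Mathlib
import Cfsg.Agent.Lib.Helper82.SylowInvert

set_option autoImplicit false
set_option linter.style.haveILetI false
set_option linter.unusedSectionVars false

namespace Cfsg.Agent.Lib.Helper82

open scoped Pointwise

variable {G : Type*} [Group G] [Finite G]

/-- An involution inverting a non-identity `p`-element normalizes some Sylow `p`-subgroup. -/
theorem exists_sylow_normalized_of_involution_inverts (p : ℕ) [Fact p.Prime]
    (hC : ∀ g : G, g ≠ 1 → (∃ k : ℕ, orderOf g = p ^ k) →
      Odd (Nat.card ↥(Subgroup.centralizer ({g} : Set G))))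
    (t u : G) (ht : t * t = 1) (ht1 : t ≠ 1) (hu1 : u ≠ 1) (hu : ∃ k : ℕ, orderOf u = p ^ k)
    (hinv : t * u * t⁻¹ = u⁻¹) :
    ∃ Q : Sylow p G, ∀ s ∈ (Q : Subgroup G), t * s * t⁻¹ ∈ (Q : Subgroup G) := by
  have hp : p.Prime := Fact.out
  -- Step 1-3: invariant Sylow subgroup S of C = C_G(u)
  set C := Subgroup.centralizer ({u} : Set G) with hCdef
  have hCodd := hC u hu1 hu
  have hnC := conj_mem_centralizer_of_inverts hinv
  obtain ⟨S, hSC, hSp, hScard, hSt⟩ := exists_invariant_sylow p C hCodd t ht hnC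
  obtain ⟨hSinv, hSab⟩ := pgroup_inverted_of_odd_centralizers p hC S hSp t ht ht1 hSt
  -- Step 5: u ∈ S
  have huC : u ∈ C := by
    rw [hCdef, Subgroup.mem_centralizer_iff]
    intro w hw; rw [Set.mem_singleton_iff] at hw; rw [hw]
  have huS : u ∈ S := by
    have hZp := isPGroup_zpowers_of_orderOf p hu
    have hnorm : S ≤ Subgroup.normalizer ((Subgroup.zpowers u : Subgroup G) : Set G) := by
      intro s hs
      have hsu : Commute s u := by
        have := hSC hs
        rw [hCdef, Subgroup.mem_centralizer_iff] at this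
        exact (this u rfl).symm
      rw [Subgroup.mem_normalizer_iff]
      intro h
      constructor
      · intro hh
        obtain ⟨k, rfl⟩ := Subgroup.mem_zpowers_iff.1 hh
        have : s * u ^ k * s⁻¹ = u ^ k := by
          rw [(hsu.zpow_right k).eq, mul_inv_cancel_right]
        rw [this]; exact hh
      · intro hh
        obtain ⟨k, hk⟩ := Subgroup.mem_zpowers_iff.1 hh
        have : h = u ^ k := by
          have h1 : h = s⁻¹ * (s * h * s⁻¹) * s := by group
          rw [h1, ← hk, mul_assoc, ← (hsu.zpow_right k).eq, inv_mul_cancel_left]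
        rw [this]; exact Subgroup.zpow_mem_zpowers u k
    have hR : IsPGroup p (S ⊔ Subgroup.zpowers u : Subgroup G) :=
      IsPGroup.to_sup_of_normal_right' hSp hZp hnorm
    have hRC : S ⊔ Subgroup.zpowers u ≤ C :=
      sup_le hSC (by rw [Subgroup.zpowers_le]; exact huC)
    have := eq_of_le_of_isPGroup_of_card p hScard le_sup_left hRC hR
    rw [← this]
    exact (le_sup_right : Subgroup.zpowers u ≤ _) (Subgroup.mem_zpowers u)
  -- Step 6: a Sylow subgroup P ≥ S and a central element v
  obtain ⟨P, hSP⟩ := hSp.exists_le_sylow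
  have huP : u ∈ (P : Subgroup G) := hSP huS
  haveI : Nontrivial (P : Subgroup G) := ⟨⟨⟨u, huP⟩, 1, fun h => hu1 (congrArg Subtype.val h)⟩⟩
  have hcen := IsPGroup.center_nontrivial P.2
  obtain ⟨v', hv'⟩ := exists_ne (1 : Subgroup.center (P : Subgroup G))
  set v : G := ((v' : (P : Subgroup G)) : G) with hvdef
  have hvP : v ∈ (P : Subgroup G) := (v' : (P : Subgroup G)).2
  have hv1 : v ≠ 1 := by
    intro h
    apply hv'
    apply Subtype.ext
    apply Subtype.ext
    exact h
  have hvcomm : ∀ x ∈ (P : Subgroup G), x * v = v * x := by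
    intro x hx
    have := Subgroup.mem_center_iff.1 v'.2 ⟨x, hx⟩
    exact congrArg Subtype.val this
  -- Step 7: v ∈ S
  have hvC : v ∈ C := by
    rw [hCdef, Subgroup.mem_centralizer_iff]
    intro w hw; rw [Set.mem_singleton_iff] at hw; rw [hw]
    exact hvcomm u huP
  have hvS : v ∈ S := by
    have hR : IsPGroup p (S ⊔ Subgroup.zpowers v : Subgroup G) :=
      P.2.to_le (sup_le hSP (by rw [Subgroup.zpowers_le]; exact hvP))
    have hRC : S ⊔ Subgroup.zpowers v ≤ C :=
      sup_le hSC (by rw [Subgroup.zpowers_le]; exact hvC)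
    have := eq_of_le_of_isPGroup_of_card p hScard le_sup_left hRC hR
    rw [← this]
    exact (le_sup_right : Subgroup.zpowers v ≤ _) (Subgroup.mem_zpowers v)
  have hvinv : t * v * t⁻¹ = v⁻¹ := hSinv v hvS
  have hvord : ∃ k : ℕ, orderOf v = p ^ k := by
    obtain ⟨k, hk⟩ := (IsPGroup.iff_orderOf.1 P.2) ⟨v, hvP⟩
    exact ⟨k, by rw [← hk, Subgroup.orderOf_mk]⟩
  -- Step 8: invariant Sylow subgroup S' of C' = C_G(v) ≥ P
  set C' := Subgroup.centralizer ({v} : Set G) with hC'def
  have hPC' : (P : Subgroup G) ≤ C' := by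
    intro x hx
    rw [hC'def, Subgroup.mem_centralizer_iff]
    intro w hw; rw [Set.mem_singleton_iff] at hw; rw [hw]
    exact (hvcomm x hx).symm
  have hC'odd := hC v hv1 hvord
  have hnC' := conj_mem_centralizer_of_inverts hvinv
  obtain ⟨S', hS'C, hS'p, hS'card, hS't⟩ := exists_invariant_sylow p C' hC'odd t ht hnC'
  have hfac : (Nat.card C').factorization p = (Nat.card G).factorization p := by
    apply le_antisymm
    · exact (Nat.factorization_le_iff_dvd Nat.card_pos.ne' Nat.card_pos.ne').2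
        (Subgroup.card_subgroup_dvd_card C') p
    · have h1 : Nat.card (P : Subgroup G) ∣ Nat.card C' := Subgroup.card_dvd_of_le hPC'
      rw [Sylow.card_eq_multiplicity P] at h1
      exact (hp.pow_dvd_iff_le_factorization Nat.card_pos.ne').1 h1
  rw [hfac] at hS'card
  refine ⟨Sylow.ofCard S' hS'card, ?_⟩
  intro s hs
  rw [Sylow.coe_ofCard] at hs ⊢
  exact hS't s hs

/-- Two elements of order two whose product has odd order are conjugate. -/
theorem isConj_of_odd_orderOf_mul {s t : G} (hs : s * s = 1) (ht : t * t = 1)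
    (hodd : Odd (orderOf (s * t))) : IsConj s t := by
  obtain ⟨k, hk⟩ := hodd
  set r := s * t with hr
  have hsinv : s⁻¹ = s := inv_eq_of_mul_eq_one_left hs
  have htinv : t⁻¹ = t := inv_eq_of_mul_eq_one_left ht
  have hsr : s * r * s⁻¹ = r⁻¹ := by
    rw [hr, mul_inv_rev, hsinv, htinv, ← mul_assoc, hs, one_mul]
  have hsrk : s * r ^ k * s⁻¹ = (r ^ k)⁻¹ := by
    have := conj_pow (a := s) (b := r) (i := k)
    rw [← this, hsr, inv_pow]
  have hr2k : r ^ k * r ^ k = r⁻¹ := by
    have h1 : r ^ (2 * k + 1) = 1 := by rw [← hk]; exact pow_orderOf_eq_one r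
    have h2 : r ^ k * r ^ k * r = 1 := by rw [← pow_add, ← pow_succ, ← two_mul]; exact h1
    exact eq_inv_of_mul_eq_one_left h2
  rw [isConj_iff]
  refine ⟨r ^ k, ?_⟩
  calc r ^ k * s * (r ^ k)⁻¹ = r ^ k * (s * r ^ k * s⁻¹)⁻¹ * s := by group
    _ = r ^ k * r ^ k * s := by rw [hsrk, inv_inv]
    _ = r⁻¹ * s := by rw [hr2k]
    _ = t := by rw [hr, mul_inv_rev, hsinv, htinv, mul_assoc, hs, mul_one]

end Cfsg.Agent.Lib.Helper82
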